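import Cfsg.Agent.BlocksB.Counting
import Cfsg.Agent.Solvable.CoprimeAct
import Mathlib.GroupTheory.FixedPointFree
import Mathlib.GroupTheory.Perm.Cycle.Type

/-!
# Groups in which the centralisers of nontrivial p-elements have order prime to q
-/

namespace CfsgLib.BlocksB

variable {G : Type*} [Group G]

open Subgroup

theorem exists_dz_or_pair [Finite G] (p : ℕ) [hp : Fact p.Prime] (x : G)
    (hx : ¬ p ∣ Nat.card (centralizer ({x} : Set G))) (P : Sylow p G) :
    (∃ χ : Cfsg.IrrCharacter G,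
      (Cfsg.charDegree (χ : G → ℂ)).factorization p = (Nat.card G).factorization p) ∨
    ∃ u v : G, IsConj x u ∧ IsConj x v ∧ u ≠ v ∧ u * v⁻¹ ∈ (P : Subgroup G) := by
  by_cases h : ∀ u v : G, IsConj x u → IsConj x v → u * v⁻¹ ∈ (P : Subgroup G) → u = v
  · left
    haveI := Fintype.ofFinite G
    obtain ⟨χ, hχ⟩ := exists_pow_dvd_charDegree p x P _ P.card_eq_multiplicity h
    rw [Nat.factorization_eq_zero_of_not_dvd hx, Nat.sub_zero] at hχ
    have hpos := (charDegree_spec χ.2).2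
    exact ⟨χ, le_antisymm
      ((Nat.factorization_le_iff_dvd hpos.ne' Nat.card_pos.ne').mpr (charDegree_dvd χ.2) p)
      ((hp.out.pow_dvd_iff_le_factorization hpos.ne').mp hχ)⟩
  · right
    simp only [not_forall] at h
    obtain ⟨u, v, hu, hv, huv, hne⟩ := h
    exact ⟨u, v, hu, hv, hne, huv⟩

/-- If `q` divides no centraliser of a nontrivial `p`-element, `p` divides no centraliser of a
nontrivial `q`-element. -/
theorem not_dvd_centralizer_symm [Finite G] {p q : ℕ} [hp : Fact p.Prime]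
    (hC : ∀ g : G, g ≠ 1 → (∃ k : ℕ, orderOf g = p ^ k) →
      ¬ q ∣ Nat.card (centralizer ({g} : Set G)))
    (x : G) (hx : x ≠ 1) (hxq : ∃ k : ℕ, orderOf x = q ^ k) :
    ¬ p ∣ Nat.card (centralizer ({x} : Set G)) := by
  intro hdvd
  obtain ⟨y, hy⟩ := exists_prime_orderOf_dvd_card' p hdvd
  have hy' : orderOf (y : G) = p := by rw [Subgroup.orderOf_coe, hy]
  have hy1 : (y : G) ≠ 1 := by
    intro h; rw [h, orderOf_one] at hy'; exact hp.out.ne_one hy'.symm
  refine hC y hy1 ⟨1, by rw [hy', pow_one]⟩ ?_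
  obtain ⟨k, hk⟩ := hxq
  have hmem : x ∈ centralizer ({(y : G)} : Set G) :=
    mem_centralizer_singleton_iff.mpr (mem_centralizer_singleton_iff.mp y.2).symm
  have := Subgroup.orderOf_dvd_natCard _ hmem
  rw [hk] at this
  refine dvd_trans (dvd_pow_self q ?_) this
  rintro rfl
  rw [pow_zero, orderOf_eq_one_iff] at hk
  exact hx hk

/-- An involution without fixed points on a finite subgroup it normalises inverts it. -/
theorem inverts_of_fixedPointFree [Finite G] {u : G} (hu : u * u = 1) {Q : Subgroup G}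
    (hn : u ∈ normalizer (Q : Set G)) (hfix : ∀ q ∈ Q, u * q = q * u → q = 1) :
    ∀ q ∈ Q, u * q * u⁻¹ = q⁻¹ := by
  let φ : Q →* Q :=
    { toFun := fun q => ⟨u * q * u⁻¹, (mem_normalizer_iff.mp hn q).mp q.2⟩
      map_one' := by ext; simp
      map_mul' := fun a b => by ext; simp [mul_assoc] }
  have hff : MonoidHom.FixedPointFree φ := by
    intro q hq
    have h1 := congrArg Subtype.val hq
    simp only [φ, MonoidHom.coe_mk, OneHom.coe_mk] at h1
    exact Subtype.ext (hfix q q.2 (by rw [← mul_inv_eq_iff_eq_mul]; exact h1))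
  have hinv : Function.Involutive φ := by
    intro q
    ext
    simp only [φ, MonoidHom.coe_mk, OneHom.coe_mk]
    have : u⁻¹ = u := inv_eq_of_mul_eq_one_right hu
    rw [this]
    calc u * (u * (q : G) * u) * u = (u * u) * (q : G) * (u * u) := by group
      _ = q := by rw [hu, one_mul, mul_one]
  intro q hq
  have := congrFun (MonoidHom.FixedPointFree.coe_eq_inv_of_involutive hff hinv) ⟨q, hq⟩
  exact congrArg Subtype.val this

theorem isMulCommutative_of_inverted {u : G} {Q : Subgroup G}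
    (h : ∀ q ∈ Q, u * q * u⁻¹ = q⁻¹) : IsMulCommutative Q := by
  refine ⟨⟨fun a b => Subtype.ext ?_⟩⟩
  have h1 := h _ (mul_mem a.2 b.2)
  have h2 : u * ((a : G) * b) * u⁻¹ = (u * a * u⁻¹) * (u * b * u⁻¹) := by group
  rw [h2, h a a.2, h b b.2] at h1
  have := congrArg (·⁻¹) h1
  simp only [mul_inv_rev, inv_inv] at this
  exact this.symm

/-- No `p`-defect zero and odd centralisers of nontrivial `p`-elements: each involution has a
conjugate inverting each Sylow `p`-subgroup. -/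
theorem exists_conj_inverts [Finite G] (p : ℕ) [hp : Fact p.Prime] (hpG : p ∣ Nat.card G)
    (hC : ∀ g : G, g ≠ 1 → (∃ k : ℕ, orderOf g = p ^ k) →
      Odd (Nat.card (centralizer ({g} : Set G))))
    (hno : ¬ ∃ χ : Cfsg.IrrCharacter G,
      (Cfsg.charDegree (χ : G → ℂ)).factorization p = (Nat.card G).factorization p)
    (x : G) (hx : orderOf x = 2) (P : Sylow p G) :
    ∃ u : G, IsConj x u ∧ ∀ q ∈ (P : Subgroup G), u * q * u⁻¹ = q⁻¹ := by
  have hC' : ∀ g : G, g ≠ 1 → (∃ k : ℕ, orderOf g = p ^ k) →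
      ¬ 2 ∣ Nat.card (centralizer ({g} : Set G)) :=
    fun g h1 h2 => by rw [← even_iff_two_dvd, Nat.not_even_iff_odd]; exact hC g h1 h2
  have hx1 : x ≠ 1 := fun h => by rw [h, orderOf_one] at hx; omega
  have hxC := not_dvd_centralizer_symm (p := p) hC' x hx1 ⟨1, by rw [hx, pow_one]⟩
  obtain ⟨u, v, hu, hv, huv, hmem⟩ := (exists_dz_or_pair p x hxC P).resolve_left hno
  have conj_ord : ∀ w, IsConj x w → w ≠ 1 ∧ w * w = 1 := by
    intro w hw
    obtain ⟨c, rfl⟩ := isConj_iff.mp hw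
    have : x * x = 1 := by rw [← pow_two, ← hx]; exact pow_orderOf_eq_one x
    refine ⟨fun h => hx1 (by simpa [mul_assoc] using congrArg (fun z => c⁻¹ * z * c) h), ?_⟩
    calc c * x * c⁻¹ * (c * x * c⁻¹) = c * (x * x) * c⁻¹ := by group
      _ = 1 := by rw [this]; group
  obtain ⟨hu1, hu2⟩ := conj_ord u hu
  obtain ⟨hv1, hv2⟩ := conj_ord v hv
  have hv' : v⁻¹ = v := inv_eq_of_mul_eq_one_right hv2
  have hu' : u⁻¹ = u := inv_eq_of_mul_eq_one_right hu2
  set z := u * v⁻¹ with hz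
  have hz1 : z ≠ 1 := fun h => huv (mul_inv_eq_one.mp h)
  have huz : u * z * u⁻¹ = z⁻¹ := by
    simp only [hz, mul_inv_rev, inv_inv, hv', hu']
    rw [← mul_assoc u u v, hu2, one_mul]
  have hpord : ∀ q : G, q ∈ (P : Subgroup G) → ∃ k : ℕ, orderOf q = p ^ k := fun q hq => by
    obtain ⟨k, hk⟩ := IsPGroup.iff_orderOf.mp P.isPGroup' ⟨q, hq⟩
    exact ⟨k, by rw [← hk, ← Subgroup.orderOf_coe]⟩
  -- the fixed points of `u` on any `p`-subgroup are trivial
  have hfree : ∀ Q : Subgroup G, IsPGroup p Q → ∀ q ∈ Q, u * q = q * u → q = 1 := by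
    intro Q hQ q hq hcomm
    by_contra hq1
    obtain ⟨k, hk⟩ := IsPGroup.iff_orderOf.mp hQ ⟨q, hq⟩
    rw [← Subgroup.orderOf_coe] at hk
    refine hC' q hq1 ⟨k, hk⟩ ?_
    have := Subgroup.orderOf_dvd_natCard _ (mem_centralizer_singleton_iff.mpr hcomm :
      u ∈ centralizer ({q} : Set G))
    rwa [orderOf_eq_prime (p := 2) (by rw [pow_two, hu2]) hu1] at this
  -- an element inverted by `u` has a `u`-invariant Sylow subgroup of its centraliser, inverted
  have step : ∀ w : G, w ≠ 1 → (∃ k : ℕ, orderOf w = p ^ k) → u * w * u⁻¹ = w⁻¹ →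
      ∃ Q : Sylow p (centralizer ({w} : Set G)),
        ∀ q ∈ (Q : Subgroup (centralizer ({w} : Set G))).map (Subgroup.subtype _),
          u * q * u⁻¹ = q⁻¹ := by
    intro w hw1 hwp hw
    set K := centralizer ({w} : Set G)
    have hnorm : Subgroup.zpowers u ≤ normalizer (K : Set G) := by
      have hu_w : u⁻¹ * w * u = w⁻¹ := by rw [hu']; rw [hu'] at hw; exact hw
      rw [Subgroup.zpowers_le, mem_normalizer_iff]
      intro g
      simp only [K, mem_centralizer_singleton_iff]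
      constructor
      · intro hg
        have hg' : g * w⁻¹ = w⁻¹ * g := (Commute.inv_right hg).eq
        calc u * g * u⁻¹ * w = u * (g * (u⁻¹ * w * u)) * u⁻¹ := by group
          _ = u * (w⁻¹ * g) * u⁻¹ := by rw [hu_w, hg']
          _ = (u * w⁻¹ * u⁻¹) * (u * g * u⁻¹) := by group
          _ = w * (u * g * u⁻¹) := by
            rw [show u * w⁻¹ * u⁻¹ = (u * w * u⁻¹)⁻¹ by group, hw, inv_inv]
      · intro hg
        have hg' : u * g * u⁻¹ * w⁻¹ = w⁻¹ * (u * g * u⁻¹) := (Commute.inv_right hg).eq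
        calc g * w = u⁻¹ * (u * g * u⁻¹ * (u * w * u⁻¹)) * u := by group
          _ = u⁻¹ * (w⁻¹ * (u * g * u⁻¹)) * u := by rw [hw, hg']
          _ = (u⁻¹ * w⁻¹ * u) * g := by group
          _ = w * g := by rw [show u⁻¹ * w⁻¹ * u = (u⁻¹ * w * u)⁻¹ by group, hu_w, inv_inv]
    have hcop : (Nat.card (Subgroup.zpowers u)).Coprime (Nat.card K) := by
      rw [Nat.card_zpowers, orderOf_eq_prime (p := 2) (by rw [pow_two, hu2]) hu1,
        Nat.prime_two.coprime_iff_not_dvd]
      exact hC' w hw1 hwp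
    obtain ⟨Q, hQ⟩ := CfsgLib.CoprimeAct.exists_invariant_sylow hnorm hcop
      (Or.inl inferInstance) p
    exact ⟨Q, inverts_of_fixedPointFree hu2 (hQ (Subgroup.mem_zpowers u))
      (hfree _ (Q.isPGroup'.map _))⟩
  obtain ⟨Q, hQ⟩ := step z hz1 (hpord z hmem) huz
  set Q' := (Q : Subgroup (centralizer ({z} : Set G))).map (Subgroup.subtype _) with hQ'
  obtain ⟨S, hS⟩ := (Q.isPGroup'.map (Subgroup.subtype (centralizer ({z} : Set G)))).exists_le_sylow
  have hmax : ∀ y : G, y ∈ centralizer ({z} : Set G) → y ∈ (S : Subgroup G) → y ∈ Q' := by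
    intro y hyC hyS
    let R : Subgroup (centralizer ({z} : Set G)) :=
      (S : Subgroup G).comap (Subgroup.subtype _)
    have hR : R = (Q : Subgroup (centralizer ({z} : Set G))) :=
      Q.3 (S.isPGroup'.comap_of_injective _ (Subgroup.subtype_injective _))
        (fun a ha => hS (Subgroup.mem_map_of_mem _ ha))
    exact ⟨⟨y, hyC⟩, hR ▸ hyS, rfl⟩
  have hzQ : z ∈ Q' := by
    -- `z` is central in its centraliser
    have hz' : z ∈ centralizer ({z} : Set G) := mem_centralizer_singleton_iff.mpr rfl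
    let Z : Subgroup (centralizer ({z} : Set G)) := Subgroup.zpowers ⟨z, hz'⟩
    have hZn : Z.Normal := by
      refine ⟨fun a ha g => ?_⟩
      obtain ⟨i, rfl⟩ := Subgroup.mem_zpowers_iff.mp ha
      have hc : g * ⟨z, hz'⟩ = (⟨z, hz'⟩ : centralizer ({z} : Set G)) * g :=
        Subtype.ext (mem_centralizer_singleton_iff.mp g.2)
      rw [((show Commute g ⟨z, hz'⟩ from hc).zpow_right i).eq, mul_inv_cancel_right]
      exact zpow_mem (Subgroup.mem_zpowers _) i
    obtain ⟨k, hk⟩ := hpord z hmem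
    have hZp : IsPGroup p Z := IsPGroup.of_card (n := k) (by
      rw [Nat.card_zpowers, ← hk, ← Subgroup.orderOf_coe])
    exact ⟨⟨z, hz'⟩, (Q.3 (IsPGroup.to_sup_of_normal_left hZp Q.isPGroup') le_sup_right).le (Subgroup.mem_sup_left (Subgroup.mem_zpowers _)), rfl⟩
  obtain ⟨s, hs1, hs⟩ : ∃ s : G, s ≠ 1 ∧ s ∈ Q' ∧ (S : Subgroup G) ≤ centralizer ({s} : Set G) := by
    haveI : Nontrivial (S : Subgroup G) := by
      rw [Subgroup.nontrivial_iff_ne_bot]
      exact S.ne_bot_of_dvd_card hpG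
    haveI := S.isPGroup'.center_nontrivial
    obtain ⟨⟨s, hsc⟩, hs1⟩ := exists_ne (1 : Subgroup.center (S : Subgroup G))
    have hcomm : ∀ y : G, y ∈ (S : Subgroup G) → y * s = s * y := fun y hy =>
      congrArg Subtype.val (Subgroup.mem_center_iff.mp hsc ⟨y, hy⟩)
    refine ⟨(s : G), fun h => hs1 (Subtype.ext (Subtype.ext h)), hmax _ ?_ s.2,
      fun y hy => mem_centralizer_singleton_iff.mpr (hcomm y hy)⟩
    exact mem_centralizer_singleton_iff.mpr (hcomm z (hS hzQ)).symm
  obtain ⟨hsQ, hSC⟩ := hs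
  obtain ⟨Q₂, hQ₂⟩ := step s hs1 (by
    obtain ⟨k, hk⟩ := IsPGroup.iff_orderOf.mp S.isPGroup' ⟨s, hS hsQ⟩
    exact ⟨k, by rw [← hk, ← Subgroup.orderOf_coe]⟩) (hQ s hsQ)
  have hcard : Nat.card (S : Subgroup G) ≤
      Nat.card (Q₂ : Subgroup (centralizer ({s} : Set G))) := by
    refine Nat.le_of_dvd Nat.card_pos ?_
    have hle := IsPGroup.iff_card.mp (S.isPGroup'.comap_of_injective
      (Subgroup.subtype (centralizer ({s} : Set G))) (Subgroup.subtype_injective _))
    obtain ⟨n, hn⟩ := hle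
    have : Nat.card ((S : Subgroup G).subgroupOf (centralizer ({s} : Set G))) =
        Nat.card (S : Subgroup G) := Nat.card_congr (Subgroup.subgroupOfEquivOfLe hSC).toEquiv
    rw [← this]
    exact hn ▸ Q₂.pow_dvd_card_of_pow_dvd_card (hn ▸ Subgroup.card_subgroup_dvd_card _)
  set R := (Q₂ : Subgroup (centralizer ({s} : Set G))).map (Subgroup.subtype _) with hR
  obtain ⟨T, hT⟩ := (Q₂.isPGroup'.map (Subgroup.subtype (centralizer ({s} : Set G)))).exists_le_sylow
  have hRT : R = (T : Subgroup G) := by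
    refine Subgroup.eq_of_le_of_card_ge hT ?_
    rw [hR, Subgroup.card_map_of_injective (Subgroup.subtype_injective _),
      T.card_eq_multiplicity, ← S.card_eq_multiplicity]
    exact hcard
  obtain ⟨c, hc⟩ := MulAction.exists_smul_eq G T P
  refine ⟨c * u * c⁻¹, hu.trans (isConj_iff.mpr ⟨c, rfl⟩), fun q hq => ?_⟩
  rw [← hc, Sylow.coe_subgroup_smul, Subgroup.mem_pointwise_smul_iff_inv_smul_mem, ← hRT] at hq
  have := hQ₂ _ hq
  simp only [MulAut.smul_def, MulAut.inv_def, MulAut.conj_symm_apply] at this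
  calc c * u * c⁻¹ * q * (c * u * c⁻¹)⁻¹ = c * (u * (c⁻¹ * q * c) * u⁻¹) * c⁻¹ := by group
    _ = c * (c⁻¹ * q * c)⁻¹ * c⁻¹ := by rw [this]
    _ = q⁻¹ := by group

end CfsgLib.BlocksB
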