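import Cfsg.Agent.Blocks.MinMax
import Cfsg.Agent.Blocks.Regular
import Cfsg.Agent.Blocks.Principal
import Cfsg.Agent.Char.Inflation
import Cfsg.Agent.Blocks.NormalSub

/-!
# Defect groups of blocks of quotient groups
-/

set_option autoImplicit false
set_option linter.unusedSectionVars false
set_option linter.style.haveILetI false

namespace CfsgLib.Block.Quot

open Cfsg Finset CfsgLib.Block CfsgLib.Block.Chr

universe u

variable {G : Type u} [Group G] [Fintype G] {N : Subgroup G} [N.Normal]

/-- The preimage of the centralizer of the image of an element. -/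
def preCent (N : Subgroup G) [N.Normal] (g : G) : Subgroup G :=
  (Subgroup.centralizer ({QuotientGroup.mk' N g} : Set (G ⧸ N))).comap (QuotientGroup.mk' N)

theorem centralizer_le_preCent (g : G) :
    Subgroup.centralizer ({g} : Set G) ≤ preCent N g := fun x hx => by
  rw [preCent, Subgroup.mem_comap, Subgroup.mem_centralizer_singleton_iff, ← map_mul, ← map_mul,
    Subgroup.mem_centralizer_singleton_iff.1 hx]

/-- The central character of an inflated function. -/
theorem centralChar_comp (χ : G ⧸ N → ℂ) (g : G) :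
    centralChar (χ ∘ QuotientGroup.mk) g =
      ((Subgroup.centralizer ({g} : Set G)).relIndex (preCent N g) : ℂ) *
        centralChar χ (QuotientGroup.mk' N g) := by
  have h : (Subgroup.centralizer ({g} : Set G)).index =
      (Subgroup.centralizer ({g} : Set G)).relIndex (preCent N g) *
        (Subgroup.centralizer ({QuotientGroup.mk' N g} : Set (G ⧸ N))).index := by
    rw [← Subgroup.relIndex_mul_index (centralizer_le_preCent (N := N) g), preCent,
      Subgroup.index_comap_of_surjective _ (QuotientGroup.mk'_surjective N)]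
  rw [centralChar, centralChar, h]
  simp only [Function.comp_apply, QuotientGroup.mk_one, QuotientGroup.mk'_apply]
  push_cast
  ring

/-- The inflation of an irreducible character of a quotient. -/
noncomputable def inflIrr (χ : IrrCharacter (G ⧸ N)) : IrrCharacter G :=
  ⟨(χ : G ⧸ N → ℂ) ∘ QuotientGroup.mk,
    CfsgLib.Char.IsIrrCharacter.comp_surjective χ.2 (QuotientGroup.mk' N)
      (QuotientGroup.mk'_surjective N)⟩

theorem centralChar_inflIrr (χ : IrrCharacter (G ⧸ N)) (g : G) :
    centralChar (inflIrr χ : G → ℂ) g =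
      ((Subgroup.centralizer ({g} : Set G)).relIndex (preCent N g) : ℂ) *
        centralChar (χ : G ⧸ N → ℂ) (QuotientGroup.mk' N g) :=
  centralChar_comp _ g

variable {p : ℕ} {M : Ideal AlgInt} [M.IsPrime]

/-- At a defect class of a block containing an inflated character. -/
theorem unit_at_defectClass (hM : IsPModular p M) {B : Set (IrrCharacter G)}
    {χ : IrrCharacter (G ⧸ N)} (hχ : inflIrr χ ∈ B) {g : G} (hg : IsDefectClass M B g) :
    ¬ p ∣ (Subgroup.centralizer ({g} : Set G)).relIndex (preCent N g) ∧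
      ¬ MemLocalIdeal M (centralChar (χ : G ⧸ N → ℂ) (QuotientGroup.mk' N g)) := by
  haveI := Fintype.ofFinite (G ⧸ N)
  have h := hg.2.2 _ hχ
  rw [centralChar_inflIrr] at h
  exact ⟨fun hd => h (memLocalIdeal_mul_right ((memLocalIdeal_natCast_iff hM).2 hd)
    (centralChar_mem χ _)), fun hi => h (memLocalIdeal_mul_left (natCast_mem_localRing _) hi)⟩

/-- The image of a defect group has index prime to `p` in the centralizer of the image of its
class. -/
theorem exists_defectGroup_map [Fact p.Prime] (hM : IsPModular p M) {B : Set (IrrCharacter G)}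
    {χ : IrrCharacter (G ⧸ N)} (hχ : inflIrr χ ∈ B) {g : G} (hg : IsDefectClass M B g) :
    ∃ P : Subgroup G, IsDefectGroup p M B P ∧
      P.map (QuotientGroup.mk' N) ≤ Subgroup.centralizer ({QuotientGroup.mk' N g} : Set (G ⧸ N)) ∧
      ¬ p ∣ (P.map (QuotientGroup.mk' N)).relIndex
        (Subgroup.centralizer ({QuotientGroup.mk' N g} : Set (G ⧸ N))) := by
  set π := QuotientGroup.mk' N
  set C := Subgroup.centralizer ({g} : Set G) with hC
  set Cb := Subgroup.centralizer ({π g} : Set (G ⧸ N)) with hCb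
  set K := preCent N g with hK
  obtain ⟨S⟩ : Nonempty (Sylow p C) := inferInstance
  refine ⟨(S : Subgroup C).map C.subtype, ⟨g, hg, S, rfl⟩, ?_, ?_⟩
  · rw [Subgroup.map_le_iff_le_comap]
    exact (Subgroup.map_subtype_le _).trans (centralizer_le_preCent g)
  · have hKmap : K.map π = Cb :=
      Subgroup.map_comap_eq_self_of_surjective (QuotientGroup.mk'_surjective N) _
    intro hd
    have h1 : ((S : Subgroup C).map C.subtype).relIndex K = (S : Subgroup C).index * C.relIndex K := by
      rw [← Subgroup.relIndex_mul_relIndex _ C K (Subgroup.map_subtype_le _)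
        (centralizer_le_preCent g)]
      congr 1
      rw [Subgroup.relIndex, Subgroup.subgroupOf,
        Subgroup.comap_map_eq_self_of_injective C.subtype_injective]
    rw [← hKmap, Subgroup.relIndex_map_map] at hd
    have h2 : ((S : Subgroup C).map C.subtype ⊔ π.ker).relIndex (K ⊔ π.ker) ∣
        ((S : Subgroup C).map C.subtype).relIndex (K ⊔ π.ker) :=
      Subgroup.relIndex_dvd_of_le_left _ le_sup_left
    have hker : K ⊔ π.ker = K := sup_eq_left.2 (MonoidHom.ker_le_comap π Cb)
    rw [hker] at h2 hd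
    have hp : p.Prime := Fact.out
    rcases hp.dvd_mul.1 (h1 ▸ (hd.trans h2)) with h | h
    · exact Sylow.not_dvd_index S h
    · exact (unit_at_defectClass hM hχ hg).1 h

/-- A block containing an inflated block has a defect group covering a given defect group of the
smaller block. -/
theorem exists_defectGroup_above [Fact p.Prime] (hM : IsPModular p M) {B : Set (IrrCharacter G)}
    (hB : IsPBlock M B) {Bb : Set (IrrCharacter (G ⧸ N))} (hBb : IsPBlock M Bb)
    {χ : IrrCharacter (G ⧸ N)} (hχb : χ ∈ Bb) (hχ : inflIrr χ ∈ B) {Db : Subgroup (G ⧸ N)}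
    (hDb : IsDefectGroup p M Bb Db) :
    ∃ P : Subgroup G, IsDefectGroup p M B P ∧ Db ≤ P.map (QuotientGroup.mk' N) := by
  classical
  haveI := Fintype.ofFinite (G ⧸ N)
  set π := QuotientGroup.mk' N
  obtain ⟨g₀, hg₀⟩ := exists_isDefectClass hB
  obtain ⟨h, hh, hhD, -⟩ := (isDefectGroup_iff hM hBb).1 hDb
  obtain ⟨k, hk, hkD⟩ := exists_conj_mem_centralizer hM hBb
    ⟨χ, hχb, (unit_at_defectClass hM hχ hg₀).2⟩ hh.2.1 (isPGroup_defectGroup hDb) hhD
  obtain ⟨xb, rfl⟩ := isConj_iff.1 hk
  obtain ⟨x, rfl⟩ := QuotientGroup.mk'_surjective N xb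
  set g := x * g₀ * x⁻¹ with hg
  have hgd : IsDefectClass M B g := isDefectClass_of_isConj (isConj_iff.2 ⟨x, rfl⟩) hg₀
  have hπg : π g = π x * π g₀ * (π x)⁻¹ := by rw [hg, map_mul, map_mul, map_inv]
  obtain ⟨P, hP, hle, hidx⟩ := exists_defectGroup_map hM hχ hgd
  set Cb := Subgroup.centralizer ({π g} : Set (G ⧸ N)) with hCb
  have hDC : Db ≤ Cb := by
    rw [hCb, hπg]
    exact le_centralizer_singleton.2 hkD
  let S : Sylow p Cb := (IsPGroup.toSylow
    ((((isPGroup_defectGroup hP).map π).comap_of_injective Cb.subtype Cb.subtype_injective) :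
      IsPGroup p ((P.map π).subgroupOf Cb)) hidx)
  obtain ⟨T, hT⟩ := ((isPGroup_defectGroup hDb).comap_of_injective Cb.subtype
    Cb.subtype_injective : IsPGroup p (Db.subgroupOf Cb)).exists_le_sylow
  obtain ⟨y, hy⟩ := MulAction.exists_smul_eq Cb S T
  obtain ⟨z, hz⟩ := QuotientGroup.mk'_surjective N (y : G ⧸ N)
  refine ⟨_, isDefectGroup_conj hM hB hP z, fun d hd => ?_⟩
  have hdT : (⟨d, hDC hd⟩ : Cb) ∈ T := hT hd
  rw [← hy] at hdT
  obtain ⟨s, hs, hsd⟩ := hdT
  obtain ⟨w, hw, hws⟩ := (hs : (s : G ⧸ N) ∈ P.map π)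
  refine ⟨z * w * z⁻¹, ⟨w, hw, rfl⟩, ?_⟩
  rw [map_mul, map_mul, map_inv, hws, hz]
  exact congrArg Subtype.val hsd

omit [M.IsPrime] in
/-- A union of blocks has a unit coefficient only where one of its blocks has one. -/
theorem exists_block_coeff {H : Type u} [Group H] [Fintype H] [M.IsPrime]
    (A : Set (IrrCharacter H))
    (hA : ∀ χ ∈ A, ∀ ψ : IrrCharacter H, SameBlock M (χ : H → ℂ) (ψ : H → ℂ) → ψ ∈ A) (h : H)
    (hh : ¬ MemLocalIdeal M (blockCoeff A h)) :
    ∃ C : Set (IrrCharacter H), IsPBlock M C ∧ C ⊆ A ∧ ¬ MemLocalIdeal M (blockCoeff C h) := by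
  classical
  letI := irrFintype (G := H)
  induction hn : (univ.filter (· ∈ A)).card using Nat.strong_induction_on generalizing A with
  | _ n ih =>
    by_cases hne : ∃ χ, χ ∈ A
    · obtain ⟨χ, hχ⟩ := hne
      set C := blockOf M (χ : H → ℂ)
      have hCA : C ⊆ A := fun ψ hψ => hA χ hχ ψ hψ
      by_cases hC : MemLocalIdeal M (blockCoeff C h)
      · have hsum : blockCoeff A h = blockCoeff C h + blockCoeff (A \ C) h := by
          rw [blockCoeff_eq_sum, blockCoeff_eq_sum, blockCoeff_eq_sum, ← mul_add, sum_filter,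
            sum_filter, sum_filter, ← sum_add_distrib]
          congr 1
          refine sum_congr rfl fun ψ _ => ?_
          by_cases h1 : ψ ∈ C
          · simp [h1, hCA h1]
          · by_cases h2 : ψ ∈ A <;> simp [h1, h2]
        have hd : ∀ φ ∈ A \ C, ∀ ψ : IrrCharacter H, SameBlock M (φ : H → ℂ) (ψ : H → ℂ) →
            ψ ∈ A \ C := fun φ hφ ψ hs => ⟨hA φ hφ.1 ψ hs, fun hc =>
              hφ.2 (sameBlock_trans (hc : SameBlock M (χ : H → ℂ) ψ) (sameBlock_symm hs))⟩
        have hlt : (univ.filter (· ∈ A \ C)).card < n := by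
          rw [← hn]
          refine card_lt_card (Finset.ssubset_iff_subset_ne.2 ⟨fun ψ hψ => ?_, fun he => ?_⟩)
          · simp only [mem_filter, mem_univ, true_and] at hψ ⊢
            exact hψ.1
          · have := he.symm ▸ (mem_filter.2 ⟨mem_univ χ, hχ⟩ : χ ∈ univ.filter (· ∈ A))
            exact (mem_filter.1 this).2.2 (mem_blockOf_self χ)
        obtain ⟨D, hD, hDA, hDh⟩ := ih _ hlt (A \ C) hd
          (fun hc => hh (hsum ▸ memLocalIdeal_add hC hc)) (by congr)
        exact ⟨D, hD, hDA.trans Set.sdiff_subset, hDh⟩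
      · exact ⟨C, isPBlock_blockOf χ, hCA, hC⟩
    · refine absurd ?_ hh
      have h0 : univ.filter (· ∈ A) = ∅ := by
        ext ψ; simpa using fun hψ => hne ⟨ψ, hψ⟩
      rw [blockCoeff_eq_sum, h0, sum_empty, mul_zero]
      exact memLocalIdeal_zero

/-- The characters of the quotient whose inflations lie in a given set. -/
def below (B : Set (IrrCharacter G)) : Set (IrrCharacter (G ⧸ N)) := {χ | inflIrr χ ∈ B}

/-- The idempotent of the inflated characters is the push-forward of the idempotent. -/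
theorem blockCoeff_below [Fintype (G ⧸ N)] [DecidableEq (G ⧸ N)] (B : Set (IrrCharacter G))
    (q : G ⧸ N) :
    blockCoeff (below B) q =
      ∑ x ∈ univ.filter (fun x : G => QuotientGroup.mk' N x = q), blockCoeff B x := by
  classical
  letI := irrFintype (G := G ⧸ N)
  set π := QuotientGroup.mk' N
  set e : G ⧸ N → ℂ := fun q => ∑ x ∈ univ.filter (fun x : G => π x = q), blockCoeff B x
  change _ = e q
  have hcl : IsClassFunction (G ⧸ N) e := fun a c => by
    obtain ⟨y, rfl⟩ := QuotientGroup.mk'_surjective N c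
    refine (sum_equiv (MulAut.conj y).toEquiv (fun x => ?_) fun x _ => ?_).symm
    · simp only [mem_filter, mem_univ, true_and, MulEquiv.toEquiv_eq_coe, EquivLike.coe_coe,
        MulAut.conj_apply]
      show π x = a ↔ π (y * x * y⁻¹) = π y * a * (π y)⁻¹
      rw [map_mul, map_mul, map_inv, mul_left_inj, mul_right_inj]
    · exact (isClassFunction_blockCoeff B x y).symm
  rw [eq_sum_omega hcl q, eq_sum_omega (isClassFunction_blockCoeff (below B)) q]
  congr 1
  refine sum_congr rfl fun χ _ => ?_
  congr 2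
  have h2 : omega (χ : G ⧸ N → ℂ) e = omega (inflIrr χ : G → ℂ) (blockCoeff B) := by
    rw [omega, omega]
    congr 1
    rw [← sum_fiberwise univ π fun x => blockCoeff B x * (inflIrr χ : G → ℂ) x]
    refine sum_congr rfl fun a _ => ?_
    rw [sum_mul]
    refine sum_congr rfl fun x hx => ?_
    rw [← (mem_filter.1 hx).2]
    rfl
  rw [h2, omega_blockCoeff, omega_blockCoeff]
  rfl

/-- For a normal `p`-subgroup some block of the quotient has the images of the defect groups as
its defect groups. -/
theorem exists_block_map_defectGroup [Fact p.Prime] (hM : IsPModular p M) (hN : IsPGroup p N)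
    {B : Set (IrrCharacter G)} (hB : IsPBlock M B) :
    ∃ Bb : Set (IrrCharacter (G ⧸ N)), IsPBlock M Bb ∧ (∀ χ ∈ Bb, inflIrr χ ∈ B) ∧
      ∀ Db : Subgroup (G ⧸ N), IsDefectGroup p M Bb Db ↔
        ∃ P : Subgroup G, IsDefectGroup p M B P ∧ Db = P.map (QuotientGroup.mk' N) := by
  classical
  haveI := Fintype.ofFinite (G ⧸ N)
  have hp : p.Prime := Fact.out
  set π := QuotientGroup.mk' N
  obtain ⟨g, hg⟩ := exists_isDefectClass hB
  obtain ⟨ψ, hψ⟩ := exists_mem_block hB
  have hgN : g ∈ Subgroup.centralizer (N : Set G) :=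
    by_contra fun h => hg.2.2 ψ hψ (centralChar_mem_ideal_of_normal hM N hN ψ h)
  have hgr : ¬ p ∣ orderOf g := fun h => hg.2.1 (by
    rw [blockCoeff_eq_zero_of_singular hM hB h]; exact memLocalIdeal_zero)
  have hval : blockCoeff (below (N := N) B) (π g) = blockCoeff B g := by
    rw [blockCoeff_below, sum_eq_single g]
    · intro x hx hxg
      refine blockCoeff_eq_zero_of_singular hM hB ?_
      have hn : g⁻¹ * x ∈ N := (QuotientGroup.eq).1 (mem_filter.1 hx).2.symm
      obtain ⟨j, hj⟩ := IsPGroup.iff_orderOf.1 hN ⟨_, hn⟩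
      rw [Subgroup.orderOf_mk] at hj
      have hc : Commute g (g⁻¹ * x) := (Subgroup.mem_centralizer_iff.1 hgN _ hn).symm
      have ho : orderOf x = orderOf g * p ^ j := by
        rw [← hj, ← hc.orderOf_mul_eq_mul_orderOf_of_coprime (by
          rw [hj]; exact ((hp.coprime_iff_not_dvd.2 hgr).symm).pow_right j), mul_inv_cancel_left]
      have hj0 : j ≠ 0 := fun h0 => hxg (by
        rw [h0, pow_zero, orderOf_eq_one_iff, inv_mul_eq_one] at hj
        exact hj.symm)
      rw [ho]
      exact dvd_mul_of_dvd_right (dvd_pow_self p hj0) _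
    · exact fun h => absurd (mem_filter.2 ⟨mem_univ g, (rfl : π g = π g)⟩) h
  obtain ⟨Bb, hBb, hsub, hunit⟩ := exists_block_coeff (M := M) (below (N := N) B)
    (fun χ hχ φ hs => by
      refine (sameBlock_iff_mem hB hχ).2 fun x => ?_
      rw [centralChar_inflIrr, centralChar_inflIrr, ← mul_sub]
      exact memLocalIdeal_mul_left (natCast_mem_localRing _) (hs _)) (π g)
    (by rw [hval]; exact hg.2.1)
  have hsub' : ∀ χ, χ ∈ Bb → inflIrr χ ∈ B := fun χ hχ =>
    have h : χ ∈ below B := hsub hχ
    h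
  refine ⟨Bb, hBb, hsub', ?_⟩
  have hdc : IsDefectClass M Bb (π g) :=
    ⟨blockCoeff_mem hBb _, hunit, fun χ hχ => (unit_at_defectClass hM (hsub' χ hχ) hg).2⟩
  obtain ⟨χ, hχ⟩ := exists_mem_block hBb
  obtain ⟨P, hP, hle, hidx⟩ := exists_defectGroup_map hM (hsub' χ hχ) hg
  set Cb := Subgroup.centralizer ({π g} : Set (G ⧸ N)) with hCb
  have hDb : IsDefectGroup p M Bb (P.map π) :=
    ⟨π g, hdc, IsPGroup.toSylow ((((isPGroup_defectGroup hP).map π).comap_of_injective Cb.subtype
      Cb.subtype_injective) : IsPGroup p ((P.map π).subgroupOf Cb)) hidx,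
      (Subgroup.map_subgroupOf_eq_of_le hle).symm⟩
  have hconj : ∀ (x : G) (Q : Subgroup G), (Q.map (MulAut.conj x).toMonoidHom).map π =
      (Q.map π).map (MulAut.conj (π x)).toMonoidHom := fun x Q => by
    rw [Subgroup.map_map, Subgroup.map_map]
    congr 1
  intro Db
  constructor
  · intro hD
    obtain ⟨xb, hx⟩ := defectGroup_conj hM hBb hD hDb
    obtain ⟨x, rfl⟩ := QuotientGroup.mk'_surjective N xb
    exact ⟨_, isDefectGroup_conj hM hB hP x, by rw [hconj, hx]⟩
  · rintro ⟨Q, hQ, rfl⟩
    obtain ⟨x, rfl⟩ := defectGroup_conj hM hB hQ hP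
    rw [hconj]
    exact isDefectGroup_conj hM hBb hDb _

end CfsgLib.Block.Quot
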