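import Cfsg.Agent.Blocks.PrincipalCoeff
import Cfsg.Agent.Blocks.Principal
import Cfsg.Agent.Blocks.NormalSub
import Cfsg.Agent.BlocksB.QuotientDefect
import Cfsg.Agent.Char.GaloisTwist
import Cfsg.Agent.Solvable.Basics

/-!
# The square norms of the principal block at an element

A character lies in the principal block when its values on the regular elements do not sum to
zero; so the principal block is stable under the automorphisms of `ℂ` and under inflation modulo a
normal subgroup of order prime to `p`.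
-/

set_option autoImplicit false
set_option linter.style.haveILetI false
set_option linter.unusedSectionVars false

namespace CfsgLib.PrincipalNorm

open Cfsg Finset CfsgLib.Block CfsgLib.Block.Chr CfsgLib.Block.Quot CfsgLib.Char
open scoped ComplexConjugate
open scoped Classical

universe u

variable {M : Ideal AlgInt} [M.IsPrime] {p : ℕ} [Fact p.Prime] {G : Type u} [Group G] [Fintype G]

/-- The sum of the values on the regular elements. -/
noncomputable def regSum (p : ℕ) (f : G → ℂ) : ℂ :=
  ∑ g ∈ univ.filter (fun g : G => ¬ p ∣ orderOf g), f g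

theorem heightForm_one (χ : IrrCharacter G) :
    heightForm p (oneIrr G) χ = regSum p (χ : G → ℂ) / (χ : G → ℂ) 1 := by
  rw [heightForm, omega, regSum, sum_filter]
  congr 1
  refine sum_congr rfl fun g _ => ?_
  by_cases hg : p ∣ orderOf g <;> simp [regPart, hg]

theorem mem_principal_iff (hM : IsPModular p M) (χ : IrrCharacter G) :
    χ ∈ principalBlock M G ↔ regSum p (χ : G → ℂ) ≠ 0 := by
  constructor
  · intro h h0
    refine (heightForm_unit_iff hM isPBlock_principalBlock (oneIrr_mem_principalBlock (G := G)) h).2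
      oneIrr_height_zero ?_
    rw [heightForm_one, h0, zero_div]
    exact memLocalIdeal_zero
  · intro h
    by_contra hn
    have h1 := classInner_regPart_eq_zero hM (oneIrr G) χ hn
    refine h ?_
    rw [classInner, mul_eq_zero] at h1
    have h2 := h1.resolve_left (inv_ne_zero (Nat.cast_ne_zero.2 Nat.card_pos.ne'))
    have h3 := congrArg conj h2
    rw [map_sum, map_zero] at h3
    rw [regSum, sum_filter]
    refine Eq.trans ?_ h3
    refine sum_congr rfl fun g _ => ?_
    by_cases hg : p ∣ orderOf g <;> simp [regPart, hg]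

/-- The sum of the square norms over the principal block, as a complex number. -/
theorem normSq_sum_eq [Fintype (IrrCharacter G)] (x : G) :
    ((∑ᶠ χ ∈ principalBlock M G, Complex.normSq ((χ : G → ℂ) x) : ℝ) : ℂ) =
      ∑ χ ∈ univ.filter (· ∈ principalBlock M G), (χ : G → ℂ) x * (χ : G → ℂ) x⁻¹ := by
  rw [finsum_set_eq, Complex.ofReal_sum]
  refine sum_congr rfl fun χ _ => ?_
  rw [IsIrrCharacter.apply_inv χ.2, Complex.mul_conj]

/-- The sum is a positive integer. -/
theorem exists_nat (hM : IsPModular p M) (x : G) :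
    ∃ n : ℕ, 0 < n ∧ ∑ᶠ χ ∈ principalBlock M G, Complex.normSq ((χ : G → ℂ) x) = n := by
  letI := irrFintype (G := G)
  set S : ℂ := ((∑ᶠ χ ∈ principalBlock M G, Complex.normSq ((χ : G → ℂ) x) : ℝ) : ℂ) with hSdef
  have hS : S = ∑ χ ∈ univ.filter (· ∈ principalBlock M G), (χ : G → ℂ) x * (χ : G → ℂ) x⁻¹ :=
    normSq_sum_eq x
  have hfix : ∀ σ : ℂ ≃+* ℂ, σ S = S := by
    intro σ
    set f : IrrCharacter G → IrrCharacter G := fun χ =>
      ⟨fun g => σ ((χ : G → ℂ) g), IsIrrCharacter.map_ringEquiv χ.2 σ⟩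
    have hinj : Function.Injective f := fun χ ψ h => Subtype.ext (funext fun g =>
      σ.injective (congrFun (congrArg Subtype.val h) g))
    have hmem : ∀ χ, f χ ∈ principalBlock M G ↔ χ ∈ principalBlock M G := fun χ => by
      rw [mem_principal_iff hM, mem_principal_iff hM, regSum, regSum]
      show (∑ g ∈ _, σ ((χ : G → ℂ) g)) ≠ 0 ↔ _
      rw [← map_sum, ne_eq, EmbeddingLike.map_eq_zero_iff]
    rw [hS, map_sum]
    refine sum_bij (fun χ _ => f χ) (fun χ hχ => ?_) (fun a _ b _ h => hinj h) (fun χ hχ => ?_)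
      fun χ _ => map_mul σ _ _
    · rw [mem_filter] at hχ ⊢
      exact ⟨mem_univ _, (hmem χ).2 hχ.2⟩
    · obtain ⟨ψ, rfl⟩ := (Finite.injective_iff_surjective.1 hinj) χ
      rw [mem_filter] at hχ
      exact ⟨ψ, mem_filter.2 ⟨mem_univ _, (hmem ψ).1 hχ.2⟩, rfl⟩
  have hint : IsIntegral ℤ S := by
    rw [hS]
    exact IsIntegral.sum _ fun χ _ => (IsCharacter.isIntegral (isCharacter_irr χ) x).mul (IsCharacter.isIntegral (isCharacter_irr χ) x⁻¹)
  obtain ⟨m, hm⟩ := exists_int_of_fixed hint hfix
  have hre : ∑ᶠ χ ∈ principalBlock M G, Complex.normSq ((χ : G → ℂ) x) = (m : ℝ) := by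
    have := congrArg Complex.re hm
    simpa [hSdef] using this
  have h1 : (1 : ℝ) ≤ ∑ᶠ χ ∈ principalBlock M G, Complex.normSq ((χ : G → ℂ) x) := by
    rw [finsum_set_eq]
    refine le_trans (le_of_eq ?_) (single_le_sum (a := oneIrr G)
      (fun χ _ => Complex.normSq_nonneg _)
      (mem_filter.2 ⟨mem_univ _, oneIrr_mem_principalBlock⟩))
    simp
  rw [hre] at h1
  have hm1 : (1 : ℤ) ≤ m := by exact_mod_cast h1
  refine ⟨m.toNat, by omega, ?_⟩
  rw [hre]
  have : ((m.toNat : ℕ) : ℤ) = m := Int.toNat_of_nonneg (by omega)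
  exact_mod_cast this.symm

/-- The principal block of the quotient by a normal subgroup of order prime to `p`. -/
theorem sum_quotient (hM : IsPModular p M) (N : Subgroup G) [N.Normal] (hN : ¬ p ∣ Nat.card N)
    [Fintype (G ⧸ N)] {A : Type*} [AddCommMonoid A] (F : (G → ℂ) → A) :
    ∑ᶠ χ ∈ principalBlock M G, F (χ : G → ℂ) =
      ∑ᶠ ψ ∈ principalBlock M (G ⧸ N), F ((ψ : G ⧸ N → ℂ) ∘ QuotientGroup.mk) := by
  have hp : p.Prime := hM.1
  have hinj : Function.Injective (inflIrr : IrrCharacter (G ⧸ N) → IrrCharacter G) := fun a b h =>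
    Subtype.ext (funext fun q => by
      obtain ⟨g, rfl⟩ := QuotientGroup.mk_surjective q
      exact congrFun (congrArg Subtype.val h) g)
  have hordq : ∀ g : G, p ∣ orderOf (g : G ⧸ N) ↔ p ∣ orderOf g := by
    intro g
    refine ⟨fun h => h.trans (orderOf_map_dvd (QuotientGroup.mk' N) g), fun h => ?_⟩
    by_contra hn
    have h1 : orderOf g ∣ orderOf (g : G ⧸ N) * Nat.card N := by
      refine orderOf_dvd_of_pow_eq_one ?_
      rw [pow_mul]
      have hmem : g ^ orderOf (g : G ⧸ N) ∈ N := by
        rw [← QuotientGroup.eq_one_iff, QuotientGroup.mk_pow, pow_orderOf_eq_one]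
      exact congrArg Subtype.val (pow_card_eq_one' (x := (⟨_, hmem⟩ : N)))
    exact (hp.dvd_mul.1 (h.trans h1)).elim hn hN
  have hsum : ∀ ψ : IrrCharacter (G ⧸ N), regSum p (inflIrr ψ : G → ℂ) =
      (Nat.card N : ℂ) * regSum p (ψ : G ⧸ N → ℂ) := by
    intro ψ
    rw [regSum, regSum, mul_sum, sum_filter, sum_filter,
      ← sum_fiberwise univ (QuotientGroup.mk : G → G ⧸ N)]
    refine sum_congr rfl fun q _ => ?_
    rw [sum_congr rfl (g := fun _ : G => if ¬ p ∣ orderOf q then (ψ : G ⧸ N → ℂ) q else 0)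
      fun g hg => by
        obtain rfl := (mem_filter.1 hg).2
        exact if_congr (not_congr (hordq g)).symm rfl rfl, sum_const, nsmul_eq_mul]
    have hc : (univ.filter fun g : G => (g : G ⧸ N) = q).card = Nat.card N := by
      obtain ⟨g₀, rfl⟩ := QuotientGroup.mk_surjective q
      rw [← Nat.card_eq_finsetCard]
      refine Nat.card_congr
        { toFun := fun g => ⟨g₀⁻¹ * g.1, QuotientGroup.eq.1 (mem_filter.1 g.2).2.symm⟩
          invFun := fun n => ⟨g₀ * n, mem_filter.2 ⟨mem_univ _, QuotientGroup.eq.2 (by simp)⟩⟩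
          left_inv := fun g => Subtype.ext (by simp)
          right_inv := fun n => Subtype.ext (by simp) }
    rw [hc]
    split_ifs <;> simp
  have himg : principalBlock M G = inflIrr '' (principalBlock M (G ⧸ N)) := by
    ext χ
    constructor
    · intro hχ
      have hker := blockOf_subset_normal hM N hN (χ := oneIrr G) (fun _ _ => rfl) hχ
      obtain ⟨ψ, hψ⟩ := exists_quotient_irr N χ hker
      have he : inflIrr ψ = χ := Subtype.ext (funext fun g => (hψ g).symm)
      refine ⟨ψ, (mem_principal_iff hM ψ).2 fun h0 => (mem_principal_iff hM χ).1 hχ ?_, he⟩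
      rw [← he, hsum, h0, mul_zero]
    · rintro ⟨ψ, hψ, rfl⟩
      rw [mem_principal_iff hM, hsum]
      exact mul_ne_zero (Nat.cast_ne_zero.2 Nat.card_pos.ne') ((mem_principal_iff hM ψ).1 hψ)
  rw [himg, finsum_mem_image hinj.injOn]
  rfl

theorem normSq_le [Fintype (IrrCharacter G)] (x : G) :
    ∑ᶠ χ ∈ principalBlock M G, Complex.normSq ((χ : G → ℂ) x) ≤
      (Nat.card (Subgroup.centralizer ({x} : Set G)) : ℝ) := by
  rw [finsum_set_eq]
  refine le_trans (sum_le_sum_of_subset_of_nonneg (subset_univ _)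
    fun χ _ _ => Complex.normSq_nonneg _) (le_of_eq ?_)
  have h := sum_irr_mul_conj x x
  rw [if_pos (IsConj.refl x), Finset.sum_subtype (irrFinset G) (fun χ => mem_irrFinset)
    (fun χ => χ x * conj (χ x))] at h
  simp only [Complex.mul_conj] at h
  rw [← Complex.ofReal_sum] at h
  exact_mod_cast h

theorem sum_sq_eq_iff [Fintype (IrrCharacter G)] :
    ∑ᶠ χ ∈ principalBlock M G, charDegree (χ : G → ℂ) ^ 2 = Nat.card G ↔
      ∀ B : Set (IrrCharacter G), IsPBlock M B → B = principalBlock M G := by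
  have hall : ∑ χ : IrrCharacter G, charDegree (χ : G → ℂ) ^ 2 = Nat.card G := by
    have h := sum_irr_mul_conj (1 : G) 1
    rw [if_pos (IsConj.refl _), Finset.sum_subtype (irrFinset G) (fun χ => mem_irrFinset)
      (fun χ => χ 1 * conj (χ 1))] at h
    have hc : Subgroup.centralizer ({(1 : G)} : Set G) = ⊤ :=
      eq_top_iff.2 fun g _ => Subgroup.mem_centralizer_singleton_iff.2 (by simp)
    rw [hc, Subgroup.card_top] at h
    have h' : ∑ χ : IrrCharacter G, ((charDegree (χ : G → ℂ) ^ 2 : ℕ) : ℂ) = (Nat.card G : ℂ) := by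
      rw [← h]
      refine sum_congr rfl fun χ _ => ?_
      show _ = (χ : G → ℂ) 1 * conj ((χ : G → ℂ) 1)
      rw [(irr_one χ).1, Complex.conj_natCast, Nat.cast_pow, pow_two]
    rw [← Nat.cast_sum] at h'
    exact_mod_cast h'
  rw [finsum_set_eq, ← hall]
  constructor
  · intro h B hB
    obtain ⟨χ, hχ⟩ := exists_mem_block hB
    refine block_eq_of_common hB isPBlock_principalBlock hχ ?_
    by_contra hn
    have hlt : ∑ ψ ∈ univ.filter (· ∈ principalBlock M G), charDegree (ψ : G → ℂ) ^ 2 <
        ∑ ψ : IrrCharacter G, charDegree (ψ : G → ℂ) ^ 2 :=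
      sum_lt_sum_of_subset (subset_univ _) (mem_univ χ) (fun hm => hn (mem_filter.1 hm).2)
        (pow_pos (irr_one χ).2 2) fun ψ _ _ => Nat.zero_le _
    omega
  · intro h
    rw [filter_true_of_mem fun χ _ =>
      h _ (isPBlock_blockOf (M := M) χ) ▸ mem_blockOf_self χ]

end CfsgLib.PrincipalNorm
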