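import Cfsg.Agent.Char.Orthogonality
import Cfsg.Prelude.Def_Blocks
import Cfsg.Agent.Char.Central

/-!
# Class sums acting in irreducible representations, and the class pair count
-/

namespace CfsgLib.BlocksB

open Representation CfsgLib.Char

variable {G : Type*} [Group G]

theorem charDegree_spec {χ : G → ℂ} (hχ : Cfsg.IsIrrCharacter G χ) :
    χ 1 = (Cfsg.charDegree χ : ℂ) ∧ 0 < Cfsg.charDegree χ := by
  obtain ⟨d, hd, hd'⟩ := CfsgLib.Char.IsIrrCharacter.exists_degree hχ
  have : Cfsg.charDegree χ = d := by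
    rw [Cfsg.charDegree, hd', Complex.natCast_re, Nat.floor_natCast]
  exact ⟨by rw [this]; exact hd', this ▸ hd⟩

variable [Fintype G]

/-- A class function acts as a scalar in an irreducible representation. -/
theorem exists_scalar {χ : G → ℂ} (hχ : Cfsg.IsIrrCharacter G χ) {θ : G → ℂ}
    (hθ : Cfsg.IsClassFunction G θ) :
    ∃ c : ℂ, c * χ 1 = ∑ g, θ g * χ g ∧ ∀ y, ∑ g, θ g * χ (g * y) = c * χ y := by
  have hne := CfsgLib.Char.IsIrrCharacter.apply_one_ne_zero hχ
  obtain ⟨n, ρ, hρ, rfl⟩ := hχ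
  have h := sum_smul_eq_smul_one ρ hθ
  rw [ρ.char_one] at hne
  refine ⟨(∑ g, θ g * ρ.character g) / (Module.finrank ℂ (Fin n → ℂ) : ℂ), ?_, fun y => ?_⟩
  rotate_left
  · have := congrArg (fun A => LinearMap.trace ℂ (Fin n → ℂ) (A * ρ y)) h
    simpa [Finset.sum_mul, smul_mul_assoc, ← map_mul, Representation.character] using this
  · rw [ρ.char_one, div_mul_cancel₀ _ hne]

/-- `∑_g χ(g x g⁻¹ y) · χ(1) = #G · χ(x) χ(y)`. -/
theorem sum_conj_mul {χ : G → ℂ} (hχ : Cfsg.IsIrrCharacter G χ) (x y : G) :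
    (∑ g, χ (g * x * g⁻¹ * y)) * χ 1 = (Nat.card G : ℂ) * χ x * χ y := by
  classical
  let θ : G → ℂ := fun u => ((Finset.univ.filter fun g => g * x * g⁻¹ = u).card : ℂ)
  have hθ : Cfsg.IsClassFunction G θ := by
    intro u h
    simp only [θ]
    congr 1
    refine Finset.card_nbij' (fun g => h⁻¹ * g) (fun g => h * g) ?_ ?_ (fun g _ => by simp)
      (fun g _ => by simp)
    · intro g hg
      simp only [Finset.coe_filter, Finset.mem_univ, true_and, Set.mem_setOf_eq] at hg ⊢
      have := congrArg (fun z => h⁻¹ * z * h) hg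
      simpa [mul_assoc] using this
    · intro g hg
      simp only [Finset.coe_filter, Finset.mem_univ, true_and, Set.mem_setOf_eq] at hg ⊢
      rw [← hg]; group
  obtain ⟨c, hc, hy⟩ := exists_scalar hχ hθ
  have hsum : ∀ z, ∑ u, θ u * χ (u * z) = ∑ g, χ (g * x * g⁻¹ * z) := by
    intro z
    rw [← Finset.sum_fiberwise Finset.univ (fun g => g * x * g⁻¹) (fun g => χ (g * x * g⁻¹ * z))]
    refine Finset.sum_congr rfl fun u _ => ?_
    rw [Finset.sum_congr rfl (g := fun _ => χ (u * z)) fun g hg => by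
      rw [(Finset.mem_filter.mp hg).2], Finset.sum_const, nsmul_eq_mul]
  have h1 : c * χ 1 = (Nat.card G : ℂ) * χ x := by
    rw [hc]
    have := hsum 1
    simp only [mul_one] at this
    rw [this, Finset.sum_congr rfl fun g _ => hχ |> IsIrrCharacter.isClassFunction |> (· x g),
      Finset.sum_const, Finset.card_univ, nsmul_eq_mul, Nat.card_eq_fintype_card]
  rw [← hsum y, hy y, mul_assoc, mul_comm (χ y), ← mul_assoc, h1]

/-- The central character is an algebraic integer. -/
theorem isIntegral_centralChar {χ : G → ℂ} (hχ : Cfsg.IsIrrCharacter G χ) (x : G) :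
    IsIntegral ℤ (Cfsg.centralChar χ x) :=
  IsIrrCharacter.isIntegral_class_mul_div hχ x

/-- The degree divides the group order. -/
theorem charDegree_dvd {χ : G → ℂ} (hχ : Cfsg.IsIrrCharacter G χ) :
    Cfsg.charDegree χ ∣ Nat.card G :=
  IsIrrCharacter.degree_dvd_card hχ (charDegree_spec hχ).1

open Classical in
/-- The number of pairs `(g, h)` with `g x g⁻¹ · h y h⁻¹ = w`. -/
theorem card_pairs (x y w : G) :
    ((Finset.univ.filter fun gh : G × G => gh.1 * x * gh.1⁻¹ * (gh.2 * y * gh.2⁻¹) = w).card : ℂ)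
      = (Nat.card G : ℂ) * ∑ χ ∈ irrFinset G, χ x * χ y * χ w⁻¹ / χ 1 := by
  have hG : (Nat.card G : ℂ) ≠ 0 := Nat.cast_ne_zero.mpr Nat.card_pos.ne'
  have hreg : ∀ v : G, (if v = 1 then (1 : ℂ) else 0) =
      (Nat.card G : ℂ)⁻¹ * ∑ χ ∈ irrFinset G, χ 1 * χ v := by
    intro v
    have := sum_irr_mul_conj v (1 : G)
    rw [Finset.sum_congr rfl (g := fun χ => χ 1 * χ v) fun χ hχ => by
      obtain ⟨hd, -⟩ := charDegree_spec (mem_irrFinset.mp hχ)
      rw [hd, map_natCast, mul_comm]] at this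
    rw [this]
    by_cases hv : v = 1
    · subst hv
      have : Subgroup.centralizer ({(1 : G)} : Set G) = ⊤ := by
        ext g; simp [Subgroup.mem_centralizer_singleton_iff]
      rw [if_pos rfl, if_pos (IsConj.refl _), this, Subgroup.card_top, inv_mul_cancel₀ hG]
    · rw [if_neg hv, if_neg fun h => hv (isConj_one_right.mp h.symm), mul_zero]
  calc ((Finset.univ.filter fun gh : G × G =>
        gh.1 * x * gh.1⁻¹ * (gh.2 * y * gh.2⁻¹) = w).card : ℂ)
      = ∑ h : G, ∑ g : G, if g * x * g⁻¹ * (h * y * h⁻¹ * w⁻¹) = 1 then (1 : ℂ) else 0 := by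
        rw [← Finset.sum_boole, Fintype.sum_prod_type, Finset.sum_comm]
        refine Finset.sum_congr rfl fun h _ => Finset.sum_congr rfl fun g _ => if_congr ?_ rfl rfl
        show g * x * g⁻¹ * (h * y * h⁻¹) = w ↔ _
        rw [← mul_assoc (g * x * g⁻¹) (h * y * h⁻¹), mul_inv_eq_one]
    _ = (Nat.card G : ℂ)⁻¹ * ∑ χ ∈ irrFinset G,
          ∑ h : G, χ 1 * ∑ g : G, χ (g * x * g⁻¹ * (h * y * h⁻¹ * w⁻¹)) := by
        simp_rw [hreg, ← Finset.mul_sum]
        congr 1
        rw [Finset.sum_congr rfl fun h _ => Finset.sum_comm, Finset.sum_comm]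
        exact Finset.sum_congr rfl fun χ _ => by simp_rw [← Finset.mul_sum]
    _ = _ := by
        rw [Finset.mul_sum, Finset.mul_sum]
        refine Finset.sum_congr rfl fun χ hχ => ?_
        have hχ := mem_irrFinset.mp hχ
        have hne := CfsgLib.Char.IsIrrCharacter.apply_one_ne_zero hχ
        have h1 : ∀ h : G, χ 1 * ∑ g : G, χ (g * x * g⁻¹ * (h * y * h⁻¹ * w⁻¹)) =
            (Nat.card G : ℂ) * χ x * χ (h * y * h⁻¹ * w⁻¹) := fun h => by
          rw [mul_comm]; exact sum_conj_mul hχ x _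
        rw [Finset.sum_congr rfl fun h _ => h1 h, ← Finset.mul_sum]
        have h2 := sum_conj_mul hχ y w⁻¹
        rw [← eq_div_iff hne] at h2
        rw [h2]
        field_simp

end CfsgLib.BlocksB
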