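import Cfsg.Agent.Blocks.PSolvableBlock
import Cfsg.Agent.Blocks.PSolvablePrincipal
import Cfsg.Agent.Blocks.StabilizerCorr
import Cfsg.Agent.Blocks.Correspond
import Cfsg.Agent.Blocks.BrauerFeit
import Cfsg.Agent.Char.DegreeRatio
import Cfsg.Agent.Char.ExtendInv
import Cfsg.Agent.Char.GaloisConjugateDegrees

/-!
# Degrees in blocks of p-solvable groups

For a block with defect group `D` of a `p`-solvable group, the `p`-part of each degree times the
order of the centre of `D` divides the order of the group.  The proof follows Fong: one passes to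
the inertia group of a character of `O_{p'}`; if that is the whole group then `D` is a Sylow
subgroup and the centre of `D` lies in the centre of `O_p` modulo `O_{p'}`, an abelian normal
subgroup.
-/

set_option autoImplicit false
set_option linter.style.haveILetI false
set_option linter.unusedSectionVars false

namespace CfsgLib.Block.PSolvableHeight

open Cfsg Finset CfsgLib.Block CfsgLib.Block.Chr CfsgLib.Char

universe u

/-- Over an invariant character of a `p'`-subgroup with an abelian `p`-quotient every character
has the same degree. -/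
theorem degree_eq_of_abelian {A : Type u} [Group A] [Fintype A] (N : Subgroup A) [N.Normal]
    [Fintype N] (hcop : Nat.Coprime (Nat.card N) N.index)
    (hab : ∀ a b : A, a * b * a⁻¹ * b⁻¹ ∈ N) {θ : N → ℂ} (hθ : IsIrrCharacter N θ)
    (hI : inertia θ = ⊤) {φ : A → ℂ} (hφ : IsIrrCharacter A φ)
    (hc : classInner (fun n : N => φ n) θ ≠ 0) : φ 1 = θ 1 := by
  obtain ⟨χ, hχ, hext⟩ := exists_extension_of_coprime hθ
    (fun g n => (mem_inertia_iff θ g).1 (hI ▸ Subgroup.mem_top g) n) hcop
  have hres : (fun n : N => χ n) = θ := funext hext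
  obtain ⟨β, ⟨hβ, hker⟩, hβφ⟩ := (gallagher_one hχ (by rw [hres]; exact hθ)).surjOn
    (show φ ∈ {ψ | IsIrrCharacter A ψ ∧
      classInner (fun n : N => ψ n) (fun n : N => χ n) ≠ 0} from ⟨hφ, by rw [hres]; exact hc⟩)
  have h1 : β 1 = 1 := IsIrrCharacter.apply_one_eq_one_of_commutators hβ fun a b => by
    exact hker _ (hab a b)
  simp only at hβφ
  rw [← hβφ, Pi.mul_apply, h1, one_mul]
  exact hext 1

theorem card_center_eq_of_map {G : Type u} [Group G] {H : Type u} [Group H] (f : H →* G)
    (hf : Function.Injective f) (D : Subgroup H) :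
    Nat.card (Subgroup.center (D.map f : Subgroup G)) = Nat.card (Subgroup.center D) :=
  Nat.card_congr (Subgroup.centerCongr (D.equivMapOfInjective f hf)).toEquiv.symm

variable {p : ℕ} [Fact p.Prime] {M : Ideal AlgInt} [M.IsPrime]

theorem degree_bound_aux (hM : IsPModular p M) : ∀ n : ℕ, ∀ (G : Type u) [Group G] [Fintype G],
    Nat.card G = n → IsPSolvable p G → ∀ (B : Set (IrrCharacter G)), IsPBlock M B →
    ∀ (D : Subgroup G), IsDefectGroup p M B D → ∀ χ ∈ B,
      (charDegree (χ : G → ℂ)).factorization p + (Nat.card (Subgroup.center D)).factorization p ≤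
        (Nat.card G).factorization p := by
  intro n
  induction n using Nat.strong_induction_on with
  | _ n ih =>
  intro G _ _ hn hs B hB D hD χ hχ
  classical
  let N := Cfsg.pPrimeCore p G
  haveI hNn : N.Normal := (CfsgLib.Solvable.pPrimeCore_spec p).1
  have hNp : ¬ p ∣ Nat.card N := fun h =>
    (Fact.out : p.Prime).ne_one (Nat.eq_one_of_dvd_coprimes
      (CfsgLib.Solvable.coprime_card_pPrimeCore p) h dvd_rfl)
  haveI : Fintype N := Fintype.ofFinite N
  obtain ⟨θf, hθf, hc⟩ := exists_constituent_restrict (N := N) χ.2
  let θ : IrrCharacter N := ⟨θf, hθf⟩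
  by_cases hT : inertia θf = ⊤
  · have hinv : ∀ g : G, conjIrr g θ = θ := fun g =>
      Subtype.ext ((mem_inertia θf g).1 (hT ▸ Subgroup.mem_top g))
    have hsc := selfCent_quotient_of_pSolvable (G := G) (p := p) hs
    obtain ⟨B', hB', hiff, -, hsyl⟩ := block_over_invariant hM hNp hsc hinv
    have hBB : B = B' := block_eq_of_common hB hB' hχ ((hiff χ).2 hc)
    obtain ⟨P, rfl⟩ := hsyl D (hBB ▸ hD)
    -- the abelian normal subgroup
    let π := QuotientGroup.mk' N
    let Q := Cfsg.pCore p (G ⧸ N)
    haveI hQn : Q.Normal := (CfsgLib.Solvable.pCore_spec p).1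
    let Z : Subgroup (G ⧸ N) := (Subgroup.center Q).map Q.subtype
    haveI hZn : Z.Normal := by
      constructor
      rintro _ ⟨z, hz, rfl⟩ g
      refine ⟨⟨g * z * g⁻¹, hQn.conj_mem _ z.2 g⟩, ?_, rfl⟩
      rw [SetLike.mem_coe, Subgroup.mem_center_iff]
      intro q
      apply Subtype.ext
      have h := Subgroup.mem_center_iff.1 hz ⟨g⁻¹ * q * g⁻¹⁻¹, hQn.conj_mem _ q.2 g⁻¹⟩
      have h' := congrArg (Q.subtype) h
      simp only [Subgroup.coe_subtype, Subgroup.coe_mul] at h'
      simp only [Subgroup.coe_mul]
      calc (q : G ⧸ N) * (g * z * g⁻¹) = g * (g⁻¹ * q * g⁻¹⁻¹ * z) * g⁻¹ := by group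
        _ = g * (z * (g⁻¹ * q * g⁻¹⁻¹)) * g⁻¹ := by rw [h']
        _ = g * z * g⁻¹ * q := by group
    let A : Subgroup G := Z.comap π
    haveI hAn : A.Normal := hZn.comap π
    have hNA : N ≤ A := fun x hx => by
      show π x ∈ Z
      rw [show π x = 1 from (QuotientGroup.eq_one_iff x).2 hx]
      exact Z.one_mem
    haveI : Fintype A := Fintype.ofFinite A
    haveI : Fintype (N.subgroupOf A) := Fintype.ofFinite _
    -- its order
    have hZp : IsPGroup p Z :=
      ((CfsgLib.Solvable.isPGroup_pCore p).to_subgroup _).map Q.subtype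
    obtain ⟨a, ha⟩ := IsPGroup.iff_card.1 hZp
    have hNi : (N.subgroupOf A).index = p ^ a := by
      rw [← ha]
      have h1 : π.ker.relIndex A = Nat.card (A.map π) := by
        rw [← MonoidHom.comap_bot, Subgroup.relIndex_comap, Subgroup.relIndex_bot_left]
      rw [Subgroup.map_comap_eq_self_of_surjective (QuotientGroup.mk'_surjective N),
        QuotientGroup.ker_mk'] at h1
      exact h1
    have hab : ∀ x y : A, x * y * x⁻¹ * y⁻¹ ∈ N.subgroupOf A := by
      intro x y
      rw [Subgroup.mem_subgroupOf, ← QuotientGroup.eq_one_iff]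
      obtain ⟨zx, hzx, hx⟩ := x.2
      obtain ⟨zy, hzy, hy⟩ := y.2
      show π _ = 1
      push_cast
      rw [map_mul, map_mul, map_mul, map_inv, map_inv, ← hx, ← hy,
        show Q.subtype zx * Q.subtype zy = Q.subtype zy * Q.subtype zx by
          rw [← map_mul, ← map_mul, Subgroup.mem_center_iff.1 hzy zx]]
      group
    have hcard : Nat.card (N.subgroupOf A) = Nat.card N :=
      Nat.card_congr (Subgroup.subgroupOfEquivOfLe hNA).toEquiv
    have hcop : Nat.Coprime (Nat.card (N.subgroupOf A)) (N.subgroupOf A).index := by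
      rw [hcard, hNi]
      exact (CfsgLib.Solvable.coprime_card_pPrimeCore p).pow_right a
    -- the degree
    obtain ⟨φ, hφ, hcφ⟩ := exists_constituent_restrict (N := A) χ.2
    obtain ⟨k, hk, hk1⟩ := exists_degree_ratio χ.2 hφ hcφ
    have hφ1 : φ 1 = θf 1 := by
      obtain ⟨η, hη, hcη⟩ := exists_constituent_restrict (N := N.subgroupOf A) hφ
      have hη' : η = pullBack (T := A) θf := by
        let e := Subgroup.subgroupOfEquivOfLe hNA
        have hηe : IsIrrCharacter N (fun n : N => η (e.symm n)) :=
          IsIrrCharacter.comp_surjective hη e.symm.toMonoidHom e.symm.surjective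
        have hne : classInner (fun n : N => (χ : G → ℂ) n) (fun n : N => η (e.symm n)) ≠ 0 := by
          obtain ⟨m, hm⟩ := IsCharacter.exists_classInner_eq_natCast
            (IsCharacter.comp (IsIrrCharacter.isCharacter hφ) (Subgroup.inclusion hNA)) hηe
          obtain ⟨l, hl⟩ := IsCharacter.exists_classInner_eq_natCast
            (IsCharacter.comp (IsCharacter.sub_irr
              (IsCharacter.restrict (IsIrrCharacter.isCharacter χ.2) A) hφ hcφ)
              (Subgroup.inclusion hNA)) hηe
          have hm0 : m ≠ 0 := by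
            rintro rfl
            apply hcη
            rw [Nat.cast_zero, ← classInner_comp_mulEquiv e] at hm
            convert hm using 2
            · funext x
              exact congrArg φ (Subtype.ext rfl)
            · funext x
              exact (congrArg η (e.symm_apply_apply x)).symm
          have heq : classInner (fun n : N => (χ : G → ℂ) n) (fun n : N => η (e.symm n)) =
              ((m + l : ℕ) : ℂ) := by
            rw [Nat.cast_add, ← hm, ← hl, ← classInner_add_left]
            congr 1
            funext x
            simp [Subgroup.coe_inclusion]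
          rw [heq, Nat.cast_ne_zero]
          omega
        obtain ⟨g, hg⟩ := mem_conjOrbit.1 (mem_conjOrbit_of_constituent χ.2 hθf hηe hc hne)
        rw [(mem_inertia θf g).1 (hT ▸ Subgroup.mem_top g)] at hg
        funext x
        have := congrFun hg (e x)
        rw [e.symm_apply_apply] at this
        exact this
      subst hη'
      exact (degree_eq_of_abelian _ hcop hab hη (inertia_eq_top fun g x => by
        have h := (mem_inertia_iff θf (g : G)).1 (hT ▸ Subgroup.mem_top _)
          ⟨((x : A) : G), x.2⟩
        exact h) hφ hcη).trans rfl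
    obtain ⟨d, hd, hd1⟩ := IsIrrCharacter.exists_degree hθf
    have hdeg : charDegree (χ : G → ℂ) = k * d := by
      apply Nat.cast_injective (R := ℂ)
      rw [← (irr_one χ).1, hk1, hφ1, hd1, Nat.cast_mul]
    have hdp : d.factorization p = 0 := Nat.factorization_eq_zero_of_not_dvd fun h =>
      hNp (h.trans (IsIrrCharacter.degree_dvd_card hθf hd1))
    have hk0 : k ≠ 0 := by
      rintro rfl
      exact Subgroup.index_ne_zero_of_finite (Nat.zero_dvd.1 hk)
    -- the centre of the Sylow subgroup
    have hPZ : Nat.card (Subgroup.center (P : Subgroup G)) ∣ p ^ a := by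
      let f : Subgroup.center (P : Subgroup G) →* G ⧸ N :=
        π.comp ((P : Subgroup G).subtype.comp (Subgroup.center (P : Subgroup G)).subtype)
      have hfi : Function.Injective f := by
        rw [injective_iff_map_eq_one]
        intro x hx
        have hxN : ((x : (P : Subgroup G)) : G) ∈ N := (QuotientGroup.eq_one_iff _).1 hx
        obtain ⟨i, hi⟩ := P.2 (x : (P : Subgroup G))
        apply Subtype.ext
        apply Subtype.ext
        have h1 : orderOf ((x : (P : Subgroup G)) : G) ∣ p ^ i := by
          rw [orderOf_dvd_iff_pow_eq_one]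
          simpa using congrArg (Subtype.val) hi
        have h2 : orderOf ((x : (P : Subgroup G)) : G) ∣ Nat.card N := by
          have := orderOf_dvd_natCard (⟨_, hxN⟩ : N)
          rwa [← Subgroup.orderOf_coe] at this
        simpa using orderOf_eq_one_iff.1 (Nat.eq_one_of_dvd_coprimes
          ((CfsgLib.Solvable.coprime_card_pPrimeCore p).symm.pow_left i) h1 h2)
      have hQP : Q ≤ ((P : Subgroup G).map π) :=
        CfsgLib.Fitting.pCore_le_sylow (P.mapSurjective (QuotientGroup.mk'_surjective N))
      have hfZ : f.range ≤ Z := by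
        rintro _ ⟨x, rfl⟩
        have hcomm : ∀ q ∈ (P : Subgroup G).map π, q * f x = f x * q := by
          rintro _ ⟨u, hu, rfl⟩
          show π u * π _ = π _ * π u
          rw [← map_mul, ← map_mul]
          exact congrArg π (congrArg Subtype.val (Subgroup.mem_center_iff.1 x.2 ⟨u, hu⟩))
        have hxQ : f x ∈ Q := hsc (Subgroup.mem_centralizer_iff.2 fun q hq => hcomm q (hQP hq))
        exact ⟨⟨f x, hxQ⟩, Subgroup.mem_center_iff.2 fun q =>
          Subtype.ext (hcomm q (hQP q.2)), rfl⟩
      have h := Subgroup.card_dvd_of_le hfZ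
      rwa [← Nat.card_congr (MonoidHom.ofInjective hfi).toEquiv, ha] at h
    have hz : (Nat.card (Subgroup.center (P : Subgroup G))).factorization p ≤ a := by
      have := (Nat.factorization_le_iff_dvd Nat.card_pos.ne'
        (pow_ne_zero _ (Fact.out : p.Prime).ne_zero)).2 hPZ p
      rwa [(Fact.out : p.Prime).factorization_pow, Finsupp.single_eq_same] at this
    have hkp : k.factorization p ≤ A.index.factorization p :=
      (Nat.factorization_le_iff_dvd hk0 Subgroup.index_ne_zero_of_finite).2 hk p
    have hG : (Nat.card G).factorization p = a + A.index.factorization p := by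
      rw [← A.card_mul_index, Nat.factorization_mul Nat.card_pos.ne'
        Subgroup.index_ne_zero_of_finite, Finsupp.add_apply,
        ← (N.subgroupOf A).card_mul_index, Nat.factorization_mul Nat.card_pos.ne'
        Subgroup.index_ne_zero_of_finite, Finsupp.add_apply, hcard, hNi,
        Nat.factorization_eq_zero_of_not_dvd hNp, (Fact.out : p.Prime).factorization_pow,
        Finsupp.single_eq_same, zero_add]
    rw [hdeg, Nat.factorization_mul hk0 hd.ne', Finsupp.add_apply, hdp, hG]
    omega
  · set T := inertia θf with hTdef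
    haveI : Fintype T := Fintype.ofFinite T
    have hNT : N ≤ T := le_inertia (IsIrrCharacter.isClassFunction hθf)
    have hb : IsPBlock M ({θ} : Set (IrrCharacter N)) :=
      ⟨θ, (blockOf_eq_singleton hM hNp θ).symm⟩
    have hS : IsStab ({θ} : Set (IrrCharacter N)) T := by
      intro g η hη
      rw [Set.mem_singleton_iff.1 hη, Set.mem_singleton_iff, hTdef, mem_inertia,
        Subtype.ext_iff]
      rfl
    obtain ⟨ψ, hψ, hcψ⟩ := exists_stab_inducing hS hNT (Set.mem_singleton θ) hc
    have hB' := isPBlock_blockOf (M := M) ψ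
    obtain ⟨B₁, hind, -, h₁, h₂⟩ := stab_block_correspond hb hS hNT hB'
      ⟨ψ, mem_blockOf_self ψ, θ, Set.mem_singleton θ, hcψ⟩
    have hχ₁ : χ ∈ B₁ := mem_induced_of_indFun hind (mem_blockOf_self ψ) hψ
    obtain rfl : B = B₁ := block_eq_of_common hB hind.2.1 hχ hχ₁
    obtain ⟨D', hD'⟩ := exists_defectGroup (p := p) hB' hM
    obtain ⟨E, hE, hle⟩ := defectGroup_le_induced hM hind hD'
    have hEq : D'.map T.subtype = E := Subgroup.eq_of_le_of_card_ge hle (le_of_eq (by
      rw [card_defectGroup hM hB hE, Subgroup.card_map_of_injective T.subtype_injective,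
        card_defectGroup hM hB' hD', (stab_defect_height hB' h₁ h₂).1]))
    obtain ⟨x, hx⟩ := defectGroup_conj hM hB hD hE
    have hZ : Nat.card (Subgroup.center D) = Nat.card (Subgroup.center D') := by
      rw [← hx, card_center_eq_of_map _ (MulAut.conj x).injective, ← hEq,
        card_center_eq_of_map _ T.subtype_injective]
    have hlt : Nat.card T < n := by
      rw [← hn]
      refine lt_of_le_of_ne (Nat.le_of_dvd Nat.card_pos T.card_subgroup_dvd_card) fun h => hT ?_
      exact Subgroup.eq_top_of_card_eq T h
    have := ih _ hlt T rfl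
      (CfsgLib.PConstrained.isPSolvable_comap T.subtype T.subtype_injective hs)
      _ hB' D' hD' ψ (mem_blockOf_self ψ)
    rw [charDegree_indFun hψ, Nat.factorization_mul Subgroup.index_ne_zero_of_finite
      (irr_one ψ).2.ne', Finsupp.add_apply, hZ, ← T.card_mul_index,
      Nat.factorization_mul Nat.card_pos.ne' Subgroup.index_ne_zero_of_finite, Finsupp.add_apply]
    omega

/-- Heights in blocks of `p`-solvable groups. -/
theorem height_le {G : Type u} [Group G] [Finite G] (hM : IsPModular p M) (hs : IsPSolvable p G)
    {B : Set (IrrCharacter G)} (hB : IsPBlock M B) {D : Subgroup G}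
    (hD : IsDefectGroup p M B D) {χ : IrrCharacter G} (hχ : χ ∈ B) :
    blockHeight p B (χ : G → ℂ) ≤ ((Subgroup.center D).index).factorization p := by
  haveI := Fintype.ofFinite G
  have h := degree_bound_aux hM _ G rfl hs B hB D hD χ hχ
  have hdd : (Nat.card D).factorization p = blockDefect p B := by
    rw [card_defectGroup hM hB hD, (Fact.out : p.Prime).factorization_pow, Finsupp.single_eq_same]
  have hd : blockDefect p B ≤ (Nat.card G).factorization p := blockDefect_le B
  rw [factorization_degree hM hB hχ] at h
  rw [← (Subgroup.center D).card_mul_index, Nat.factorization_mul Nat.card_pos.ne'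
    Subgroup.index_ne_zero_of_finite, Finsupp.add_apply] at hdd
  omega

end CfsgLib.Block.PSolvableHeight
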