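import Cfsg.Agent.Blocks.BrauerFeit
import Cfsg.Prelude.Def_BlockRank
import Cfsg.Agent.Char.Inner
import Mathlib.LinearAlgebra.Trace

/-!
# The rank of a block on the regular elements

Cutting the members of a block off at the singular elements is an idempotent matrix; its trace is
the rank.
-/

namespace CfsgLib.BlockB

open Finset Cfsg CfsgLib.Block CfsgLib.Block.Chr CfsgLib.Char Matrix
open scoped ComplexConjugate

universe u

variable {G : Type u} [Group G] [Fintype G] {M : Ideal AlgInt} [M.IsPrime] {p : ℕ} [Fact p.Prime]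
  {B : Set (IrrCharacter G)}

omit [Fintype G] [Fact p.Prime] in
theorem pRegularPart_eq (f : G → ℂ) : pRegularPart p f = regPart p f := by
  funext g
  by_cases hg : p ∣ orderOf g
  · rw [regPart_of_dvd hg, pRegularPart, if_neg (show ¬ IsPRegular p g from not_not.2 hg)]
  · rw [regPart_of_not_dvd hg, pRegularPart, if_pos (show IsPRegular p g from hg)]

open scoped Classical in
/-- The matrix of cutting off at singular elements on the members of `B`. -/
noncomputable def regMat (p : ℕ) (B : Set (IrrCharacter G)) : Matrix B B ℂ :=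
  fun χ ψ => classInner (regPart p ((χ : IrrCharacter G) : G → ℂ)) ((ψ : IrrCharacter G) : G → ℂ)

theorem regMat_eq (χ ψ : B) :
    regMat p B χ ψ = (regInt p χ.1 ψ.1 : ℂ) / ((p ^ (Nat.card G).factorization p : ℕ) : ℂ) :=
  classInner_regPart_eq χ.1 ψ.1

theorem regMat_symm (χ ψ : B) : regMat p B χ ψ = regMat p B ψ χ := by
  rw [regMat_eq, regMat_eq, regInt_comm]

theorem regPart_expand (hM : IsPModular p M) (hB : IsPBlock M B) [Fintype B] (χ : B) (g : G) :
    regPart p ((χ : IrrCharacter G) : G → ℂ) g =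
      ∑ ψ : B, regMat p B χ ψ * ((ψ : IrrCharacter G) : G → ℂ) g := by
  classical
  letI := irrFintype (G := G)
  have h : regPart p ((χ : IrrCharacter G) : G → ℂ) g = ∑ ψ ∈ univ.filter (· ∈ B),
      classInner (regPart p ((χ : IrrCharacter G) : G → ℂ)) (ψ : G → ℂ) * (ψ : G → ℂ) g := by
    rw [← blockPart_eq_sum_inner, blockPart_regPart hM hB, blockPart_irr, if_pos χ.2]
  rw [h]
  exact sum_subtype (univ.filter (· ∈ B)) (p := (· ∈ B)) (by simp) fun ψ : IrrCharacter G =>
    classInner (regPart p ((χ : IrrCharacter G) : G → ℂ)) (ψ : G → ℂ) * (ψ : G → ℂ) g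

/-- The combination of the members with given coefficients. -/
noncomputable def comb (B : Set (IrrCharacter G)) [Fintype B] : (B → ℂ) →ₗ[ℂ] (G → ℂ) where
  toFun c := ∑ ψ : B, c ψ • ((ψ : IrrCharacter G) : G → ℂ)
  map_add' c c' := by simp only [Pi.add_apply, add_smul, sum_add_distrib]
  map_smul' a c := by simp only [Pi.smul_apply, smul_eq_mul, RingHom.id_apply, smul_sum, smul_smul]

omit [Fintype G] in
theorem comb_apply [Fintype B] (c : B → ℂ) (g : G) :
    comb B c g = ∑ ψ : B, c ψ * ((ψ : IrrCharacter G) : G → ℂ) g := by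
  show (∑ ψ : B, c ψ • ((ψ : IrrCharacter G) : G → ℂ)) g = _
  rw [Finset.sum_apply]
  rfl

theorem classInner_comb [Fintype B] (c : B → ℂ) (φ : B) :
    classInner (comb B c) ((φ : IrrCharacter G) : G → ℂ) = c φ := by
  classical
  have : classInner (comb B c) ((φ : IrrCharacter G) : G → ℂ) =
      ∑ ψ : B, classInner (c ψ • ((ψ : IrrCharacter G) : G → ℂ)) ((φ : IrrCharacter G) : G → ℂ) :=
    classInner_sum_left univ (fun ψ : B => c ψ • ((ψ : IrrCharacter G) : G → ℂ)) _
  rw [this]
  simp only [classInner_smul_left, classInner_irr, mul_ite, mul_one, mul_zero]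
  rw [sum_eq_single φ]
  · rw [if_pos rfl]
  · intro ψ _ hne
    rw [if_neg fun h => hne (Subtype.ext h)]
  · simp

theorem comb_injective [Fintype B] : Function.Injective (comb B) := fun c c' h => funext fun φ => by
  rw [← classInner_comb c φ, h, classInner_comb]

theorem comb_regMat (hM : IsPModular p M) (hB : IsPBlock M B) [Fintype B] (χ : B) :
    comb B (fun ψ => regMat p B χ ψ) = regPart p ((χ : IrrCharacter G) : G → ℂ) :=
  funext fun g => by rw [comb_apply, regPart_expand hM hB]

/-- The matrix is idempotent. -/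
theorem regMat_mul_self (hM : IsPModular p M) (hB : IsPBlock M B) [Fintype B] :
    regMat p B * regMat p B = regMat p B := by
  classical
  letI := irrFintype (G := G)
  have hpa : ((p ^ (Nat.card G).factorization p : ℕ) : ℂ) ≠ 0 :=
    Nat.cast_ne_zero.2 (pow_ne_zero _ (Fact.out : p.Prime).ne_zero)
  ext χ φ
  have h := congrArg (Int.cast (R := ℂ)) (regInt_mul hM hB χ.2 φ.1)
  rw [sum_subtype (univ.filter (· ∈ B)) (p := (· ∈ B)) (by simp)
    (fun ψ : IrrCharacter G => regInt p χ.1 ψ * regInt p ψ φ.1)] at h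
  push_cast at h
  rw [mul_apply]
  simp only [regMat_eq, div_mul_div_comm, ← sum_div]
  rw [h, Nat.cast_pow, mul_div_mul_left _ _ (by rwa [Nat.cast_pow] at hpa)]

/-- Cutting off as a linear map on coefficient vectors. -/
noncomputable def regMap (p : ℕ) (B : Set (IrrCharacter G)) [Fintype B] [DecidableEq B] :
    (B → ℂ) →ₗ[ℂ] (B → ℂ) := toLin' (regMat p B)ᵀ

theorem comb_regMap (hM : IsPModular p M) (hB : IsPBlock M B) [Fintype B] [DecidableEq B]
    (c : B → ℂ) :
    comb B (regMap p B c) = ∑ χ : B, c χ • regPart p ((χ : IrrCharacter G) : G → ℂ) := by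
  funext g
  rw [comb_apply, Finset.sum_apply]
  simp only [regMap, toLin'_apply, mulVec, dotProduct, transpose_apply, Pi.smul_apply, smul_eq_mul,
    regPart_expand hM hB, sum_mul, mul_sum]
  rw [sum_comm]
  exact sum_congr rfl fun χ _ => sum_congr rfl fun ψ _ => by ring

theorem blockRank_eq_finrank (hM : IsPModular p M) (hB : IsPBlock M B) [Fintype B] [DecidableEq B] :
    blockRank p B = Module.finrank ℂ (LinearMap.range (regMap p B)) := by
  have hspan : Submodule.span ℂ ((fun χ : IrrCharacter G => pRegularPart p (χ : G → ℂ)) '' B) =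
      (LinearMap.range (regMap p B)).map (comb B) := by
    refine le_antisymm (Submodule.span_le.2 ?_) ?_
    · rintro _ ⟨χ, hχ, rfl⟩
      refine ⟨regMap p B (Pi.single ⟨χ, hχ⟩ 1), LinearMap.mem_range_self _ _, ?_⟩
      rw [comb_regMap hM hB, sum_eq_single (⟨χ, hχ⟩ : B)]
      · rw [Pi.single_eq_same, one_smul]; exact (pRegularPart_eq _).symm
      · exact fun ψ _ h => by rw [Pi.single_eq_of_ne h, zero_smul]
      · simp
    · rintro _ ⟨_, ⟨c, rfl⟩, rfl⟩
      rw [comb_regMap hM hB]
      refine Submodule.sum_mem _ fun χ _ => Submodule.smul_mem _ _ (Submodule.subset_span ?_)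
      exact ⟨χ.1, χ.2, pRegularPart_eq _⟩
  rw [blockRank, hspan]
  exact (Submodule.equivMapOfInjective (comb B) comb_injective _).finrank_eq.symm

theorem regMap_idem (hM : IsPModular p M) (hB : IsPBlock M B) [Fintype B] [DecidableEq B]
    (c : B → ℂ) : regMap p B (regMap p B c) = regMap p B c := by
  rw [regMap, toLin'_apply, toLin'_apply, mulVec_mulVec, ← transpose_mul, regMat_mul_self hM hB]

/-- The rank is the trace. -/
theorem blockRank_eq_trace (hM : IsPModular p M) (hB : IsPBlock M B) [Fintype B] :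
    (blockRank p B : ℂ) = ∑ χ : B, regMat p B χ χ := by
  classical
  have hproj : LinearMap.IsProj (LinearMap.range (regMap p B)) (regMap p B) :=
    ⟨fun c => LinearMap.mem_range_self _ c, by rintro _ ⟨c, rfl⟩; exact regMap_idem hM hB c⟩
  rw [blockRank_eq_finrank hM hB, ← hproj.trace, regMap, Matrix.trace_toLin'_eq,
    Matrix.trace_transpose]
  rfl

theorem blockRank_le_card (hM : IsPModular p M) (hB : IsPBlock M B) [Fintype B] :
    blockRank p B ≤ Nat.card B := by
  classical
  rw [blockRank_eq_finrank hM hB, Nat.card_eq_fintype_card]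
  exact (Submodule.finrank_le _).trans (Module.finrank_pi ℂ).le

/-- Full rank only for a single character of defect zero. -/
theorem defect_zero_of_rank_eq (hM : IsPModular p M) (hB : IsPBlock M B)
    (h : Nat.card B = blockRank p B) : blockDefect p B = 0 := by
  classical
  letI := irrFintype (G := G)
  haveI : Fintype B := Fintype.ofFinite B
  have htop : LinearMap.range (regMap p B) = ⊤ := by
    refine Submodule.eq_top_of_finrank_eq ?_
    rw [← blockRank_eq_finrank hM hB, ← h, Module.finrank_pi, Nat.card_eq_fintype_card]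
  obtain ⟨ξ, hξ, h0⟩ := exists_height_zero hM hB
  obtain ⟨c, hc⟩ : Pi.single (⟨ξ, hξ⟩ : B) (1 : ℂ) ∈ LinearMap.range (regMap p B) :=
    htop ▸ Submodule.mem_top
  have hfix := regMap_idem hM hB c
  rw [hc] at hfix
  have h1 : regMat p B ⟨ξ, hξ⟩ ⟨ξ, hξ⟩ = 1 := by
    have := congrFun hfix ⟨ξ, hξ⟩
    simpa [regMap, toLin'_apply, Matrix.mulVec_single_one] using this
  rw [regMat_eq, div_eq_one_iff_eq (Nat.cast_ne_zero.2 (pow_ne_zero _ hM.1.ne_zero))] at h1
  have h2 : regInt p ξ ξ = ((p : ℤ) ^ (Nat.card G).factorization p) := by exact_mod_cast h1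
  rw [← redInt_spec hM hB hξ, ← Nat.sub_add_cancel (blockDefect_le (p := p) B), pow_add] at h2
  simp only [add_tsub_cancel_right] at h2
  have h3 := mul_left_cancel₀ (pow_ne_zero _ (Int.natCast_ne_zero.2 hM.1.ne_zero)) h2
  by_contra hd
  have h4 : ¬ (p : ℤ) ∣ redInt p B ξ ξ := fun hdvd => by
    refine (pow_dvd_redInt hM hB hξ hξ).2.1 ?_ h0
    rwa [h0, zero_add, pow_one]
  exact h4 (h3 ▸ dvd_pow_self _ hd)

/-- A block of defect zero has one character and rank one. -/
theorem card_and_rank_of_defect_zero (hM : IsPModular p M) (hB : IsPBlock M B)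
    (hd : blockDefect p B = 0) : Nat.card B = 1 ∧ blockRank p B = 1 := by
  classical
  letI := irrFintype (G := G)
  haveI : Fintype B := Fintype.ofFinite B
  obtain ⟨ξ, hξ, h0⟩ := exists_height_zero hM hB
  have hk := brauer_feit hM hB
  rw [hd, mul_zero, pow_zero] at hk
  have hk1 : Nat.card B = 1 := by
    have : 1 ≤ Nat.card B := Nat.one_le_iff_ne_zero.2 (Nat.card_ne_zero.2 ⟨⟨⟨ξ, hξ⟩⟩, inferInstance⟩)
    omega
  refine ⟨hk1, le_antisymm (hk1 ▸ blockRank_le_card hM hB) (Nat.one_le_iff_ne_zero.2 fun hz => ?_)⟩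
  rw [blockRank_eq_finrank hM hB, Submodule.finrank_eq_zero, LinearMap.range_eq_bot] at hz
  have h1 : regMat p B ⟨ξ, hξ⟩ ⟨ξ, hξ⟩ = 0 := by
    have := congrFun (LinearMap.congr_fun hz (Pi.single ⟨ξ, hξ⟩ 1)) ⟨ξ, hξ⟩
    simpa [regMap, toLin'_apply, Matrix.mulVec_single_one] using this
  rw [regMat_eq, div_eq_zero_iff] at h1
  rcases h1 with h1 | h1
  · exact regInt_ne_zero hM hB hξ hξ h0 (by exact_mod_cast h1)
  · exact pow_ne_zero _ hM.1.ne_zero (Nat.cast_eq_zero.1 h1)

/-- The trace formula for the rank. -/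
theorem card_mul_blockRank (hM : IsPModular p M) (hB : IsPBlock M B) :
    (Nat.card G : ℂ) * (blockRank p B : ℂ) =
      ∑ x : G, ∑ᶠ χ ∈ B, pRegularPart p (χ : G → ℂ) x * (χ : G → ℂ) x⁻¹ := by
  classical
  letI := irrFintype (G := G)
  haveI : Fintype B := Fintype.ofFinite B
  have hG : (Nat.card G : ℂ) ≠ 0 := Nat.cast_ne_zero.2 Nat.card_pos.ne'
  rw [blockRank_eq_trace hM hB, mul_sum]
  simp only [regMat, classInner, mul_inv_cancel_left₀ hG]
  rw [sum_comm]
  refine sum_congr rfl fun x _ => ?_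
  rw [finsum_mem_eq_sum_of_inter_support_eq (t := univ.filter (· ∈ B)) _ (by ext; simp),
    sum_subtype (univ.filter (· ∈ B)) (p := (· ∈ B)) (by simp)
      (fun χ : IrrCharacter G => pRegularPart p (χ : G → ℂ) x * (χ : G → ℂ) x⁻¹)]
  exact sum_congr rfl fun χ _ => by rw [pRegularPart_eq, conj_irr]

/-- `p ^ d` times a cut-off combination of the members is an integral combination. -/
theorem exists_int_comb_regPart (hM : IsPModular p M) (hB : IsPBlock M B) {χ : G → ℂ}
    (n : IrrCharacter G → ℤ) (hχ : ∀ g, χ g = ∑ᶠ ψ ∈ B, (n ψ : ℂ) * (ψ : G → ℂ) g) :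
    ∃ m : IrrCharacter G → ℤ, ∀ g,
      (p ^ blockDefect p B : ℂ) * pRegularPart p χ g =
        ∑ᶠ ψ ∈ B, (m ψ : ℂ) * (ψ : G → ℂ) g := by
  classical
  letI := irrFintype (G := G)
  haveI : Fintype B := Fintype.ofFinite B
  have hfin : ∀ F : IrrCharacter G → ℂ, ∑ᶠ ψ ∈ B, F ψ = ∑ ψ : B, F ψ.1 := fun F => by
    rw [finsum_mem_eq_sum_of_inter_support_eq (t := univ.filter (· ∈ B)) _ (by ext; simp)]
    exact sum_subtype (univ.filter (· ∈ B)) (p := (· ∈ B)) (by simp) F
  refine ⟨fun ψ => ∑ φ : B, n φ.1 * redInt p B φ.1 ψ, fun g => ?_⟩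
  have hcoef : ∀ φ ψ : B, (p ^ blockDefect p B : ℂ) * regMat p B φ ψ =
      (redInt p B φ.1 ψ.1 : ℂ) := by
    intro φ ψ
    have h := congrArg (Int.cast (R := ℂ)) (redInt_spec hM hB (χ := φ.1) ψ.2)
    push_cast at h
    rw [regMat_eq, ← h, ← mul_div_assoc, ← mul_assoc, ← pow_add,
      Nat.add_sub_cancel' (blockDefect_le (p := p) B), Nat.cast_pow,
      mul_div_cancel_left₀ _ (pow_ne_zero _ (Nat.cast_ne_zero.2 hM.1.ne_zero))]
  have hreg : pRegularPart p χ g =
      ∑ φ : B, (n φ.1 : ℂ) * regPart p ((φ : IrrCharacter G) : G → ℂ) g := by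
    rw [pRegularPart_eq]
    by_cases hg : p ∣ orderOf g
    · simp [regPart_of_dvd hg]
    · simp only [regPart_of_not_dvd hg]
      rw [hχ, hfin]
  rw [hreg, hfin]
  simp only [Int.cast_sum, Int.cast_mul, ← hcoef, regPart_expand hM hB, mul_sum, sum_mul]
  rw [sum_comm]
  exact sum_congr rfl fun ψ _ => sum_congr rfl fun φ _ => by ring

end CfsgLib.BlockB
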