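import Cfsg.Agent.BlocksB.PrincipalGapValues
import Cfsg.Agent.BlocksB.PSolvableHeight
import Cfsg.Agent.S0958
import Cfsg.Agent.S4733
import Cfsg.Agent.S4652
import Mathlib.GroupTheory.FixedPointFree

/-!
# Blocks with one more ordinary character than regular rank

If `k(B) = l(B) + 1` then, by Brauer's count by subsections, all nontrivial elements of a defect
group are conjugate in `G`.  For the principal block their centralizers have moreover normal
`p`-complements, and for `p` odd an element of `N(P)` inverting a central element then acts on `P`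
without fixed points, so `P` is abelian.  In a `p`-solvable group one passes to the inertia group
of a character of `O_{p'}`.
-/

set_option autoImplicit false
set_option linter.style.haveILetI false
set_option linter.unusedSectionVars false

namespace CfsgLib.Block.GapOneElementary

open Cfsg Finset CfsgLib.Block CfsgLib.Block.Chr CfsgLib.Char

universe u

variable {p : ℕ} [Fact p.Prime]

/-! ### Groups -/

section Groups

variable {G : Type u} [Group G] [Finite G]

/-- A `p'`-element of `C(x)` normalising a `p`-group centralises its part in `C(x)`, if `C(x)` has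
a normal `p`-complement. -/
theorem commute_of_hnpc {x s r : G}
    (hC : Cfsg.HasNormalPComplement p ↥(Subgroup.centralizer ({x} : Set G)))
    (hs : ¬ p ∣ orderOf s) (hsx : s * x = x * s) {P : Subgroup G} (hP : IsPGroup p P)
    (hsP : s ∈ Subgroup.normalizer (P : Set G)) (hr : r ∈ P) (hrx : r * x = x * r) :
    s * r = r * s := by
  obtain ⟨N, hNn, hNp, hNi⟩ := CfsgLib.GapOne.exists_complement_data hC
  let s' : ↥(Subgroup.centralizer ({x} : Set G)) :=
    ⟨s, Subgroup.mem_centralizer_singleton_iff.2 hsx⟩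
  let r' : ↥(Subgroup.centralizer ({x} : Set G)) :=
    ⟨r, Subgroup.mem_centralizer_singleton_iff.2 hrx⟩
  have hsN : s' ∈ N :=
    CfsgLib.GapOne.mem_of_regular Fact.out N hNi (by rwa [← Subgroup.orderOf_mk] at hs)
  have hcN : s' * r' * s'⁻¹ * r'⁻¹ ∈ N := by
    rw [show s' * r' * s'⁻¹ * r'⁻¹ = s' * (r' * s'⁻¹ * r'⁻¹) by group]
    exact N.mul_mem hsN (hNn.conj_mem _ (N.inv_mem hsN) r')
  have hcP : s * r * s⁻¹ * r⁻¹ ∈ P :=
    P.mul_mem ((Subgroup.mem_normalizer_iff.1 hsP r).1 hr) (P.inv_mem hr)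
  obtain ⟨k, hk⟩ := (IsPGroup.iff_orderOf.1 hP) ⟨_, hcP⟩
  rw [Subgroup.orderOf_mk] at hk
  have hdN : orderOf (s' * r' * s'⁻¹ * r'⁻¹) ∣ Nat.card N := Subgroup.orderOf_dvd_natCard N hcN
  have heq : ((s' * r' * s'⁻¹ * r'⁻¹ : ↥(Subgroup.centralizer ({x} : Set G))) : G) =
      s * r * s⁻¹ * r⁻¹ := by simp [s', r']
  rw [← Subgroup.orderOf_coe, heq, hk] at hdN
  have h1 : p ^ k = 1 := Nat.eq_one_of_dvd_coprimes
    (((Fact.out : p.Prime).coprime_iff_not_dvd.2 hNp).symm.pow_right k) hdN dvd_rfl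
  rw [← hk, orderOf_eq_one_iff, mul_inv_eq_one, mul_inv_eq_iff_eq_mul] at h1
  exact h1

/-- One class of nontrivial `p`-elements with `p`-nilpotent centralizers: the Sylow subgroup is
abelian. -/
theorem abelian_of_one_class (hp2 : p ≠ 2) (P : Sylow p G)
    (hone : ∀ x ∈ (P : Subgroup G), ∀ y ∈ (P : Subgroup G), x ≠ 1 → y ≠ 1 → IsConj x y)
    (hC : ∀ x ∈ (P : Subgroup G), x ≠ 1 →
      Cfsg.HasNormalPComplement p ↥(Subgroup.centralizer ({x} : Set G))) :
    ∀ a ∈ (P : Subgroup G), ∀ b ∈ (P : Subgroup G), a * b = b * a := by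
  classical
  intro a ha b hb
  rcases subsingleton_or_nontrivial (P : Subgroup G) with hs | hs
  · rw [show a = 1 from congrArg Subtype.val (Subsingleton.elim (⟨a, ha⟩ : (P : Subgroup G)) 1)]
    simp
  haveI := P.2.center_nontrivial
  obtain ⟨⟨z', hz'⟩, hz'1⟩ := exists_ne (1 : Subgroup.center (P : Subgroup G))
  set z : G := (z' : G) with hzdef
  have hzP : z ∈ (P : Subgroup G) := z'.2
  have hzc : ∀ r ∈ (P : Subgroup G), r * z = z * r := fun r hr =>
    congrArg Subtype.val (Subgroup.mem_center_iff.1 hz' ⟨r, hr⟩)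
  have hz1 : z ≠ 1 := fun h => hz'1 (Subtype.ext (Subtype.ext h))
  have hzinv : z⁻¹ ≠ z := by
    intro h
    have h2 : z ^ 2 = 1 := by rw [pow_two]; nth_rewrite 1 [← h]; exact inv_mul_cancel z
    obtain ⟨k, hk⟩ := (IsPGroup.iff_orderOf.1 P.2) ⟨z, hzP⟩
    rw [Subgroup.orderOf_mk] at hk
    rw [orderOf_eq_prime h2 hz1] at hk
    rcases Nat.eq_zero_or_pos k with rfl | hk0
    · simp at hk
    · have hd : p ∣ 2 := hk ▸ dvd_pow_self p hk0.ne'
      exact hp2 ((Nat.prime_dvd_prime_iff_eq Fact.out Nat.prime_two).1 hd)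
  -- an element of the normalizer inverting `z`
  obtain ⟨g, hg⟩ := isConj_iff.1
    (hone z hzP z⁻¹ (Subgroup.inv_mem _ hzP) hz1 (inv_ne_one.2 hz1))
  have hzC : z ∈ Subgroup.centralizer ((P : Subgroup G) : Set G) :=
    Subgroup.mem_centralizer_iff.2 fun r hr => hzc r hr
  obtain ⟨n, hn, hne⟩ := Sylow.conj_eq_normalizer_conj_of_mem_centralizer P z g⁻¹ hzC
    (by rw [inv_inv, hg]; exact Subgroup.inv_mem _ hzC)
  rw [inv_inv, hg] at hne
  obtain ⟨c, m, hm, hom⟩ := Nat.exists_eq_two_pow_mul_odd (orderOf_pos n).ne'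
  set s := n ^ m with hsdef
  have hsP : s ∈ Subgroup.normalizer ((P : Subgroup G) : Set G) := Subgroup.pow_mem _ hn m
  have hflip : ∀ j : ℕ, (n ^ j)⁻¹ * z * n ^ j = if Even j then z else z⁻¹ := by
    intro j
    induction j with
    | zero => simp
    | succ j ih =>
      rw [pow_succ, show (n ^ j * n)⁻¹ * z * (n ^ j * n) = n⁻¹ * ((n ^ j)⁻¹ * z * n ^ j) * n by
        group, ih]
      by_cases hj : Even j
      · rw [if_pos hj, if_neg (by simp [Nat.even_add_one, hj]), ← hne]
      · rw [if_neg hj, if_pos (by simp [Nat.even_add_one, hj]),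
          show n⁻¹ * z⁻¹ * n = (n⁻¹ * z * n)⁻¹ by group, ← hne, inv_inv]
  have hsz : s⁻¹ * z * s = z⁻¹ := by
    rw [hsdef, hflip, if_neg (Nat.not_even_iff_odd.2 hm)]
  have hs2z : (s * s) * z = z * (s * s) := by
    have h := hflip (m + m)
    rw [if_pos ⟨m, rfl⟩, pow_add, ← hsdef, mul_assoc, inv_mul_eq_iff_eq_mul] at h
    exact h.symm
  have hso : orderOf s ∣ 2 ^ c := by
    apply orderOf_dvd_of_pow_eq_one
    rw [hsdef, ← pow_mul, mul_comm, ← hom, pow_orderOf_eq_one]
  have hsreg : ¬ p ∣ orderOf s := fun h => hp2 ((Nat.prime_dvd_prime_iff_eq Fact.out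
    Nat.prime_two).1 ((Fact.out : p.Prime).dvd_of_dvd_pow (h.trans hso)))
  have hs2reg : ¬ p ∣ orderOf (s * s) := fun h => hsreg (h.trans (by
    rw [← pow_two]; exact orderOf_pow_dvd 2))
  have hfpf : ∀ d ∈ (P : Subgroup G), s * d * s⁻¹ = d → d = 1 := by
    intro d hd hfix
    by_contra hd1
    have hsd : s * d = d * s := mul_inv_eq_iff_eq_mul.1 hfix
    have h := commute_of_hnpc (hC d hd hd1) hsreg hsd P.2 hsP hzP (hzc d hd).symm
    apply hzinv
    rw [← hsz, mul_assoc, ← h]
    group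
  have hinv : ∀ d ∈ (P : Subgroup G), (s * s) * d = d * (s * s) := fun d hd =>
    commute_of_hnpc (hC z hzP hz1) hs2reg hs2z P.2 (Subgroup.mul_mem _ hsP hsP) hd (hzc d hd)
  let φ : ↥(P : Subgroup G) →* ↥(P : Subgroup G) :=
    { toFun := fun d => ⟨s * d * s⁻¹, (Subgroup.mem_normalizer_iff.1 hsP d).1 d.2⟩
      map_one' := Subtype.ext (by simp)
      map_mul' := fun d e => Subtype.ext (by simp [mul_assoc]) }
  have h1 : MonoidHom.FixedPointFree φ := fun d hd =>
    Subtype.ext (hfpf d d.2 (congrArg Subtype.val hd))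
  have h2 : Function.Involutive φ := fun d => Subtype.ext (by
    show s * (s * d * s⁻¹) * s⁻¹ = d
    rw [show s * (s * (d : G) * s⁻¹) * s⁻¹ = s * s * d * (s * s)⁻¹ by group, hinv d d.2,
      mul_inv_cancel_right])
  exact congrArg Subtype.val (h1.commute_all_of_involutive h2 ⟨a, ha⟩ ⟨b, hb⟩).eq

/-- One class of nontrivial elements: exponent `p`. -/
theorem pow_eq_one_of_one_class {D : Subgroup G} (hD : IsPGroup p D)
    (hone : ∀ x ∈ D, ∀ y ∈ D, x ≠ 1 → y ≠ 1 → IsConj x y) {a : G} (ha : a ∈ D) : a ^ p = 1 := by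
  by_cases ha1 : a = 1
  · simp [ha1]
  haveI : Nontrivial D := ⟨⟨⟨a, ha⟩, 1, fun h => ha1 (congrArg Subtype.val h)⟩⟩
  obtain ⟨k, hk, hcard⟩ := hD.nontrivial_iff_card.1 inferInstance
  obtain ⟨y, hy⟩ := exists_prime_orderOf_dvd_card' (G := D) p (hcard ▸ dvd_pow_self p (by omega))
  have hy1 : (y : G) ≠ 1 := fun h => by
    rw [← Subgroup.orderOf_coe, h, orderOf_one] at hy
    exact (Fact.out : p.Prime).one_lt.ne hy
  obtain ⟨c, hc⟩ := isConj_iff.1 (hone _ y.2 a ha hy1 ha1)
  rw [← hc, conj_pow, show (y : G) ^ p = 1 by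
    rw [← hy, ← Subgroup.orderOf_coe, pow_orderOf_eq_one], mul_one, mul_inv_cancel]

/-- Exponent two: abelian. -/
theorem abelian_of_two {D : Subgroup G} (h : ∀ a ∈ D, a ^ 2 = 1) :
    ∀ a ∈ D, ∀ b ∈ D, a * b = b * a := by
  intro a ha b hb
  have ea := h a ha
  have eb := h b hb
  have eab := h _ (D.mul_mem ha hb)
  rw [pow_two] at ea eb eab
  calc a * b = (a * b)⁻¹ := eq_inv_of_mul_eq_one_left eab
    _ = b⁻¹ * a⁻¹ := mul_inv_rev a b
    _ = b * a := by rw [inv_eq_of_mul_eq_one_right ea, inv_eq_of_mul_eq_one_right eb]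

/-- A `p`-solvable group with one class of nontrivial `p`-elements in a Sylow subgroup. -/
theorem abelian_of_one_class_pSolvable (hs : Cfsg.IsPSolvable p G) (P : Sylow p G)
    (hone : ∀ x ∈ (P : Subgroup G), ∀ y ∈ (P : Subgroup G), x ≠ 1 → y ≠ 1 → IsConj x y) :
    ∀ a ∈ (P : Subgroup G), ∀ b ∈ (P : Subgroup G), a * b = b * a := by
  intro a ha b hb
  by_contra hab
  haveI := Fintype.ofFinite G
  let N := Cfsg.pPrimeCore p G
  haveI hNn : N.Normal := (CfsgLib.Solvable.pPrimeCore_spec p).1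
  set π := QuotientGroup.mk' N with hπ
  have hinj : ∀ x ∈ (P : Subgroup G), π x = 1 → x = 1 := by
    intro x hx hx1
    obtain ⟨k, hk⟩ := (IsPGroup.iff_orderOf.1 P.2) ⟨x, hx⟩
    rw [Subgroup.orderOf_mk] at hk
    have hxN : x ∈ N := (QuotientGroup.eq_one_iff x).1 hx1
    have hd : p ^ k ∣ Nat.card N := hk ▸ Subgroup.orderOf_dvd_natCard N hxN
    have h1 : p ^ k = 1 := Nat.eq_one_of_dvd_coprimes
      ((CfsgLib.Solvable.coprime_card_pPrimeCore p).pow_right k) hd dvd_rfl
    rw [← hk, orderOf_eq_one_iff] at h1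
    exact h1
  let c := a * b * a⁻¹ * b⁻¹
  have hcP : c ∈ (P : Subgroup G) :=
    Subgroup.mul_mem _ (Subgroup.mul_mem _ (Subgroup.mul_mem _ ha hb) (Subgroup.inv_mem _ ha))
      (Subgroup.inv_mem _ hb)
  have hc1 : c ≠ 1 := fun h => hab (by
    rwa [mul_inv_eq_one, mul_inv_eq_iff_eq_mul] at h)
  set Q := Cfsg.pCore p (G ⧸ N) with hQ
  haveI hQn : Q.Normal := (CfsgLib.Solvable.pCore_spec p).1
  have hQp : IsPGroup p Q := CfsgLib.Solvable.isPGroup_pCore p
  have hsurj : Function.Surjective π := QuotientGroup.mk'_surjective N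
  let S := P.mapSurjective hsurj
  have hQS : Q ≤ (S : Subgroup (G ⧸ N)) :=
    le_sup_left.trans (S.3 (IsPGroup.to_sup_of_normal_left hQp S.2) le_sup_right).le
  have hQ1 : Q ≠ ⊥ := by
    intro h
    have hsc : Subgroup.centralizer (Q : Set (G ⧸ N)) ≤ Q :=
      selfCent_quotient_of_pSolvable (G := G) (p := p) hs
    refine hc1 (hinj c hcP ?_)
    have h2 : π c ∈ Q := hsc (Subgroup.mem_centralizer_iff.2 fun r hr => by
      rw [h, SetLike.mem_coe, Subgroup.mem_bot] at hr
      rw [hr, one_mul, mul_one])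
    rwa [h, Subgroup.mem_bot] at h2
  obtain ⟨⟨q, hqQ⟩, hq⟩ := Subgroup.ne_bot_iff_exists_ne_one.1 hQ1
  have hq1 : q ≠ 1 := fun h => hq (Subtype.ext h)
  obtain ⟨d, hd, rfl⟩ := hQS hqQ
  have hd1 : d ≠ 1 := fun h => hq1 (by rw [h, map_one])
  have hall : ∀ (R : Subgroup (G ⧸ N)) [R.Normal] (y : G), y ∈ (P : Subgroup G) → y ≠ 1 →
      π y ∈ R → ∀ x ∈ (P : Subgroup G), π x ∈ R := by
    intro R _ y hy hy1 hyR x hx
    by_cases hx1 : x = 1
    · rw [hx1, map_one]; exact R.one_mem
    obtain ⟨t, ht⟩ := isConj_iff.1 (hone y hy x hx hy1 hx1)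
    rw [← ht, map_mul, map_mul, map_inv]
    exact (inferInstance : R.Normal).conj_mem _ hyR _
  have hPQ := hall Q d hd hd1 hqQ
  let R := ⁅Q, Q⁆
  haveI : R.Normal := Subgroup.commutator_normal Q Q
  have hcR : π c ∈ R := by
    show π c ∈ ⁅Q, Q⁆
    have h := Subgroup.commutator_mem_commutator (hPQ a ha) (hPQ b hb)
    rw [commutatorElement_def] at h
    simpa [c] using h
  have hPR := hall R c hcP hc1 hcR
  have hQR : Q ≤ ⁅Q, Q⁆ := fun x hx => by
    obtain ⟨y, hy, rfl⟩ := hQS hx
    exact hPR y hy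
  haveI : Group.IsNilpotent Q := hQp.isNilpotent
  have htop : ⁅(⊤ : Subgroup Q), (⊤ : Subgroup Q)⁆ = ⊤ := by
    apply Subgroup.map_injective Q.subtype_injective
    rw [Subgroup.map_commutator, ← MonoidHom.range_eq_map, Subgroup.range_subtype]
    exact le_antisymm (Subgroup.commutator_le_self Q) hQR
  haveI : Nontrivial Q := ⟨⟨⟨π d, hqQ⟩, 1, fun h => hq1 (congrArg Subtype.val h)⟩⟩
  exact (Group.IsSolvable.commutator_lt_of_ne_bot (G := Q) (H := ⊤) top_ne_bot).ne htop

end Groups

/-! ### The count -/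

section Count

variable {G : Type u} [Group G] [Finite G] {M : Ideal AlgInt}

theorem one_le_blockRank (hM : IsPModular p M) {B : Set (IrrCharacter G)} (hB : IsPBlock M B) :
    1 ≤ blockRank p B := by
  haveI := hM.2.1.isPrime
  haveI := Fintype.ofFinite G
  obtain ⟨χ, hχ⟩ := exists_mem_block hB
  refine Nat.one_le_iff_ne_zero.2 fun h => irr_one_ne_zero χ ?_
  rw [Cfsg.blockRank, Submodule.finrank_eq_zero, Submodule.span_eq_bot] at h
  have h1 := congrFun (h _ ⟨χ, hχ, rfl⟩) 1
  simp only [pRegularPart_eq, regPart, orderOf_one, Nat.dvd_one,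
    (Fact.out : p.Prime).ne_one, if_false, Pi.zero_apply] at h1
  exact h1

/-- The blocks of `C(1) = G`: the copy of `B` is one of them. -/
theorem rank_le_one_term (hM : IsPModular p M) {B : Set (IrrCharacter G)} (hB : IsPBlock M B) :
    blockRank p B ≤ ∑ᶠ b ∈ {b : Set (IrrCharacter ↥(Subgroup.centralizer ({(1 : G)} : Set G))) |
      IsInducedBlock M (Subgroup.centralizer ({(1 : G)} : Set G)) b B}, blockRank p b := by
  classical
  haveI := hM.2.1.isPrime
  haveI := Fintype.ofFinite G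
  haveI : Fintype ↥(Subgroup.centralizer ({(1 : G)} : Set G)) := Fintype.ofFinite _
  letI := irrFintype (G := ↥(Subgroup.centralizer ({(1 : G)} : Set G)))
  let e := CfsgLib.GapOne.centralizerOneEquiv (G := G)
  have hb0 : IsPBlock M (irrComp e '' B) := isPBlock_image e hB
  have hind : IsInducedBlock M (Subgroup.centralizer ({(1 : G)} : Set G)) (irrComp e '' B) B := by
    refine ⟨hb0, hB, ?_⟩
    rintro ξ ⟨η, hη, rfl⟩ χ hχ g
    have hv : (η : G → ℂ) = indFun (Subgroup.centralizer ({(1 : G)} : Set G))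
        ((irrComp e η : IrrCharacter ↥(Subgroup.centralizer ({(1 : G)} : Set G))) :
          ↥(Subgroup.centralizer ({(1 : G)} : Set G)) → ℂ) := by
      funext y
      have hcl : ∀ x : G, extendByZero (Subgroup.centralizer ({(1 : G)} : Set G))
          ((irrComp e η : IrrCharacter ↥(Subgroup.centralizer ({(1 : G)} : Set G))) :
            ↥(Subgroup.centralizer ({(1 : G)} : Set G)) → ℂ) (x⁻¹ * y * x) = (η : G → ℂ) y := by
        intro x
        have hm : x⁻¹ * y * x ∈ Subgroup.centralizer ({(1 : G)} : Set G) := by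
          rw [CfsgLib.GapOne.centralizer_one]; exact Subgroup.mem_top _
        rw [show x⁻¹ * y * x =
          ((⟨_, hm⟩ : ↥(Subgroup.centralizer ({(1 : G)} : Set G))) : G) from rfl,
          extendByZero_apply, irrComp_coe]
        show (η : G → ℂ) (x⁻¹ * y * x) = (η : G → ℂ) y
        have h := isClassFunction_irr η y x⁻¹
        rwa [inv_inv] at h
      rw [indFun_def, Finset.sum_congr rfl fun x _ => hcl x, Finset.sum_const, Finset.card_univ,
        nsmul_eq_mul, Nat.card_congr e.toEquiv, Nat.card_eq_fintype_card,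
        inv_mul_cancel_left₀ (Nat.cast_ne_zero.2 Fintype.card_ne_zero)]
    rw [centralChar_indFun hv]
    exact sameBlock_of_mem hB hη hχ g
  have hrank : blockRank p (irrComp e '' B) = blockRank p B := by
    let L : (G → ℂ) ≃ₗ[ℂ] (↥(Subgroup.centralizer ({(1 : G)} : Set G)) → ℂ) :=
      LinearEquiv.funCongrLeft ℂ ℂ e.toEquiv
    unfold Cfsg.blockRank
    rw [Set.image_image, ← LinearEquiv.finrank_map_eq L (Submodule.span ℂ
      ((fun χ : IrrCharacter G => pRegularPart p (χ : G → ℂ)) '' B)), Submodule.map_span]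
    refine congrArg (fun S => Module.finrank ℂ ↥(Submodule.span ℂ S)) ?_
    rw [Set.image_image]
    refine Set.image_congr fun χ _ => ?_
    funext h
    show pRegularPart p (irrComp e χ : _ → ℂ) h = pRegularPart p (χ : G → ℂ) (e h)
    rw [pRegularPart_eq, pRegularPart_eq]
    simp only [regPart, e.orderOf_eq]
    rfl
  rw [finsum_mem_eq_finite_toFinset_sum _ (Set.toFinite _), ← hrank]
  exact Finset.single_le_sum (f := fun b => blockRank p b) (fun _ _ => Nat.zero_le _)
    ((Set.Finite.mem_toFinset _).2 hind)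

open scoped Classical in
/-- The nonidentity representatives contribute at most one. -/
theorem rest_le_one (hM : IsPModular p M) {B : Set (IrrCharacter G)} (hB : IsPBlock M B)
    (hk : Nat.card B = blockRank p B + 1) (X : Finset G) (h1X : (1 : G) ∈ X)
    (hX : ∀ x ∈ X, ∃ k : ℕ, orderOf x = p ^ k)
    (hXrep : ∀ g : G, (∃ k : ℕ, orderOf g = p ^ k) → ∃! x, x ∈ X ∧ IsConj g x) :
    ∑ x ∈ X.erase 1, ∑ᶠ b ∈ {b : Set (IrrCharacter ↥(Subgroup.centralizer ({x} : Set G))) |
      IsInducedBlock M (Subgroup.centralizer ({x} : Set G)) b B}, blockRank p b ≤ 1 := by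
  classical
  haveI := hM.2.1.isPrime
  haveI := Fintype.ofFinite G
  have hc := card_block_eq_sum hM hB X hX hXrep
  rw [← Finset.add_sum_erase _ _ h1X] at hc
  have h1 := rank_le_one_term hM hB
  omega

theorem term_pos (hM : IsPModular p M) {B : Set (IrrCharacter G)} (hB : IsPBlock M B)
    {D : Subgroup G} (hD : IsDefectGroup p M B D) {x : G} {k : ℕ} (hx : orderOf x = p ^ k)
    {d : G} (hd : d ∈ D) (hdx : IsConj d x) :
    1 ≤ ∑ᶠ b ∈ {b : Set (IrrCharacter ↥(Subgroup.centralizer ({x} : Set G))) |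
      IsInducedBlock M (Subgroup.centralizer ({x} : Set G)) b B}, blockRank p b := by
  classical
  haveI := hM.2.1.isPrime
  haveI := Fintype.ofFinite G
  haveI : Fintype ↥(Subgroup.centralizer ({x} : Set G)) := Fintype.ofFinite _
  letI := irrFintype (G := ↥(Subgroup.centralizer ({x} : Set G)))
  obtain ⟨c, hc⟩ := isConj_iff.1 hdx.symm
  have hP : IsPGroup p (Subgroup.zpowers x) :=
    IsPGroup.of_card (n := k) (by rw [Nat.card_zpowers, hx])
  have hPH : Subgroup.zpowers x ⊔ Subgroup.centralizer (Subgroup.zpowers x : Set G) ≤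
      Subgroup.centralizer ({x} : Set G) := by
    refine sup_le (Subgroup.zpowers_le.2 (Subgroup.mem_centralizer_singleton_iff.2 rfl))
      fun y hy => Subgroup.mem_centralizer_singleton_iff.2 ?_
    exact (Subgroup.mem_centralizer_iff.1 hy x (Subgroup.mem_zpowers x)).symm
  have hHN : Subgroup.centralizer ({x} : Set G) ≤
      Subgroup.normalizer (Subgroup.zpowers x : Set G) := by
    intro y hy
    apply Subgroup.centralizer_le_normalizer
    rw [Subgroup.mem_centralizer_iff]
    intro r hr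
    obtain ⟨i, rfl⟩ := Subgroup.mem_zpowers_iff.1 hr
    exact (Commute.zpow_left (Subgroup.mem_centralizer_singleton_iff.1 hy).symm i).eq
  obtain ⟨b, hb⟩ := (Cfsg.Agent.S0958.result p M hM (Subgroup.zpowers x)
    (Subgroup.centralizer ({x} : Set G)) hP hPH hHN B hB).2 ⟨D, hD, c, by
      rw [MonoidHom.map_zpowers, Subgroup.zpowers_le]
      show c * x * c⁻¹ ∈ D
      rw [hc]; exact hd⟩
  rw [finsum_mem_eq_finite_toFinset_sum _ (Set.toFinite _)]
  exact le_trans (one_le_blockRank hM hb.1)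
    (Finset.single_le_sum (f := fun b => blockRank p b) (fun _ _ => Nat.zero_le _)
      ((Set.Finite.mem_toFinset _).2 hb))

/-- All nontrivial elements of a defect group are conjugate. -/
theorem one_class (hM : IsPModular p M) {B : Set (IrrCharacter G)} (hB : IsPBlock M B)
    (hk : Nat.card B = blockRank p B + 1) {D : Subgroup G} (hD : IsDefectGroup p M B D) :
    ∀ x ∈ D, ∀ y ∈ D, x ≠ 1 → y ≠ 1 → IsConj x y := by
  classical
  haveI := hM.2.1.isPrime
  haveI := Fintype.ofFinite G
  have hDp : IsPGroup p D := IsPGroup.of_card (card_defectGroup hM hB hD)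
  obtain ⟨X, h1X, hX, hXrep⟩ := CfsgLib.GapOne.exists_reps (G := G) (Fact.out : p.Prime)
  have hrest := rest_le_one hM hB hk X h1X hX hXrep
  have hrep : ∀ x ∈ D, x ≠ 1 → ∃ r ∈ X.erase 1, IsConj x r := by
    intro x hx hx1
    obtain ⟨j, hj⟩ := (IsPGroup.iff_orderOf.1 hDp) ⟨x, hx⟩
    rw [Subgroup.orderOf_mk] at hj
    obtain ⟨r, ⟨hr, hxr⟩, -⟩ := hXrep x ⟨j, hj⟩
    exact ⟨r, Finset.mem_erase.2 ⟨fun h => hx1 (isConj_one_left.1 (h ▸ hxr)), hr⟩, hxr⟩
  intro x hx y hy hx1 hy1
  obtain ⟨r, hr, hxr⟩ := hrep x hx hx1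
  obtain ⟨t, ht, hyt⟩ := hrep y hy hy1
  by_cases hrt : r = t
  · subst hrt; exact hxr.trans hyt.symm
  exfalso
  obtain ⟨i, hi⟩ := hX r (Finset.mem_of_mem_erase hr)
  obtain ⟨j, hj⟩ := hX t (Finset.mem_of_mem_erase ht)
  have h1 := term_pos hM hB hD hi hx hxr
  have h2 := term_pos hM hB hD hj hy hyt
  have h3 := Finset.sum_le_sum_of_subset (f := fun z => ∑ᶠ b ∈
    {b : Set (IrrCharacter ↥(Subgroup.centralizer ({z} : Set G))) |
      IsInducedBlock M (Subgroup.centralizer ({z} : Set G)) b B}, blockRank p b)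
    (show ({r, t} : Finset G) ⊆ X.erase 1 by
      intro z hz
      rcases Finset.mem_insert.1 hz with rfl | hz
      · exact hr
      · rw [Finset.mem_singleton] at hz; exact hz ▸ ht)
  rw [Finset.sum_pair hrt] at h3
  omega

/-- In the principal block case the centralizers have normal `p`-complements. -/
theorem hnpc_of_mem (hM : IsPModular p M)
    (hk : Nat.card (principalBlock M G) = blockRank p (principalBlock M G) + 1) (P : Sylow p G)
    {d : G} (hd : d ∈ (P : Subgroup G)) (hd1 : d ≠ 1) :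
    Cfsg.HasNormalPComplement p ↥(Subgroup.centralizer ({d} : Set G)) := by
  classical
  haveI := hM.2.1.isPrime
  haveI := Fintype.ofFinite G
  haveI : Fintype ↥(Subgroup.centralizer ({d} : Set G)) := Fintype.ofFinite _
  obtain ⟨X, h1X, hX, hXrep⟩ := CfsgLib.GapOne.exists_reps (G := G) (Fact.out : p.Prime)
  obtain ⟨j, hj⟩ := (IsPGroup.iff_orderOf.1 P.2) ⟨d, hd⟩
  rw [Subgroup.orderOf_mk] at hj
  obtain ⟨r, ⟨hr, hdr⟩, -⟩ := hXrep d ⟨j, hj⟩
  -- replace the representative of the class of `d` by `d` itself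
  let Y := insert d (X.erase r)
  have h1r : r ≠ 1 := fun h => hd1 (isConj_one_left.1 (h ▸ hdr))
  have h1Y : (1 : G) ∈ Y := Finset.mem_insert_of_mem (Finset.mem_erase.2 ⟨h1r.symm, h1X⟩)
  have hY : ∀ x ∈ Y, ∃ k : ℕ, orderOf x = p ^ k := by
    intro x hx
    rcases Finset.mem_insert.1 hx with rfl | hx
    · exact ⟨j, hj⟩
    · exact hX x (Finset.mem_of_mem_erase hx)
  have hYrep : ∀ g : G, (∃ k : ℕ, orderOf g = p ^ k) → ∃! x, x ∈ Y ∧ IsConj g x := by
    intro g hg
    obtain ⟨x, ⟨hx, hgx⟩, hu⟩ := hXrep g hg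
    by_cases hxr : x = r
    · subst hxr
      refine ⟨d, ⟨Finset.mem_insert_self _ _, hgx.trans hdr.symm⟩, ?_⟩
      rintro y ⟨hy, hgy⟩
      rcases Finset.mem_insert.1 hy with rfl | hy
      · rfl
      · exact absurd (hu y ⟨Finset.mem_of_mem_erase hy, hgy⟩) (Finset.ne_of_mem_erase hy)
    · refine ⟨x, ⟨Finset.mem_insert_of_mem (Finset.mem_erase.2 ⟨hxr, hx⟩), hgx⟩, ?_⟩
      rintro y ⟨hy, hgy⟩
      rcases Finset.mem_insert.1 hy with rfl | hy
      · exact absurd (hu r ⟨hr, hgy.trans hdr⟩).symm hxr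
      · exact hu y ⟨Finset.mem_of_mem_erase hy, hgy⟩
  have hrest := rest_le_one hM isPBlock_principalBlock hk Y h1Y hY hYrep
  have h1 := Finset.single_le_sum
    (f := fun z => ∑ᶠ b ∈ {b : Set (IrrCharacter ↥(Subgroup.centralizer ({z} : Set G))) |
      IsInducedBlock M (Subgroup.centralizer ({z} : Set G)) b (principalBlock M G)},
        blockRank p b) (fun _ _ => Nat.zero_le _)
    (Finset.mem_erase.2 ⟨hd1, Finset.mem_insert_self d _⟩ : d ∈ Y.erase 1)
  rw [CfsgLib.GapOne.section_term hM hj] at h1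
  have h2 := CfsgLib.GapOne.one_le_blockRank_principal
    (G := ↥(Subgroup.centralizer ({d} : Set G))) hM
  exact CfsgLib.GapOne.hnpc_of_blockRank_one hM (by omega)

end Count

/-! ### `p`-solvable groups -/

theorem abelian_pSolvable_aux {M : Ideal AlgInt} [M.IsPrime] (hM : IsPModular p M) :
    ∀ n : ℕ, ∀ (G : Type u) [Group G] [Fintype G], Nat.card G = n → IsPSolvable p G →
    ∀ (B : Set (IrrCharacter G)), IsPBlock M B → Nat.card B = blockRank p B + 1 →
    ∀ (D : Subgroup G), IsDefectGroup p M B D → ∀ a ∈ D, ∀ b ∈ D, a * b = b * a := by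
  intro n
  induction n using Nat.strong_induction_on with
  | _ n ih =>
  intro G _ _ hn hs B hB hk D hD
  classical
  let N := Cfsg.pPrimeCore p G
  haveI hNn : N.Normal := (CfsgLib.Solvable.pPrimeCore_spec p).1
  have hNp : ¬ p ∣ Nat.card N := fun h =>
    (Fact.out : p.Prime).ne_one (Nat.eq_one_of_dvd_coprimes
      (CfsgLib.Solvable.coprime_card_pPrimeCore p) h dvd_rfl)
  haveI : Fintype N := Fintype.ofFinite N
  obtain ⟨χ, hχ⟩ := exists_mem_block hB
  obtain ⟨θf, hθf, hc⟩ := exists_constituent_restrict (N := N) χ.2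
  let θ : IrrCharacter N := ⟨θf, hθf⟩
  by_cases hT : inertia θf = ⊤
  · have hinv : ∀ g : G, conjIrr g θ = θ := fun g =>
      Subtype.ext ((mem_inertia θf g).1 (hT ▸ Subgroup.mem_top g))
    have hsc := selfCent_quotient_of_pSolvable (G := G) (p := p) hs
    obtain ⟨B', hB', hiff, -, hsyl⟩ := block_over_invariant hM hNp hsc hinv
    have hBB : B = B' := block_eq_of_common hB hB' hχ ((hiff χ).2 hc)
    obtain ⟨P, rfl⟩ := hsyl D (hBB ▸ hD)
    exact abelian_of_one_class_pSolvable hs P (one_class hM hB hk hD)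
  · set T := inertia θf with hTdef
    haveI : Fintype T := Fintype.ofFinite T
    have hNT : N ≤ T := le_inertia (IsIrrCharacter.isClassFunction hθf)
    have hb : IsPBlock M ({θ} : Set (IrrCharacter N)) :=
      ⟨θ, (blockOf_eq_singleton hM hNp θ).symm⟩
    have hS : IsStab ({θ} : Set (IrrCharacter N)) T := by
      intro g η hη
      rw [Set.mem_singleton_iff.1 hη, Set.mem_singleton_iff, hTdef, mem_inertia,
        Subtype.ext_iff]
      rfl
    obtain ⟨ψ, hψ, hcψ⟩ := exists_stab_inducing hS hNT (Set.mem_singleton θ) hc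
    have hB' := isPBlock_blockOf (M := M) ψ
    set B' := blockOf M (ψ : T → ℂ) with hB'def
    obtain ⟨B₁, hind, -, h₁, h₂⟩ := stab_block_correspond hb hS hNT hB'
      ⟨ψ, mem_blockOf_self ψ, θ, Set.mem_singleton θ, hcψ⟩
    have hχ₁ : χ ∈ B₁ := mem_induced_of_indFun hind (mem_blockOf_self ψ) hψ
    obtain rfl : B = B₁ := block_eq_of_common hB hind.2.1 hχ hχ₁
    obtain ⟨D', hD'⟩ := exists_defectGroup (p := p) hB' hM
    obtain ⟨E, hE, hle⟩ := defectGroup_le_induced hM hind hD'
    have hEq : D'.map T.subtype = E := Subgroup.eq_of_le_of_card_ge hle (le_of_eq (by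
      rw [card_defectGroup hM hB hE, Subgroup.card_map_of_injective T.subtype_injective,
        card_defectGroup hM hB' hD', (stab_defect_height hB' h₁ h₂).1]))
    obtain ⟨x, hx⟩ := defectGroup_conj hM hB hD hE
    -- the two counts
    have hcard : Nat.card B' = Nat.card B := by
      choose f hf hfe using h₁
      refine Nat.card_congr (Equiv.ofBijective (fun ψ' : B' => (⟨f ψ'.1 ψ'.2, hf ψ'.1 ψ'.2⟩ : B))
        ⟨?_, ?_⟩)
      · rintro ⟨ψ₁, hψ₁⟩ ⟨ψ₂, hψ₂⟩ h
        have he : f ψ₁ hψ₁ = f ψ₂ hψ₂ := congrArg Subtype.val h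
        obtain ⟨θ₁, hθ₁, hc₁⟩ := over_of_sameBlock hb hS hNT
          (sameBlock_of_mem hB' (mem_blockOf_self ψ) hψ₁) ⟨θ, Set.mem_singleton θ, hcψ⟩
        obtain ⟨θ₂, hθ₂, hc₂⟩ := over_of_sameBlock hb hS hNT
          (sameBlock_of_mem hB' (mem_blockOf_self ψ) hψ₂) ⟨θ, Set.mem_singleton θ, hcψ⟩
        refine Subtype.ext (eq_of_constituent_over hS hNT (hfe ψ₁ hψ₁) hθ₁ hc₁ hθ₂ hc₂ ?_).symm
        rw [← classInner_indFun_right (isClassFunction_irr _), he, ← hfe ψ₂ hψ₂,
          IsIrrCharacter.classInner_self (f ψ₂ hψ₂).2]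
        exact one_ne_zero
      · rintro ⟨η, hη⟩
        obtain ⟨ψ', hψ', he⟩ := h₂ η hη
        exact ⟨⟨ψ', hψ'⟩, Subtype.ext (Subtype.ext ((hfe ψ' hψ').trans he.symm))⟩
    have hrank : blockRank p B ≤ blockRank p B' := by
      let Φ : (T → ℂ) →ₗ[ℂ] (G → ℂ) :=
        { toFun := fun F => indFun T F
          map_add' := fun F F' => indFun_add F F'
          map_smul' := fun a F => by
            funext g
            simp only [indFun_def, Pi.smul_apply, smul_eq_mul, RingHom.id_apply]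
            have hext : ∀ y : G, extendByZero T (a • F) y = a * extendByZero T F y := by
              intro y
              by_cases hy : y ∈ T
              · have e1 := extendByZero_apply (a • F) (⟨y, hy⟩ : T)
                have e2 := extendByZero_apply F (⟨y, hy⟩ : T)
                simp only at e1 e2
                rw [e1, e2]; rfl
              · rw [extendByZero_of_not_mem _ hy, extendByZero_of_not_mem _ hy, mul_zero]
            simp only [hext, ← Finset.mul_sum]
            ring }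
      unfold Cfsg.blockRank
      refine le_trans (Submodule.finrank_mono ?_) (Submodule.finrank_map_le Φ
        (Submodule.span ℂ ((fun χ : IrrCharacter T => pRegularPart p (χ : T → ℂ)) '' B')))
      rw [Submodule.map_span, Submodule.span_le]
      rintro _ ⟨η, hη, rfl⟩
      obtain ⟨ψ', hψ', he⟩ := h₂ η hη
      refine Submodule.subset_span ⟨_, ⟨ψ', hψ', rfl⟩, ?_⟩
      show indFun T (pRegularPart p (ψ' : T → ℂ)) = pRegularPart p (η : G → ℂ)
      funext g
      rw [indFun_def, pRegularPart_eq, pRegularPart_eq]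
      have hext : ∀ y : G, extendByZero T (regPart p (ψ' : T → ℂ)) (y⁻¹ * g * y) =
          if p ∣ orderOf g then 0 else extendByZero T (ψ' : T → ℂ) (y⁻¹ * g * y) := by
        intro y
        have ho : orderOf (y⁻¹ * g * y) = orderOf g := by
          simpa using orderOf_injective (MulAut.conj y⁻¹).toMonoidHom (MulAut.conj y⁻¹).injective g
        by_cases hy : y⁻¹ * g * y ∈ T
        · have e1 := extendByZero_apply (regPart p (ψ' : T → ℂ)) (⟨_, hy⟩ : T)
          have e2 := extendByZero_apply (ψ' : T → ℂ) (⟨_, hy⟩ : T)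
          simp only at e1 e2
          rw [e1, e2]
          simp only [regPart, ← Subgroup.orderOf_coe, ho]
        · rw [extendByZero_of_not_mem _ hy, extendByZero_of_not_mem _ hy, ite_self]
      rw [Finset.sum_congr rfl fun y _ => hext y]
      by_cases hg : p ∣ orderOf g
      · simp [regPart, hg]
      · simp only [regPart, if_neg hg]
        rw [he, indFun_def]
    have hk' : Nat.card B' = blockRank p B' + 1 := by
      obtain ⟨hle', -, heq'⟩ := Cfsg.Agent.S4733.result p M hM B' hB'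
      have hne : Nat.card B' ≠ blockRank p B' := by
        intro h
        have h0 : blockDefect p B = 0 := (stab_defect_height hB' h₁ h₂).1.trans (heq'.2 h)
        have := ((Cfsg.Agent.S4733.result p M hM B hB).2.2).1 h0
        omega
      omega
    have hlt : Nat.card T < n := by
      rw [← hn]
      refine lt_of_le_of_ne (Nat.le_of_dvd Nat.card_pos T.card_subgroup_dvd_card) fun h => hT ?_
      exact Subgroup.eq_top_of_card_eq T h
    have hab := ih _ hlt T rfl
      (CfsgLib.PConstrained.isPSolvable_comap T.subtype T.subtype_injective hs)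
      B' hB' hk' D' hD'
    intro a ha b hb'
    rw [← hx, ← hEq] at ha hb'
    obtain ⟨_, ⟨a', ha', rfl⟩, rfl⟩ := ha
    obtain ⟨_, ⟨b', hb'', rfl⟩, rfl⟩ := hb'
    simp only [← map_mul, hab a' ha' b' hb'']

/-- A defect group of a block with `k = l + 1` is elementary abelian, if the block is principal or
the group is `p`-solvable. -/
theorem isElementaryAbelian_defect {G : Type u} [Group G] [Finite G] {M : Ideal AlgInt}
    (hM : IsPModular p M) {B : Set (IrrCharacter G)} (hB : IsPBlock M B) {D : Subgroup G}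
    (hD : IsDefectGroup p M B D) (hk : Nat.card B = blockRank p B + 1)
    (hB0 : B = principalBlock M G ∨ IsPSolvable p G) :
    Cfsg.IsElementaryAbelian p D := by
  haveI := hM.2.1.isPrime
  haveI := Fintype.ofFinite G
  have hDp : IsPGroup p D := IsPGroup.of_card (card_defectGroup hM hB hD)
  have hone := one_class hM hB hk hD
  have hexp : ∀ a ∈ D, a ^ p = 1 := fun a ha => pow_eq_one_of_one_class hDp hone ha
  refine ⟨?_, hexp⟩
  suffices h : ∀ a ∈ D, ∀ b ∈ D, a * b = b * a from
    ⟨⟨fun a b => Subtype.ext (h a a.2 b b.2)⟩⟩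
  by_cases hp2 : p = 2
  · subst hp2; exact abelian_of_two hexp
  rcases hB0 with rfl | hs
  · obtain ⟨P, rfl⟩ := (Cfsg.Agent.S4652.result p M hM D).1 hD
    exact abelian_of_one_class hp2 P hone fun d hd hd1 => hnpc_of_mem hM hk P hd hd1
  · exact abelian_pSolvable_aux hM _ G rfl hs B hB hk D hD

end CfsgLib.Block.GapOneElementary
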