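import Cfsg.Agent.BlocksB.PrincipalColumns

/-!
# Inner products of columns of the principal block
-/

namespace CfsgLib.BlockB

open Finset Cfsg CfsgLib.Block CfsgLib.Block.Chr CfsgLib.Char
open scoped ComplexConjugate

set_option linter.unusedSectionVars false
set_option linter.style.haveILetI false

universe u

variable {G : Type u} [Group G] [Fintype G] {M : Ideal AlgInt} [M.IsPrime] {p : ℕ} [Fact p.Prime]

/-- The norm of a column of the principal block. -/
theorem sum_principal_norm (hM : IsPModular p M) {y : G} {k : ℕ} (hy : orderOf y = p ^ k)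
    [Fintype (IrrCharacter G)] [DecidablePred (· ∈ principalBlock M G)] :
    ∑ χ ∈ univ.filter (· ∈ principalBlock M G), (χ : G → ℂ) y * conj ((χ : G → ℂ) y) =
      ((∑ᶠ ψ ∈ principalBlock M (Subgroup.centralizer ({y} : Set G)),
        charDegree (ψ : Subgroup.centralizer ({y} : Set G) → ℂ) ^ 2 : ℕ) : ℂ) := by
  classical
  haveI : Fintype (Subgroup.centralizer ({y} : Set G)) := Fintype.ofFinite _
  letI := irrFintype (G := Subgroup.centralizer ({y} : Set G))
  have h := sum_subPart_mul_conj hM rfl hy (isInduced_principal (M := M) hM hy) 1 1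
  rw [sum_congr rfl fun χ hχ => by rw [subPart_principal hM hy (mem_filter.1 hχ).2]] at h
  have h1 : ¬ p ∣ orderOf (1 : Subgroup.centralizer ({y} : Set G)) := by
    rw [orderOf_one]; exact hM.1.not_dvd_one
  rw [h, finsum_mem_eq_sum_of_inter_support_eq
    (t := univ.filter (· ∈ principalBlock M (Subgroup.centralizer ({y} : Set G)))) _ (by ext; simp),
    Nat.cast_sum]
  refine sum_congr rfl fun ξ _ => ?_
  rw [regPart_of_not_dvd h1, (irr_one ξ).1, Complex.conj_natCast, Nat.cast_pow, sq]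

/-- The column inner product formula. -/
theorem column_inner (hM : IsPModular p M) (P : Subgroup G) (hP : IsPGroup p P) (N : Subgroup G)
    (U : Set G) (hUP : U ⊆ (P : Set G)) (hUN : ∀ n ∈ N, ∀ u ∈ U, n * u * n⁻¹ ∈ U)
    (hfus : ∀ u ∈ U, ∀ g : G, g * u * g⁻¹ ∈ (P : Set G) → ∃ n ∈ N, n * u * n⁻¹ = g * u * g⁻¹)
    (w : ℚ) (hw : ∀ y ∈ U,
      ((∑ᶠ ψ ∈ principalBlock M (Subgroup.centralizer ({y} : Set G)),
        charDegree (ψ : Subgroup.centralizer ({y} : Set G) → ℂ) ^ 2 : ℕ) : ℚ) =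
        w * Nat.card (N ⊓ Subgroup.centralizer ({y} : Set G) : Subgroup G))
    (θ η : P → ℂ) (hθ : IsGeneralizedCharacter P θ) (hη : IsGeneralizedCharacter P η)
    (hθU : ∀ y : P, (y : G) ∉ U → θ y = 0) :
    ∑ᶠ χ ∈ principalBlock M G, mult P θ χ * conj (mult P η χ) =
      ((w : ℂ) / ((Nat.card P : ℂ) ^ 2)) * ∑ᶠ y : P, θ y *
        conj (∑ᶠ x : N, Cfsg.extendByZero P η ((x : G) * (y : G) * (x : G)⁻¹)) := by
  classical
  haveI : Fintype P := Fintype.ofFinite _
  haveI : Fintype N := Fintype.ofFinite _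
  letI := irrFintype (G := G)
  set B := principalBlock M G
  have hflip : ∀ (ζ : P → ℂ) (χ : IrrCharacter G), mult P ζ χ =
      (Nat.card P : ℂ)⁻¹ * ∑ y : P, conj ((χ : G → ℂ) (y : G)) * ζ y := by
    intro ζ χ
    rw [mult, finsum_eq_sum_of_fintype]
    congr 1
    refine Fintype.sum_equiv (Equiv.inv P) _ _ fun y => ?_
    show _ = conj ((χ : G → ℂ) ((y⁻¹ : P) : G)) * ζ y⁻¹
    rw [conj_irr, Subgroup.coe_inv, inv_inv]
  have hfib : ∀ y ∈ U, ∀ z : P, ((univ.filter fun x : N => (x : G) * y * (x : G)⁻¹ = (z : G)).card : ℂ) =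
      if IsConj y (z : G) then (Nat.card (N ⊓ Subgroup.centralizer ({y} : Set G) : Subgroup G) : ℂ) else 0 := by
    intro y hy z
    split_ifs with hc
    · obtain ⟨g, hg⟩ := isConj_iff.1 hc
      obtain ⟨n, hn, hn'⟩ := hfus y hy g (hg ▸ z.2)
      rw [hg] at hn'
      rw [← Fintype.card_subtype, ← Nat.card_eq_fintype_card]
      congr 1
      refine Nat.card_congr
        { toFun := fun x => ⟨n⁻¹ * x.1.1, Subgroup.mem_inf.2 ⟨mul_mem (inv_mem hn) x.1.2, ?_⟩⟩
          invFun := fun x => ⟨⟨n * x.1, mul_mem hn (Subgroup.mem_inf.1 x.2).1⟩, ?_⟩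
          left_inv := fun x => by ext; simp
          right_inv := fun x => by ext; simp }
      · rw [Subgroup.mem_centralizer_singleton_iff]
        calc n⁻¹ * x.1.1 * y = n⁻¹ * ((x.1 : G) * y * (x.1 : G)⁻¹) * x.1.1 := by group
          _ = n⁻¹ * (n * y * n⁻¹) * x.1.1 := by rw [x.2, hn']
          _ = y * (n⁻¹ * x.1.1) := by group
      · have hx := Subgroup.mem_centralizer_singleton_iff.1 (Subgroup.mem_inf.1 x.2).2
        show n * (x.1 : G) * y * (n * x.1)⁻¹ = z
        calc n * (x.1 : G) * y * (n * x.1)⁻¹ = n * ((x.1 : G) * y) * (x.1 : G)⁻¹ * n⁻¹ := by group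
          _ = n * y * n⁻¹ := by rw [hx]; group
          _ = z := hn'
    · rw [Nat.cast_eq_zero, card_eq_zero, filter_eq_empty_iff]
      exact fun x _ hx => hc (isConj_iff.2 ⟨(x : G), hx⟩)
  have hcore : ∀ y z : P, (y : G) ∈ U →
      ∑ χ ∈ univ.filter (· ∈ B), conj ((χ : G → ℂ) (y : G)) * (χ : G → ℂ) (z : G) =
        (w : ℂ) * ((univ.filter fun x : N => (x : G) * y * (x : G)⁻¹ = (z : G)).card : ℂ) := by
    intro y z hy
    obtain ⟨k, hk⟩ := IsPGroup.iff_orderOf.1 hP y
    obtain ⟨l, hl⟩ := IsPGroup.iff_orderOf.1 hP z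
    rw [← Subgroup.orderOf_coe] at hk hl
    rw [hfib _ hy]
    split_ifs with hc
    · have hval : ∀ χ : IrrCharacter G, (χ : G → ℂ) (z : G) = (χ : G → ℂ) (y : G) := fun χ => by
        obtain ⟨g, hg⟩ := isConj_iff.1 hc
        rw [← hg, isClassFunction_irr χ]
      simp only [hval]
      rw [sum_congr rfl fun χ _ => mul_comm _ _, sum_principal_norm hM hk,
        ← Rat.cast_natCast (α := ℂ), hw _ hy, Rat.cast_mul, Rat.cast_natCast]
    · rw [mul_zero, sum_congr rfl fun χ _ => mul_comm _ _]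
      exact block_orth hM (isIntClass_blockCoeff isPBlock_principalBlock)
        ⟨1, mul_one _, Commute.one_right _, ⟨l, hl⟩, by rw [orderOf_one]; exact hM.1.not_dvd_one⟩
        ⟨1, mul_one _, Commute.one_right _, ⟨k, hk⟩, by rw [orderOf_one]; exact hM.1.not_dvd_one⟩
        fun h => hc h.symm
  have hN : ∀ y : P, (y : G) ∈ U →
      conj (∑ᶠ x : N, Cfsg.extendByZero P η ((x : G) * (y : G) * (x : G)⁻¹)) =
        ∑ z : P, ((univ.filter fun x : N => (x : G) * y * (x : G)⁻¹ = (z : G)).card : ℂ) * conj (η z) := by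
    intro y hy
    rw [finsum_eq_sum_of_fintype, map_sum,
      ← sum_fiberwise univ (fun x : N => (⟨_, hUP (hUN x x.2 y hy)⟩ : P))]
    refine sum_congr rfl fun z _ => ?_
    rw [sum_congr rfl fun x hx => by
      rw [show (x : G) * y * (x : G)⁻¹ = ((z : P) : G) from congrArg Subtype.val (mem_filter.1 hx).2,
        CfsgLib.Char.extendByZero_apply], sum_const, nsmul_eq_mul]
    congr 3
    ext x
    simp [Subtype.ext_iff]
  rw [finsum_mem_block B, finsum_eq_sum_of_fintype, mul_sum]
  calc ∑ χ ∈ univ.filter (· ∈ B), mult P θ χ * conj (mult P η χ)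
      = ∑ y : P, ∑ z : P, ((Nat.card P : ℂ)⁻¹ * (Nat.card P : ℂ)⁻¹) * (θ y * conj (η z)) *
          ∑ χ ∈ univ.filter (· ∈ B), conj ((χ : G → ℂ) (y : G)) * (χ : G → ℂ) (z : G) := by
        simp only [hflip, map_mul, map_inv₀, map_natCast, map_sum, Complex.conj_conj, mul_sum,
          sum_mul]
        rw [sum_congr rfl fun χ _ => sum_comm, sum_comm]
        refine sum_congr rfl fun y _ => ?_
        rw [sum_comm]
        exact sum_congr rfl fun z _ => sum_congr rfl fun χ _ => by ring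
    _ = _ := by
        refine sum_congr rfl fun y _ => ?_
        by_cases hy : (y : G) ∈ U
        · simp only [hN y hy, hcore y _ hy, mul_sum]
          refine sum_congr rfl fun z _ => ?_
          rw [div_eq_mul_inv, ← inv_pow]
          ring
        · simp [hθU y hy]

end CfsgLib.BlockB
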