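import Cfsg.Agent.BlocksB.SubsectionCor
import Cfsg.Agent.BrauerPairs.FusionBridge

/-!
# Defects of induced blocks from centralizers of `p`-subgroups
-/

namespace CfsgLib.BlockB

open Finset Cfsg CfsgLib.Block CfsgLib.Block.Chr CfsgLib.Char CfsgLib.BrauerPairs

set_option linter.unusedSectionVars false
set_option linter.style.haveILetI false

universe u

variable {G : Type u} [Group G] [Fintype G] {M : Ideal AlgInt} [M.IsPrime] {p : ℕ} [Fact p.Prime]

/-- A block of `C(Q)` inducing `B` gives a pair of `B`. -/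
theorem isBrauerPairOf_of_induced (hM : IsPModular p M) {Q : Subgroup G} (hQ : IsPGroup p Q)
    [Fintype (Subgroup.centralizer (Q : Set G))]
    {b : Set (IrrCharacter (Subgroup.centralizer (Q : Set G)))} {B : Set (IrrCharacter G)}
    (hind : IsInducedBlock M (Subgroup.centralizer (Q : Set G)) b B) :
    IsBrauerPairOf p M B Q b := by
  classical
  obtain ⟨hb, hB, hcong⟩ := hind
  obtain ⟨χ, hχ⟩ := exists_mem_block hB
  refine ⟨⟨hQ, hb⟩, hB, fun ξ hξ => ?_⟩
  have h1 := induced_cong _ (hcong ξ hξ χ hχ) (isIntClass_blockCoeff hB)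
  rw [omega_blockCoeff, if_pos hχ] at h1
  have heq : brauerOmega Q (blockCoeff B) (ξ : Subgroup.centralizer (Q : Set G) → ℂ) =
      omega (ξ : Subgroup.centralizer (Q : Set G) → ℂ)
        (resFun (Subgroup.centralizer (Q : Set G)) (blockCoeff B)) := by
    rw [brauerOmega, omega, finsum_eq_sum_of_fintype, sum_div]
    rfl
  rwa [heq]

/-- Induction from the centralizer of a `p`-subgroup does not lower the defect. -/
theorem blockDefect_le_of_induced (hM : IsPModular p M) {Q H : Subgroup G} (hQ : IsPGroup p Q)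
    (hH : H = Subgroup.centralizer (Q : Set G)) (hQH : Q ≤ H) [Fintype H]
    {b : Set (IrrCharacter H)} {B : Set (IrrCharacter G)} (hind : IsInducedBlock M H b B) :
    blockDefect p b ≤ blockDefect p B := by
  classical
  haveI := charP_residue hM
  subst hH
  obtain ⟨-, -, hpairG⟩ := (isBrauerPairOf_iff hM).mp (isBrauerPairOf_of_induced hM hQ hind)
  have hblkG := isBlk_idem hM hind.2.1
  set bH := idemIn M (Subgroup.centralizer (Q : Set G)) b
  have hblkH := isBlk_idemIn hM hind.1
  obtain ⟨D₀, hD₀⟩ := exists_defectGroup hind.1 hM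
  obtain ⟨Dg, hDg⟩ := exists_defectGroup hind.2.1 hM
  set D : Subgroup G := D₀.map (Subgroup.centralizer (Q : Set G)).subtype with hDdef
  have hmaxH := (isDefectGroup_sub_iff hM _ hind.1 D₀).mp hD₀
  have hDH : D ≤ Subgroup.centralizer (Q : Set G) := hmaxH.2.1
  have hDN : D ≤ Subgroup.normalizer (Q : Set G) :=
    hDH.trans (Subgroup.centralizer_le_normalizer _)
  set R := Q ⊔ D
  have hR : IsPGroup p R := hQ.to_sup_of_normal_left' hmaxH.1 hDN
  have hbr : br R bH ≠ 0 := by
    intro h0
    refine hmaxH.2.2.1 (coeff_ext fun g => ?_)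
    rw [coeff_br]
    split_ifs with hg
    · by_cases hgQ : g ∈ Subgroup.centralizer (Q : Set G)
      · have hgR : g ∈ Subgroup.centralizer (R : Set G) := by
          rw [Subgroup.mem_centralizer_iff]
          have hle : R ≤ Subgroup.centralizer ({g} : Set G) := by
            refine sup_le (fun u hu => ?_) (fun u hu => ?_)
            · exact Subgroup.mem_centralizer_singleton_iff.2 (Subgroup.mem_centralizer_iff.1 hgQ u hu)
            · exact Subgroup.mem_centralizer_singleton_iff.2 (Subgroup.mem_centralizer_iff.1 hg u hu)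
          exact fun u hu => Subgroup.mem_centralizer_singleton_iff.1 (hle hu)
        rw [← coeff_br_of_mem (P := R) bH hgR, h0]
      · rw [show bH.coeff g = 0 from hblkH.suppIn g hgQ]; rfl
    · rfl
  have hRH : R ≤ Subgroup.centralizer (Q : Set G) := sup_le hQH hDH
  have hCH : Subgroup.centralizer (R : Set G) ≤ Subgroup.centralizer (Q : Set G) :=
    Subgroup.centralizer_le (SetLike.coe_subset_coe.mpr le_sup_left)
  set S := alg (Residue M) (Subgroup.centralizer (R : Set G)) (Subgroup.centralizer (R : Set G))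
  have hbrS : br R bH ∈ S :=
    ⟨suppIn_br bH, fixBy_br (hblkH.fixBy.mono hCH) (Subgroup.centralizer_le_normalizer _)⟩
  obtain ⟨f, hf, hf0⟩ := exists_prim_mul_ne_zero (alg_comm (k := Residue M) le_rfl) hbr
  have hfe : br R bH * f = f := by
    have hidem : br R bH * br R bH = br R bH := br_idem hR hblkH.idem (hblkH.fixBy.mono hRH)
    have := hf.mul_eq_self hbrS hidem hf0
    rwa [alg_comm (k := Residue M) le_rfl _ hf.mem _ hbrS] at this
  have hpR : IsPair p (R, f) := ⟨hR, hf⟩
  have hstep : NStep p (Q, bH) (R, f) :=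
    ⟨hpairG.1, hpR, le_sup_left, hRH.trans (Subgroup.centralizer_le_normalizer _),
      hblkH.fixBy.mono hRH, hfe⟩
  have hRb := (isPairOf_iff_of_ple hblkG (Relation.ReflTransGen.single hstep) hpR).mp hpairG
  have h1 := (isDef_of_isDefectGroup hM hind.2.1 hDg).card_le hR le_top hRb.br_ne_zero
  have h2 : Nat.card D ≤ Nat.card R := Subgroup.card_le_of_le le_sup_right
  rw [hDdef, Subgroup.card_map_of_injective (Subgroup.subtype_injective _),
    card_defectGroup hM hind.1 hD₀] at h2
  rw [card_defectGroup hM hind.2.1 hDg] at h1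
  exact (Nat.pow_le_pow_iff_right hM.1.one_lt).1 (h2.trans h1)

/-- A central subgroup of a defect group carries a block of full defect inducing `B`. -/
theorem exists_induced_of_central (hM : IsPModular p M) {B : Set (IrrCharacter G)}
    (hB : IsPBlock M B) {D : Subgroup G} (hD : IsDefectGroup p M B D) {Q : Subgroup G}
    (hQD : Q ≤ D) (hDQ : D ≤ Subgroup.centralizer (Q : Set G))
    [Fintype (Subgroup.centralizer (Q : Set G))] :
    ∃ b, IsInducedBlock M (Subgroup.centralizer (Q : Set G)) b B ∧
      blockDefect p b = blockDefect p B := by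
  classical
  haveI := charP_residue hM
  have hblkG := isBlk_idem hM hB
  have hdef := isDef_of_isDefectGroup hM hB hD
  obtain ⟨f, hf⟩ := exists_isPairOf hblkG hdef.1 hdef.2.2.2
  obtain ⟨g, hg, -⟩ := existsUnique_nstep hf.1 hQD
    (hDQ.trans (Subgroup.centralizer_le_normalizer _))
  have hgG := (isPairOf_iff_of_ple hblkG (Relation.ReflTransGen.single hg) hf.1).mpr hf
  obtain ⟨b, hb, hbg⟩ := exists_toPair_eq hM hg.1
  have hind := isInducedBlock_of_isBrauerPairOf hM (hQD.trans hDQ)
    ((isBrauerPairOf_iff hM).mpr ⟨hb, hB, hbg ▸ hgG⟩)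
  refine ⟨b, hind, le_antisymm
    (blockDefect_le_of_induced hM hg.1.1 rfl (hQD.trans hDQ) hind) ?_⟩
  obtain ⟨D₀, hD₀⟩ := exists_defectGroup hb.2 hM
  have hmaxH := (isDefectGroup_sub_iff hM _ hb.2 D₀).mp hD₀
  have hbg' : idemIn M (Subgroup.centralizer (Q : Set G)) b = g := congrArg Prod.snd hbg
  have hne : br D (idemIn M (Subgroup.centralizer (Q : Set G)) b) ≠ 0 := by
    intro h0
    have h := hg.2.2.2.2.2
    simp only at h
    rw [← hbg', h0, zero_mul] at h
    exact hf.1.2.ne_zero h.symm
  have h1 := hmaxH.2.2.2 D hdef.1 hDQ hne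
  rw [Subgroup.card_map_of_injective (Subgroup.subtype_injective _),
    card_defectGroup hM hb.2 hD₀, card_defectGroup hM hB hD] at h1
  exact (Nat.pow_le_pow_iff_right hM.1.one_lt).1 h1

end CfsgLib.BlockB
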