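import Cfsg.Agent.BlocksB.RegRank
import Cfsg.Agent.Blocks.MinMax
import Cfsg.Agent.Char.Central
import Mathlib.RingTheory.PrincipalIdealDomain

/-!
# Blocks of rank one; blocks with central defect group
-/

namespace CfsgLib.BlockB

open Finset Cfsg CfsgLib.Block CfsgLib.Block.Chr CfsgLib.Char Matrix
open scoped ComplexConjugate

universe u

variable {G : Type u} [Group G] [Fintype G] {M : Ideal AlgInt} [M.IsPrime] {p : ℕ} [Fact p.Prime]
  {B : Set (IrrCharacter G)}

/-- The reduced matrix is `p ^ d` times the cut-off matrix. -/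
theorem redInt_eq_regMat (hM : IsPModular p M) (hB : IsPBlock M B) (χ ψ : B) :
    (redInt p B χ.1 ψ.1 : ℂ) = (p ^ blockDefect p B : ℂ) * regMat p B χ ψ := by
  have h := congrArg (Int.cast (R := ℂ)) (redInt_spec hM hB (χ := χ.1) ψ.2)
  push_cast at h
  rw [regMat_eq, ← h, ← mul_div_assoc, ← mul_assoc, ← pow_add,
    Nat.add_sub_cancel' (blockDefect_le (p := p) B), Nat.cast_pow,
    mul_div_cancel_left₀ _ (pow_ne_zero _ (Nat.cast_ne_zero.2 hM.1.ne_zero))]

theorem sum_redInt_diag (hM : IsPModular p M) (hB : IsPBlock M B) [Fintype B] :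
    ∑ χ : B, redInt p B χ.1 χ.1 = (p : ℤ) ^ blockDefect p B * (blockRank p B : ℤ) := by
  apply Int.cast_injective (α := ℂ)
  push_cast
  rw [blockRank_eq_trace hM hB, mul_sum]
  exact sum_congr rfl fun χ _ => redInt_eq_regMat hM hB χ χ

theorem redInt_self_pos (hM : IsPModular p M) (hB : IsPBlock M B) {ξ : IrrCharacter G}
    (hξ : ξ ∈ B) (h0 : blockHeight p B (ξ : G → ℂ) = 0) : 0 < redInt p B ξ ξ := by
  classical
  letI := irrFintype (G := G)
  have h := redInt_sum_sq hM hB hξ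
  have hpos : 0 < redInt p B ξ ξ ^ 2 :=
    (sq_nonneg _).lt_of_ne (pow_ne_zero 2 (redInt_ne_zero hM hB hξ hξ h0)).symm
  have hle := single_le_sum (f := fun ψ => redInt p B ξ ψ ^ 2) (fun ψ _ => sq_nonneg _)
    (mem_filter.2 ⟨mem_univ ξ, hξ⟩ : ξ ∈ univ.filter (· ∈ B))
  have hp : 0 < (p : ℤ) ^ blockDefect p B := pow_pos (Int.natCast_pos.2 hM.1.pos) _
  exact pos_of_mul_pos_right (hpos.trans_le (h ▸ hle)) hp.le

/-- In rank one the rows of the reduced matrix are proportional. -/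
theorem redInt_mul_of_rank_one (hM : IsPModular p M) (hB : IsPBlock M B) [Fintype B]
    (hl : blockRank p B = 1) {ξ : B} (h0 : blockHeight p B ((ξ : IrrCharacter G) : G → ℂ) = 0)
    (χ ψ : B) :
    redInt p B χ.1 ψ.1 * redInt p B ξ.1 ξ.1 = redInt p B χ.1 ξ.1 * redInt p B ξ.1 ψ.1 := by
  classical
  have hfin : Module.finrank ℂ (LinearMap.range (regMap p B)) = 1 := by
    rw [← blockRank_eq_finrank hM hB, hl]
  have hrow : ∀ a b : B, regMap p B (Pi.single a 1) b = regMat p B a b := fun a b => by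
    simp [regMap, toLin'_apply, Matrix.mulVec_single_one]
  let v : LinearMap.range (regMap p B) :=
    ⟨regMap p B (Pi.single ξ 1), LinearMap.mem_range_self _ _⟩
  have hp0 : (p ^ blockDefect p B : ℂ) ≠ 0 := pow_ne_zero _ (Nat.cast_ne_zero.2 hM.1.ne_zero)
  have hv : v ≠ 0 := by
    intro hv
    have h1 : regMat p B ξ ξ = 0 := by
      rw [← hrow]
      exact congrFun (congrArg Subtype.val hv) ξ
    have h2 := redInt_eq_regMat hM hB ξ ξ
    rw [h1, mul_zero] at h2
    exact redInt_ne_zero hM hB ξ.2 ξ.2 h0 (by exact_mod_cast h2)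
  obtain ⟨t, ht⟩ := (finrank_eq_one_iff_of_nonzero' v hv).1 hfin
    ⟨regMap p B (Pi.single χ 1), LinearMap.mem_range_self _ _⟩
  have hco : ∀ b : B, regMat p B χ b = t * regMat p B ξ b := fun b => by
    have := congrFun (congrArg Subtype.val ht) b
    simp only [v, Submodule.coe_smul, Pi.smul_apply, smul_eq_mul, hrow] at this
    exact this.symm
  apply Int.cast_injective (α := ℂ)
  push_cast
  simp only [redInt_eq_regMat hM hB, hco]
  ring

/-- In rank one the reduced matrix is the outer square of an integer vector. -/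
theorem exists_decomposition_vector (hM : IsPModular p M) (hB : IsPBlock M B) [Fintype B]
    (hl : blockRank p B = 1) :
    ∃ e n : B → ℤ, (∀ χ ψ : B, redInt p B χ.1 ψ.1 = e χ * e ψ) ∧
      (∑ χ : B, n χ * e χ = 1) ∧ ∑ χ : B, e χ ^ 2 = (p : ℤ) ^ blockDefect p B := by
  classical
  obtain ⟨ξ₀, hξ₀, h0⟩ := exists_height_zero hM hB
  set ξ : B := ⟨ξ₀, hξ₀⟩
  set r := redInt p B ξ.1 ξ.1
  have hrpos : 0 < r := redInt_self_pos hM hB ξ.2 h0
  set g := (univ : Finset B).gcd fun ψ => redInt p B ξ.1 ψ.1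
  have hg0 : g ≠ 0 := fun h => hrpos.ne' (Finset.gcd_eq_zero_iff.1 h ξ (mem_univ _))
  have hdvd : ∀ ψ : B, g ∣ redInt p B ξ.1 ψ.1 := fun ψ => Finset.gcd_dvd (mem_univ ψ)
  choose e he using hdvd
  obtain ⟨n, hn⟩ := Finset.gcd_eq_sum_mul (univ : Finset B) fun ψ => redInt p B ξ.1 ψ.1
  have hne : ∑ χ : B, n χ * e χ = 1 := by
    refine mul_left_cancel₀ hg0 ?_
    rw [mul_one, mul_sum]
    refine (sum_congr rfl fun ψ _ => ?_).trans hn.symm
    rw [he]
    ring
  have hprod : ∀ χ ψ : B, redInt p B χ.1 ψ.1 * r = g * g * (e χ * e ψ) := fun χ ψ => by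
    rw [redInt_mul_of_rank_one hM hB hl (ξ := ξ) h0, redInt_comm χ.1, he, he]
    ring
  set c := ∑ χ : B, ∑ ψ : B, n χ * n ψ * redInt p B χ.1 ψ.1
  have hcr : c * r = g * g := by
    calc c * r = ∑ χ : B, ∑ ψ : B, n χ * n ψ * (g * g * (e χ * e ψ)) := by
          simp only [c, sum_mul, mul_assoc (n _ * n _), hprod]
      _ = g * g * ((∑ χ : B, n χ * e χ) * ∑ ψ : B, n ψ * e ψ) := by
          rw [sum_mul_sum, mul_sum]
          refine sum_congr rfl fun χ _ => ?_
          rw [mul_sum]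
          exact sum_congr rfl fun ψ _ => by ring
      _ = g * g := by rw [hne, mul_one, mul_one]
  have hR : ∀ χ ψ : B, redInt p B χ.1 ψ.1 = c * (e χ * e ψ) := fun χ ψ => by
    refine mul_right_cancel₀ hrpos.ne' ?_
    rw [hprod, ← hcr]
    ring
  have htr : c * ∑ χ : B, e χ ^ 2 = (p : ℤ) ^ blockDefect p B := by
    have h := sum_redInt_diag hM hB
    rw [hl, Nat.cast_one, mul_one] at h
    rw [← h, mul_sum]
    exact sum_congr rfl fun χ _ => by rw [hR, sq]
  have hc0 : 0 < c := pos_of_mul_pos_left (hcr ▸ mul_self_pos.2 hg0) hrpos.le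
  have hpc : ¬ (p : ℤ) ∣ c := by
    intro h
    refine (pow_dvd_redInt hM hB ξ.2 ξ.2).2.1 ?_ h0
    rw [h0, zero_add, pow_one, hR]
    exact dvd_mul_of_dvd_left h _
  have hc1 : c = 1 := by
    have hdvd : c.natAbs ∣ ((p : ℤ) ^ blockDefect p B).natAbs :=
      Int.natAbs_dvd_natAbs.2 (Dvd.intro _ htr)
    rw [Int.natAbs_pow, Int.natAbs_natCast] at hdvd
    obtain ⟨j, -, hj⟩ := (Nat.dvd_prime_pow hM.1).1 hdvd
    rcases Nat.eq_zero_or_pos j with rfl | hj0
    · rw [pow_zero] at hj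
      omega
    · refine absurd ?_ hpc
      rw [← Int.natAbs_dvd_natAbs, Int.natAbs_natCast, hj]
      exact dvd_pow_self _ hj0.ne'
  refine ⟨e, n, fun χ ψ => by rw [hR, hc1, one_mul], hne, ?_⟩
  rwa [hc1, one_mul] at htr

/-- The decomposition numbers of a block of rank one. -/
theorem rank_one_decomposition (hM : IsPModular p M) (hB : IsPBlock M B)
    (hl : blockRank p B = 1) :
    ∃ φ : G → ℂ, ∃ d : IrrCharacter G → ℕ,
      (∃ n : IrrCharacter G → ℤ, ∀ x : G, IsPRegular p x →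
        φ x = ∑ᶠ ψ ∈ B, (n ψ : ℂ) * (ψ : G → ℂ) x) ∧
      (∀ χ ∈ B, ∀ x : G, IsPRegular p x → (χ : G → ℂ) x = (d χ : ℂ) * φ x) ∧
      ∑ᶠ χ ∈ B, d χ ^ 2 = p ^ blockDefect p B := by
  classical
  letI := irrFintype (G := G)
  haveI : Fintype B := Fintype.ofFinite B
  obtain ⟨e, n, hR, hne, hsq⟩ := exists_decomposition_vector hM hB hl
  set Φ : G → ℂ := fun x =>
    (∑ ψ : B, (e ψ : ℂ) * ((ψ : IrrCharacter G) : G → ℂ) x) / (p ^ blockDefect p B : ℂ) with hΦd
  have hp0 : (p ^ blockDefect p B : ℂ) ≠ 0 := pow_ne_zero _ (Nat.cast_ne_zero.2 hM.1.ne_zero)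
  have hval : ∀ χ : B, ∀ x : G, IsPRegular p x →
      ((χ : IrrCharacter G) : G → ℂ) x = (e χ : ℂ) * Φ x := fun χ x hx => by
    rw [← regPart_of_not_dvd (f := ((χ : IrrCharacter G) : G → ℂ)) hx, regPart_expand hM hB, hΦd]
    rw [mul_div_assoc', eq_div_iff hp0, mul_sum, sum_mul]
    refine sum_congr rfl fun ψ _ => ?_
    rw [mul_right_comm, mul_comm (regMat p B χ ψ), ← redInt_eq_regMat hM hB, hR, Int.cast_mul,
      mul_assoc]
  have hone : IsPRegular p (1 : G) := by
    simp [IsPRegular, Nat.dvd_one, hM.1.ne_one]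
  -- all the coefficients have the sign of `ε`
  obtain ⟨ε, hε⟩ : ∃ ε : ℤ, ∀ χ : B, e χ = ε * ((e χ).natAbs : ℤ) := by
    set s : ℝ := ((∑ ψ : B, (e ψ : ℝ) * (charDegree ((ψ : IrrCharacter G) : G → ℂ) : ℝ)) /
      (p ^ blockDefect p B : ℝ))
    have hΦ1 : Φ 1 = (s : ℂ) := by
      simp only [hΦd, s, Complex.ofReal_div, Complex.ofReal_sum, Complex.ofReal_mul,
        Complex.ofReal_intCast, Complex.ofReal_natCast, Complex.ofReal_pow, (irr_one _).1]
    have hpos : ∀ χ : B, 0 < (e χ : ℝ) * s := fun χ => by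
      have h := hval χ 1 hone
      rw [(irr_one χ.1).1, hΦ1, ← Complex.ofReal_intCast, ← Complex.ofReal_mul,
        ← Complex.ofReal_natCast, Complex.ofReal_inj] at h
      rw [← h]
      exact Nat.cast_pos.2 (irr_one χ.1).2
    rcases lt_trichotomy s 0 with hs | hs | hs
    · refine ⟨-1, fun χ => ?_⟩
      have h1 : (e χ : ℝ) < 0 := by nlinarith [hpos χ]
      have h2 : e χ < 0 := Int.cast_lt_zero.1 h1
      omega
    · obtain ⟨ξ₀, hξ₀, -⟩ := exists_height_zero hM hB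
      have := hpos ⟨ξ₀, hξ₀⟩
      simp [hs] at this
    · refine ⟨1, fun χ => ?_⟩
      have h1 : 0 < (e χ : ℝ) := by nlinarith [hpos χ]
      have h2 : 0 < e χ := Int.cast_pos.1 h1
      omega
  let m : IrrCharacter G → ℤ := fun ψ => if h : ψ ∈ B then ε * n ⟨ψ, h⟩ else 0
  let d : IrrCharacter G → ℕ := fun ψ => if h : ψ ∈ B then (e ⟨ψ, h⟩).natAbs else 0
  have hfin : ∀ {α : Type} [AddCommMonoid α] (F : IrrCharacter G → α),
      ∑ᶠ ψ ∈ B, F ψ = ∑ ψ : B, F ψ.1 := fun F => by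
    rw [finsum_mem_eq_sum_of_inter_support_eq (t := univ.filter (· ∈ B)) _ (by ext; simp)]
    exact sum_subtype (univ.filter (· ∈ B)) (p := (· ∈ B)) (by simp) F
  refine ⟨fun x => (ε : ℂ) * Φ x, d, ⟨m, fun x hx => ?_⟩, fun χ hχ x hx => ?_, ?_⟩
  · rw [hfin fun ψ => (m ψ : ℂ) * (ψ : G → ℂ) x]
    have h1 : ∑ ψ : B, ((ε * n ψ : ℤ) : ℂ) * (e ψ : ℂ) = (ε : ℂ) := by
      have h := congrArg (fun z : ℤ => ((ε * z : ℤ) : ℂ)) hne
      simpa [mul_sum, mul_assoc] using h
    show (ε : ℂ) * Φ x = _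
    rw [← h1, sum_mul]
    refine sum_congr rfl fun ψ _ => ?_
    simp only [m, dif_pos ψ.2, hval ψ x hx]
    ring
  · rw [hval ⟨χ, hχ⟩ x hx]
    simp only [d, dif_pos hχ]
    conv_lhs => rw [hε ⟨χ, hχ⟩]
    rw [Int.cast_mul, Int.cast_natCast]
    ring
  · rw [hfin fun ψ => d ψ ^ 2]
    apply Nat.cast_injective (R := ℤ)
    push_cast
    rw [← hsq]
    refine sum_congr rfl fun ψ _ => ?_
    simp only [d, dif_pos ψ.2, Int.natAbs_sq]

theorem irr_central_mul (χ : IrrCharacter G) {u : G} (hu : u ∈ Subgroup.center G) (x : G) :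
    (χ : G → ℂ) (u * x) * (χ : G → ℂ) (u * x)⁻¹ = (χ : G → ℂ) x * (χ : G → ℂ) x⁻¹ := by
  obtain ⟨n, σ, hirr, hσ⟩ := χ.2
  haveI := hirr
  have hc : ∀ w ∈ Subgroup.center G, ∃ c : ℂ, σ w = c • 1 := fun w hw =>
    ⟨_, eq_smul_one_of_commute σ (σ w) fun g => by
      rw [← map_mul, ← map_mul, Subgroup.mem_center_iff.1 hw g]⟩
  obtain ⟨c, hu'⟩ := hc u hu
  obtain ⟨c', hu''⟩ := hc u⁻¹ (inv_mem hu)
  have hn : (n : ℂ) ≠ 0 := by
    have := irr_one_ne_zero χ
    rwa [← hσ, char_one_eq] at this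
  have hcc : c * c' = 1 := by
    have h : σ u * σ u⁻¹ = 1 := by rw [← map_mul, mul_inv_cancel, map_one]
    rw [hu', hu'', smul_mul_assoc, one_mul, smul_smul] at h
    have ht := congrArg (LinearMap.trace ℂ (Fin n → ℂ)) h
    rw [map_smul, LinearMap.trace_one, Module.finrank_fin_fun, smul_eq_mul] at ht
    exact mul_right_cancel₀ hn (ht.trans (one_mul _).symm)
  have key : ∀ (w : G) (a : ℂ), σ w = a • 1 → ∀ y, σ.character (w * y) = a * σ.character y := by
    intro w a ha y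
    simp only [Representation.character, map_mul, ha, smul_mul_assoc, one_mul, map_smul, smul_eq_mul]
  rw [← hσ, _root_.mul_inv_rev, ← (Subgroup.mem_center_iff.1 (inv_mem hu) x⁻¹).symm, key u c hu',
    key u⁻¹ c' hu'']
  calc c * σ.character x * (c' * σ.character x⁻¹)
      = c * c' * (σ.character x * σ.character x⁻¹) := by ring
    _ = _ := by rw [hcc, one_mul]

/-- With a central defect group the diagonal of the reduced matrix is one. -/
theorem redInt_self_of_central (hM : IsPModular p M) (hB : IsPBlock M B) {P : Subgroup G}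
    (hD : IsDefectGroup p M B P) (hPZ : P ≤ Subgroup.center G) (χ : B) :
    redInt p B χ.1 χ.1 = 1 := by
  classical
  have hPp : IsPGroup p P := isPGroup_defectGroup hD
  set f : G → ℂ := fun g => ((χ : IrrCharacter G) : G → ℂ) g * ((χ : IrrCharacter G) : G → ℂ) g⁻¹
  set s := univ.filter fun g : G => ∃ x ∈ P, IsPPart p g x
  have hzero : ∀ g, g ∉ s → f g = 0 := by
    intro g hg
    obtain ⟨x, y, hxy, hcomm, -, -, -, hy, hk, -⟩ := exists_pPart hM.1 g
    refine mul_eq_zero_of_left (apply_eq_zero_of_not_mem_defectGroup hM hB χ.2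
      ⟨y, hxy, hcomm, hk, hy⟩ fun D hD' hxD => hg (mem_filter.2 ⟨mem_univ _, x, ?_, ⟨y, hxy, hcomm, hk, hy⟩⟩)) _
    obtain ⟨t, rfl⟩ := defectGroup_conj hM hB hD hD'
    have hw : t * x * t⁻¹ ∈ Subgroup.map (MulAut.conj t).toMonoidHom D := ⟨x, hxD, rfl⟩
    rwa [← show t * x * t⁻¹ = x by
      have h := Subgroup.mem_center_iff.1 (hPZ hw) t
      exact mul_left_cancel (h.trans (inv_mul_cancel_right _ _))]
  set r := univ.filter fun x : G => ¬ p ∣ orderOf x
  have hord : ∀ u : P, ∃ k, orderOf (u : G) = p ^ k := fun u => by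
    rw [Subgroup.orderOf_coe]
    exact IsPGroup.iff_orderOf.1 hPp u
  have hcard : (Nat.card P : ℂ) * ∑ x ∈ r, f x = ∑ g ∈ s, f g := by
    have : ∑ q ∈ (univ : Finset P) ×ˢ r, f ((q.1 : G) * q.2) = ∑ g ∈ s, f g := by
      refine sum_bij (fun q _ => (q.1 : G) * q.2) (fun q hq => ?_) (fun q hq q' hq' h => ?_)
        (fun g hg => ?_) (fun q _ => rfl)
      · obtain ⟨k, hk⟩ := hord q.1
        exact mem_filter.2 ⟨mem_univ _, q.1, q.1.2, q.2, rfl,
          (Subgroup.mem_center_iff.1 (hPZ q.1.2) q.2).symm, ⟨k, hk⟩, (mem_filter.1 (mem_product.1 hq).2).2⟩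
      · obtain ⟨k, hk⟩ := hord q.1
        obtain ⟨k', hk'⟩ := hord q'.1
        have hx : (q.1 : G) = q'.1 := by
          refine pPart_unique hM.1 (g := (q.1 : G) * q.2)
            ⟨q.2, rfl, (Subgroup.mem_center_iff.1 (hPZ q.1.2) q.2).symm, ⟨k, hk⟩,
              (mem_filter.1 (mem_product.1 hq).2).2⟩ h.symm
            (Subgroup.mem_center_iff.1 (hPZ q'.1.2) q'.2).symm (n := k') ?_
            (mem_filter.1 (mem_product.1 hq').2).2 (pow_orderOf_eq_one _)
          rw [← hk']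
          exact pow_orderOf_eq_one _
        have h2 : q.2 = q'.2 := by
          have h' : (q.1 : G) * q.2 = q'.1 * q'.2 := h
          rw [hx] at h'
          exact mul_left_cancel h'
        exact Prod.ext (Subtype.ext hx) h2
      · obtain ⟨-, x, hx, y, hxy, hcomm, hk, hy⟩ := mem_filter.1 hg
        exact ⟨(⟨x, hx⟩, y), mem_product.2 ⟨mem_univ _, mem_filter.2 ⟨mem_univ _, hy⟩⟩, hxy⟩
    rw [← this, sum_product]
    simp only [f, fun (u : P) x => irr_central_mul (χ : IrrCharacter G) (hPZ u.2) x]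
    rw [sum_const, card_univ, Nat.card_eq_fintype_card, nsmul_eq_mul]
  rw [← Int.cast_inj (α := ℂ), redInt_eq_regMat hM hB, Int.cast_one,
    show (p ^ blockDefect p B : ℂ) = (Nat.card P : ℂ) by
      rw [card_defectGroup hM hB hD, Nat.cast_pow]]
  have h1 : classInner ((χ : IrrCharacter G) : G → ℂ) ((χ : IrrCharacter G) : G → ℂ) =
      (Nat.card G : ℂ)⁻¹ * ∑ g ∈ s, f g := by
    rw [classInner, sum_subset (subset_univ s) fun g _ hg => hzero g hg]
    simp only [f, conj_irr]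
  have h2 : regMat p B χ χ = (Nat.card G : ℂ)⁻¹ * ∑ x ∈ r, f x := by
    rw [regMat, classInner, sum_filter]
    congr 1
    refine sum_congr rfl fun x _ => ?_
    by_cases hx : p ∣ orderOf x
    · simp [regPart_of_dvd hx, hx]
    · simp [regPart_of_not_dvd hx, hx, f, conj_irr]
  rw [h2, mul_left_comm, hcard, ← h1, classInner_irr, if_pos rfl]

/-- A block with central defect group has rank one. -/
theorem rank_one_of_central (hM : IsPModular p M) (hB : IsPBlock M B) {P : Subgroup G}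
    (hD : IsDefectGroup p M B P) (hPZ : P ≤ Subgroup.center G) :
    blockRank p B = 1 := by
  classical
  letI := irrFintype (G := G)
  haveI : Fintype B := Fintype.ofFinite B
  obtain ⟨ξ, hξ, h0⟩ := exists_height_zero hM hB
  set q := (p : ℤ) ^ blockDefect p B
  have hq : 0 < q := pow_pos (Int.natCast_pos.2 hM.1.pos) _
  have hk : (Fintype.card B : ℤ) = q * (blockRank p B : ℤ) := by
    rw [← sum_redInt_diag hM hB, sum_congr rfl fun χ _ => redInt_self_of_central hM hB hD hPZ χ,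
      sum_const, card_univ, nsmul_eq_mul, mul_one]
  have hle : (Fintype.card B : ℤ) ≤ q := by
    have h := redInt_sum_sq hM hB hξ
    rw [redInt_self_of_central hM hB hD hPZ ⟨ξ, hξ⟩, mul_one] at h
    show _ ≤ (p : ℤ) ^ blockDefect p B
    rw [← h, Fintype.card_subtype, card_eq_sum_ones, Nat.cast_sum]
    refine sum_le_sum fun ψ hψ => ?_
    have hne := redInt_ne_zero hM hB hξ (mem_filter.1 hψ).2 h0
    have : 0 < redInt p B ξ ψ ^ 2 := by positivity
    push_cast
    omega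
  have hlpos : (0 : ℤ) < (blockRank p B : ℤ) := by
    have : (0 : ℤ) < (Fintype.card B : ℤ) := Nat.cast_pos.2 (Fintype.card_pos_iff.2 ⟨⟨ξ, hξ⟩⟩)
    rw [hk] at this
    exact pos_of_mul_pos_right this hq.le
  rw [hk] at hle
  have : (blockRank p B : ℤ) ≤ 1 := by nlinarith
  omega

end CfsgLib.BlockB
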