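import Cfsg.Agent.BlocksB.MajorSubsection
import Cfsg.Agent.Char.Induction

/-!
# The exact valuation of the contributions of a major subsection

For a major subsection the scaled contribution of `χ` and `ψ`, with `ψ` of height zero, has the
valuation of `p` to the height of `χ`; with `ψ` of positive height it has a larger one.
-/

namespace CfsgLib.BlockB

open Finset Cfsg CfsgLib.Block CfsgLib.Block.Chr CfsgLib.Char
open scoped ComplexConjugate

set_option linter.unusedSectionVars false
set_option linter.style.haveILetI false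

universe u

variable {G : Type u} [Group G] [Fintype G] {M : Ideal AlgInt} [M.IsPrime] {p : ℕ} [Fact p.Prime]
  {H : Subgroup G} [Fintype H] {y : G} {b : Set (IrrCharacter H)} {B : Set (IrrCharacter G)}

/-- An induced class function is the sum of its translates over the cosets. -/
theorem indFun_eq_sum_cosets (θ : H → ℂ) (hθ : IsClassFunction H θ) [Fintype (G ⧸ H)] (g : G) :
    indFun H θ g = ∑ q : G ⧸ H, extendByZero H θ (q.out⁻¹ * g * q.out) := by
  classical
  have hinv : ∀ (h : H) (z : G),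
      extendByZero H θ ((h : G)⁻¹ * z * h) = extendByZero H θ z := by
    intro h z
    by_cases hz : z ∈ H
    · have hm : (h : G)⁻¹ * z * h ∈ H := H.mul_mem (H.mul_mem (H.inv_mem h.2) hz) h.2
      rw [extendByZero_of_mem θ hm, extendByZero_of_mem θ hz]
      have := hθ ⟨z, hz⟩ h⁻¹
      rw [← this]
      congr 1
      ext
      simp
    · rw [extendByZero_of_not_mem θ hz, extendByZero_of_not_mem θ fun hm => hz ?_]
      simpa [mul_assoc] using H.mul_mem (H.mul_mem h.2 hm) (H.inv_mem h.2)
  rw [indFun_def, ← Finset.sum_fiberwise univ (fun x : G => (x : G ⧸ H)), mul_sum]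
  refine sum_congr rfl fun q _ => ?_
  have e : ∑ x ∈ univ.filter (fun x : G => (x : G ⧸ H) = q), extendByZero H θ (x⁻¹ * g * x) =
      ∑ h : H, extendByZero H θ ((q.out * h)⁻¹ * g * (q.out * h)) := by
    refine (sum_bij (fun (h : H) _ => q.out * (h : G)) (fun h _ => ?_) (fun h _ h' _ he => ?_)
      (fun x hx => ?_) (fun h _ => rfl)).symm
    · refine mem_filter.2 ⟨mem_univ _, ?_⟩
      rw [QuotientGroup.mk_mul_of_mem _ h.2, QuotientGroup.out_eq']
    · exact Subtype.ext (mul_left_cancel he)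
    · have h1 := (mem_filter.1 hx).2
      rw [← QuotientGroup.out_eq' q, eq_comm, QuotientGroup.eq] at h1
      exact ⟨⟨_, h1⟩, mem_univ _, by simp⟩
  rw [e, sum_congr rfl fun h _ => by
    rw [show (q.out * (h : G))⁻¹ * g * (q.out * h) =
      (h : G)⁻¹ * (q.out⁻¹ * g * q.out) * h by group, hinv],
    sum_const, card_univ, nsmul_eq_mul, Nat.card_eq_fintype_card,
    inv_mul_cancel_left₀ (Nat.cast_ne_zero.2 Fintype.card_ne_zero)]

/-- The block parts of sections take algebraic integers as values. -/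
theorem isIntegral_subPart (hM : IsPModular p M) (hH : H = Subgroup.centralizer ({y} : Set G))
    {k : ℕ} (hy : orderOf y = p ^ k) (hb : IsPBlock M b) (χ : IrrCharacter G) (s : H) :
    IsIntegral ℤ (subPart p b y χ s) := by
  classical
  letI := irrFintype (G := H)
  rw [subPart_eq_regPart hM hb]
  by_cases hs : p ∣ orderOf s
  · rw [regPart_of_dvd hs]; exact isIntegral_zero
  rw [regPart_of_not_dvd hs, blockPart_eq_sum_inner]
  refine IsIntegral.sum _ fun ξ _ => ?_
  obtain ⟨lam, n, hlam, -, -, hn⟩ := exists_section_coeff hM hH hy χ ξ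
  rw [hn]
  refine IsIntegral.mul ((isIntegral_of_pow_eq_one (pow_pos hM.1.pos k) hlam).mul
    (isIntegral_natCast_complex n)) ?_
  exact IsCharacter.isIntegral (isCharacter_irr ξ) s

theorem isClassFunction_subPart (hH : H = Subgroup.centralizer ({y} : Set G)) (χ : IrrCharacter G) :
    IsClassFunction H (subPart p b y χ) := by
  classical
  letI := irrFintype (G := H)
  intro g x
  rw [subPart, blockPart_eq_sum_inner, blockPart_eq_sum_inner]
  exact sum_congr rfl fun ξ _ => by rw [isClassFunction_irr ξ g x]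

/-- The contribution as an inner product with the whole section. -/
theorem contrib_eq_classInner (hM : IsPModular p M) (hb : IsPBlock M b) (χ ψ : IrrCharacter G) :
    contrib p b y χ ψ = classInner (secFun H y χ) (subPart p b y ψ) := by
  classical
  letI := irrFintype (G := H)
  have h1 : ∀ θ : H → ℂ, classInner θ (subPart p b y ψ) = ∑ ξ ∈ univ.filter (· ∈ b),
      conj (classInner (regPart p (secFun H y ψ)) (ξ : H → ℂ)) * classInner θ (ξ : H → ℂ) := by
    intro θ
    have hexp : subPart p b y ψ = ∑ ξ ∈ univ.filter (· ∈ b),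
        classInner (regPart p (secFun H y ψ)) (ξ : H → ℂ) • (ξ : H → ℂ) := by
      funext s
      rw [Finset.sum_apply, subPart, blockPart_eq_sum_inner]
      rfl
    rw [hexp, classInner_sum_right]
    exact sum_congr rfl fun ξ _ => classInner_smul_right _ _ _
  have h2 : classInner (secFun H y χ) (subPart p b y ψ) =
      classInner (blockPart b (secFun H y χ)) (subPart p b y ψ) := by
    rw [h1, h1]
    refine sum_congr rfl fun ξ hξ => ?_
    rw [classInner_blockPart, if_pos (mem_filter.1 hξ).2]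
  rw [h2, contrib, subPart_eq_regPart hM hb χ]
  simp only [CfsgLib.Char.classInner_def]
  congr 1
  refine sum_congr rfl fun s _ => ?_
  by_cases hs : p ∣ orderOf s
  · rw [subPart_eq_zero_of_dvd hM hb ψ hs]; simp
  · rw [regPart_of_not_dvd hs]

/-- The function whose central characters are the contributions against `ψ`. -/
noncomputable def contribFun (p : ℕ) (b : Set (IrrCharacter H)) (y : G) (ψ : IrrCharacter G)
    (hy : y ∈ H) : G → ℂ :=
  fun g => conj (indFun H (fun c => subPart p b y ψ (⟨y, hy⟩⁻¹ * c)) g)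

theorem isClassFunction_shift (hH : H = Subgroup.centralizer ({y} : Set G)) (ψ : IrrCharacter G)
    (hy : y ∈ H) : IsClassFunction H (fun c => subPart p b y ψ (⟨y, hy⟩⁻¹ * c)) := by
  intro c v
  show subPart p b y ψ (⟨y, hy⟩⁻¹ * (v * c * v⁻¹)) = _
  rw [show ⟨y, hy⟩⁻¹ * (v * c * v⁻¹) = v * (⟨y, hy⟩⁻¹ * c) * v⁻¹ by
    have hc : Commute (v : G) y := (mem_H_iff hH).1 v.2
    have hc' : Commute v (⟨y, hy⟩ : H) := Subtype.ext hc.eq
    rw [← mul_assoc, ← mul_assoc, ← hc'.inv_right.eq, mul_assoc v]]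
  exact isClassFunction_subPart hH ψ _ v

theorem isIntClass_contribFun (hM : IsPModular p M) (hH : H = Subgroup.centralizer ({y} : Set G))
    {k : ℕ} (hy : orderOf y = p ^ k) (hb : IsPBlock M b) (ψ : IrrCharacter G) (hyH : y ∈ H) :
    IsIntClass M (contribFun p b y ψ hyH) := by
  classical
  haveI : Fintype (G ⧸ H) := Fintype.ofFinite _
  refine ⟨fun g x => ?_, fun g => ?_⟩
  · simp only [contribFun]
    rw [isClassFunction_indFun H _ g x]
  · rw [contribFun, indFun_eq_sum_cosets _ (isClassFunction_shift hH ψ hyH), map_sum]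
    refine memLocalRing_sum fun q _ => memLocalRing_of_isIntegral ?_
    by_cases hm : q.out⁻¹ * g * q.out ∈ H
    · rw [extendByZero_of_mem _ hm]
      exact (isIntegral_subPart hM hH hy hb ψ _).map (RingHom.toIntAlgHom (starRingEnd ℂ))
    · rw [extendByZero_of_not_mem _ hm, map_zero]
      exact isIntegral_zero

theorem omega_contribFun (hM : IsPModular p M) (hH : H = Subgroup.centralizer ({y} : Set G))
    (hb : IsPBlock M b) (χ ψ : IrrCharacter G) (hyH : y ∈ H) :
    omega (χ : G → ℂ) (contribFun p b y ψ hyH) =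
      (Nat.card G : ℂ) * contrib p b y χ ψ / (χ : G → ℂ) 1 := by
  have h := classInner_indFun_right (H := H) (isClassFunction_irr χ)
    (fun c => subPart p b y ψ (⟨y, hyH⟩⁻¹ * c))
  have hs : classInner (fun c : H => (χ : G → ℂ) c)
      (fun c => subPart p b y ψ (⟨y, hyH⟩⁻¹ * c)) = contrib p b y χ ψ := by
    rw [contrib_eq_classInner hM hb, CfsgLib.Char.classInner_def, CfsgLib.Char.classInner_def]
    congr 1
    refine (Fintype.sum_equiv (Equiv.mulLeft (⟨y, hyH⟩ : H)) _ _ fun s => ?_).symm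
    simp [secFun]
  rw [hs, CfsgLib.Char.classInner_def, inv_mul_eq_iff_eq_mul₀
    (Nat.cast_ne_zero.2 Nat.card_pos.ne')] at h
  rw [omega, ← h]
  congr 1
  exact sum_congr rfl fun g _ => mul_comm _ _

/-- The scaled contributions are symmetric modulo `M`. -/
theorem scaled_contrib_symm (hM : IsPModular p M) (hH : H = Subgroup.centralizer ({y} : Set G))
    {k : ℕ} (hy : orderOf y = p ^ k) (hind : IsInducedBlock M H b B)
    (hbd : blockDefect p b = blockDefect p B) (χ ψ : IrrCharacter G) :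
    MemLocalIdeal M ((p : ℂ) ^ blockDefect p B * contrib p b y χ ψ -
      (p : ℂ) ^ blockDefect p B * contrib p b y ψ χ) := by
  classical
  letI := irrFintype (G := H)
  haveI : Fintype b := Fintype.ofFinite b
  choose L N hL hL1 hN hLN using fun φ (ξ : b) => exists_section_coeff hM hH hy φ ξ.1
  have hpk : 0 < p ^ k := pow_pos hM.1.pos k
  have key : ∀ φ φ', MemLocalIdeal M ((p : ℂ) ^ blockDefect p B * contrib p b y φ φ' -
      ∑ ξ : b, ∑ ξ' : b, (N φ ξ : ℂ) * (N φ' ξ' : ℂ) * (redInt p b ξ.1 ξ'.1 : ℂ)) := by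
    intro φ φ'
    rw [contrib_eq_sum hM hind.1, mul_sum, ← sum_sub_distrib]
    refine memLocalIdeal_sum fun ξ _ => ?_
    rw [mul_sum, ← sum_sub_distrib]
    refine memLocalIdeal_sum fun ξ' _ => ?_
    have hc : conj (L φ' ξ') = (L φ' ξ')⁻¹ :=
      (Complex.inv_eq_conj (Complex.norm_eq_one_of_pow_eq_one (hL φ' ξ') hpk.ne')).symm
    have hLint : MemLocalRing M (L φ' ξ')⁻¹ := by
      refine memLocalRing_of_isIntegral (isIntegral_of_pow_eq_one hpk ?_)
      rw [inv_pow, hL, inv_one]
    have hLne : L φ' ξ' ≠ 0 := fun h => by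
      have := hL φ' ξ'
      rw [h, zero_pow hpk.ne'] at this
      exact zero_ne_one this
    have h1 : MemLocalIdeal M ((L φ' ξ')⁻¹ * (L φ ξ - L φ' ξ')) :=
      memLocalIdeal_mul_left hLint (by simpa using memLocalIdeal_sub (hL1 φ ξ) (hL1 φ' ξ'))
    have h2 := memLocalIdeal_mul_right h1 (memLocalRing_mul
      (memLocalRing_mul (natCast_mem_localRing (M := M) (N φ ξ)) (natCast_mem_localRing (N φ' ξ')))
      (intCast_mem (localRing M) (redInt p b ξ.1 ξ'.1)))
    convert h2 using 1
    rw [hLN, hLN, map_mul, hc, map_natCast, redInt_eq_regMat hM hind.1, hbd]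
    field_simp
  have hsymm : ∑ ξ : b, ∑ ξ' : b, (N χ ξ : ℂ) * (N ψ ξ' : ℂ) * (redInt p b ξ.1 ξ'.1 : ℂ) =
      ∑ ξ : b, ∑ ξ' : b, (N ψ ξ : ℂ) * (N χ ξ' : ℂ) * (redInt p b ξ.1 ξ'.1 : ℂ) := by
    rw [sum_comm]
    exact sum_congr rfl fun ξ _ => sum_congr rfl fun ξ' _ => by rw [redInt_comm]; ring
  refine memLocalIdeal_sub_trans (key χ ψ) (memLocalIdeal_sub_comm ?_)
  rw [hsymm]
  exact key ψ χ

/-- The scaled contribution divided by `p` to the height of its first character. -/
theorem scaled_contrib_height (hM : IsPModular p M) (hH : H = Subgroup.centralizer ({y} : Set G))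
    {k : ℕ} (hy : orderOf y = p ^ k) (hind : IsInducedBlock M H b B)
    (hbd : blockDefect p b = blockDefect p B) {χ ψ : IrrCharacter G} (hχ : χ ∈ B) (hψ : ψ ∈ B) :
    MemLocalRing M ((p : ℂ) ^ blockDefect p B * contrib p b y χ ψ /
        (p : ℂ) ^ blockHeight p B (χ : G → ℂ)) ∧
      (MemLocalIdeal M ((p : ℂ) ^ blockDefect p B * contrib p b y χ ψ /
          (p : ℂ) ^ blockHeight p B (χ : G → ℂ)) ↔ blockHeight p B (ψ : G → ℂ) ≠ 0) := by
  classical
  set a := (Nat.card G).factorization p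
  set d := blockDefect p B
  have hd : d ≤ a := blockDefect_le B
  have hyH : y ∈ H := by rw [mem_H_iff hH]
  have hp0 : (p : ℂ) ≠ 0 := Nat.cast_ne_zero.2 hM.1.ne_zero
  set w := ((Nat.card G / p ^ a : ℕ) : ℂ)
  obtain ⟨hw, hw'⟩ := unit_ordCompl (G := G) hM
  set e : IrrCharacter G → ℕ := fun φ =>
    charDegree (φ : G → ℂ) / p ^ (charDegree (φ : G → ℂ)).factorization p
  have he : ∀ φ, ¬ p ∣ e φ := fun φ => Nat.not_dvd_ordCompl hM.1 (irr_one φ).2.ne'
  set R : IrrCharacter G → ℂ := fun φ =>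
    (p : ℂ) ^ d * contrib p b y φ ψ / (p : ℂ) ^ blockHeight p B (φ : G → ℂ)
  have hom : ∀ φ ∈ B, omega (φ : G → ℂ) (contribFun p b y ψ hyH) = w * (e φ : ℂ)⁻¹ * R φ := by
    intro φ hφ
    have he0 : (e φ : ℂ) ≠ 0 := Nat.cast_ne_zero.2 fun h => he φ (h ▸ dvd_zero p)
    have hdeg : charDegree (φ : G → ℂ) = p ^ (a - d + blockHeight p B (φ : G → ℂ)) * e φ := by
      rw [← factorization_degree hM hind.2.1 hφ]
      exact (Nat.ordProj_mul_ordCompl_eq_self _ _).symm
    have hG : (Nat.card G : ℂ) = (p : ℂ) ^ (a - d) * (p : ℂ) ^ d * w := by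
      rw [← pow_add, Nat.sub_add_cancel hd, ← Nat.cast_pow, ← Nat.cast_mul,
        Nat.ordProj_mul_ordCompl_eq_self]
    rw [omega_contribFun hM hH hind.1, (irr_one φ).1, hdeg, hG]
    simp only [R, Nat.cast_mul, Nat.cast_pow, pow_add]
    field_simp
  have hai := isIntClass_contribFun hM hH hy hind.1 ψ hyH
  have hwinv : MemLocalRing M w⁻¹ := hw
  have hw0 : w ≠ 0 := ne_zero_of_not_memLocalIdeal hw'
  have hback : ∀ φ ∈ B, R φ = w⁻¹ * (e φ : ℂ) * omega (φ : G → ℂ) (contribFun p b y ψ hyH) := by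
    intro φ hφ
    have he0 : (e φ : ℂ) ≠ 0 := Nat.cast_ne_zero.2 fun h => he φ (h ▸ dvd_zero p)
    rw [hom φ hφ]
    field_simp
  have hR : ∀ φ ∈ B, MemLocalRing M (R φ) := fun φ hφ => by
    rw [hback φ hφ]
    exact memLocalRing_mul (memLocalRing_mul hwinv (natCast_mem_localRing _)) (omega_mem φ hai)
  have hiff : ∀ φ ∈ B, MemLocalIdeal M (R φ) ↔
      MemLocalIdeal M (omega (φ : G → ℂ) (contribFun p b y ψ hyH)) := by
    intro φ hφ
    constructor
    · intro h
      rw [hom φ hφ]
      exact memLocalIdeal_mul_left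
        (memLocalRing_mul (natCast_mem_localRing _) (memLocalRing_natCast_inv hM (he φ))) h
    · intro h
      rw [hback φ hφ]
      exact memLocalIdeal_mul_left (memLocalRing_mul hwinv (natCast_mem_localRing _)) h
  refine ⟨hR χ hχ, ?_⟩
  obtain ⟨φ, hφ, hφ0⟩ := exists_height_zero hM hind.2.1
  have hcong := omega_cong (sameBlock_of_mem hind.2.1 hχ hφ) hai
  show MemLocalIdeal M (R χ) ↔ _
  rw [hiff χ hχ, memLocalIdeal_iff_of_cong hcong, ← hiff φ hφ]
  have hRφ : R φ = (p : ℂ) ^ d * contrib p b y φ ψ := by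
    simp only [R, hφ0, pow_zero, div_one]
  rw [hRφ]
  constructor
  · intro h hψ0
    exact (scaled_contrib_props hM hH hy hind hbd φ ψ).2.2 hφ hψ hφ0 hψ0 h
  · intro hψ0
    have hsymm := scaled_contrib_symm hM hH hy hind hbd φ ψ
    rw [memLocalIdeal_iff_of_cong hsymm]
    -- exchange the characters and use the integrality at the positive height
    have hai' := isIntClass_contribFun hM hH hy hind.1 φ hyH
    have hdeg : charDegree (ψ : G → ℂ) = p ^ (a - d + blockHeight p B (ψ : G → ℂ)) * e ψ := by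
      rw [← factorization_degree hM hind.2.1 hψ]
      exact (Nat.ordProj_mul_ordCompl_eq_self _ _).symm
    have he0 : (e ψ : ℂ) ≠ 0 := Nat.cast_ne_zero.2 fun h => he ψ (h ▸ dvd_zero p)
    have hG : (Nat.card G : ℂ) = (p : ℂ) ^ (a - d) * (p : ℂ) ^ d * w := by
      rw [← pow_add, Nat.sub_add_cancel hd, ← Nat.cast_pow, ← Nat.cast_mul,
        Nat.ordProj_mul_ordCompl_eq_self]
    have heq : (p : ℂ) ^ d * contrib p b y ψ φ = (p : ℂ) ^ blockHeight p B (ψ : G → ℂ) *
        (w⁻¹ * (e ψ : ℂ) * omega (ψ : G → ℂ) (contribFun p b y φ hyH)) := by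
      rw [omega_contribFun hM hH hind.1, (irr_one ψ).1, hdeg, hG]
      simp only [Nat.cast_mul, Nat.cast_pow, pow_add]
      field_simp
    rw [heq]
    obtain ⟨j, hj⟩ := Nat.exists_eq_succ_of_ne_zero hψ0
    rw [hj, pow_succ', mul_assoc]
    exact memLocalIdeal_mul_right (memLocalIdeal_p hM) (memLocalRing_mul
      (memLocalRing_of_isIntegral (by exact_mod_cast isIntegral_natCast_complex (p ^ j)))
      (memLocalRing_mul (memLocalRing_mul hwinv (natCast_mem_localRing _)) (omega_mem ψ hai')))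

/-- Contributions against a character of height zero do not vanish. -/
theorem contrib_ne_zero (hM : IsPModular p M) (hH : H = Subgroup.centralizer ({y} : Set G))
    {k : ℕ} (hy : orderOf y = p ^ k) (hind : IsInducedBlock M H b B)
    (hbd : blockDefect p b = blockDefect p B) {χ ψ : IrrCharacter G} (hχ : χ ∈ B) (hψ : ψ ∈ B)
    (h0 : blockHeight p B (ψ : G → ℂ) = 0) : contrib p b y χ ψ ≠ 0 := fun h =>
  (scaled_contrib_height hM hH hy hind hbd hχ hψ).2.1 (by
    rw [h, mul_zero, zero_div]; exact memLocalIdeal_zero) h0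

end CfsgLib.BlockB
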