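import Cfsg.Agent.BlocksB.PrincipalNorm
import Cfsg.Agent.Blocks.BlockSize
import Cfsg.Agent.Char.PowTwist

/-!
# The fixed odd-degree characters of the principal `2`-block are even in number
-/

set_option autoImplicit false
set_option linter.style.haveILetI false
set_option linter.unusedSectionVars false

namespace CfsgLib.GaloisParity

open Cfsg Finset CfsgLib.Block CfsgLib.Block.Chr CfsgLib.Char
open scoped Classical

universe u

variable {M : Ideal AlgInt} [M.IsPrime] {p : ℕ} [Fact p.Prime] {G : Type u} [Group G] [Fintype G]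

/-- Congruences of the exponent give congruences modulo the order of every element. -/
theorem coprime_card {k c : ℕ} (hc : ¬ p ∣ c)
    (hk₁ : ∀ g : G, (∃ j : ℕ, orderOf g = p ^ j) → g ^ k = g ^ c)
    (hk₂ : ∀ g : G, Nat.Coprime (orderOf g) p → g ^ k = g) : k.Coprime (Nat.card G) := by
  have hp : p.Prime := Fact.out
  refine Nat.coprime_of_dvd fun q hq hqk hqG => ?_
  haveI : Fact q.Prime := ⟨hq⟩
  obtain ⟨g, hg⟩ := exists_prime_orderOf_dvd_card' q hqG
  have h1 : g ^ k = 1 := orderOf_dvd_iff_pow_eq_one.1 (hg ▸ hqk)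
  rcases eq_or_ne q p with rfl | hne
  · have h2 : g ^ c = 1 := (hk₁ g ⟨1, by rw [hg, pow_one]⟩).symm.trans h1
    exact hc (hg ▸ orderOf_dvd_iff_pow_eq_one.2 h2)
  · have h2 : g = 1 := (hk₂ g (hg.symm ▸ (Nat.coprime_primes hq hp).2 hne)).symm.trans h1
    rw [h2, orderOf_one] at hg
    exact hq.one_lt.ne hg

/-- The iterate of the power map by a power of `p` is trivial. -/
theorem pow_iterate {k c a : ℕ} (hc : ∀ i ≤ (Nat.card G).factorization p,
      c ^ p ^ a ≡ 1 [MOD p ^ i])
    (hk₁ : ∀ g : G, (∃ j : ℕ, orderOf g = p ^ j) → g ^ k = g ^ c)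
    (hk₂ : ∀ g : G, Nat.Coprime (orderOf g) p → g ^ k = g) (g : G) : g ^ k ^ p ^ a = g := by
  have hp : p.Prime := Fact.out
  set i := (orderOf g).factorization p
  set m := orderOf g / p ^ i
  have hn : p ^ i * m = orderOf g := Nat.ordProj_mul_ordCompl_eq_self (orderOf g) p
  have hg0 : orderOf g ≠ 0 := (orderOf_pos g).ne'
  have hm : (p ^ i).Coprime m :=
    (Nat.coprime_ordCompl hp hg0).pow_left i
  have hm0 : m ≠ 0 := fun h => hg0 (by rw [← hn, h, mul_zero])
  have h1 : orderOf (g ^ m) = p ^ i := by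
    rw [orderOf_pow' g hm0, Nat.gcd_eq_right ⟨_, (mul_comm _ _).trans hn |>.symm⟩, ← hn,
      Nat.mul_div_cancel _ (Nat.pos_of_ne_zero hm0)]
  have h2 : orderOf (g ^ p ^ i) = m := by
    rw [orderOf_pow' g (pow_ne_zero _ hp.ne_zero), Nat.gcd_eq_right ⟨_, hn.symm⟩, ← hn,
      Nat.mul_div_cancel_left _ (pow_pos hp.pos _)]
  have e1 : k ≡ c [MOD p ^ i] := h1 ▸ pow_eq_pow_iff_modEq.1 (hk₁ (g ^ m) ⟨i, h1⟩)
  have e2 : k ≡ 1 [MOD m] := by
    have := hk₂ (g ^ p ^ i) (h2.symm ▸ (Nat.coprime_ordCompl hp hg0).symm)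
    rw [← h2]
    exact pow_eq_pow_iff_modEq.1 (by rw [pow_one]; exact this)
  have hi : i ≤ (Nat.card G).factorization p :=
    (Nat.factorization_le_iff_dvd hg0 Nat.card_pos.ne').2 (orderOf_dvd_natCard g) p
  have e3 : k ^ p ^ a ≡ 1 [MOD p ^ i] := (e1.pow _).trans (hc i hi)
  have e4 : k ^ p ^ a ≡ 1 [MOD m] := by simpa using e2.pow (p ^ a)
  have e5 : k ^ p ^ a ≡ 1 [MOD orderOf g] :=
    hn ▸ (Nat.modEq_and_modEq_iff_modEq_mul hm).1 ⟨e3, e4⟩
  calc g ^ k ^ p ^ a = g ^ 1 := pow_eq_pow_iff_modEq.2 e5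
    _ = g := pow_one g

/-- The power map on irreducible characters. -/
noncomputable def twist {k : ℕ} (hk : k.Coprime (Nat.card G)) : IrrCharacter G → IrrCharacter G :=
  fun χ => ⟨fun g => (χ : G → ℂ) (g ^ k), PowTwist.isIrrCharacter_pow hk χ.2⟩

theorem twist_apply {k : ℕ} (hk : k.Coprime (Nat.card G)) (χ : IrrCharacter G) (g : G) :
    (twist hk χ : G → ℂ) g = (χ : G → ℂ) (g ^ k) := rfl

theorem twist_mem_principal (hM : IsPModular p M) {k : ℕ} (hk : k.Coprime (Nat.card G))
    (χ : IrrCharacter G) : twist hk χ ∈ principalBlock M G ↔ χ ∈ principalBlock M G := by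
  obtain ⟨s, hs⟩ := exists_ringEquiv_pow (Nat.card_pos (α := G)) hk
  have h : ∀ g : G, (χ : G → ℂ) (g ^ k) = s ((χ : G → ℂ) g) := fun g =>
    (IsCharacter.map_ringEquiv_eq_pow (isCharacter_irr χ) s fun z hz => hs z (by
      obtain ⟨c, hc⟩ := orderOf_dvd_natCard g
      rw [hc, pow_mul, hz, one_pow])).symm
  rw [PrincipalNorm.mem_principal_iff hM, PrincipalNorm.mem_principal_iff hM, PrincipalNorm.regSum,
    PrincipalNorm.regSum, sum_congr rfl fun g _ => (twist_apply hk χ g).trans (h g), ← map_sum,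
    ne_eq, EmbeddingLike.map_eq_zero_iff]

theorem twist_deg {k : ℕ} (hk : k.Coprime (Nat.card G)) (χ : IrrCharacter G) :
    charDegree (twist hk χ : G → ℂ) = charDegree (χ : G → ℂ) := by
  have h := (irr_one (twist hk χ)).1
  rw [twist_apply, one_pow, (irr_one χ).1] at h
  exact (Nat.cast_injective h).symm

theorem even_fixed {G : Type u} [Group G] [Finite G] {M : Ideal AlgInt} (hM : IsPModular 2 M)
    (hev : Even (Nat.card G)) (k : ℕ)
    (hk₁ : ∀ g : G, (∃ j : ℕ, orderOf g = 2 ^ j) → g ^ k = g ^ 3)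
    (hk₂ : ∀ g : G, Odd (orderOf g) → g ^ k = g) :
    Even (Nat.card {χ : IrrCharacter G // χ ∈ principalBlock M G ∧
      Odd (charDegree (χ : G → ℂ)) ∧ ∀ g : G, (χ : G → ℂ) (g ^ k) = (χ : G → ℂ) g}) := by
  haveI := hM.2.1.isPrime
  haveI := Fact.mk Nat.prime_two
  letI := Fintype.ofFinite G
  letI := irrFintype (G := G)
  have hk₂' : ∀ g : G, Nat.Coprime (orderOf g) 2 → g ^ k = g := fun g hg =>
    hk₂ g (Nat.coprime_two_right.1 hg)
  have hk := coprime_card (by decide) hk₁ hk₂'
  set a := (Nat.card G).factorization 2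
  have hfix := pow_iterate (a := a) (fun i hi => ?_) hk₁ hk₂'
  swap
  · rcases Nat.eq_zero_or_pos i with rfl | hi0
    · exact Nat.modEq_one
    have h3 := Nat.ModEq.pow_totient (x := 3) (n := 2 ^ i)
      ((Nat.Coprime.pow_right i (by decide)))
    obtain ⟨r, hr⟩ := Nat.totient_prime_pow Nat.prime_two hi0 ▸
      (show 2 ^ (i - 1) * (2 - 1) ∣ 2 ^ a from by
        simpa using pow_dvd_pow 2 (show i - 1 ≤ a by omega))
    rw [hr, pow_mul]
    simpa using h3.pow r
  set A := univ.filter fun χ : IrrCharacter G =>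
    χ ∈ principalBlock M G ∧ Odd (charDegree (χ : G → ℂ))
  have hinj : Function.Injective (twist (G := G) hk) := fun χ ψ h => by
    refine Subtype.ext (funext fun g => ?_)
    have := congrFun (congrArg Subtype.val h) ((powCoprime (G := G) hk.symm).symm g)
    have h' : ((powCoprime (G := G) hk.symm).symm g) ^ k = g :=
      (powCoprime (G := G) hk.symm).apply_symm_apply g
    rwa [twist_apply, twist_apply, h'] at this
  set π : Equiv.Perm A := Equiv.Perm.subtypePerm (Equiv.ofBijective (twist hk)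
    (Finite.injective_iff_bijective.1 hinj)) fun χ => by
      simp only [A, mem_filter, mem_univ, true_and, Equiv.ofBijective_apply,
        twist_mem_principal hM hk, twist_deg hk]
  have hπ : π ^ (2 ^ a) = 1 := by
    refine Equiv.ext fun χ => Subtype.ext (Subtype.ext (funext fun g => ?_))
    have : ∀ (j : ℕ) (χ : A) (g : G), (((π ^ j) χ).1 : G → ℂ) g = (χ.1 : G → ℂ) (g ^ k ^ j) := by
      intro j
      induction j with
      | zero => intro χ g; simp
      | succ j ih =>
        intro χ g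
        rw [pow_succ, Equiv.Perm.mul_apply, ih]
        show (χ.1 : G → ℂ) ((g ^ k ^ j) ^ k) = _
        rw [← pow_mul, ← pow_succ]
    rw [this, hfix]
    simp
  have hsum := PowTwist.sum_eq_sum_fixed_perm (p := 2) π a hπ (fun _ => (1 : ZMod 2)) fun _ => rfl
  simp only [sum_const, nsmul_one, card_univ, Fintype.card_coe] at hsum
  have hA : (A.card : ZMod 2) = 0 := by
    have hn : (∑ᶠ χ ∈ principalBlock M G, charDegree (χ : G → ℂ) ^ 2).factorization 2 = a := by
      rw [sum_degree_sq_factorization hM isPBlock_principalBlock]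
      have hd : blockDefect 2 (principalBlock M G) = a := by
        rw [blockDefect]
        have : sInf ((fun χ : IrrCharacter G => (charDegree (χ : G → ℂ)).factorization 2) ''
            principalBlock M G) = 0 := by
          refine Nat.eq_zero_of_le_zero (Nat.sInf_le ⟨oneIrr G, oneIrr_mem_principalBlock, ?_⟩)
          have h1 := (irr_one (oneIrr G)).1
          rw [oneIrr_apply] at h1
          simp [show charDegree (oneIrr G : G → ℂ) = 1 by exact_mod_cast h1.symm]
        omega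
      omega
    have ha : a ≠ 0 := (Nat.prime_two.factorization_pos_of_dvd Nat.card_pos.ne'
      (even_iff_two_dvd.1 hev)).ne'
    have h2 : (2 : ℕ) ∣ ∑ᶠ χ ∈ principalBlock M G, charDegree (χ : G → ℂ) ^ 2 :=
      Nat.dvd_of_factorization_pos (hn ▸ ha)
    rw [finsum_set_eq, ← CharP.cast_eq_zero_iff (ZMod 2) 2, Nat.cast_sum] at h2
    rw [← h2]
    simp only [A, ← filter_filter]
    rw [card_filter, Nat.cast_sum]
    refine sum_congr rfl fun χ _ => ?_
    rcases Nat.even_or_odd (charDegree (χ : G → ℂ)) with h | h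
    · rw [if_neg (Nat.not_odd_iff_even.2 h), Nat.cast_pow,
        (ZMod.natCast_eq_zero_iff_even).2 h]
      simp
    · rw [if_pos h, Nat.cast_pow, (ZMod.natCast_eq_one_iff_odd).2 h]
      simp
  rw [hA, eq_comm, CharP.cast_eq_zero_iff (ZMod 2) 2] at hsum
  refine even_iff_two_dvd.2 (Eq.subst ?_ hsum)
  rw [Nat.card_eq_fintype_card, ← Fintype.card_subtype]
  refine Fintype.card_congr
    { toFun := fun x => ⟨x.1.1, (mem_filter.1 x.1.2).2.1, (mem_filter.1 x.1.2).2.2, fun g =>
        congrFun (congrArg (fun y : A => (y.1 : G → ℂ)) x.2) g⟩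
      invFun := fun χ => ⟨⟨χ.1, mem_filter.2 ⟨mem_univ _, χ.2.1, χ.2.2.1⟩⟩,
        Subtype.ext (Subtype.ext (funext χ.2.2.2))⟩
      left_inv := fun x => rfl
      right_inv := fun x => rfl }

end CfsgLib.GaloisParity
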