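import Cfsg.Agent.BlocksB.RegRank
import Cfsg.Agent.Blocks.Principal
import Cfsg.Agent.Char.Inflation

/-!
# The rank of the principal block modulo a centralised `p`-subgroup
-/

namespace CfsgLib.BlockB

open Cfsg Finset CfsgLib.Block CfsgLib.Block.Chr CfsgLib.Char

set_option linter.unusedSectionVars false
set_option linter.style.haveILetI false

universe u

variable {G : Type u} [Group G] [Fintype G] {M : Ideal AlgInt} [M.IsPrime] {p : ℕ}
  [hp : Fact p.Prime] {Q : Subgroup G} [Q.Normal]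

theorem mem_centralizer_of_regular (hQ : IsPGroup p Q)
    (hsup : Q ⊔ Subgroup.centralizer (Q : Set G) = ⊤) {g : G} (hg : ¬ p ∣ orderOf g) :
    g ∈ Subgroup.centralizer (Q : Set G) := by
  obtain ⟨q, hq, c, hc, rfl⟩ :=
    Subgroup.mem_sup_of_normal_left.1 (hsup ▸ Subgroup.mem_top g : g ∈ Q ⊔ _)
  obtain ⟨n, hn⟩ := IsPGroup.iff_orderOf.1 hQ ⟨q, hq⟩
  rw [Subgroup.orderOf_mk] at hn
  have hcomm : Commute q c := Subgroup.mem_centralizer_iff.1 hc q hq
  have hpow : (q * c) ^ (p ^ n) ∈ Subgroup.centralizer (Q : Set G) := by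
    rw [hcomm.mul_pow, ← hn, pow_orderOf_eq_one, one_mul]
    exact pow_mem hc _
  have hcop : (p ^ n).Coprime (orderOf (q * c)) :=
    ((Nat.Prime.coprime_iff_not_dvd hp.out).2 hg).pow_left n
  obtain ⟨m, hm⟩ := exists_pow_eq_self_of_coprime hcop
  rw [← hm]
  exact pow_mem hpow m

/-- Regular elements congruent modulo `Q` are equal. -/
theorem eq_of_regular (hQ : IsPGroup p Q) (hsup : Q ⊔ Subgroup.centralizer (Q : Set G) = ⊤)
    {g h : G} (hg : ¬ p ∣ orderOf g) (hh : ¬ p ∣ orderOf h)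
    (he : (g : G ⧸ Q) = (h : G ⧸ Q)) : g = h := by
  have hu : g⁻¹ * h ∈ Q := QuotientGroup.eq.1 he
  have hgu : Commute g (g⁻¹ * h) :=
    (Subgroup.mem_centralizer_iff.1 (mem_centralizer_of_regular hQ hsup hg) _ hu).symm
  obtain ⟨n, hn⟩ := IsPGroup.iff_orderOf.1 hQ ⟨_, hu⟩
  rw [Subgroup.orderOf_mk] at hn
  have h1 : (g⁻¹ * h) ^ (orderOf g * orderOf h) = 1 := by
    have hh' : g * (g⁻¹ * h) = h := mul_inv_cancel_left _ _
    have := hgu.mul_pow (orderOf g * orderOf h)
    rw [hh'] at this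
    rw [pow_mul g, pow_orderOf_eq_one, one_pow, one_mul] at this
    rw [← this, mul_comm, pow_mul, pow_orderOf_eq_one, one_pow]
  have hd := orderOf_dvd_of_pow_eq_one h1
  rw [hn] at hd
  rcases n with _ | n
  · rw [pow_zero, orderOf_eq_one_iff, inv_mul_eq_one] at hn
    exact hn
  · exact absurd ((dvd_pow_self p n.succ_ne_zero).trans hd)
      (fun hpd => (hp.out.dvd_mul.1 hpd).elim hg hh)

/-- Every regular element of the quotient has a regular lift. -/
theorem exists_regular_lift (hQ : IsPGroup p Q) {y : G ⧸ Q} (hy : ¬ p ∣ orderOf y) :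
    ∃ g : G, ¬ p ∣ orderOf g ∧ (g : G ⧸ Q) = y := by
  obtain ⟨x, rfl⟩ := QuotientGroup.mk_surjective y
  set m := orderOf (x : G ⧸ Q)
  have hxm : x ^ m ∈ Q := by
    rw [← QuotientGroup.eq_one_iff, QuotientGroup.mk_pow, pow_orderOf_eq_one]
  obtain ⟨n, hn⟩ := IsPGroup.iff_orderOf.1 hQ ⟨_, hxm⟩
  rw [Subgroup.orderOf_mk] at hn
  have hcop : (p ^ n).Coprime m := ((Nat.Prime.coprime_iff_not_dvd hp.out).2 hy).pow_left n
  obtain ⟨t, ht⟩ := exists_pow_eq_self_of_coprime (x := (x : G ⧸ Q)) hcop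
  refine ⟨(x ^ (p ^ n)) ^ t, fun hd => hy (hd.trans (orderOf_dvd_of_pow_eq_one ?_)), ?_⟩
  · rw [← pow_mul, ← pow_mul, show p ^ n * (t * m) = m * p ^ n * t by ring, pow_mul, pow_mul, ← hn,
      pow_orderOf_eq_one, one_pow]
  · rw [QuotientGroup.mk_pow, QuotientGroup.mk_pow]
    exact ht

/-- Inflation of an irreducible character. -/
def inflIrr (ψ : IrrCharacter (G ⧸ Q)) : IrrCharacter G :=
  ⟨inflate Q (ψ : G ⧸ Q → ℂ), IsIrrCharacter.inflate Q ψ.2⟩

theorem regular_mk {g : G} (hg : ¬ p ∣ orderOf g) : ¬ p ∣ orderOf (g : G ⧸ Q) := fun h =>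
  hg (h.trans (orderOf_map_dvd (QuotientGroup.mk' Q) g))

theorem centralChar_inflIrr (hQ : IsPGroup p Q) (hsup : Q ⊔ Subgroup.centralizer (Q : Set G) = ⊤)
    (ψ : IrrCharacter (G ⧸ Q)) {g : G} (hg : ¬ p ∣ orderOf g) :
    centralChar (inflIrr ψ : G → ℂ) g = centralChar (ψ : G ⧸ Q → ℂ) (g : G ⧸ Q) := by
  set C := Subgroup.centralizer ({g} : Set G)
  have hker : (QuotientGroup.mk' Q).ker ≤ C := by
    rw [QuotientGroup.ker_mk']
    exact fun u hu => Subgroup.mem_centralizer_singleton_iff.2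
      (Subgroup.mem_centralizer_iff.1 (mem_centralizer_of_regular hQ hsup hg) u hu)
  have hmap : C.map (QuotientGroup.mk' Q) = Subgroup.centralizer ({(g : G ⧸ Q)} : Set (G ⧸ Q)) := by
    refine le_antisymm ?_ fun y hy => ?_
    · rintro _ ⟨c, hc, rfl⟩
      rw [Subgroup.mem_centralizer_singleton_iff, QuotientGroup.mk'_apply, ← QuotientGroup.mk_mul,
        ← QuotientGroup.mk_mul, Subgroup.mem_centralizer_singleton_iff.1 hc]
    · obtain ⟨x, rfl⟩ := QuotientGroup.mk_surjective y
      refine ⟨x, ?_, rfl⟩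
      have hc := Subgroup.mem_centralizer_singleton_iff.1 hy
      have hx : x * g * x⁻¹ = g := by
        refine eq_of_regular hQ hsup ?_ hg ?_
        · rwa [show x * g * x⁻¹ = (MulAut.conj x) g from rfl, (MulAut.conj x).orderOf_eq]
        · simp only [QuotientGroup.mk_mul, QuotientGroup.mk_inv]
          rw [hc, mul_inv_cancel_right]
      exact Subgroup.mem_centralizer_singleton_iff.2 (mul_inv_eq_iff_eq_mul.1 hx)
  have hidx : (Subgroup.centralizer ({(g : G ⧸ Q)} : Set (G ⧸ Q))).index = C.index := by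
    rw [← hmap]
    exact Subgroup.index_map_eq _ (QuotientGroup.mk'_surjective Q) hker
  rw [centralChar, centralChar, hidx]
  simp only [inflIrr, CfsgLib.Char.inflate, QuotientGroup.mk_one]
  rfl

theorem inflIrr_mem_principalBlock_iff (hM : IsPModular p M) (hQ : IsPGroup p Q)
    (hsup : Q ⊔ Subgroup.centralizer (Q : Set G) = ⊤) [Fintype (G ⧸ Q)]
    (ψ : IrrCharacter (G ⧸ Q)) :
    inflIrr ψ ∈ principalBlock M G ↔ ψ ∈ principalBlock M (G ⧸ Q) := by
  have hone : inflIrr (oneIrr (G ⧸ Q)) = oneIrr G := Subtype.ext (funext fun g => rfl)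
  constructor
  · intro h
    refine sameBlock_of_regular hM (oneIrr (G ⧸ Q)) ψ fun y hy => ?_
    obtain ⟨g, hg, rfl⟩ := exists_regular_lift hQ hy
    rw [← centralChar_inflIrr hQ hsup _ hg, ← centralChar_inflIrr hQ hsup ψ hg, hone]
    exact h g
  · intro h
    refine sameBlock_of_regular hM (oneIrr G) (inflIrr ψ) fun g hg => ?_
    rw [← hone, centralChar_inflIrr hQ hsup _ hg, centralChar_inflIrr hQ hsup ψ hg]
    exact h _

theorem blockPart_sum_smul [Fintype (IrrCharacter G)] (B : Set (IrrCharacter G)) {ι : Type*}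
    (s : Finset ι) (c : ι → ℂ) (f : ι → G → ℂ) (g : G) :
    blockPart B (∑ i ∈ s, c i • f i) g = ∑ i ∈ s, c i * blockPart B (f i) g := by
  classical
  simp only [blockPart_eq_sum, Finset.sum_apply, Pi.smul_apply, smul_eq_mul]
  generalize hK : (fun z : G => ∑ χ ∈ univ.filter (· ∈ B), (χ : G → ℂ) g *
    (starRingEnd ℂ) ((χ : G → ℂ) z)) = K
  simp only [funext_iff] at hK
  simp only [hK, sum_mul]
  rw [sum_comm, mul_sum]
  refine sum_congr rfl fun i _ => ?_
  simp only [mul_assoc, ← mul_sum]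
  ring

/-- The principal blocks of `G` and of `G ⧸ Q` have the same rank. -/
theorem blockRank_principal_quotient (hM : IsPModular p M) (hQ : IsPGroup p Q)
    (hsup : Q ⊔ Subgroup.centralizer (Q : Set G) = ⊤) :
    blockRank p (principalBlock M G) = blockRank p (principalBlock M (G ⧸ Q)) := by
  classical
  letI : Fintype (G ⧸ Q) := Fintype.ofFinite _
  letI := irrFintype (G := G)
  letI := irrFintype (G := G ⧸ Q)
  choose lift hlift using fun (y : G ⧸ Q) (hy : ¬ p ∣ orderOf y) =>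
    exists_regular_lift (p := p) hQ hy
  let L : (G ⧸ Q → ℂ) →ₗ[ℂ] (G → ℂ) :=
    { toFun := fun f g => if p ∣ orderOf g then 0 else f (g : G ⧸ Q)
      map_add' := fun f f' => funext fun g => by simp only [Pi.add_apply]; split_ifs <;> simp
      map_smul' := fun c f => funext fun g => by simp }
  let R : (G → ℂ) →ₗ[ℂ] (G ⧸ Q → ℂ) :=
    { toFun := fun F y => if hy : p ∣ orderOf y then 0 else F (lift y hy)
      map_add' := fun f f' => funext fun g => by simp only [Pi.add_apply]; split_ifs <;> simp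
      map_smul' := fun c f => funext fun g => by simp }
  set SG := Submodule.span ℂ ((fun χ : IrrCharacter G => pRegularPart p (χ : G → ℂ)) ''
    principalBlock M G) with hSG
  set SQ := Submodule.span ℂ ((fun χ : IrrCharacter (G ⧸ Q) => pRegularPart p (χ : G ⧸ Q → ℂ)) ''
    principalBlock M (G ⧸ Q)) with hSQ
  have hL : ∀ ψ : IrrCharacter (G ⧸ Q),
      L (pRegularPart p (ψ : G ⧸ Q → ℂ)) = regPart p (inflIrr ψ : G → ℂ) := by
    intro ψ
    funext g
    show (if p ∣ orderOf g then 0 else pRegularPart p (ψ : G ⧸ Q → ℂ) (g : G ⧸ Q)) = _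
    by_cases hg : p ∣ orderOf g
    · rw [if_pos hg, regPart_of_dvd hg]
    · rw [if_neg hg, regPart_of_not_dvd hg, pRegularPart_eq, regPart_of_not_dvd (regular_mk hg)]
      rfl
  have hR : ∀ ψ : IrrCharacter (G ⧸ Q),
      R (regPart p (inflIrr ψ : G → ℂ)) = pRegularPart p (ψ : G ⧸ Q → ℂ) := by
    intro ψ
    funext y
    show (if hy : p ∣ orderOf y then 0 else regPart p (inflIrr ψ : G → ℂ) (lift y hy)) = _
    by_cases hy : p ∣ orderOf y
    · rw [dif_pos hy, pRegularPart_eq, regPart_of_dvd hy]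
    · rw [dif_neg hy, regPart_of_not_dvd (hlift y hy).1, pRegularPart_eq, regPart_of_not_dvd hy]
      show (ψ : G ⧸ Q → ℂ) (lift y hy : G ⧸ Q) = _
      rw [(hlift y hy).2]
  have hGle : SG ≤ SQ.map L := by
    rw [hSG, Submodule.span_le]
    rintro _ ⟨χ, hχ, rfl⟩
    let f : G ⧸ Q → ℂ := fun y => if hy : p ∣ orderOf y then 0 else (χ : G → ℂ) (lift y hy)
    have hf : IsClassFunction (G ⧸ Q) f := by
      intro y x
      have ho : orderOf (x * y * x⁻¹) = orderOf y := (MulAut.conj x).orderOf_eq y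
      by_cases hy : p ∣ orderOf y
      · simp only [f, dif_pos hy, dif_pos (ho.symm ▸ hy : p ∣ orderOf (x * y * x⁻¹))]
      · have hy' : ¬ p ∣ orderOf (x * y * x⁻¹) := ho.symm ▸ hy
        simp only [f, dif_neg hy, dif_neg hy']
        obtain ⟨x', rfl⟩ := QuotientGroup.mk_surjective x
        rw [← isClassFunction_irr χ (lift y hy) x']
        refine congrArg (χ : G → ℂ) (eq_of_regular hQ hsup (hlift _ hy').1 ?_ ?_)
        · rw [show x' * lift y hy * x'⁻¹ = (MulAut.conj x') (lift y hy) from rfl,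
            (MulAut.conj x').orderOf_eq]
          exact (hlift y hy).1
        · rw [QuotientGroup.mk_mul, QuotientGroup.mk_mul, QuotientGroup.mk_inv, (hlift _ hy').2,
            (hlift y hy).2]
    have hexp : regPart p (χ : G → ℂ) =
        ∑ ψ : IrrCharacter (G ⧸ Q), classInner f (ψ : G ⧸ Q → ℂ) • regPart p (inflIrr ψ : G → ℂ) := by
      funext g
      rw [Finset.sum_apply]
      by_cases hg : p ∣ orderOf g
      · rw [regPart_of_dvd hg]
        exact (sum_eq_zero fun ψ _ => by rw [Pi.smul_apply, regPart_of_dvd hg, smul_zero]).symm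
      · rw [regPart_of_not_dvd hg]
        have h1 := classFun_expand hf (g : G ⧸ Q)
        simp only [f, dif_neg (regular_mk (Q := Q) hg)] at h1
        rw [eq_of_regular hQ hsup (hlift _ (regular_mk hg)).1 hg (hlift _ (regular_mk hg)).2] at h1
        rw [h1]
        exact sum_congr rfl fun ψ _ => by
          rw [Pi.smul_apply, regPart_of_not_dvd hg, smul_eq_mul]; rfl
    have hB := isPBlock_principalBlock (M := M) (G := G)
    have hkey : regPart p (χ : G → ℂ) =
        ∑ ψ ∈ univ.filter (· ∈ principalBlock M (G ⧸ Q)),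
          classInner f (ψ : G ⧸ Q → ℂ) • regPart p (inflIrr ψ : G → ℂ) := by
      conv_lhs => rw [show regPart p (χ : G → ℂ) =
        blockPart (principalBlock M G) (regPart p (χ : G → ℂ)) by
          rw [blockPart_regPart hM hB, blockPart_irr, if_pos hχ]]
      funext g
      rw [hexp, blockPart_sum_smul, Finset.sum_apply, sum_filter]
      refine sum_congr rfl fun ψ _ => ?_
      rw [blockPart_regPart hM hB, blockPart_irr]
      by_cases hψ : ψ ∈ principalBlock M (G ⧸ Q)
      · rw [if_pos hψ, if_pos ((inflIrr_mem_principalBlock_iff hM hQ hsup ψ).2 hψ), Pi.smul_apply,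
          smul_eq_mul]
      · rw [if_neg hψ, if_neg fun h => hψ ((inflIrr_mem_principalBlock_iff hM hQ hsup ψ).1 h)]
        by_cases hg : p ∣ orderOf g
        · rw [regPart_of_dvd hg, mul_zero]
        · rw [regPart_of_not_dvd hg, Pi.zero_apply, mul_zero]
    show pRegularPart p (χ : G → ℂ) ∈ _
    rw [pRegularPart_eq, hkey]
    refine Submodule.sum_mem _ fun ψ hψ => Submodule.smul_mem _ _ ?_
    rw [← hL]
    exact Submodule.mem_map_of_mem (Submodule.subset_span ⟨ψ, (mem_filter.1 hψ).2, rfl⟩)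
  have hQle : SQ ≤ SG.map R := by
    rw [hSQ, Submodule.span_le]
    rintro _ ⟨ψ, hψ, rfl⟩
    refine ⟨regPart p (inflIrr ψ : G → ℂ), Submodule.subset_span
      ⟨inflIrr ψ, (inflIrr_mem_principalBlock_iff hM hQ hsup ψ).2 hψ, pRegularPart_eq _⟩, hR ψ⟩
  exact le_antisymm ((Submodule.finrank_mono hGle).trans (Submodule.finrank_map_le _ _))
    ((Submodule.finrank_mono hQle).trans (Submodule.finrank_map_le _ _))

end CfsgLib.BlockB
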