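import Cfsg.Agent.Blocks.TraceFormula

/-!
# Central idempotents of the complex group algebra as functions

Extension by zero from a subgroup, associativity of the convolution, and the description of an
idempotent class function as the coefficient function of a set of irreducible characters.
-/

set_option autoImplicit false
set_option linter.unusedSectionVars false
set_option linter.style.haveILetI false

namespace CfsgLib.Block.CentralIdem

open Cfsg Finset CfsgLib.Block CfsgLib.Block.Chr
open scoped ComplexConjugate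

universe u

variable {G : Type u} [Group G]

/-- Extension by zero from a subgroup. -/
noncomputable def ext0 (H : Subgroup G) (a : H → ℂ) : G → ℂ :=
  fun x => by classical exact if h : x ∈ H then a ⟨x, h⟩ else 0

theorem ext0_coe (H : Subgroup G) (a : H → ℂ) (x : H) : ext0 H a (x : G) = a x := by
  classical exact dif_pos x.2

theorem ext0_of_notMem {H : Subgroup G} (a : H → ℂ) {x : G} (hx : x ∉ H) : ext0 H a x = 0 := by
  classical exact dif_neg hx

theorem ext0_restrict {H : Subgroup G} {a : G → ℂ} (hs : ∀ x, a x ≠ 0 → x ∈ H) :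
    ext0 H (fun x : H => a x) = a := by
  funext x
  by_cases hx : x ∈ H
  · exact ext0_coe H _ ⟨x, hx⟩
  · rw [ext0_of_notMem _ hx]
    by_contra h
    exact hx (hs x (Ne.symm h))

variable [Fintype G]

theorem sum_eq_sum_subgroup (H : Subgroup G) [Fintype H] (f : G → ℂ)
    (h : ∀ x, x ∉ H → f x = 0) : ∑ x : G, f x = ∑ x : H, f x := by
  classical
  have e : ∑ x : H, f x = ∑ x ∈ univ.filter (· ∈ H), f x :=
    (Finset.sum_subtype _ (fun x => by simp) f).symm
  rw [e]
  exact (sum_subset (subset_univ _) fun x _ hx => h x (by simpa using hx)).symm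

theorem conv_assoc (u v w : G → ℂ) : conv (conv u v) w = conv u (conv v w) := by
  funext x
  simp only [conv, sum_mul, mul_sum]
  rw [sum_comm]
  refine sum_congr rfl fun g _ => ?_
  rw [← Equiv.sum_comp (Equiv.mulLeft g)]
  simp [mul_assoc]

theorem conv_comm {e : G → ℂ} (he : IsClassFunction G e) (u : G → ℂ) : conv e u = conv u e := by
  funext x
  simp only [conv]
  refine Fintype.sum_equiv ((Equiv.inv G).trans (Equiv.mulRight x)) _ _ fun g => ?_
  show e g * u (g⁻¹ * x) = u (g⁻¹ * x) * e ((g⁻¹ * x)⁻¹ * x)
  rw [mul_comm, ← he g x⁻¹]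
  congr 2
  group

theorem conv_ext0_left (H : Subgroup G) [Fintype H] (a : H → ℂ) (b : G → ℂ) (x : G) :
    conv (ext0 H a) b x = ∑ h : H, a h * b ((h : G)⁻¹ * x) := by
  rw [conv, sum_eq_sum_subgroup H _ fun y hy => by rw [ext0_of_notMem a hy, zero_mul]]
  simp [ext0_coe]

theorem conv_ext0_right {e : G → ℂ} (he : IsClassFunction G e) (H : Subgroup G) [Fintype H]
    (a : H → ℂ) (x : G) : conv e (ext0 H a) x = ∑ h : H, e (x * (h : G)⁻¹) * a h := by
  rw [conv_comm he, conv_ext0_left]
  exact sum_congr rfl fun h _ => by rw [classFun_mul_comm he, mul_comm]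

theorem conv_ext0_ext0 (H : Subgroup G) [Fintype H] (a b : H → ℂ) :
    conv (ext0 H a) (ext0 H b) = ext0 H (conv a b) := by
  funext x
  rw [conv_ext0_left]
  by_cases hx : x ∈ H
  · lift x to H using hx
    rw [ext0_coe, conv]
    exact sum_congr rfl fun h _ => by rw [← ext0_coe H b (h⁻¹ * x)]; rfl
  · rw [ext0_of_notMem _ hx]
    refine sum_eq_zero fun h _ => ?_
    rw [ext0_of_notMem, mul_zero]
    exact fun hc => hx (by simpa using H.mul_mem h.2 hc)

/-- The restriction of an idempotent supported on a subgroup is idempotent. -/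
theorem conv_restrict_self {H : Subgroup G} [Fintype H] {a : G → ℂ}
    (hs : ∀ x, a x ≠ 0 → x ∈ H) (haa : conv a a = a) :
    conv (fun x : H => a x) (fun x : H => a x) = fun x : H => a x := by
  have h := conv_ext0_ext0 H (fun x : H => a x) (fun x : H => a x)
  rw [ext0_restrict hs, haa] at h
  funext x
  rw [← ext0_coe H (conv (fun x : H => a x) fun x : H => a x) x, ← h]

/-- An idempotent class function is the coefficient function of a set of characters. -/
theorem exists_eq_blockCoeff {e : G → ℂ} (he : IsClassFunction G e) (hee : conv e e = e) :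
    ∃ S : Set (IrrCharacter G), e = blockCoeff S := by
  classical
  letI := irrFintype (G := G)
  refine ⟨{χ | omega (χ : G → ℂ) e = 1}, funext fun g => ?_⟩
  rw [eq_sum_omega he g, eq_sum_omega (isClassFunction_blockCoeff _) g]
  congr 1
  refine sum_congr rfl fun χ _ => ?_
  rw [omega_blockCoeff]
  congr 2
  have h := omega_conv χ he e
  rw [hee] at h
  rcases eq_or_ne (omega (χ : G → ℂ) e) 1 with h1 | h1
  · rw [if_pos (show χ ∈ {χ : IrrCharacter G | omega (χ : G → ℂ) e = 1} from h1), h1]
  · rw [if_neg (show ¬ χ ∈ {χ : IrrCharacter G | omega (χ : G → ℂ) e = 1} from h1)]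
    have h2 : omega (χ : G → ℂ) e * (omega (χ : G → ℂ) e - 1) = 0 := by linear_combination -h
    exact (mul_eq_zero.1 h2).resolve_right (sub_ne_zero.2 h1)

theorem blockCoeff_inv (S : Set (IrrCharacter G)) (g : G) :
    blockCoeff S g⁻¹ = conj (blockCoeff S g) := by
  classical
  letI := irrFintype (G := G)
  rw [blockCoeff_eq_sum, blockCoeff_eq_sum, map_mul, map_inv₀, map_natCast, map_sum]
  congr 1
  refine sum_congr rfl fun χ _ => ?_
  rw [map_mul, Complex.conj_conj, conj_irr, inv_inv, (irr_one χ).1, map_natCast]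

theorem apply_inv_of_idem {e : G → ℂ} (he : IsClassFunction G e) (hee : conv e e = e) (g : G) :
    e g⁻¹ = conj (e g) := by
  obtain ⟨S, rfl⟩ := exists_eq_blockCoeff he hee
  exact blockCoeff_inv S g

theorem blockCoeff_singleton (θ : IrrCharacter G) (g : G) :
    blockCoeff ({θ} : Set (IrrCharacter G)) g =
      (Nat.card G : ℂ)⁻¹ * ((θ : G → ℂ) 1 * conj ((θ : G → ℂ) g)) := by
  rw [blockCoeff, finsum_mem_singleton]

theorem sum_blockCoeff_singleton [Fintype (IrrCharacter G)] (g : G) :
    ∑ θ : IrrCharacter G, blockCoeff ({θ} : Set (IrrCharacter G)) g = deltaOne g := by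
  rw [eq_sum_omega isClassFunction_deltaOne g, mul_sum]
  exact sum_congr rfl fun θ _ => by rw [blockCoeff_singleton, omega_deltaOne, mul_one]

theorem conv_singleton_of_ne {θ φ : IrrCharacter G} (h : θ ≠ φ) :
    conv (blockCoeff ({θ} : Set (IrrCharacter G))) (blockCoeff ({φ} : Set (IrrCharacter G))) =
      0 := by
  classical
  letI := irrFintype (G := G)
  have hc := isClassFunction_blockCoeff ({θ} : Set (IrrCharacter G))
  have hd := isClassFunction_blockCoeff ({φ} : Set (IrrCharacter G))
  funext g
  rw [eq_sum_omega (isClassFunction_conv hc hd) g, Pi.zero_apply]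
  refine mul_eq_zero_of_right _ (sum_eq_zero fun χ _ => ?_)
  rw [omega_conv χ hc, omega_blockCoeff, omega_blockCoeff]
  rcases eq_or_ne χ θ with rfl | h1
  · simp [h]
  · simp [h1]

variable {p : ℕ} {M : Ideal AlgInt} [M.IsPrime]

/-- For a group of order prime to `p` idempotent class functions are integral at `M`. -/
theorem mem_local_of_not_dvd_card (hM : IsPModular p M) (hp : ¬ p ∣ Nat.card G) {e : G → ℂ}
    (he : IsClassFunction G e) (hee : conv e e = e) (g : G) : MemLocalRing M (e g) := by
  classical
  letI := irrFintype (G := G)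
  obtain ⟨S, rfl⟩ := exists_eq_blockCoeff he hee
  rw [blockCoeff_eq_sum]
  exact memLocalRing_mul (memLocalRing_natCast_inv hM hp) (memLocalRing_sum fun χ _ =>
    memLocalRing_mul (irr_mem χ 1) (by rw [conj_irr]; exact irr_mem χ _))

end CfsgLib.Block.CentralIdem
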