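import Cfsg.Agent.BlocksB.HarrisKnorr
import Cfsg.Agent.BrauerPairs.NilpotentBridge
import Mathlib.RingTheory.IntegralDomain
import Mathlib.NumberTheory.Padics.PadicVal.Basic

/-!
# The inertial group of a block with abelian or cyclic defect group
-/

namespace CfsgLib.Inertial

open Cfsg CfsgLib.Block CfsgLib.Block.Chr CfsgLib.BrauerPairs CfsgLib.BlockB

set_option linter.unusedSectionVars false
set_option linter.style.haveILetI false

universe u

local notation "C[" Q "]" => Subgroup.centralizer (SetLike.coe Q)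
local notation "N[" Q "]" => Subgroup.normalizer (SetLike.coe Q)

variable {G : Type u} [Group G] [Fintype G] {M : Ideal AlgInt} [M.IsPrime] {p : ℕ}
  [hp : Fact p.Prime]

theorem inducedCentralCharIn_eq {N L : Subgroup G} [Fintype N] (hLN : L ≤ N)
    (ξ : IrrCharacter L) (g : N) :
    inducedCentralCharIn N L (ξ : L → ℂ) (g : G) = inducedCentralChar (L.subgroupOf N)
      ((mapChar (Subgroup.subgroupOfEquivOfLe hLN).symm ξ : IrrCharacter (L.subgroupOf N)) :
        L.subgroupOf N → ℂ) g := by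
  classical
  set φ := (Subgroup.subgroupOfEquivOfLe hLN).symm with hφdef
  have hφ : ∀ x : L, ((φ x : N) : G) = x := fun x => rfl
  symm
  rw [inducedCentralChar, inducedCentralCharIn]
  refine finsum_mem_eq_of_bijOn φ.symm ⟨fun k hk => ?_, φ.symm.injective.injOn, fun l hl => ?_⟩
    fun k hk => ?_
  · obtain ⟨x, hx⟩ := isConj_iff.1 hk
    refine ⟨x⁻¹, ?_⟩
    show ((x⁻¹ : N) : G) * ((φ.symm k : L) : G) * ((x⁻¹ : N) : G)⁻¹ = g
    rw [← hφ (φ.symm k), MulEquiv.apply_symm_apply, ← hx]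
    simp [mul_assoc]
  · obtain ⟨x, hx⟩ := hl
    refine ⟨φ l, isConj_iff.2 ⟨x⁻¹, Subtype.ext ?_⟩, φ.symm_apply_apply l⟩
    rw [Subgroup.coe_mul, Subgroup.coe_mul, Subgroup.coe_inv, Subgroup.coe_inv, hφ l, ← hx]
    simp [mul_assoc]
  · simp only [mapChar_apply, map_one]

/-- Induction inside a subgroup is induction in that subgroup. -/
theorem inducedIn_iff {N L : Subgroup G} [Fintype N] (hLN : L ≤ N) {e : Set (IrrCharacter L)}
    (he : IsPBlock M e) {d : Set (IrrCharacter N)} :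
    IsInducedBlockIn M N L e d ↔ IsInducedBlock M (L.subgroupOf N)
      (mapSet (Subgroup.subgroupOfEquivOfLe hLN).symm e) d := by
  classical
  haveI := Fintype.ofFinite L
  haveI := Fintype.ofFinite (L.subgroupOf N)
  constructor
  · rintro ⟨-, hd, hcong⟩
    refine ⟨isPBlock_mapSet _ he, hd, ?_⟩
    rintro _ ⟨ξ, hξ, rfl⟩ χ hχ g
    rw [← inducedCentralCharIn_eq hLN]
    exact hcong ξ hξ χ hχ g
  · rintro ⟨-, hd, hcong⟩
    refine ⟨he, hd, fun ξ hξ χ hχ g => ?_⟩
    rw [inducedCentralCharIn_eq hLN]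
    exact hcong _ ⟨ξ, hξ, rfl⟩ χ hχ g

section
variable {B : Set (IrrCharacter G)} {P : Subgroup G} {c : Set (IrrCharacter C[P])}

/-- A block of the centralizer of an abelian defect group inducing `B` gives a maximal pair. -/
theorem maxPair_of_induced (hM : IsPModular p M) (hB : IsPBlock M B)
    (hPD : IsDefectGroup p M B P) (hab : ∀ x ∈ P, ∀ y ∈ P, x * y = y * x)
    (hc : IsInducedBlock M C[P] c B) :
    IsPair p (P, idemIn M C[P] c) ∧ IsMaxPair p (idem M B) (P, idemIn M C[P] c) := by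
  haveI := charP_residue hM
  haveI := Fintype.ofFinite (C[P] : Subgroup G)
  have hD := isDef_of_isDefectGroup hM hB hPD
  have hP : IsPair p (P, idemIn M C[P] c) := ⟨hD.1, isBlk_idemIn hM hc.1⟩
  refine ⟨hP, (isMaxPair_iff_card (isBlk_idem hM hB) hD).mpr ⟨⟨hP, ?_⟩, rfl⟩⟩
  exact (induced_iff_br hM hD.1 (fun x hx => Subgroup.mem_centralizer_iff.mpr fun y hy =>
    hab y hy x hx) le_rfl (centralizer_le_normalizer P) hc.1 hB).1 hc

/-- The inertial index of a maximal pair is prime to `p` for an abelian defect group. -/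
theorem not_dvd_inertial (hM : IsPModular p M) (hB : IsPBlock M B)
    {e : MonoidAlgebra (Residue M) G} (hP : IsPair p (P, e))
    (hmax : IsMaxPair p (idem M B) (P, e)) (hab : ∀ x ∈ P, ∀ y ∈ P, x * y = y * x) :
    ¬ p ∣ (C[P] : Subgroup G).relIndex (stab P e) := by
  classical
  haveI := charP_residue hM
  have hb := isBlk_idem hM hB
  have hPC : P ≤ C[P] := fun x hx => Subgroup.mem_centralizer_iff.mpr fun y hy => hab y hy x hx
  obtain ⟨D, hD⟩ := exists_isDefect (p := p) (prim_stab hP) (centralizer_le_stab hP)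
    stab_le_normalizer_centralizer
  have hDN : D ≤ N[P] := hD.2.1.trans stab_le_normalizer
  have hRp : IsPGroup p (P ⊔ D : Subgroup G) := hP.1.to_sup_of_normal_left' hD.1 hDN
  have hbr : br (P ⊔ D) e ≠ 0 := by
    rw [CfsgLib.BrauerPairs.br_sup_eq hP.suppIn]; exact hD.2.2.2
  have hRN : P ⊔ D ≤ N[P] := sup_le Subgroup.le_normalizer hDN
  have hfix : FixBy (P ⊔ D) e := fixBy_stab.mono (sup_le (le_stab hP) hD.2.1)
  have hS := alg_comm (k := Residue M) (le_refl C[P ⊔ D])
  have hmem := br_mem_alg (P := P ⊔ D) (le_sup_left : P ≤ P ⊔ D) hP.2.mem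
  obtain ⟨g, hg, hne⟩ := exists_prim_mul_ne_zero hS hbr
  have hgg : br (P ⊔ D) e * g = g := by
    rw [hS _ hmem _ hg.mem]
    exact hg.mul_eq_self hmem (br_idem hRp hP.2.idem hfix) hne
  have hstep : NStep p (P, e) (P ⊔ D, g) := ⟨hP, ⟨hRp, hg⟩, le_sup_left, hRN, hfix, hgg⟩
  have hpair := (isPairOf_iff_of_ple hb (Relation.ReflTransGen.single hstep) ⟨hRp, hg⟩).mp hmax.1
  have heq : P ⊔ D = P := hmax.2 _ hpair (Relation.ReflTransGen.single hstep)
  have h := not_dvd_relIndex hP.2 fixBy_stab (centralizer_le_stab hP)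
    stab_le_normalizer_centralizer (isSplit_of_isPair hM P e hP) hD
  rwa [sup_eq_right.mpr ((le_sup_right.trans heq.le).trans hPC)] at h

theorem mem_centralizer_of_pow (hM : IsPModular p M) (hB : IsPBlock M B)
    {e : MonoidAlgebra (Residue M) G} (hP : IsPair p (P, e))
    (hmax : IsMaxPair p (idem M B) (P, e)) (hab : ∀ x ∈ P, ∀ y ∈ P, x * y = y * x)
    {t : G} (ht : t ∈ stab P e) {n : ℕ} (hn : t ^ p ^ n ∈ (C[P] : Subgroup G)) :
    t ∈ (C[P] : Subgroup G) := by
  classical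
  have hidx := not_dvd_inertial hM hB hP hmax hab
  haveI hN : ((C[P] : Subgroup G).subgroupOf (stab P e)).Normal :=
    (Subgroup.normal_subgroupOf_iff_le_normalizer (centralizer_le_stab hP)).mpr
      stab_le_normalizer_centralizer
  set K := (C[P] : Subgroup G).subgroupOf (stab P e) with hK
  set q : stab P e ⧸ K := ((⟨t, ht⟩ : stab P e) : stab P e ⧸ K) with hq
  have h1 : q ^ p ^ n = 1 := by
    rw [hq, ← QuotientGroup.mk_pow, QuotientGroup.eq_one_iff, hK, Subgroup.mem_subgroupOf]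
    simpa using hn
  have h2 : q ^ K.index = 1 := pow_card_eq_one'
  have hcop : Nat.Coprime (p ^ n) K.index :=
    ((hp.out.coprime_iff_not_dvd).mpr hidx).pow_left n
  have h3 : q = 1 := by
    rw [← pow_one q, ← hcop.gcd_eq_one]
    exact pow_gcd_eq_one.mpr ⟨h1, h2⟩
  rw [hq, QuotientGroup.eq_one_iff, hK, Subgroup.mem_subgroupOf] at h3
  exact h3

/-- The inertial group of a cyclic defect group normalizes all its subgroups. -/
theorem le_normalizer_of_cyclic {e : MonoidAlgebra (Residue M) G} (hcyc : IsCyclic P)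
    {Q : Subgroup G} (hQP : Q ≤ P) : stab P e ≤ N[Q] := by
  obtain ⟨⟨g, hg⟩, hgen⟩ := hcyc.exists_generator
  have key : ∀ t ∈ (N[P] : Subgroup G), ∀ y ∈ Q, t * y * t⁻¹ ∈ Q := by
    intro t ht y hy
    obtain ⟨m, hm⟩ := hgen ⟨t * g * t⁻¹, (Subgroup.mem_normalizer_iff.mp ht g).mp hg⟩
    obtain ⟨j, hj⟩ := hgen ⟨y, hQP hy⟩
    have hm' : g ^ m = t * g * t⁻¹ := congrArg Subtype.val hm
    have hj' : g ^ j = y := congrArg Subtype.val hj
    rw [← hj', ← conj_zpow, ← hm', ← zpow_mul, mul_comm, zpow_mul, hj']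
    exact Q.zpow_mem hy m
  intro t ht
  rw [Subgroup.mem_normalizer_iff]
  refine fun y => ⟨fun hy => key t ht.1 y hy, fun hy => ?_⟩
  simpa [mul_assoc] using key t⁻¹ (inv_mem ht.1) _ hy

/-- The inertial group of a cyclic defect group acts freely. -/
theorem free_of_cyclic (hM : IsPModular p M) (hB : IsPBlock M B)
    {e : MonoidAlgebra (Residue M) G} (hP : IsPair p (P, e))
    (hmax : IsMaxPair p (idem M B) (P, e)) (hcyc : IsCyclic P) :
    ∀ t ∈ stab P e, ∀ x ∈ P, x ≠ 1 → t * x * t⁻¹ = x → t ∈ (C[P] : Subgroup G) := by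
  intro t ht x hx hx1 hfix
  have hab : ∀ a ∈ P, ∀ b ∈ P, a * b = b * a := by
    letI := hcyc.commGroup
    exact fun a ha b hb => congrArg Subtype.val (mul_comm (⟨a, ha⟩ : P) ⟨b, hb⟩)
  obtain ⟨⟨g, hg⟩, hgen⟩ := hcyc.exists_generator
  obtain ⟨m, hm⟩ := hgen ⟨t * g * t⁻¹, (Subgroup.mem_normalizer_iff.mp ht.1 g).mp hg⟩
  obtain ⟨j, hj⟩ := hgen ⟨x, hx⟩
  have hm' : g ^ m = t * g * t⁻¹ := congrArg Subtype.val hm
  have hj' : g ^ j = x := congrArg Subtype.val hj
  obtain ⟨n, hn⟩ := IsPGroup.iff_orderOf.1 hP.1 ⟨g, hg⟩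
  rw [Subgroup.orderOf_mk] at hn
  have h1 : g ^ (j * (m - 1)) = 1 := by
    rw [mul_sub, mul_one, zpow_sub, mul_comm j m, zpow_mul, hm', conj_zpow, hj', hfix,
      mul_inv_cancel]
  rw [← orderOf_dvd_iff_zpow_eq_one, hn] at h1
  have hpm : (p : ℤ) ∣ m - 1 := by
    by_contra hnd
    apply hx1
    rw [← hj', ← orderOf_dvd_iff_zpow_eq_one, hn]
    push_cast at h1 ⊢
    exact ((((Nat.prime_iff_prime_int.mp hp.out).coprime_iff_not_dvd).mpr hnd).pow_left
      (m := n)).dvd_of_dvd_mul_right h1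
  have h2 : (p : ℤ) ^ (n + 1) ∣ m ^ p ^ n - 1 := by
    simpa using dvd_sub_pow_of_dvd_sub hpm n
  have hpow : ∀ k : ℕ, t ^ k * g * (t ^ k)⁻¹ = g ^ (m ^ k) := by
    intro k
    induction k with
    | zero => simp
    | succ k ih =>
      calc t ^ (k + 1) * g * (t ^ (k + 1))⁻¹ = t * (t ^ k * g * (t ^ k)⁻¹) * t⁻¹ := by
            rw [pow_succ', mul_inv_rev]; group
        _ = t * g ^ (m ^ k) * t⁻¹ := by rw [ih]
        _ = g ^ (m ^ (k + 1)) := by rw [← conj_zpow, ← hm', ← zpow_mul, pow_succ']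
  refine mem_centralizer_of_pow hM hB hP hmax hab ht (n := n)
    (Subgroup.mem_centralizer_iff.mpr fun y hy => ?_)
  obtain ⟨i, hi⟩ := hgen ⟨y, hy⟩
  have hi' : g ^ i = y := congrArg Subtype.val hi
  have hgt : t ^ p ^ n * g * (t ^ p ^ n)⁻¹ = g := by
    rw [hpow, ← mul_inv_eq_one, ← zpow_neg_one g, ← zpow_add, ← orderOf_dvd_iff_zpow_eq_one, hn]
    push_cast
    rw [← sub_eq_add_neg]
    exact dvd_trans (pow_dvd_pow _ (Nat.le_succ n)) h2
  have hcomm : Commute (t ^ p ^ n) g := mul_inv_eq_iff_eq_mul.mp hgt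
  rw [← hi']
  exact ((hcomm.zpow_right i).eq).symm

/-- The inertial quotient of a cyclic defect group is cyclic of order dividing `p - 1`. -/
theorem cyclic_quotient (hM : IsPModular p M) (hB : IsPBlock M B)
    {e : MonoidAlgebra (Residue M) G} (hP : IsPair p (P, e))
    (hmax : IsMaxPair p (idem M B) (P, e)) (hcyc : IsCyclic P) (hP1 : P ≠ ⊥)
    [hn : ((C[P] : Subgroup G).subgroupOf (stab P e)).Normal] :
    IsCyclic (stab P e ⧸ (C[P] : Subgroup G).subgroupOf (stab P e)) ∧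
      (C[P] : Subgroup G).relIndex (stab P e) ∣ p - 1 := by
  classical
  obtain ⟨k, hk⟩ := IsPGroup.iff_card.mp hP.1
  have hk0 : k ≠ 0 := fun h => hP1 (Subgroup.card_eq_one.mp (by rw [hk, h, pow_zero]))
  obtain ⟨⟨z, hz⟩, hzo⟩ := exists_prime_orderOf_dvd_card' (G := P) p
    (hk ▸ dvd_pow_self p hk0)
  rw [Subgroup.orderOf_mk] at hzo
  set Z := Subgroup.zpowers z with hZdef
  have hZP : Z ≤ P := Subgroup.zpowers_le.mpr hz
  have hZc : Nat.card Z = p := by rw [Nat.card_zpowers, hzo]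
  haveI : IsCyclic Z := isCyclic_of_prime_card hZc
  have hTN : stab P e ≤ N[Z] := le_normalizer_of_cyclic hcyc hZP
  set φ := (Subgroup.normalizerMonoidHom Z).comp (Subgroup.inclusion hTN) with hφ
  have hker : φ.ker = (C[P] : Subgroup G).subgroupOf (stab P e) := by
    ext t
    rw [hφ, MonoidHom.mem_ker, MonoidHom.comp_apply, ← MonoidHom.mem_ker,
      Subgroup.normalizerMonoidHom_ker, Subgroup.mem_subgroupOf, Subgroup.mem_subgroupOf,
      Subgroup.coe_inclusion]
    refine ⟨fun h => free_of_cyclic hM hB hP hmax hcyc _ t.2 z hz (fun h1 => ?_) ?_, fun h =>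
      Subgroup.centralizer_le (SetLike.coe_subset_coe.mpr hZP) h⟩
    · rw [h1, orderOf_one] at hzo
      exact hp.out.ne_one hzo.symm
    · rw [mul_inv_eq_iff_eq_mul]
      exact (Subgroup.mem_centralizer_iff.mp h z (Subgroup.mem_zpowers z)).symm
  have hcycA : IsCyclic (MulAut Z) := by
    haveI : IsCyclic (ZMod (Nat.card Z))ˣ := by rw [hZc]; infer_instance
    exact (IsCyclic.mulAutMulEquiv Z).isCyclic.mpr inferInstance
  let ψ : (stab P e ⧸ (C[P] : Subgroup G).subgroupOf (stab P e)) →* MulAut Z :=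
    (QuotientGroup.kerLift φ).comp (QuotientGroup.quotientMulEquivOfEq hker.symm).toMonoidHom
  have hψ : Function.Injective ψ :=
    (QuotientGroup.kerLift_injective φ).comp (MulEquiv.injective _)
  refine ⟨isCyclic_of_injective ψ hψ, ?_⟩
  have h1 : Nat.card (stab P e ⧸ (C[P] : Subgroup G).subgroupOf (stab P e)) ∣
      Nat.card (MulAut Z) := Subgroup.card_dvd_of_injective ψ hψ
  rw [IsCyclic.card_mulAut, hZc, Nat.totient_prime hp.out] at h1
  exact h1

end

/-- A block of `C(Q)` induced from a block of `C(P)` lies below it. -/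
theorem ple_of_inducedIn (hM : IsPModular p M) {P Q : Subgroup G}
    {c : Set (IrrCharacter C[P])} (hP : IsPair p (P, idemIn M C[P] c))
    (hab : ∀ x ∈ P, ∀ y ∈ P, x * y = y * x) (hQP : Q ≤ P)
    {f : Set (IrrCharacter C[Q])} (hf : IsInducedBlockIn M C[Q] C[P] c f) :
    PLE p (Q, idemIn M C[Q] f) (P, idemIn M C[P] c) := by
  classical
  haveI := charP_residue hM
  haveI := Fintype.ofFinite (C[Q] : Subgroup G)
  have hCC : C[P] ≤ C[Q] := Subgroup.centralizer_le (SetLike.coe_subset_coe.mpr hQP)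
  have hPC : P ≤ C[P] := fun x hx => Subgroup.mem_centralizer_iff.mpr fun y hy => hab y hy x hx
  have hPQ : P ≤ C[Q] := hPC.trans hCC
  set P' := P.subgroupOf C[Q] with hP'
  have hmap : P'.map (C[Q] : Subgroup G).subtype = P := Subgroup.map_subgroupOf_eq_of_le hPQ
  have hind := (inducedIn_iff hCC hf.1).1 hf
  haveI := Fintype.ofFinite ((C[P] : Subgroup G).subgroupOf C[Q])
  have hCP' : (C[P'] : Subgroup _) = (C[P] : Subgroup G).subgroupOf C[Q] := by
    apply Subgroup.map_injective (C[Q] : Subgroup G).subtype_injective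
    rw [map_centralizer_subtype _ _ (by rw [hmap]; exact hCC),
      Subgroup.map_subgroupOf_eq_of_le hCC, hmap]
  have h := (induced_iff_br hM (hP.1.of_equiv (Subgroup.subgroupOfEquivOfLe hPQ).symm)
    (fun x hx => hPC hx) hCP'.le (hCP'.ge.trans (centralizer_le_normalizer P')) hind.1 hf.2.1).1
      hind
  have h2 := congrArg (emb (C[Q] : Subgroup G)) h
  rw [map_mul, ← br_emb_eq, hmap, ← idemIn_eq,
    emb_idemIn_mapSet (Subgroup.subgroupOfEquivOfLe hCC).symm (fun x => rfl) hCC] at h2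
  have hQp : IsPGroup p Q := hP.1.to_le hQP
  refine Relation.ReflTransGen.single ⟨⟨hQp, isBlk_idemIn hM hf.2.1⟩, hP, hQP,
    hPQ.trans (centralizer_le_normalizer Q), (isBlk_idemIn hM hf.2.1).fixBy.mono hPQ, h2⟩

/-- The subpair on `Q` exists as an induced block. -/
theorem exists_inducedIn (hM : IsPModular p M) {P Q : Subgroup G} (hPp : IsPGroup p P)
    {c : Set (IrrCharacter C[P])} (hc : IsPBlock M c)
    (hab : ∀ x ∈ P, ∀ y ∈ P, x * y = y * x) (hQP : Q ≤ P) :
    ∃ f : Set (IrrCharacter C[Q]), IsInducedBlockIn M C[Q] C[P] c f := by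
  classical
  haveI := charP_residue hM
  haveI := Fintype.ofFinite (C[Q] : Subgroup G)
  haveI := Fintype.ofFinite ((C[P] : Subgroup G).subgroupOf C[Q])
  haveI := Fintype.ofFinite (C[P] : Subgroup G)
  have hCC : C[P] ≤ C[Q] := Subgroup.centralizer_le (SetLike.coe_subset_coe.mpr hQP)
  have hPC : P ≤ C[P] := fun x hx => Subgroup.mem_centralizer_iff.mpr fun y hy => hab y hy x hx
  set P' := P.subgroupOf C[Q] with hP'
  have hmap : P'.map (C[Q] : Subgroup G).subtype = P :=
    Subgroup.map_subgroupOf_eq_of_le (hPC.trans hCC)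
  have hCP' : (C[P'] : Subgroup _) = (C[P] : Subgroup G).subgroupOf C[Q] := by
    apply Subgroup.map_injective (C[Q] : Subgroup G).subtype_injective
    rw [map_centralizer_subtype _ _ (by rw [hmap]; exact hCC),
      Subgroup.map_subgroupOf_eq_of_le hCC, hmap]
  obtain ⟨f, hf⟩ := exists_induced hM
    (hPp.of_equiv (Subgroup.subgroupOfEquivOfLe (hPC.trans hCC)).symm)
    (fun x hx => hPC hx) hCP'.le (hCP'.ge.trans (centralizer_le_normalizer P'))
    (isPBlock_mapSet (Subgroup.subgroupOfEquivOfLe hCC).symm hc)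
  exact ⟨f, (inducedIn_iff hCC hc).2 hf⟩

section
variable {B : Set (IrrCharacter G)} {P : Subgroup G} {c : Set (IrrCharacter C[P])}

/-- The pair on `P` inside `C(Q)`. -/
theorem local_maxPair (hM : IsPModular p M) (hB : IsPBlock M B)
    (hP : IsPair p (P, idemIn M C[P] c)) (hmax : IsMaxPair p (idem M B) (P, idemIn M C[P] c))
    (hab : ∀ x ∈ P, ∀ y ∈ P, x * y = y * x) {Q : Subgroup G} (hQP : Q ≤ P)
    {f : Set (IrrCharacter C[Q])} (hf : IsInducedBlockIn M C[Q] C[P] c f)
    [Fintype (C[Q] : Subgroup G)] :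
    ∃ e' : MonoidAlgebra (Residue M) (C[Q] : Subgroup G),
      emb (C[Q] : Subgroup G) e' = idemIn M C[P] c ∧
      IsPair p (P.subgroupOf C[Q], e') ∧
      IsMaxPair p (idem M f) (P.subgroupOf C[Q], e') := by
  classical
  haveI := charP_residue hM
  have hCC : C[P] ≤ C[Q] := Subgroup.centralizer_le (SetLike.coe_subset_coe.mpr hQP)
  have hPC : P ≤ C[P] := fun x hx => Subgroup.mem_centralizer_iff.mpr fun y hy => hab y hy x hx
  have hPQ : P ≤ C[Q] := hPC.trans hCC
  have hmap : (P.subgroupOf C[Q]).map (C[Q] : Subgroup G).subtype = P :=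
    Subgroup.map_subgroupOf_eq_of_le hPQ
  set e' := restr (C[Q] : Subgroup G) (idemIn M C[P] c) with he'
  have hemb : emb (C[Q] : Subgroup G) e' = idemIn M C[P] c :=
    emb_restr _ (hP.suppIn.mono hCC)
  have hep : embPair (C[Q] : Subgroup G) (P.subgroupOf C[Q], e') = (P, idemIn M C[P] c) :=
    Prod.ext hmap hemb
  have hcen : Subgroup.centralizer
      (((P.subgroupOf C[Q]).map (C[Q] : Subgroup G).subtype : Subgroup G) : Set G) ≤ C[Q] := by
    rw [hmap]; exact hCC
  have hP' : IsPair p (P.subgroupOf C[Q], e') := (isPair_embPair_iff _ hcen).mp (hep ▸ hP)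
  have hle := ple_of_inducedIn hM hP hab hQP hf
  have hQf : IsPairOf p (idem M B) (Q, idemIn M C[Q] f) :=
    (isPairOf_iff_of_ple (isBlk_idem hM hB) hle hP).mpr hmax.1
  refine ⟨e', hemb, hP', ⟨hP', ?_⟩, fun y hy hle' => ?_⟩
  · show br (P.subgroupOf C[Q]) (idem M f) * e' = e'
    apply emb_injective (C[Q] : Subgroup G)
    rw [map_mul, ← br_emb_eq, hmap, ← idemIn_eq, hemb]
    have hstep : NStep p (Q, idemIn M C[Q] f) (P, idemIn M C[P] c) :=
      PLE.nstep_of_le_normalizer hP hle (hPQ.trans (centralizer_le_normalizer Q))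
    exact hstep.2.2.2.2.2
  · have h1 := ple_embPair (C[Q] : Subgroup G) hcen hle'
    rw [hep] at h1
    have hy' : IsPair p (embPair (C[Q] : Subgroup G) y) :=
      (isPair_embPair_iff _ ((Subgroup.centralizer_le (SetLike.coe_subset_coe.mpr
        (Subgroup.map_mono hle'.le))).trans hcen)).mpr hy.1
    have h2 := (isPairOf_iff_of_ple (isBlk_idem hM hB) h1 hy').mp hmax.1
    exact Subgroup.map_injective (C[Q] : Subgroup G).subtype_injective
      ((hmax.2 _ h2 h1).trans hmap.symm)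

/-- With free inertial action the subpair blocks are nilpotent. -/
theorem isNilpotentBlock_local (hM : IsPModular p M) (hB : IsPBlock M B)
    (hP : IsPair p (P, idemIn M C[P] c)) (hmax : IsMaxPair p (idem M B) (P, idemIn M C[P] c))
    (hab : ∀ x ∈ P, ∀ y ∈ P, x * y = y * x) {Q : Subgroup G} (hQP : Q ≤ P)
    (hfree : ∀ t ∈ stab P (idemIn M C[P] c), t ∈ (C[Q] : Subgroup G) → t ∈ (C[P] : Subgroup G))
    {f : Set (IrrCharacter C[Q])} (hf : IsInducedBlockIn M C[Q] C[P] c f) :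
    IsNilpotentBlock p M f := by
  classical
  haveI := charP_residue hM
  haveI := Fintype.ofFinite (C[Q] : Subgroup G)
  obtain ⟨e', hemb, hP', hmax'⟩ := local_maxPair hM hB hP hmax hab hQP hf
  have hPQ : P ≤ C[Q] := fun x hx => Subgroup.mem_centralizer_iff.mpr fun y hy =>
    hab y (hQP hy) x hx
  rw [isNilpotentBlock_iff hM]
  refine ⟨hf.2.1, (isNil_iff_of_abelian hP' (isBlk_idem hM hf.2.1) hmax'
    (fun x hx y hy => Subtype.ext (hab _ hx _ hy))
    (fun R f' h => isSplit_of_isPair hM R f' h)).mpr fun t ht => ?_⟩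
  have hmap : (P.subgroupOf C[Q]).map (C[Q] : Subgroup G).subtype = P :=
    Subgroup.map_subgroupOf_eq_of_le hPQ
  have h1 : (t : G) ∈ (N[P] : Subgroup G) :=
    hmap ▸ (Subgroup.le_normalizer_map _) ⟨t, ht.1, rfl⟩
  have h2 : cj (Residue M) (t : G) (idemIn M C[P] c) = idemIn M C[P] c := by
    rw [← hemb, cj_emb, ht.2]
  have h3 := hfree (t : G) ⟨h1, h2⟩ t.2
  exact Subgroup.mem_centralizer_iff.mpr fun y hy =>
    Subtype.ext (Subgroup.mem_centralizer_iff.mp h3 (y : G) hy)

end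

end CfsgLib.Inertial
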