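import Cfsg.Agent.BlocksB.Star.Focal
import Cfsg.Agent.BlocksB.InertialAbelian

/-!
# Counting the characters of a block with abelian defect group along twists

For a block with abelian defect group the linear characters of the defect group that are trivial
on a subgroup containing all commutators with the inertial group act freely on the characters.
Taking traces gives one equation for each coset of that subgroup.
-/

set_option autoImplicit false
set_option linter.style.haveILetI false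
set_option linter.unusedSectionVars false

namespace CfsgLib.AbelianTwist

open Cfsg Finset CfsgLib.Block CfsgLib.Block.Chr CfsgLib.BrauerPairs CfsgLib.BlockStar CfsgLib.Char
  CfsgLib.BlockB
open scoped ComplexConjugate
open scoped Classical

universe u

section focal

variable {G : Type u} [Group G] [Fintype G] {p : ℕ}

local notation "C[" Q "]" => Subgroup.centralizer (SetLike.coe Q)
local notation "N[" Q "]" => Subgroup.normalizer (SetLike.coe Q)

/-- The subgroup generated by the commutators of `P` with `T`. -/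
def focal (P T : Subgroup G) : Subgroup G :=
  Subgroup.closure {y | ∃ t ∈ T, ∃ u ∈ P, y = u⁻¹ * (t * u * t⁻¹)}

theorem focal_le {P T : Subgroup G} (hT : T ≤ N[P]) : focal P T ≤ P := by
  refine (Subgroup.closure_le _).2 ?_
  rintro _ ⟨t, ht, u, hu, rfl⟩
  exact P.mul_mem (P.inv_mem hu) ((Subgroup.mem_normalizer_iff.1 (hT ht) u).1 hu)

theorem mem_focal {P T : Subgroup G} {t u : G} (ht : t ∈ T) (hu : u ∈ P) :
    u⁻¹ * (t * u * t⁻¹) ∈ focal P T := Subgroup.subset_closure ⟨t, ht, u, hu, rfl⟩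

/-- A coprime group of automorphisms fixes no nontrivial element of its commutator subgroup. -/
theorem eq_one_of_fixed_mem_focal [Fact p.Prime] {P T : Subgroup G} (hPp : IsPGroup p P)
    (hab : ∀ x ∈ P, ∀ y ∈ P, x * y = y * x) (hT : T ≤ N[P])
    (hp : ¬ p ∣ (C[P] : Subgroup G).relIndex T) {v : G} (hv : v ∈ focal P T)
    (hfix : ∀ t ∈ T, t * v * t⁻¹ = v) : v = 1 := by
  letI : CommGroup P :=
    { (inferInstance : Group P) with mul_comm := fun a b => Subtype.ext (hab a a.2 b b.2) }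
  haveI hKn : ((C[P] : Subgroup G).subgroupOf T).Normal := by
    refine ⟨fun n hn g => Subgroup.mem_subgroupOf.2 ?_⟩
    exact ((Subgroup.mem_normalizer_iff.1 (map_normalizer_centralizer (hT g.2))) _).1
      (Subgroup.mem_subgroupOf.1 hn)
  set K := (C[P] : Subgroup G).subgroupOf T with hK
  haveI : Fintype (T ⧸ K) := Fintype.ofFinite _
  let act : T → P → P := fun t x =>
    ⟨t * x * (t : G)⁻¹, (Subgroup.mem_normalizer_iff.1 (hT t.2) x).1 x.2⟩
  let τ : P →* P := MonoidHom.mk' (fun x => ∏ q : T ⧸ K, act q.out x) fun x y => by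
    rw [← prod_mul_distrib]
    refine prod_congr rfl fun q _ => Subtype.ext ?_
    show (q.out : G) * ((x : G) * y) * (q.out : G)⁻¹ =
      (q.out : G) * x * (q.out : G)⁻¹ * ((q.out : G) * y * (q.out : G)⁻¹)
    group
  have hkill : ∀ t : T, ∀ x : P, τ (act t x) = τ x := by
    intro t x
    refine Fintype.prod_equiv (Equiv.mulRight (t : T ⧸ K)) _ _ fun q => Subtype.ext ?_
    obtain ⟨k, hk⟩ := QuotientGroup.mk_out_eq_mul K (q.out * t)
    have he : (q * (t : T ⧸ K)).out = q.out * t * k := by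
      rw [← hk, QuotientGroup.mk_mul, QuotientGroup.out_eq']
    show (q.out : G) * ((t : G) * x * (t : G)⁻¹) * (q.out : G)⁻¹ =
      (((q * (t : T ⧸ K)).out : T) : G) * x * (((q * (t : T ⧸ K)).out : T) : G)⁻¹
    rw [he]
    have hkx : ((k : T) : G) * x * ((k : T) : G)⁻¹ = x :=
      mul_inv_eq_iff_eq_mul.2 ((Subgroup.mem_centralizer_iff.1 (Subgroup.mem_subgroupOf.1 k.2) x
        x.2).symm)
    push_cast
    calc (q.out : G) * ((t : G) * x * (t : G)⁻¹) * (q.out : G)⁻¹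
        = (q.out : G) * (t : G) * (((k : T) : G) * x * ((k : T) : G)⁻¹) *
          ((q.out : G) * (t : G))⁻¹ := by rw [hkx]; group
      _ = _ := by group
  have hle : focal P T ≤ τ.ker.map P.subtype := by
    refine (Subgroup.closure_le _).2 ?_
    rintro _ ⟨t, ht, u, hu, rfl⟩
    refine ⟨⟨u, hu⟩⁻¹ * act ⟨t, ht⟩ ⟨u, hu⟩, ?_, rfl⟩
    rw [SetLike.mem_coe, MonoidHom.mem_ker, map_mul, map_inv, hkill, inv_mul_cancel]
  obtain ⟨w, hw, rfl⟩ := hle hv
  rw [SetLike.mem_coe, MonoidHom.mem_ker] at hw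
  have h1 : w ^ (C[P] : Subgroup G).relIndex T = 1 := by
    rw [← hw]
    show _ = ∏ q : T ⧸ K, act q.out w
    rw [prod_congr rfl fun q _ => show act q.out w = w from Subtype.ext (hfix _ q.out.2),
      prod_const, card_univ, ← Nat.card_eq_fintype_card]
    rfl
  obtain ⟨j, hj⟩ := hPp w
  have hg := pow_gcd_eq_one.mpr ⟨hj, h1⟩
  rw [((Fact.out : p.Prime).coprime_iff_not_dvd.2 hp).pow_left j, pow_one] at hg
  rw [hg]
  rfl

end focal

variable {M : Ideal AlgInt} [M.IsPrime] {p : ℕ} [Fact p.Prime] [CharP (Residue M) p]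
  {G : Type u} [Group G] [Fintype G]

local notation "𝕜" => Residue M
local notation "Z[" x "]" => Subgroup.zpowers x
local notation "C[" Q "]" => Subgroup.centralizer (SetLike.coe Q)
local notation "N[" Q "]" => Subgroup.normalizer (SetLike.coe Q)

variable {B : Set (IrrCharacter G)} {P : Subgroup G} {e : MonoidAlgebra (Residue M) G}

theorem subBlk_conj_stab (hP : IsPair p (P, e)) {g u : G} (hg : g ∈ stab P e) (hu : u ∈ P) :
    cj 𝕜 g (subBlk p P e u) = subBlk p P e (g * u * g⁻¹) := by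
  have h := (subBlk_ple hP hu).cj g
  rw [show cjPair g (P, e) = (P, e) from Prod.ext (map_conj_eq_self hg.1) hg.2, cjPair_zpowers] at h
  exact ple_unique hP h (subBlk_ple hP ((Subgroup.mem_normalizer_iff.1 hg.1 u).1 hu))

/-- Subsections in an abelian defect group conjugate in the group are conjugate in the inertial
group. -/
theorem fusion (hM : IsPModular p M) (hB : IsPBlock M B)
    (hmax : IsMaxPair p (idem M B) (P, e)) (hab : ∀ x ∈ P, ∀ y ∈ P, x * y = y * x) {g u v : G}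
    (hu : u ∈ P) (hv : v ∈ P) (hguv : g * u * g⁻¹ = v)
    (hgf : cj 𝕜 g (subBlk p P e u) = subBlk p P e v) :
    ∃ t ∈ stab P e, t * u * t⁻¹ = v := by
  have hP : IsPair p (P, e) := hmax.1.1
  obtain ⟨c, hc, rfl⟩ : ∃ c : Set (IrrCharacter C[P]), IsPBlock M c ∧ idemIn M C[P] c = e :=
    exists_idemIn_eq hM hP.2
  haveI := Fintype.ofFinite (C[Z[v]] : Subgroup G)
  have hZP : Z[v] ≤ P := Subgroup.zpowers_le.2 hv
  obtain ⟨f, hf⟩ := Inertial.exists_inducedIn hM hP.1 hc hab hZP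
  have hle := Inertial.ple_of_inducedIn hM hP hab hZP hf
  have hfE : idemIn M C[Z[v]] f = subBlk p P (idemIn M C[P] c) v :=
    ple_unique hP hle (subBlk_ple hP hv)
  obtain ⟨e', hee', hP', hmax'⟩ := Inertial.local_maxPair hM hB hP hmax hab hZP hf
  have hPC : P ≤ C[Z[v]] := fun x hx =>
    Subgroup.mem_centralizer_iff.mpr fun y hy => hab y (hZP hy) x hx
  set P' := P.subgroupOf C[Z[v]]
  have hmapP : P'.map (C[Z[v]] : Subgroup G).subtype = P := Subgroup.map_subgroupOf_eq_of_le hPC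
  set e₀ := idemIn M C[P] c
  set gP := P.map (MulAut.conj g).toMonoidHom with hgP
  have hgPC : gP ≤ C[Z[v]] := by
    rintro _ ⟨y, hy, rfl⟩
    refine mem_cz.2 ?_
    show g * y * g⁻¹ * v = v * (g * y * g⁻¹)
    rw [← hguv]
    calc g * y * g⁻¹ * (g * u * g⁻¹) = g * (y * u) * g⁻¹ := by group
      _ = g * (u * y) * g⁻¹ := by rw [hab y hy u hu]
      _ = _ := by group
  have hgPair : IsPair p (gP, cj 𝕜 g e₀) := hP.cj g
  have hvgP : v ∈ gP := ⟨u, hu, hguv⟩
  have hcen : C[gP] ≤ C[Z[v]] :=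
    Subgroup.centralizer_le (SetLike.coe_subset_coe.mpr (Subgroup.zpowers_le.2 hvgP))
  set e'' := restr (C[Z[v]] : Subgroup G) (cj 𝕜 g e₀)
  have he'' : emb C[Z[v]] e'' = cj 𝕜 g e₀ := emb_restr _ (hgPair.suppIn.mono hcen)
  set gP' := gP.subgroupOf C[Z[v]]
  have hmapg : gP'.map (C[Z[v]] : Subgroup G).subtype = gP :=
    Subgroup.map_subgroupOf_eq_of_le hgPC
  have hep : embPair (C[Z[v]] : Subgroup G) (gP', e'') = (gP, cj 𝕜 g e₀) := Prod.ext hmapg he''
  have hgP' : IsPair p (gP', e'') :=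
    (isPair_embPair_iff _ (by rw [hmapg]; exact hcen)).mp (hep ▸ hgPair)
  have hof : IsPairOf p (idem M f) (gP', e'') := by
    refine ⟨hgP', emb_injective (C[Z[v]] : Subgroup G) ?_⟩
    rw [map_mul, ← br_emb_eq, hmapg, ← idemIn_eq, he'']
    have hPu : P ≤ C[Z[u]] := fun x hx => mem_cz.2 (hab x hx u hu)
    have hstep : NStep p (Z[u], subBlk p P e₀ u) (P, e₀) :=
      PLE.nstep_of_le_normalizer hP (subBlk_ple hP hu) (hPu.trans (centralizer_le_normalizer _))
    have h1 := congrArg (cj 𝕜 g) hstep.2.2.2.2.2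
    rw [map_mul, cj_br, hgf, ← hfE, ← hgP] at h1
    exact h1
  obtain ⟨d, hd⟩ := exists_conj_ple_max (isBlk_idem hM hf.2.1) hmax' hof
  have heq : (cjPair d (gP', e'')).1 = P' := by
    refine Subgroup.eq_of_le_of_card_ge hd.le (le_of_eq ?_)
    show Nat.card P' = Nat.card (gP'.map (MulAut.conj d).toMonoidHom)
    rw [Subgroup.card_map_of_injective (MulAut.conj d).injective,
      Nat.card_congr (Subgroup.subgroupOfEquivOfLe hPC).toEquiv,
      Nat.card_congr (Subgroup.subgroupOfEquivOfLe hgPC).toEquiv, hgP,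
      Subgroup.card_map_of_injective (MulAut.conj g).injective]
  have h2 : cjPair d (gP', e'') = (P', e') := PLE.eq_of_eq hd heq
  have h3 := congrArg (embPair (C[Z[v]] : Subgroup G)) h2
  rw [← cjPair_embPair, hep, show (gP, cj 𝕜 g e₀) = cjPair g (P, e₀) from rfl, ← cjPair_mul,
    show embPair (C[Z[v]] : Subgroup G) (P', e') = (P, e₀) from Prod.ext hmapP hee'] at h3
  refine ⟨(d : G) * g, ⟨?_, congrArg Prod.snd h3⟩, ?_⟩
  · rw [Subgroup.mem_normalizer_iff]
    intro a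
    have hm3 : P.map (MulAut.conj ((d : G) * g)).toMonoidHom = P := congrArg Prod.fst h3
    conv_rhs => rw [← hm3]
    exact (Subgroup.mem_map_iff_mem (f := (MulAut.conj ((d : G) * g)).toMonoidHom)
      (MulAut.conj _).injective).symm
  · calc (d : G) * g * u * ((d : G) * g)⁻¹ = (d : G) * (g * u * g⁻¹) * (d : G)⁻¹ := by group
      _ = v := by rw [hguv, mem_cz.1 d.2, mul_inv_cancel_right]

/-- The order of the stabilizer of an element in the inertial group. -/
noncomputable def cnt (T : Subgroup G) (u : G) : ℕ := Nat.card (T ⊓ C[Z[u]] : Subgroup G)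

/-- Sums over all subsections of the block. -/
theorem sum_pairs (hM : IsPModular p M) (hB : IsPBlock M B)
    (hmax : IsMaxPair p (idem M B) (P, e)) (hab : ∀ x ∈ P, ∀ y ∈ P, x * y = y * x) [Fintype P]
    (F : G → MonoidAlgebra 𝕜 G → ℂ)
    (hF0 : ∀ x ∈ pSet p G, ∀ f ∈ blks M x, ¬ IsPairOf p (idem M B) (Z[x], f) → F x f = 0)
    (hFG : ∀ x ∈ pSet p G, ∀ f ∈ blks M x, ∀ g, F (g * x * g⁻¹) (cj 𝕜 g f) = F x f) :
    (Nat.card G : ℂ) * ∑ u : P, (cnt (stab P e) u : ℂ) * F (u : G) (subBlk p P e (u : G)) =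
      (Nat.card (stab P e) : ℂ) *
        ∑ x ∈ pSet p G, (Nat.card C[Z[x]] : ℂ) * ∑ f ∈ blks M x, F x f := by
  have hP : IsPair p (P, e) := hmax.1.1
  have hb := isBlk_idem hM hB
  set E := fun u : G => subBlk p P e u
  set T := stab P e with hT
  set S := (pSet p G).sigma fun x => blks M x
  let Ψ : G × P → (_ : G) × MonoidAlgebra 𝕜 G := fun y =>
    ⟨y.1 * (y.2 : G) * y.1⁻¹, cj 𝕜 y.1 (E y.2)⟩
  have hEblk : ∀ u : P, E u ∈ blks M (u : G) := fun u =>
    mem_blks.2 (PLE.isPair (subBlk_ple hP u.2) hP).2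
  have hΨ : ∀ y ∈ (univ : Finset (G × P)), Ψ y ∈ S := fun y _ => by
    refine mem_sigma.2 ⟨?_, ?_⟩
    · obtain ⟨j, hj⟩ := mem_pSet.1 (mem_pSet_of_mem hP y.2.2)
      exact mem_pSet.2 ⟨j, by rw [conj_pow, hj, mul_one, mul_inv_cancel]⟩
    · have := (mem_blks.1 (hEblk y.2)).cj y.1
      rw [map_conj_centralizer, MonoidHom.map_zpowers] at this
      exact mem_blks.2 this
  have h1 : (Nat.card G : ℂ) * ∑ u : P, (cnt T u : ℂ) * F (u : G) (E u) =
      ∑ y : G × P, (cnt T y.2 : ℂ) * F (Ψ y).1 (Ψ y).2 := by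
    rw [Fintype.sum_prod_type]
    have : ∀ g : G, ∑ u : P, (cnt T u : ℂ) * F (Ψ (g, u)).1 (Ψ (g, u)).2 =
        ∑ u : P, (cnt T u : ℂ) * F (u : G) (E u) := fun g => sum_congr rfl fun u _ => by
      rw [hFG _ (mem_pSet_of_mem hP u.2) _ (hEblk u) g]
    rw [sum_congr rfl fun g _ => this g, sum_const, card_univ, nsmul_eq_mul,
      Nat.card_eq_fintype_card]
  rw [h1, ← sum_fiberwise_of_maps_to hΨ fun y => (cnt T y.2 : ℂ) * F (Ψ y).1 (Ψ y).2]
  simp only [mul_sum]
  rw [show S = (pSet p G).sigma (fun x => blks M x) from rfl, Finset.sum_sigma]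
  refine sum_congr rfl fun x hx => sum_congr rfl fun f hf => ?_
  refine (sum_congr rfl (g := fun y => (cnt T y.2 : ℂ) * F x f) fun y hy => ?_).trans ?_
  · rw [(mem_filter.1 hy).2]
  by_cases hpair : IsPairOf p (idem M B) (Z[x], f)
  swap
  · simp [hF0 x hx f hf hpair]
  rw [← sum_mul, ← mul_assoc]
  congr 1
  rw [← Nat.cast_sum, ← Nat.cast_mul, Nat.cast_inj]
  obtain ⟨a, ha⟩ := exists_conj_ple_max hb hmax hpair
  rw [cjPair_zpowers] at ha
  set u0 := a * x * a⁻¹ with hu0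
  have hu0P : u0 ∈ P := PLE.le ha (Subgroup.mem_zpowers _)
  have hfE : E u0 = cj 𝕜 a f := ple_unique hP (subBlk_ple hP hu0P) ha
  have hconj : ∀ t : T, (t : G) * u0 * (t : G)⁻¹ ∈ P := fun t =>
    (Subgroup.mem_normalizer_iff.1 t.2.1 u0).1 hu0P
  let Λ : T × C[Z[x]] → G × P := fun z =>
    ((z.2 : G) * a⁻¹ * ((z.1 : T) : G)⁻¹, ⟨_, hconj z.1⟩)
  have hΛ : ∀ z ∈ (univ : Finset (T × C[Z[x]])),
      Λ z ∈ univ.filter fun y : G × P => Ψ y = ⟨x, f⟩ := fun z _ => by
    refine mem_filter.2 ⟨mem_univ _, Sigma.ext ?_ (heq_of_eq ?_)⟩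
    · show ((z.2 : G) * a⁻¹ * (z.1 : G)⁻¹) * ((z.1 : G) * u0 * (z.1 : G)⁻¹) *
        ((z.2 : G) * a⁻¹ * (z.1 : G)⁻¹)⁻¹ = x
      rw [hu0, show ((z.2 : G) * a⁻¹ * (z.1 : G)⁻¹) *
        ((z.1 : G) * (a * x * a⁻¹) * (z.1 : G)⁻¹) *
        ((z.2 : G) * a⁻¹ * (z.1 : G)⁻¹)⁻¹ = (z.2 : G) * x * (z.2 : G)⁻¹ by group,
        mem_cz.1 z.2.2, mul_inv_cancel_right]
    · show cj 𝕜 ((z.2 : G) * a⁻¹ * (z.1 : G)⁻¹) (E _) = f
      rw [show E ((z.1 : G) * u0 * (z.1 : G)⁻¹) = cj 𝕜 (z.1 : G) (E u0) from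
          (subBlk_conj_stab hP z.1.2 hu0P).symm, ← cj_mul, inv_mul_cancel_right, cj_mul,
        hfE, cj_inv_cj, (mem_blks.1 hf).fixBy _ z.2.2]
  have hcount := card_eq_sum_card_fiberwise hΛ
  rw [card_univ, Fintype.card_prod, ← Nat.card_eq_fintype_card, ← Nat.card_eq_fintype_card] at hcount
  rw [hcount]
  refine sum_congr rfl fun y hy => ?_
  obtain ⟨g, u⟩ := y
  obtain ⟨-, hΨy⟩ := mem_filter.1 hy
  obtain ⟨e1, e2⟩ := Sigma.mk.inj_iff.1 hΨy
  have e2' : cj 𝕜 g (E u) = f := eq_of_heq e2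
  have hgx : (g⁻¹ * a⁻¹) * u0 * (g⁻¹ * a⁻¹)⁻¹ = (u : G) := by rw [hu0, ← e1]; group
  obtain ⟨t0, ht0, ht0u⟩ := fusion hM hB hmax hab hu0P u.2 hgx (by
    show cj 𝕜 (g⁻¹ * a⁻¹) (E u0) = E u
    rw [hfE, ← cj_mul, inv_mul_cancel_right, ← e2', cj_inv_cj])
  have hmem : ∀ s : (T ⊓ C[Z[(u : G)]] : Subgroup G),
      (s : G) * t0 * u0 * ((s : G) * t0)⁻¹ = u := fun s => by
    calc (s : G) * t0 * u0 * ((s : G) * t0)⁻¹ = (s : G) * (t0 * u0 * t0⁻¹) * (s : G)⁻¹ := by group
      _ = u := by rw [ht0u, mem_cz.1 s.2.2, mul_inv_cancel_right]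
  rw [← Fintype.card_subtype, ← Nat.card_eq_fintype_card, cnt]
  refine Nat.card_congr
    { toFun := fun s => ⟨(⟨(s : G) * t0, T.mul_mem s.2.1 ht0⟩,
        ⟨g * ((s : G) * t0) * a, mem_cz.2 ?_⟩), Prod.ext ?_ (Subtype.ext (hmem s))⟩
      invFun := fun z => ⟨(z.1.1 : G) * t0⁻¹, T.mul_mem z.1.1.2 (T.inv_mem ht0), mem_cz.2 ?_⟩
      left_inv := fun s => Subtype.ext (mul_inv_cancel_right _ _)
      right_inv := fun z => Subtype.ext (Prod.ext (Subtype.ext (inv_mul_cancel_right _ _))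
        (Subtype.ext ?_)) }
  · refine mul_inv_eq_iff_eq_mul.1 ?_
    calc g * ((s : G) * t0) * a * x * (g * ((s : G) * t0) * a)⁻¹
        = g * ((s : G) * t0 * u0 * ((s : G) * t0)⁻¹) * g⁻¹ := by rw [hu0]; group
      _ = x := by rw [hmem s]; exact e1
  · show g * ((s : G) * t0) * a * a⁻¹ * ((s : G) * t0)⁻¹ = g
    group
  · have h2 : (z.1.1 : G) * u0 * (z.1.1 : G)⁻¹ = u :=
      congrArg (fun y : G × P => (y.2 : G)) z.2
    refine mul_inv_eq_iff_eq_mul.1 ?_
    calc (z.1.1 : G) * t0⁻¹ * u * ((z.1.1 : G) * t0⁻¹)⁻¹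
        = (z.1.1 : G) * t0⁻¹ * (t0 * u0 * t0⁻¹) * ((z.1.1 : G) * t0⁻¹)⁻¹ := by rw [ht0u]
      _ = (z.1.1 : G) * u0 * (z.1.1 : G)⁻¹ := by group
      _ = u := h2
  · show g * ((z.1.1 : G) * t0⁻¹ * t0) * a = z.1.2
    have h3 : (z.1.2 : G) * a⁻¹ * (z.1.1 : G)⁻¹ = g := congrArg Prod.fst z.2
    rw [inv_mul_cancel_right]
    calc g * (z.1.1 : G) * a = (z.1.2 : G) * a⁻¹ * (z.1.1 : G)⁻¹ * (z.1.1 : G) * a := by rw [h3]
      _ = z.1.2 := by group

theorem isFocalKilled (hM : IsPModular p M) (hB : IsPBlock M B)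
    (hmax : IsMaxPair p (idem M B) (P, e)) (hab : ∀ x ∈ P, ∀ y ∈ P, x * y = y * x)
    {N : Subgroup G} (hN : ∀ t ∈ stab P e, ∀ u ∈ P, u⁻¹ * (t * u * t⁻¹) ∈ N) :
    IsFocalKilled p P e (N.subgroupOf P) := by
  have hP : IsPair p (P, e) := hmax.1.1
  intro u g hC
  have hmem : g * u * g⁻¹ ∈ P := hC.map_le ⟨u, Subgroup.mem_zpowers _, rfl⟩
  obtain ⟨f, hf, hgf⟩ := hC
  rw [cjPair_zpowers] at hgf
  obtain ⟨t, ht, htu⟩ := fusion hM hB hmax hab u.2 hmem rfl (by
    rw [← ple_unique hP hf (subBlk_ple hP u.2)]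
    exact ple_unique hP hgf (subBlk_ple hP hmem))
  refine ⟨⟨(u : G)⁻¹ * (g * u * g⁻¹), P.mul_mem (P.inv_mem u.2) hmem⟩, ?_, rfl⟩
  rw [Subgroup.mem_subgroupOf]
  show (u : G)⁻¹ * (g * u * g⁻¹) ∈ N
  rw [← htu]
  exact hN t ht u u.2

/-- The values of a twisting group separate the points outside its kernel. -/
theorem sum_homKer {A : Type u} [Group A] [Finite A] (hc : ∀ a b : A, a * b = b * a)
    (N : Subgroup A) [Fintype (homKer N)] (x : A) :
    ∑ l : homKer N, ((l.1 x : ℂˣ) : ℂ) = if x ∈ N then (N.index : ℂ) else 0 := by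
  haveI hn : ∀ K : Subgroup A, K.Normal := fun K =>
    ⟨fun k hk g => by rwa [hc g k, mul_inv_cancel_right]⟩
  have hcomm : ∀ K : Subgroup A, commutator A ≤ K := fun K => by
    rw [commutator_def, Subgroup.commutator_le]
    intro a _ b _
    rw [commutatorElement_def, hc a b, mul_inv_cancel_right, mul_inv_cancel]
    exact K.one_mem
  split_ifs with hx
  · rw [sum_congr rfl fun l _ => show ((l.1 x : ℂˣ) : ℂ) = 1 by rw [l.2 x hx, Units.val_one],
      sum_const, card_univ, ← Nat.card_eq_fintype_card, card_homKer N (hcomm N), nsmul_eq_mul,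
      mul_one]
  · obtain ⟨l0, hl0⟩ : ∃ l : homKer N, l.1 x ≠ 1 := by
      by_contra hall
      simp only [not_exists, not_not] at hall
      have hlt : N < N ⊔ Subgroup.zpowers x := lt_of_le_of_ne le_sup_left fun h =>
        hx (h ▸ Subgroup.mem_sup_right (Subgroup.mem_zpowers x))
      have hle : homKer N ≤ homKer (N ⊔ Subgroup.zpowers x) := fun l hl y hy =>
        (sup_le (a := N) (b := Subgroup.zpowers x) (c := l.ker) (fun z hz => hl z hz)
          (Subgroup.zpowers_le.2 (hall ⟨l, hl⟩)) hy)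
      haveI : Finite (A →* ℂˣ) := Finite.of_equiv _ (linearCharEquiv (G := A)).symm
      have hcd := Subgroup.card_le_of_le hle
      rw [card_homKer N (hcomm N), card_homKer _ (hcomm _)] at hcd
      exact absurd hcd (not_le.2 (Subgroup.index_strictAnti hlt))
    have h : ((l0.1 x : ℂˣ) : ℂ) * ∑ l : homKer N, ((l.1 x : ℂˣ) : ℂ) =
        ∑ l : homKer N, ((l.1 x : ℂˣ) : ℂ) := by
      rw [mul_sum]
      exact Fintype.sum_equiv (Equiv.mulLeft l0) _ _ fun l => by
        simp [MonoidHom.mul_apply]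
    by_contra hne
    exact hl0 (Units.ext ((mul_eq_right₀ hne).1 h))

/-- **The equations from the twists.** -/
theorem count (hM : IsPModular p M) (hB : IsPBlock M B)
    (hmax : IsMaxPair p (idem M B) (P, e)) (hab : ∀ x ∈ P, ∀ y ∈ P, x * y = y * x)
    {N : Subgroup G} (hN : ∀ t ∈ stab P e, ∀ u ∈ P, u⁻¹ * (t * u * t⁻¹) ∈ N) (R : G → ℕ)
    (hR : ∀ u ∈ P, ∀ d : Set (IrrCharacter C[Z[u]]), IsPBlock M d →
      idemIn M C[Z[u]] d = subBlk p P e u → blockRank p d = R u)
    [Fintype P] (u0 : P) :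
    (N.subgroupOf P).index *
        ∑ v ∈ univ.filter (fun v : P => (v : G) ∈ N),
          cnt (stab P e) ((u0 * v : P) : G) * R ((u0 * v : P) : G) =
      Nat.card B * Nat.card (stab P e) := by
  letI := irrFintype (G := G)
  have hP : IsPair p (P, e) := hmax.1.1
  have hb := isBlk_idem hM hB
  have hF : IsFocalKilled p P e (N.subgroupOf P) := isFocalKilled hM hB hmax hab hN
  haveI : Finite (P →* ℂˣ) := Finite.of_equiv _ (linearCharEquiv (G := P)).symm
  haveI : Fintype (homKer (N.subgroupOf P)) := Fintype.ofFinite _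
  obtain ⟨ψ0, hψ0, h0⟩ := exists_height_zero hM hB
  set SB := univ.filter (fun χ : IrrCharacter G => χ ∈ B)
  have htr : ∀ l : homKer (N.subgroupOf P),
      ∑ u : P, (cnt (stab P e) u : ℂ) * (R u : ℂ) * ((l.1 u : ℂˣ) : ℂ) =
        (Nat.card (stab P e) : ℂ) * if l = 1 then (Nat.card B : ℂ) else 0 := by
    intro l
    set W := weight p P e (linFun l.1)
    have hst := stable_linFun hF l
    have hfix : ∀ χ ∈ SB, classInner (twist p P e l.1 χ) (χ : G → ℂ) =
        if l = 1 then 1 else 0 := by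
      intro χ hχ
      have hχB := (mem_filter.1 hχ).2
      obtain ⟨φ, hφ, -, -⟩ := twist_irr hM hB hmax hF l hχB
      rw [← hφ, classInner_irr]
      refine if_congr ⟨fun h => ?_, fun h => ?_⟩ rfl rfl
      · subst h
        refine Subtype.ext (MonoidHom.ext fun u => ?_)
        exact hom_eq_one_of_fixed hM hP hF l hφ u
          (contribR_center_ne_zero hM hB hmax hχB hψ0 h0 u.2
            (Subgroup.mem_centralizer_iff.2 fun v hv => hab v hv u u.2))
      · subst h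
        exact Subtype.ext (hφ.trans (twist_one_hom hM hB hmax hF hχB))
    have h1 : (if l = 1 then (Nat.card B : ℂ) else 0) = (Nat.card G : ℂ)⁻¹ *
        ∑ x ∈ pSet p G, (Nat.card C[Z[x]] : ℂ) *
          ∑ f ∈ blks M x, W x f * ∑ χ ∈ SB, contribR p χ χ x f := by
      have h2 : (if l = 1 then (Nat.card B : ℂ) else 0) =
          ∑ χ ∈ SB, classInner (twist p P e l.1 χ) (χ : G → ℂ) := by
        rw [sum_congr rfl hfix, sum_const, nsmul_eq_mul, mul_ite, mul_one, mul_zero,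
          Nat.card_eq_fintype_card, Fintype.card_subtype]
      rw [h2, sum_congr rfl fun χ _ => by
        rw [twist, ← starFun_const_one (M := M) hM χ, classInner_starFun' hM], ← mul_sum, sum_comm]
      congr 1
      refine sum_congr rfl fun x _ => ?_
      rw [← mul_sum, sum_comm]
      congr 1
      refine sum_congr rfl fun f _ => ?_
      rw [mul_sum]
      exact sum_congr rfl fun χ _ => by rw [map_one, mul_one]
    have h3 := sum_pairs hM hB hmax hab (fun x f => W x f * ∑ χ ∈ SB, contribR p χ χ x f)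
      (fun x hx f hf hn => by
        rw [sum_eq_zero fun χ hχ =>
          contribR_eq_zero hM hB (Or.inl (mem_filter.1 hχ).2) hx (mem_blks.1 hf) hn, mul_zero])
      (fun x hx f hf g => by
        show W _ _ * _ = W _ _ * _
        rw [show W (g * x * g⁻¹) (cj 𝕜 g f) = W x f from weight_conj hst g x f]
        exact congrArg _ (sum_congr rfl fun χ _ => contribR_conj hM χ χ hx (mem_blks.1 hf) g))
    have hG : (Nat.card G : ℂ) ≠ 0 := Nat.cast_ne_zero.2 Nat.card_pos.ne'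
    rw [h1, ← mul_assoc, mul_comm (Nat.card (stab P e) : ℂ), mul_assoc, ← h3,
      inv_mul_cancel_left₀ hG]
    refine sum_congr rfl fun u _ => ?_
    obtain ⟨d, hd, hdE⟩ : ∃ d : Set (IrrCharacter C[Z[(u : G)]]), IsPBlock M d ∧
        idemIn M C[Z[(u : G)]] d = subBlk p P e (u : G) :=
      exists_idemIn_eq hM (PLE.isPair (subBlk_ple hP u.2) hP).2
    have hpair : IsPairOf p (idem M B) (Z[(u : G)], idemIn M C[Z[(u : G)]] d) := by
      rw [hdE]
      exact (isPairOf_iff_of_ple hb (subBlk_ple hP u.2) hP).2 hmax.1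
    have hind := isInducedBlock_of_isBrauerPairOf hM (zpowers_le_centralizer_zpowers _)
      ((isBrauerPairOf_iff hM).2 ⟨⟨hpair.1.1, hd⟩, hB, hpair⟩)
    obtain ⟨n, hn⟩ := mem_pSet.1 (mem_pSet_of_mem hP u.2)
    obtain ⟨k, -, hk⟩ := (Nat.dvd_prime_pow hM.1).1 (orderOf_dvd_of_pow_eq_one hn)
    show (cnt (stab P e) u : ℂ) * (R u : ℂ) * _ = (cnt (stab P e) u : ℂ) * (W _ _ * _)
    rw [show W (u : G) (subBlk p P e (u : G)) = linFun l.1 (u : G) from
      weight_of_ple hst (subBlk_ple hP u.2), linFun_apply, ← hdE,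
      sum_congr rfl fun χ _ => contribR_idemIn hM χ χ (mem_pSet_of_mem hP u.2) hd,
      sum_contrib_diag hM (centralizer_zpowers_eq _) hk hind, hR u u.2 d hd hdE]
    ring
  have hcP : ∀ a b : P, a * b = b * a := fun a b => Subtype.ext (hab a a.2 b b.2)
  have hmain : (Nat.card (stab P e) : ℂ) * (Nat.card B : ℂ) =
      ∑ u : P, (cnt (stab P e) u : ℂ) * (R u : ℂ) *
        if u0⁻¹ * u ∈ N.subgroupOf P then ((N.subgroupOf P).index : ℂ) else 0 := by
    simp only [← sum_homKer hcP (N.subgroupOf P), mul_sum]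
    rw [sum_comm]
    have : ∀ l : homKer (N.subgroupOf P),
        ∑ u : P, (cnt (stab P e) u : ℂ) * (R u : ℂ) * ((l.1 (u0⁻¹ * u) : ℂˣ) : ℂ) =
          ((l.1 u0⁻¹ : ℂˣ) : ℂ) *
            ((Nat.card (stab P e) : ℂ) * if l = 1 then (Nat.card B : ℂ) else 0) := fun l => by
      rw [← htr l, mul_sum]
      exact sum_congr rfl fun u _ => by rw [map_mul, Units.val_mul]; ring
    rw [sum_congr rfl fun l _ => this l, sum_eq_single (1 : homKer (N.subgroupOf P))
      (fun l _ hl => by rw [if_neg hl, mul_zero, mul_zero]) (fun h => absurd (mem_univ _) h),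
      if_pos rfl, OneMemClass.coe_one, MonoidHom.one_apply, Units.val_one, one_mul]
  rw [← Nat.cast_inj (R := ℂ), Nat.cast_mul, Nat.cast_mul, mul_comm (Nat.card B : ℂ), hmain,
    ← Fintype.sum_equiv (Equiv.mulLeft u0) (fun v : P => (cnt (stab P e) ((u0 * v : P) : G) : ℂ) *
      (R ((u0 * v : P) : G) : ℂ) *
      if u0⁻¹ * (u0 * v) ∈ N.subgroupOf P then ((N.subgroupOf P).index : ℂ) else 0) _
      (fun v => rfl)]
  push_cast
  rw [sum_filter, mul_sum]
  refine sum_congr rfl fun v _ => ?_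
  simp only [inv_mul_cancel_left, Subgroup.mem_subgroupOf, mul_ite, mul_zero]
  split_ifs <;> ring

end CfsgLib.AbelianTwist
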