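import Cfsg.Agent.BlocksB.SymmFactor
import Mathlib.Data.Int.GCD
import Mathlib.LinearAlgebra.Matrix.Notation
import Mathlib.Tactic.Linarith

/-!
# Binary Gram matrices

Reduction of a Gram matrix of two columns, and the bound on `a + c - b` for a reduced one.
-/

namespace CfsgLib.BlockB

open Matrix Finset

namespace SymFactor

variable {ι : Type*} [Fintype ι] {R : Matrix ι ι ℤ} {q : ℤ} {l : ℕ}

theorem C_apply (S : SymFactor R q l) (i j : Fin l) : S.C i j = ∑ t, S.E t i * S.E t j := by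
  simp [C, Matrix.mul_apply]

theorem C_diag_pos (S : SymFactor R q l) (i : Fin l) : 0 < S.C i i := by
  rw [C_apply]
  refine lt_of_le_of_ne (sum_nonneg fun t _ => mul_self_nonneg _) fun h => ?_
  have hz : ∀ t, S.E t i = 0 := fun t => by
    have := (sum_eq_zero_iff_of_nonneg fun t _ => mul_self_nonneg (S.E t i)).1 h.symm t (mem_univ t)
    exact mul_self_eq_zero.1 this
  have h1 := congrFun (congrFun S.hFE i) i
  simp [Matrix.mul_apply, hz] at h1

/-- A factorization with reduced Gram matrix. -/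
theorem exists_reduced (S : SymFactor R q 2) :
    ∃ S' : SymFactor R q 2,
      0 ≤ S'.C 0 1 ∧ 2 * S'.C 0 1 ≤ S'.C 0 0 ∧ S'.C 0 0 ≤ S'.C 1 1 := by
  classical
  have hex : ∃ N : ℕ, ∃ S' : SymFactor R q 2, S'.C 0 0 + S'.C 1 1 = (N : ℤ) :=
    ⟨(S.C 0 0 + S.C 1 1).toNat, S,
      (Int.toNat_of_nonneg (add_nonneg (S.C_diag_pos 0).le (S.C_diag_pos 1).le)).symm⟩
  obtain ⟨S', hS'⟩ := Nat.find_spec hex
  have hmin : ∀ S'' : SymFactor R q 2,
      S'.C 0 0 + S'.C 1 1 ≤ S''.C 0 0 + S''.C 1 1 := by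
    intro S''
    have h0 := add_nonneg (S''.C_diag_pos 0).le (S''.C_diag_pos 1).le
    have := Nat.find_min' hex ⟨S'', (Int.toNat_of_nonneg h0).symm⟩
    rw [hS']
    omega
  have hsymm : ∀ T : SymFactor R q 2, T.C 1 0 = T.C 0 1 := fun T => by
    conv_lhs => rw [← T.C_symm]
    rfl
  have hshear : ∀ T : SymFactor R q 2, T.C 0 0 + T.C 1 1 = S'.C 0 0 + S'.C 1 1 →
      2 * T.C 0 1 ≤ T.C 0 0 ∧ -(2 * T.C 0 1) ≤ T.C 0 0 := by
    intro T hT
    have h1 := hmin (T.transform !![1, -1; 0, 1] !![1, 1; 0, 1] (by decide) (by decide))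
    have h2 := hmin (T.transform !![1, 1; 0, 1] !![1, -1; 0, 1] (by decide) (by decide))
    simp [transform_C, Matrix.mul_apply, Fin.sum_univ_two, hsymm T] at h1 h2
    constructor <;> linarith
  obtain ⟨T, hT, hle⟩ : ∃ T : SymFactor R q 2,
      T.C 0 0 + T.C 1 1 = S'.C 0 0 + S'.C 1 1 ∧ T.C 0 0 ≤ T.C 1 1 := by
    rcases le_total (S'.C 0 0) (S'.C 1 1) with h | h
    · exact ⟨S', rfl, h⟩
    · refine ⟨S'.transform !![0, 1; 1, 0] !![0, 1; 1, 0] (by decide) (by decide), ?_⟩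
      simp [transform_C, Matrix.mul_apply, Fin.sum_univ_two]
      exact ⟨add_comm _ _, h⟩
  rcases le_total 0 (T.C 0 1) with h | h
  · exact ⟨T, h, (hshear T hT).1, hle⟩
  · refine ⟨T.transform !![1, 0; 0, -1] !![1, 0; 0, -1] (by decide) (by decide), ?_⟩
    simp [transform_C, Matrix.mul_apply, Fin.sum_univ_two]
    have := (hshear T hT).2
    exact ⟨h, by linarith, hle⟩

end SymFactor

/-- The bound for a reduced form, with one exception. -/
theorem reduced_bound {a b c x y z q : ℤ} (ha : 0 < a) (hb : 0 ≤ b) (hba : 2 * b ≤ a) (hac : a ≤ c)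
    (hq : 0 < q) (h1 : x * a + y * b = q) (h2 : x * b + y * c = 0) (h3 : y * a + z * b = 0)
    (h4 : y * b + z * c = q) :
    a + c - b ≤ q ∨ (b = 0 ∧ y = 0 ∧ x * a = q ∧ z * c = q ∧ a ∣ c) := by
  set g := ((Int.gcd (Int.gcd a b : ℤ) c : ℕ) : ℤ) with hg
  have hga : g ∣ a := (Int.gcd_dvd_left _ _).trans (Int.gcd_dvd_left _ _)
  have hgb : g ∣ b := (Int.gcd_dvd_left _ _).trans (Int.gcd_dvd_right _ _)
  have hgc : g ∣ c := Int.gcd_dvd_right _ _
  have hbez : g = a * (Int.gcdA a b * Int.gcdA (Int.gcd a b : ℤ) c) +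
      b * (Int.gcdB a b * Int.gcdA (Int.gcd a b : ℤ) c) + c * Int.gcdB (Int.gcd a b : ℤ) c := by
    rw [hg, Int.gcd_eq_gcd_ab (Int.gcd a b : ℤ) c]
    nth_rw 1 [Int.gcd_eq_gcd_ab a b]
    ring
  generalize Int.gcdA a b * Int.gcdA (Int.gcd a b : ℤ) c = α at hbez
  generalize Int.gcdB a b * Int.gcdA (Int.gcd a b : ℤ) c = β at hbez
  generalize Int.gcdB (Int.gcd a b : ℤ) c = γ at hbez
  obtain ⟨a', ha'⟩ := hga
  obtain ⟨b', hb'⟩ := hgb
  obtain ⟨c', hc'⟩ := hgc
  have hg0 : 0 < g := by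
    rcases lt_trichotomy g 0 with h | h | h
    · exact absurd h (not_lt.2 (Int.natCast_nonneg _))
    · rw [h, zero_mul] at ha'
      omega
    · exact h
  clear_value g
  subst ha' hb' hc'
  have hapos : 0 < a' := pos_of_mul_pos_right ha hg0.le
  have hbpos : 0 ≤ b' := nonneg_of_mul_nonneg_right hb hg0
  have hba' : 2 * b' ≤ a' := le_of_mul_le_mul_left (by linarith) hg0
  have hac' : a' ≤ c' := le_of_mul_le_mul_left hac hg0
  have hone : a' * α + b' * β + c' * γ = 1 := mul_left_cancel₀ hg0.ne' (by linarith)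
  set t := x * a' + y * b' with ht
  have hqt : q = g * t := by rw [← h1, ht]; ring
  have e2 : x * b' + y * c' = 0 := mul_left_cancel₀ hg0.ne' (by linarith)
  have e3 : y * a' + z * b' = 0 := mul_left_cancel₀ hg0.ne' (by linarith)
  have e4 : y * b' + z * c' = t := mul_left_cancel₀ hg0.ne' (by linarith)
  by_cases ha2 : a' = 1
  · subst ha2
    have hb0 : b' = 0 := by omega
    subst hb0
    have hc0 : 0 < c' := by omega
    have hy : y = 0 := by
      rw [mul_zero, zero_add] at e2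
      exact (mul_eq_zero.1 e2).resolve_right hc0.ne'
    refine Or.inr ⟨by ring, hy, ?_, ?_, by simp⟩
    · rw [mul_zero, mul_zero, add_zero] at h1
      exact h1
    · rw [mul_zero, mul_zero, zero_add] at h4
      exact h4
  refine Or.inl ?_
  have hD : 0 < a' * c' - b' * b' := by nlinarith
  have htpos : 0 < t := pos_of_mul_pos_right (hqt ▸ hq) hg0.le
  have hdvd : a' * c' - b' * b' ∣ t := by
    refine ⟨α * z - β * y + γ * x, ?_⟩
    linear_combination (-t) * hone - α * (-(b' * e3) + a' * e4) + β * (c' * e3 - b' * e4)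
      + γ * (b' * e2 + c' * ht)
  have hle := Int.le_of_dvd htpos hdvd
  have hkey : a' + c' - b' ≤ a' * c' - b' * b' := by
    have : 2 ≤ a' := by omega
    rcases eq_or_lt_of_le hbpos with rfl | hbp
    · nlinarith
    · nlinarith [mul_nonneg (show 0 ≤ a' - 1 by omega) (show 0 ≤ c' - 1 - (2 * b' - 1) by omega)]
  rw [hqt]
  nlinarith [mul_le_mul_of_nonneg_left (hkey.trans hle) hg0.le]

end CfsgLib.BlockB
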