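import Cfsg.Agent.BlocksB.CentralIdempotent
import Cfsg.Agent.Blocks.Regular
import Cfsg.Agent.Blocks.Principal
import Mathlib.Data.Nat.ChineseRemainder

/-!
# The principal block of a central product with `p`-group intersection
-/

set_option autoImplicit false
set_option linter.unusedSectionVars false
set_option linter.style.haveILetI false

namespace CfsgLib.Block.CentralProd

open Cfsg Finset CfsgLib.Block CfsgLib.Block.Chr CfsgLib.Block.CentralIdem
open scoped ComplexConjugate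

universe u

variable {G : Type u} [Group G] [Fintype G]

/-- Central characters agree at invariant class functions of a subgroup. -/
theorem omega_ext0_eq (U : Subgroup G) [Fintype U] (χ : IrrCharacter G) (ψ : IrrCharacter U)
    (h : classInner (fun u : U => (χ : G → ℂ) u) (ψ : U → ℂ) ≠ 0) {a : U → ℂ}
    (ha : IsClassFunction U a) (haG : IsClassFunction G (ext0 U a)) :
    omega (χ : G → ℂ) (ext0 U a) = omega (ψ : U → ℂ) a := by
  set c : ℂ := ∑ k : U, (χ : G → ℂ) k * conj ((ψ : U → ℂ) k) with hc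
  have hc0 : c ≠ 0 := fun h0 => h (by rw [classInner, ← hc, h0, mul_zero])
  have hsum : ∀ f : G → ℂ, ∑ g : G, ext0 U a g * f g = ∑ g : U, a g * f g := fun f => by
    rw [sum_eq_sum_subgroup U _ fun x hx => by rw [ext0_of_notMem a hx, zero_mul]]
    simp [ext0_coe]
  have h1 := class_mul χ haG (ext0 U fun k => conj ((ψ : U → ℂ) k))
  have h2 := class_mul ψ ha (fun k : U => (χ : G → ℂ) (k : G)⁻¹)
  have hsum' : ∀ (f : G → ℂ), ∑ k : G, ext0 U (fun k => conj ((ψ : U → ℂ) k)) k * f k =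
      ∑ k : U, conj ((ψ : U → ℂ) k) * f k := fun f => by
    rw [sum_eq_sum_subgroup U _ fun x hx => by rw [ext0_of_notMem _ hx, zero_mul]]
    simp [ext0_coe]
  have e1 : ∑ k : G, ext0 U (fun k => conj ((ψ : U → ℂ) k)) k * (χ : G → ℂ) k = c := by
    rw [hsum' fun k => (χ : G → ℂ) k, hc]
    exact sum_congr rfl fun k _ => mul_comm _ _
  have e2 : ∑ k : U, (χ : G → ℂ) (k : G)⁻¹ * (ψ : U → ℂ) k = c := by
    refine Fintype.sum_equiv (Equiv.inv U) _ _ fun k => ?_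
    rw [Equiv.inv_apply, Subgroup.coe_inv, conj_irr, inv_inv]
  have e3 : ∑ g : G, ∑ k : G, ext0 U a g * ext0 U (fun k => conj ((ψ : U → ℂ) k)) k *
      (χ : G → ℂ) (g * k) =
      ∑ g : U, ∑ k : U, a g * (χ : G → ℂ) (k : G)⁻¹ * (ψ : U → ℂ) (g * k) := by
    simp only [mul_assoc, ← mul_sum]
    rw [hsum fun g => ∑ k : G, ext0 U (fun k => conj ((ψ : U → ℂ) k)) k * (χ : G → ℂ) (g * k)]
    refine sum_congr rfl fun g _ => ?_
    rw [hsum' fun k => (χ : G → ℂ) ((g : G) * k)]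
    congr 1
    refine Fintype.sum_equiv ((Equiv.inv U).trans (Equiv.mulRight g⁻¹)) _ _ fun k => ?_
    simp only [Equiv.trans_apply, Equiv.inv_apply, Equiv.coe_mulRight, Subgroup.coe_mul,
      Subgroup.coe_inv, mul_inv_rev, inv_inv, conj_irr]
    rw [mul_comm]
    congr 1
    rw [← mul_assoc, isClassFunction_irr ψ]
  rw [e1] at h1
  rw [e2] at h2
  rw [e3] at h1
  rw [omega, omega, div_eq_div_iff (irr_one_ne_zero χ) (irr_one_ne_zero ψ)]
  refine mul_left_cancel₀ hc0 ?_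
  linear_combination (χ : G → ℂ) 1 * h2 - (ψ : U → ℂ) 1 * h1

theorem ext0_classInd {U : Subgroup G}
    (hU : ∀ g : G, ∃ u ∈ U, ∀ x ∈ U, g * x * g⁻¹ = u * x * u⁻¹) (u : U) :
    ext0 U (classInd u) = classInd (u : G) := by
  funext x
  by_cases hx : x ∈ U
  · lift x to U using hx
    rw [ext0_coe]
    by_cases h : IsConj (u : G) (x : G)
    · rw [classInd_of_isConj h, classInd_of_isConj]
      obtain ⟨g, hg⟩ := isConj_iff.1 h
      obtain ⟨w, hw, hwx⟩ := hU g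
      rw [hwx u u.2] at hg
      exact isConj_iff.2 ⟨⟨w, hw⟩, Subtype.ext hg⟩
    · rw [classInd_of_not_isConj h, classInd_of_not_isConj]
      exact fun h' => h (MonoidHom.map_isConj U.subtype h')
  · rw [ext0_of_notMem _ hx, classInd_of_not_isConj]
    intro h
    obtain ⟨g, rfl⟩ := isConj_iff.1 h
    obtain ⟨w, hw, hwx⟩ := hU g
    rw [hwx u u.2] at hx
    exact hx (U.mul_mem (U.mul_mem hw u.2) (U.inv_mem hw))

theorem centralChar_eq {U : Subgroup G} [Fintype U]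
    (hU : ∀ g : G, ∃ u ∈ U, ∀ x ∈ U, g * x * g⁻¹ = u * x * u⁻¹) (χ : IrrCharacter G)
    (ψ : IrrCharacter U) (h : classInner (fun u : U => (χ : G → ℂ) u) (ψ : U → ℂ) ≠ 0) (u : U) :
    centralChar (χ : G → ℂ) (u : G) = centralChar (ψ : U → ℂ) u := by
  rw [← omega_classInd, ← omega_classInd, ← ext0_classInd hU u]
  exact omega_ext0_eq U χ ψ h (isClassFunction_classInd u)
    (ext0_classInd hU u ▸ isClassFunction_classInd _)

theorem centralChar_one_eq {U : Subgroup G} [Fintype U]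
    (hU : ∀ g : G, ∃ u ∈ U, ∀ x ∈ U, g * x * g⁻¹ = u * x * u⁻¹) (u : U) :
    centralChar (fun _ : G => (1 : ℂ)) (u : G) = centralChar (fun _ : U => (1 : ℂ)) u := by
  refine centralChar_eq hU (oneIrr G) (oneIrr U) ?_ u
  have : (fun x : U => (oneIrr G : G → ℂ) x) = (oneIrr U : U → ℂ) := funext fun x => by simp
  rw [this, CfsgLib.Char.IsIrrCharacter.classInner_self (oneIrr U).2]
  exact one_ne_zero

theorem exists_regular_decomp {p : ℕ} (hp : p.Prime) {g u v : G} (hg : ¬ p ∣ orderOf g)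
    (huv : u * v = g) (hc : Commute u v) :
    ∃ k : ℕ, u ^ k * v ^ k = g ∧ ¬ p ∣ orderOf (u ^ k) ∧ ¬ p ∣ orderOf (v ^ k) := by
  obtain ⟨a, m, hm, hGm⟩ := Nat.exists_eq_pow_mul_and_not_dvd
    (Nat.card_pos (α := G)).ne' p hp.ne_one
  obtain ⟨k, hk1, hk2⟩ :=
    Nat.chineseRemainder ((hp.coprime_iff_not_dvd.2 hg).pow_left a).symm 1 0
  have hreg : ∀ w : G, ¬ p ∣ orderOf (w ^ k) := fun w hw => hm <| hw.trans <| by
    apply orderOf_dvd_of_pow_eq_one
    rw [← pow_mul]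
    apply orderOf_dvd_iff_pow_eq_one.1
    refine (orderOf_dvd_natCard w).trans ?_
    rw [hGm]
    exact Nat.mul_dvd_mul_right (Nat.modEq_zero_iff_dvd.1 hk2) m
  refine ⟨k, ?_, hreg u, hreg v⟩
  rw [← hc.mul_pow, huv]
  conv_rhs => rw [← pow_one g]
  exact pow_eq_pow_iff_modEq.2 hk1

variable {p : ℕ} [Fact p.Prime] {U₁ U₂ : Subgroup G}

theorem exists_mul_eq (hcomm : ∀ u ∈ U₁, ∀ v ∈ U₂, u * v = v * u) (hgen : U₁ ⊔ U₂ = ⊤) (g : G) :
    ∃ a ∈ U₁, ∃ b ∈ U₂, a * b = g := by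
  have hle : U₁ ≤ Subgroup.normalizer (U₂ : Set G) := fun a ha => by
    rw [Subgroup.mem_normalizer_iff]
    intro x
    refine ⟨fun hx => ?_, fun hx => ?_⟩
    · rwa [hcomm a ha x hx, mul_inv_cancel_right]
    · have h1 := hcomm a⁻¹ (U₁.inv_mem ha) _ hx
      have h2 : x = a * x * a⁻¹ := by
        calc x = a⁻¹ * (a * x * a⁻¹) * a := by group
          _ = (a * x * a⁻¹) * a⁻¹ * a := by rw [h1]
          _ = a * x * a⁻¹ := by group
      rw [h2]; exact hx
  have h : g ∈ ((U₁ ⊔ U₂ : Subgroup G) : Set G) := by rw [hgen]; exact Subgroup.mem_top g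
  rw [Subgroup.coe_mul_of_left_le_normalizer_right U₁ U₂ hle] at h
  obtain ⟨a, ha, b, hb, hab⟩ := h
  exact ⟨a, ha, b, hb, hab⟩

theorem conj_like (hcomm : ∀ u ∈ U₁, ∀ v ∈ U₂, u * v = v * u) (hgen : U₁ ⊔ U₂ = ⊤) (g : G) :
    ∃ u ∈ U₁, ∀ x ∈ U₁, g * x * g⁻¹ = u * x * u⁻¹ := by
  obtain ⟨a, ha, b, hb, rfl⟩ := exists_mul_eq hcomm hgen g
  refine ⟨a, ha, fun x hx => ?_⟩
  calc a * b * x * (a * b)⁻¹ = a * (b * x) * b⁻¹ * a⁻¹ := by group
    _ = a * (x * b) * b⁻¹ * a⁻¹ := by rw [hcomm x hx b hb]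
    _ = a * x * a⁻¹ := by group

theorem classInd_mul (hcomm : ∀ u ∈ U₁, ∀ v ∈ U₂, u * v = v * u) (hgen : U₁ ⊔ U₂ = ⊤)
    (hZ : IsPGroup p ↥(U₁ ⊓ U₂)) {u v : G} (hu : u ∈ U₁) (hv : v ∈ U₂) (hur : ¬ p ∣ orderOf u) :
    conv (classInd u) (classInd v) = classInd (u * v) := by
  classical
  have hcomm' : ∀ a ∈ U₂, ∀ b ∈ U₁, a * b = b * a := fun a ha b hb => (hcomm b hb a ha).symm
  have hgen' : U₂ ⊔ U₁ = ⊤ := by rw [sup_comm]; exact hgen
  have hcl : ∀ {a y : G}, a ∈ U₁ → IsConj a y → y ∈ U₁ := fun {a y} ha h => by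
    obtain ⟨g, rfl⟩ := isConj_iff.1 h
    obtain ⟨w, hw, hwx⟩ := conj_like hcomm hgen g
    rw [hwx a ha]; exact U₁.mul_mem (U₁.mul_mem hw ha) (U₁.inv_mem hw)
  have hcl' : ∀ {a y : G}, a ∈ U₂ → IsConj a y → y ∈ U₂ := fun {a y} ha h => by
    obtain ⟨g, rfl⟩ := isConj_iff.1 h
    obtain ⟨w, hw, hwx⟩ := conj_like hcomm' hgen' g
    rw [hwx a ha]; exact U₂.mul_mem (U₂.mul_mem hw ha) (U₂.inv_mem hw)
  funext x
  by_cases hx : IsConj (u * v) x
  · obtain ⟨g, rfl⟩ := isConj_iff.1 hx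
    rw [classInd_of_isConj hx, conv]
    have hgu : IsConj u (g * u * g⁻¹) := isConj_iff.2 ⟨g, rfl⟩
    have hgv : IsConj v (g * v * g⁻¹) := isConj_iff.2 ⟨g, rfl⟩
    rw [sum_eq_single (g * u * g⁻¹)]
    · rw [classInd_of_isConj hgu, classInd_of_isConj, one_mul]
      rwa [show (g * u * g⁻¹)⁻¹ * (g * (u * v) * g⁻¹) = g * v * g⁻¹ by group]
    · intro y _ hy
      by_cases h1 : IsConj u y
      · rw [classInd_of_not_isConj (g := v), mul_zero]
        intro h2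
        apply hy
        set u' := g * u * g⁻¹
        have hu' : u' ∈ U₁ := hcl hu hgu
        have hy1 : y ∈ U₁ := hcl hu h1
        set v' := g * v * g⁻¹
        have hv' : v' ∈ U₂ := hcl' hv hgv
        have e : g * (u * v) * g⁻¹ = u' * v' := by simp only [u', v']; group
        rw [e] at h2
        have hw : y⁻¹ * (u' * v') ∈ U₂ := hcl' hv h2
        have hz2 : y⁻¹ * u' ∈ U₂ := by
          have := U₂.mul_mem hw (U₂.inv_mem hv')
          rwa [mul_assoc, mul_assoc, mul_inv_cancel, mul_one] at this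
        have hz : y⁻¹ * u' ∈ U₁ ⊓ U₂ := ⟨U₁.mul_mem (U₁.inv_mem hy1) hu', hz2⟩
        have hyz : Commute y⁻¹ u' := by
          have h3 : y * (y⁻¹ * u') = (y⁻¹ * u') * y := hcomm y hy1 _ hz2
          rw [mul_inv_cancel_left] at h3
          calc y⁻¹ * u' = (y⁻¹ * u') * y * y⁻¹ := by group
            _ = u' * y⁻¹ := by rw [← h3]
        have hd := hyz.orderOf_mul_dvd_mul_orderOf
        rw [orderOf_inv, show orderOf u' = orderOf u from (MulAut.conj g).orderOf_eq u,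
          show orderOf y = orderOf u by
            obtain ⟨c, rfl⟩ := isConj_iff.1 h1; exact (MulAut.conj c).orderOf_eq u] at hd
        have h4 : y⁻¹ * u' = 1 := by
          obtain ⟨j, hj⟩ := IsPGroup.iff_orderOf.1 hZ ⟨_, hz⟩
          rw [Subgroup.orderOf_mk] at hj
          rw [← orderOf_eq_one_iff]
          refine Nat.eq_one_of_dvd_coprimes ?_ (dvd_of_eq hj) hd
          exact ((Fact.out : p.Prime).coprime_iff_not_dvd.2 fun h =>
            ((Fact.out : p.Prime).dvd_mul.1 h).elim hur hur).pow_left j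
        exact inv_mul_eq_one.1 h4
      · rw [classInd_of_not_isConj h1, zero_mul]
    · exact fun h => absurd (mem_univ _) h
  · rw [classInd_of_not_isConj hx]
    refine sum_eq_zero fun y _ => ?_
    by_cases h1 : IsConj u y
    · rw [classInd_of_not_isConj (g := v), mul_zero]
      intro h2
      apply hx
      obtain ⟨a, hay⟩ := isConj_iff.1 h1
      obtain ⟨b, hbz⟩ := isConj_iff.1 h2
      obtain ⟨a₁, ha₁, hconj₁⟩ := conj_like hcomm hgen a
      obtain ⟨b₂, hb₂, hconj₂⟩ := conj_like hcomm' hgen' b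
      rw [hconj₁ u hu] at hay
      rw [hconj₂ v hv] at hbz
      refine isConj_iff.2 ⟨a₁ * b₂, ?_⟩
      calc a₁ * b₂ * (u * v) * (a₁ * b₂)⁻¹
          = a₁ * (b₂ * u) * (v * b₂⁻¹) * a₁⁻¹ := by group
        _ = a₁ * (u * b₂) * (v * b₂⁻¹) * a₁⁻¹ := by rw [hcomm u hu b₂ hb₂]
        _ = a₁ * u * ((b₂ * v * b₂⁻¹) * a₁⁻¹) := by group
        _ = a₁ * u * (a₁⁻¹ * (b₂ * v * b₂⁻¹)) := by
          rw [hcomm a₁⁻¹ (U₁.inv_mem ha₁) _ (U₂.mul_mem (U₂.mul_mem hb₂ hv) (U₂.inv_mem hb₂))]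
        _ = (a₁ * u * a₁⁻¹) * (b₂ * v * b₂⁻¹) := by group
        _ = x := by rw [hay, hbz, mul_inv_cancel_left]
    · rw [classInd_of_not_isConj h1, zero_mul]

end CfsgLib.Block.CentralProd
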