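import Cfsg.Agent.BlocksB.QuotientPCentral
import Cfsg.Agent.BlocksB.PrincipalRankQuotient
import Cfsg.Agent.BlocksB.RankOne
import Cfsg.Agent.Blocks.Integrality
import Cfsg.Agent.Blocks.SectionCount

/-!
# Blocks modulo a central `p`-subgroup

The block below has defect lowered by the order of the subgroup, the same rank, and the regular
parts of the members are locally integral combinations of those of the inflated members.
-/

set_option autoImplicit false
set_option linter.unusedSectionVars false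
set_option linter.style.haveILetI false

namespace CfsgLib.BlockB

open Cfsg Finset CfsgLib.Block CfsgLib.Block.Chr CfsgLib.Char
open scoped ComplexConjugate

universe u

variable {G : Type u} [Group G] [Fintype G] {M : Ideal AlgInt} [M.IsPrime] {p : ℕ}
  [hp : Fact p.Prime] {Z : Subgroup G} [Z.Normal]

theorem centralizer_eq_top_of_le_center (hZ : Z ≤ Subgroup.center G) :
    Subgroup.centralizer (Z : Set G) = ⊤ :=
  eq_top_iff.2 fun g _ => Subgroup.mem_centralizer_iff.2 fun _ hz =>
    (Subgroup.mem_center_iff.1 (hZ hz) g).symm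

theorem sup_centralizer_eq_top (hZ : Z ≤ Subgroup.center G) :
    Z ⊔ Subgroup.centralizer (Z : Set G) = ⊤ := by
  rw [centralizer_eq_top_of_le_center hZ, sup_top_eq]

theorem isPBlock_eq_below (hM : IsPModular p M) (hZ : Z ≤ Subgroup.center G) (hZp : IsPGroup p Z)
    {B : Set (IrrCharacter G)} (hB : IsPBlock M B) :
    IsPBlock M (Quot.below (N := Z) B) ∧
      blockDefect p B = (Nat.card Z).factorization p + blockDefect p (Quot.below (N := Z) B) := by
  classical
  haveI := Fintype.ofFinite (G ⧸ Z)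
  obtain ⟨Bb, hBb, hsub, hdef⟩ := Quot.exists_block_map_defectGroup hM hZp hB
  have hC : ∃ k : ℕ, (Subgroup.centralizer (Z : Set G)).index = p ^ k :=
    ⟨0, by rw [centralizer_eq_top_of_le_center hZ, Subgroup.index_top, pow_zero]⟩
  obtain ⟨χ₀, hχ₀⟩ := exists_mem_block hBb
  have heq : Quot.below (N := Z) B = Bb := by
    refine Set.ext fun χ => ⟨fun h => ?_, hsub χ⟩
    exact (sameBlock_iff_mem hBb hχ₀).2 ((Quot.sameBlock_inflIrr_iff hM hZp hC χ₀ χ).2
      ((sameBlock_iff_mem hB (hsub χ₀ hχ₀)).1 h))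
  refine ⟨heq ▸ hBb, ?_⟩
  rw [heq]
  obtain ⟨D, hD⟩ := exists_defectGroup hB hM
  have hZD := normal_le_defectGroup hM hB hD Z hZp
  have hDb := (hdef (D.map (QuotientGroup.mk' Z))).2 ⟨D, hD, rfl⟩
  obtain ⟨j, hj⟩ := IsPGroup.iff_card.1 hZp
  have hmul : Nat.card D = Nat.card Z * Nat.card (D.map (QuotientGroup.mk' Z)) := by
    rw [← MonoidHom.domRestrict_range]
    rw [← Nat.card_congr (QuotientGroup.quotientKerEquivRange
      ((QuotientGroup.mk' Z).domRestrict D)).toEquiv,
      Subgroup.card_eq_card_quotient_mul_card_subgroup ((QuotientGroup.mk' Z).domRestrict D).ker,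
      mul_comm]
    congr 1
    rw [MonoidHom.ker_domRestrict, QuotientGroup.ker_mk']
    exact Nat.card_congr (Subgroup.subgroupOfEquivOfLe hZD).toEquiv
  rw [card_defectGroup hM hB hD, card_defectGroup hM hBb hDb, hj, ← pow_add] at hmul
  rw [hj, Nat.Prime.factorization_pow hp.out, Finsupp.single_eq_same]
  exact Nat.pow_right_injective hp.out.two_le hmul

/-- The regular part of a member is a locally integral combination of the inflated members. -/
theorem exists_regPart_coeff (hM : IsPModular p M) (hZ : Z ≤ Subgroup.center G)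
    (hZp : IsPGroup p Z) {B : Set (IrrCharacter G)} (hB : IsPBlock M B) {χ : IrrCharacter G}
    (hχ : χ ∈ B) [Fintype (Quot.below (N := Z) B)] :
    ∃ c : Quot.below (N := Z) B → ℂ, (∀ η, MemLocalRing M (c η)) ∧
      regPart p (χ : G → ℂ) = ∑ η : Quot.below (N := Z) B,
        c η • regPart p (Quot.inflIrr η.1 : G → ℂ) := by
  classical
  letI : Fintype (G ⧸ Z) := Fintype.ofFinite _
  letI := irrFintype (G := G)
  letI := irrFintype (G := G ⧸ Z)
  letI : Fintype (ConjClasses (G ⧸ Z)) := Fintype.ofFinite _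
  have hsup := sup_centralizer_eq_top hZ
  choose lift hlift hliftmk using fun (y : G ⧸ Z) (hy : ¬ p ∣ orderOf y) =>
    exists_regular_lift (p := p) hZp hy
  choose sec hsec hsecv using fun (y : G ⧸ Z) (hy : ¬ p ∣ orderOf y) =>
    sectionInd_mem (G := G ⧸ Z) hM y hy
  let term : ConjClasses (G ⧸ Z) → (G ⧸ Z → ℂ) := fun K =>
    if hK : p ∣ orderOf K.out then 0 else (fun _ => (χ : G → ℂ) (lift K.out hK)) * sec K.out hK
  set f : G ⧸ Z → ℂ := ∑ K, term K with hf
  have hfmem : f ∈ localMultiplier (G ⧸ Z) M := sum_mem fun K _ => by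
    simp only [term]
    split_ifs with hK
    · exact zero_mem _
    · exact mul_mem (const_mem_multiplier (irr_mem χ _)) (hsec _ hK)
  have hcl : IsClassFunction (G ⧸ Z) f := by
    intro g x
    simp only [hf, Finset.sum_apply]
    refine sum_congr rfl fun K _ => ?_
    simp only [term]
    split_ifs with hK
    · rfl
    · simp only [Pi.mul_apply]
      congr 1
      have hc : IsConj g (x * g * x⁻¹) := isConj_iff.2 ⟨x, rfl⟩
      obtain ⟨hv, hv1⟩ := hsecv K.out hK g
      obtain ⟨hw, hw1⟩ := hsecv K.out hK (x * g * x⁻¹)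
      rcases hv with hv | hv <;> rcases hw with hw | hw <;> rw [hv, hw]
      · exfalso
        obtain ⟨u, h1, h2, h3⟩ := hw1.1 hw
        exact zero_ne_one (hv ▸ hv1.2 ⟨u, h1, h2, h3.trans hc.symm⟩)
      · exfalso
        obtain ⟨u, h1, h2, h3⟩ := hv1.1 hv
        exact zero_ne_one (hw ▸ hw1.2 ⟨u, h1, h2, h3.trans hc⟩)
  have hone : ∀ φ : G ⧸ Z → ℂ, IsCharacter (G ⧸ Z) φ → MemLocalRing M (classInner 1 φ) := by
    intro φ hφ
    obtain ⟨n, hn⟩ := IsCharacter.exists_classInner_eq_natCast' (isCharacter_one (G := G ⧸ Z)) hφ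
    rw [show (1 : G ⧸ Z → ℂ) = fun _ => 1 from rfl, hn]
    exact natCast_mem_localRing n
  refine ⟨fun η => classInner f (η.1 : G ⧸ Z → ℂ), fun η => ?_, ?_⟩
  · have h := hfmem 1 hone _ (isCharacter_irr η.1)
    rwa [mul_one] at h
  -- the value of `f` at the image of a regular element
  have hfval : ∀ g : G, ¬ p ∣ orderOf g → f (g : G ⧸ Z) = (χ : G → ℂ) g := by
    intro g hg
    set y : G ⧸ Z := (g : G ⧸ Z)
    have hy : ¬ p ∣ orderOf y := regular_mk hg
    have hconjo : ∀ {a c : G ⧸ Z}, IsConj a c → orderOf a = orderOf c := fun h => by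
      obtain ⟨x, rfl⟩ := isConj_iff.1 h
      exact ((MulAut.conj x).orderOf_eq _).symm
    have hout : ∀ K : ConjClasses (G ⧸ Z), ConjClasses.mk K.out = K := fun K => Quotient.out_eq K
    rw [hf, Finset.sum_apply, sum_eq_single (ConjClasses.mk y)]
    · have hcy : IsConj (ConjClasses.mk y).out y :=
        ConjClasses.mk_eq_mk_iff_isConj.1 (hout _)
      have hK : ¬ p ∣ orderOf (ConjClasses.mk y).out := hconjo hcy ▸ hy
      simp only [term, dif_neg hK, Pi.mul_apply]
      have h1 : sec _ hK y = 1 := (hsecv _ hK y).2.2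
        ⟨1, ⟨0, one_pow _⟩, Commute.one_right _, by rwa [mul_one]⟩
      rw [h1, mul_one]
      obtain ⟨xb, hxb⟩ := isConj_iff.1 hcy
      obtain ⟨x, rfl⟩ := QuotientGroup.mk_surjective xb
      rw [← isClassFunction_irr χ (lift _ hK) x]
      refine congrArg (χ : G → ℂ) (eq_of_regular hZp hsup ?_ hg ?_)
      · rw [show x * lift _ hK * x⁻¹ = (MulAut.conj x) (lift _ hK) from rfl,
          (MulAut.conj x).orderOf_eq]
        exact hlift _ hK
      · rw [QuotientGroup.mk_mul, QuotientGroup.mk_mul, QuotientGroup.mk_inv, hliftmk _ hK, hxb]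
    · intro K _ hKy
      simp only [term]
      split_ifs with hK
      · rfl
      rcases (hsecv _ hK y).1 with h | h
      · rw [Pi.mul_apply, h, mul_zero]
      · exfalso
        obtain ⟨u, ⟨i, hu⟩, hcomm, hc⟩ := (hsecv _ hK y).2.1 h
        obtain ⟨j, -, hj⟩ := (Nat.dvd_prime_pow hp.out).1 (orderOf_dvd_of_pow_eq_one hu)
        have ho := hcomm.orderOf_mul_eq_mul_orderOf_of_coprime (by
          rw [hj]; exact ((hp.out.coprime_iff_not_dvd.2 hK).symm).pow_right j)
        rw [hconjo hc, hj] at ho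
        rcases j with _ | j
        · rw [pow_zero, orderOf_eq_one_iff] at hj
          subst hj
          rw [mul_one] at hc
          exact hKy ((hout K).symm.trans (ConjClasses.mk_eq_mk_iff_isConj.2 hc))
        · exact hy (ho ▸ dvd_mul_of_dvd_right (dvd_pow_self p j.succ_ne_zero) _)
    · simp
  have hexp : regPart p (χ : G → ℂ) = ∑ η : IrrCharacter (G ⧸ Z),
      classInner f (η : G ⧸ Z → ℂ) • regPart p (Quot.inflIrr η : G → ℂ) := by
    funext g
    rw [Finset.sum_apply]
    by_cases hg : p ∣ orderOf g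
    · rw [regPart_of_dvd hg]
      exact (sum_eq_zero fun η _ => by rw [Pi.smul_apply, regPart_of_dvd hg, smul_zero]).symm
    · rw [regPart_of_not_dvd hg, ← hfval g hg, classFun_expand hcl]
      exact sum_congr rfl fun η _ => by
        rw [Pi.smul_apply, regPart_of_not_dvd hg, smul_eq_mul]; rfl
  have h1 := congrArg (blockPartLin B) hexp
  rw [blockPartLin_apply, blockPart_regPart hM hB, blockPart_irr, if_pos hχ, map_sum] at h1
  rw [h1, ← sum_subtype (univ.filter (· ∈ Quot.below (N := Z) B))
    (p := (· ∈ Quot.below (N := Z) B)) (by simp)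
    (fun η : IrrCharacter (G ⧸ Z) =>
      classInner f (η : G ⧸ Z → ℂ) • regPart p (Quot.inflIrr η : G → ℂ)), sum_filter]
  refine sum_congr rfl fun η _ => ?_
  rw [map_smul, blockPartLin_apply, blockPart_regPart hM hB, blockPart_irr]
  by_cases h : η ∈ Quot.below (N := Z) B
  · rw [if_pos h, if_pos (show Quot.inflIrr η ∈ B from h)]
  · rw [if_neg h, if_neg (show Quot.inflIrr η ∉ B from h)]
    funext g
    simp [regPart]

/-- The regular parts of the inflations restrict to those of the quotient. -/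
theorem regPart_inflIrr_apply (η : IrrCharacter (G ⧸ Z)) {g : G} (hg : ¬ p ∣ orderOf g) :
    regPart p (Quot.inflIrr η : G → ℂ) g = regPart p (η : G ⧸ Z → ℂ) (g : G ⧸ Z) := by
  rw [regPart_of_not_dvd hg, regPart_of_not_dvd (regular_mk hg)]
  rfl

/-- The rank does not change modulo a central `p`-subgroup. -/
theorem blockRank_below (hM : IsPModular p M) (hZ : Z ≤ Subgroup.center G) (hZp : IsPGroup p Z)
    {B : Set (IrrCharacter G)} (hB : IsPBlock M B) :
    blockRank p B = blockRank p (Quot.below (N := Z) B) := by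
  classical
  letI : Fintype (G ⧸ Z) := Fintype.ofFinite _
  letI := irrFintype (G := G)
  letI := irrFintype (G := G ⧸ Z)
  letI : Fintype (Quot.below (N := Z) B) := Fintype.ofFinite _
  choose lift hlift hliftmk using fun (y : G ⧸ Z) (hy : ¬ p ∣ orderOf y) =>
    exists_regular_lift (p := p) hZp hy
  let L : (G ⧸ Z → ℂ) →ₗ[ℂ] (G → ℂ) :=
    { toFun := fun f g => if p ∣ orderOf g then 0 else f (g : G ⧸ Z)
      map_add' := fun f f' => funext fun g => by simp only [Pi.add_apply]; split_ifs <;> simp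
      map_smul' := fun c f => funext fun g => by simp }
  let R : (G → ℂ) →ₗ[ℂ] (G ⧸ Z → ℂ) :=
    { toFun := fun F y => if hy : p ∣ orderOf y then 0 else F (lift y hy)
      map_add' := fun f f' => funext fun g => by simp only [Pi.add_apply]; split_ifs <;> simp
      map_smul' := fun c f => funext fun g => by simp }
  set SG := Submodule.span ℂ ((fun χ : IrrCharacter G => pRegularPart p (χ : G → ℂ)) '' B)
    with hSG
  set SQ := Submodule.span ℂ ((fun χ : IrrCharacter (G ⧸ Z) => pRegularPart p (χ : G ⧸ Z → ℂ)) ''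
    Quot.below (N := Z) B) with hSQ
  have hL : ∀ η : IrrCharacter (G ⧸ Z),
      L (pRegularPart p (η : G ⧸ Z → ℂ)) = regPart p (Quot.inflIrr η : G → ℂ) := by
    intro η
    funext g
    show (if p ∣ orderOf g then 0 else pRegularPart p (η : G ⧸ Z → ℂ) (g : G ⧸ Z)) = _
    by_cases hg : p ∣ orderOf g
    · rw [if_pos hg, regPart_of_dvd hg]
    · rw [if_neg hg, pRegularPart_eq, regPart_inflIrr_apply η hg]
  have hR : ∀ η : IrrCharacter (G ⧸ Z),
      R (regPart p (Quot.inflIrr η : G → ℂ)) = pRegularPart p (η : G ⧸ Z → ℂ) := by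
    intro η
    funext y
    show (if hy : p ∣ orderOf y then 0 else regPart p (Quot.inflIrr η : G → ℂ) (lift y hy)) = _
    by_cases hy : p ∣ orderOf y
    · rw [dif_pos hy, pRegularPart_eq, regPart_of_dvd hy]
    · rw [dif_neg hy, regPart_inflIrr_apply η (hlift y hy), hliftmk y hy, pRegularPart_eq]
  have hGle : SG ≤ SQ.map L := by
    rw [hSG, Submodule.span_le]
    rintro _ ⟨χ, hχ, rfl⟩
    obtain ⟨c, -, hc⟩ := exists_regPart_coeff hM hZ hZp hB hχ
    show pRegularPart p (χ : G → ℂ) ∈ _
    rw [pRegularPart_eq, hc]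
    refine Submodule.sum_mem _ fun η _ => Submodule.smul_mem _ _ ?_
    rw [← hL]
    exact Submodule.mem_map_of_mem (Submodule.subset_span ⟨η.1, η.2, rfl⟩)
  have hQle : SQ ≤ SG.map R := by
    rw [hSQ, Submodule.span_le]
    rintro _ ⟨η, hη, rfl⟩
    exact ⟨regPart p (Quot.inflIrr η : G → ℂ), Submodule.subset_span
      ⟨Quot.inflIrr η, hη, pRegularPart_eq _⟩, hR η⟩
  exact le_antisymm ((Submodule.finrank_mono hGle).trans (Submodule.finrank_map_le _ _))
    ((Submodule.finrank_mono hQle).trans (Submodule.finrank_map_le _ _))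

/-- The regular forms of the inflations are scaled by the order of the subgroup. -/
theorem classInner_regPart_inflIrr (hZ : Z ≤ Subgroup.center G) (hZp : IsPGroup p Z)
    [Fintype (G ⧸ Z)] (η η' : IrrCharacter (G ⧸ Z)) :
    (Nat.card Z : ℂ) * classInner (regPart p (Quot.inflIrr η : G → ℂ))
        (regPart p (Quot.inflIrr η' : G → ℂ)) =
      classInner (regPart p (η : G ⧸ Z → ℂ)) (regPart p (η' : G ⧸ Z → ℂ)) := by
  classical
  have hsup := sup_centralizer_eq_top hZ
  rw [CfsgLib.Char.classInner_def, CfsgLib.Char.classInner_def,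
    Subgroup.card_eq_card_quotient_mul_card_subgroup Z]
  have hZ0 : (Nat.card Z : ℂ) ≠ 0 := Nat.cast_ne_zero.2 Nat.card_pos.ne'
  have hsum : ∑ g : G, regPart p (Quot.inflIrr η : G → ℂ) g *
      conj (regPart p (Quot.inflIrr η' : G → ℂ) g) =
      ∑ y : G ⧸ Z, regPart p (η : G ⧸ Z → ℂ) y * conj (regPart p (η' : G ⧸ Z → ℂ) y) := by
    rw [← sum_filter_of_ne (s := (univ : Finset G)) (p := fun g => ¬ p ∣ orderOf g)
      (fun g _ h hg => h (by rw [regPart_of_dvd hg, zero_mul])),
      ← sum_filter_of_ne (s := (univ : Finset (G ⧸ Z))) (p := fun y => ¬ p ∣ orderOf y)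
      (fun y _ h hy => h (by rw [regPart_of_dvd hy, zero_mul]))]
    refine sum_bij (fun g _ => (g : G ⧸ Z)) (fun g hg => ?_) (fun g hg g' hg' h => ?_)
      (fun y hy => ?_) (fun g hg => ?_)
    · exact mem_filter.2 ⟨mem_univ _, regular_mk (mem_filter.1 hg).2⟩
    · exact eq_of_regular hZp hsup (mem_filter.1 hg).2 (mem_filter.1 hg').2 h
    · obtain ⟨g, hg, rfl⟩ := exists_regular_lift hZp (mem_filter.1 hy).2
      exact ⟨g, mem_filter.2 ⟨mem_univ _, hg⟩, rfl⟩
    · rw [regPart_inflIrr_apply η (mem_filter.1 hg).2, regPart_inflIrr_apply η' (mem_filter.1 hg).2]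
  rw [hsum]
  push_cast
  field_simp

/-- The regular form as the inner product of two regular parts. -/
theorem classInner_regPart_regPart {B : Set (IrrCharacter G)} (χ ψ : B) :
    classInner (regPart p ((χ : IrrCharacter G) : G → ℂ))
      (regPart p ((ψ : IrrCharacter G) : G → ℂ)) = regMat p B χ ψ := by
  rw [regMat, CfsgLib.Char.classInner_def, CfsgLib.Char.classInner_def]
  congr 1
  refine sum_congr rfl fun g _ => ?_
  by_cases hg : p ∣ orderOf g
  · simp [regPart_of_dvd hg]
  · simp [regPart_of_not_dvd hg]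

end CfsgLib.BlockB
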