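import Cfsg.Agent.Blocks.SectionCount
import Cfsg.Agent.Blocks.Transport
import Mathlib.GroupTheory.Nilpotent
import Mathlib.Algebra.BigOperators.Finprod

/-!
# The alternating sum of `k - l` over normal chains of `p`-subgroups

Both sides are sums over nontrivial `p`-elements `u` of section ranks, and for each `u` the chains
normalized by `u` are paired by inserting or deleting the product of the largest member avoiding
`u` with the normal closure of `u` in the top of the chain.
-/

set_option autoImplicit false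
set_option linter.unusedSectionVars false
set_option linter.style.haveILetI false

namespace CfsgLib.ChainCount

open Finset Cfsg CfsgLib.Block CfsgLib.Block.Chr CfsgLib.Char
open scoped ComplexConjugate

universe u v

/-! ### Ranks and transport -/

section rank

variable {H : Type u} [Group H] [Fintype H] {K : Type v} [Group K] [Fintype K] {p : ℕ}

theorem irrComp_injective' (e : H ≃* K) : Function.Injective (irrComp e) := fun a b h => by
  rw [← irrComp_symm e a, h, irrComp_symm]

theorem blockRank_irrComp (e : H ≃* K) (A : Set (IrrCharacter K)) :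
    blockRank p (irrComp e '' A) = blockRank p A := by
  let E : (K → ℂ) ≃ₗ[ℂ] (H → ℂ) := LinearEquiv.funCongrLeft ℂ ℂ e.toEquiv
  have hE : ∀ φ : IrrCharacter K,
      E (pRegularPart p (φ : K → ℂ)) = pRegularPart p (irrComp e φ : H → ℂ) := fun φ => by
    funext h
    show pRegularPart p (φ : K → ℂ) (e h) = _
    rw [CfsgLib.Block.pRegularPart_eq, CfsgLib.Block.pRegularPart_eq]
    simp only [regPart, MulEquiv.orderOf_eq, irrComp_coe]
  rw [blockRank, blockRank, Set.image_image,
    show (fun χ : IrrCharacter K => pRegularPart p (irrComp e χ : H → ℂ)) '' A =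
      E.toLinearMap '' ((fun χ : IrrCharacter K => pRegularPart p (χ : K → ℂ)) '' A) by
      rw [Set.image_image]; exact Set.image_congr fun φ _ => (hE φ).symm,
    Submodule.span_image]
  exact LinearEquiv.finrank_map_eq E _

end rank

variable {G : Type u} [Group G] [Fintype G] {M : Ideal AlgInt} {p : ℕ}

/-- The characters of `K` in blocks inducing `b`. -/
def indSet (M : Ideal AlgInt) (b : Set (IrrCharacter G)) (K : Subgroup G) :
    Set (IrrCharacter K) :=
  {ψ | ∃ β : Set (IrrCharacter K), ψ ∈ β ∧ IsInducedBlock M K β b}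

theorem mem_indSet_iff [M.IsPrime] {b : Set (IrrCharacter G)} (hb : IsPBlock M b) {K : Subgroup G}
    [Fintype K] (ψ : IrrCharacter K) {χ : IrrCharacter G} (hχ : χ ∈ b) :
    ψ ∈ indSet M b K ↔ ∀ g : G, MemLocalIdeal M
      (omega (ψ : K → ℂ) (resFun K (classInd g)) - centralChar (χ : G → ℂ) g) := by
  constructor
  · rintro ⟨β, hψ, hβ⟩ g
    rw [← inducedCentralChar_eq]
    exact hβ.2.2 ψ hψ χ hχ g
  · intro h
    refine ⟨blockOf M (ψ : K → ℂ), mem_blockOf_self ψ, isPBlock_blockOf ψ, hb,
      fun ξ hξ χ' hχ' g => ?_⟩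
    rw [inducedCentralChar_eq]
    refine memLocalIdeal_sub_trans
      (omega_cong (sameBlock_symm hξ) (isIntClass_resFun K (isIntClass_classInd g))) ?_
    exact memLocalIdeal_sub_trans (h g) (sameBlock_of_mem hb hχ hχ' g)

variable {b : Set (IrrCharacter G)}

/-- Brauer's count for the union of the blocks of a subgroup inducing `b`. -/
theorem card_indSet [M.IsPrime] (hM : IsPModular p M) (hb : IsPBlock M b) (N : Subgroup G)
    (X : Finset N) (hX : ∀ x ∈ X, ∃ k : ℕ, orderOf x = p ^ k)
    (hXrep : ∀ g : N, (∃ k : ℕ, orderOf g = p ^ k) → ∃! x, x ∈ X ∧ IsConj g x) :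
    Nat.card (indSet M b N) =
      ∑ x ∈ X, blockRank p (indSet M b (N ⊓ Subgroup.centralizer ({(x : G)} : Set G))) := by
  classical
  haveI : Fact p.Prime := ⟨hM.1⟩
  haveI := Fintype.ofFinite N
  letI := irrFintype (G := N)
  haveI : Fintype (Set (IrrCharacter N)) := Fintype.ofFinite _
  obtain ⟨χ, hχ⟩ := exists_mem_block hb
  set 𝔅 : Finset (Set (IrrCharacter N)) := univ.filter fun γ => IsInducedBlock M N γ b
  have hsum : Nat.card (indSet M b N) = ∑ γ ∈ 𝔅, Nat.card γ := by
    have hset : univ.filter (· ∈ indSet M b N) = 𝔅.biUnion fun γ => univ.filter (· ∈ γ) := by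
      ext ψ
      simp only [mem_filter, mem_univ, true_and, mem_biUnion, indSet, Set.mem_setOf_eq, 𝔅]
      exact ⟨fun ⟨β, h1, h2⟩ => ⟨β, h2, h1⟩, fun ⟨β, h2, h1⟩ => ⟨β, h1, h2⟩⟩
    have hcard : ∀ A : Set (IrrCharacter N), Nat.card A = (univ.filter (· ∈ A)).card := fun A => by
      rw [Nat.card_eq_fintype_card]; exact Fintype.card_subtype _
    rw [hcard, hset, card_biUnion, sum_congr rfl fun γ _ => (hcard γ).symm]
    intro γ hγ γ' hγ' hne
    simp only [Function.onFun, Finset.disjoint_left, mem_filter, mem_univ, true_and]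
    exact fun ψ h h' => hne (block_eq_of_common (mem_filter.1 hγ).2.1 (mem_filter.1 hγ').2.1 h h')
  rw [hsum, sum_congr rfl fun γ hγ => card_block_eq_sum hM (mem_filter.1 hγ).2.1 X hX hXrep,
    sum_comm]
  refine sum_congr rfl fun x hx => ?_
  obtain ⟨k, hk⟩ := hX x hx
  haveI : Fintype (Subgroup.centralizer ({x} : Set N)) := Fintype.ofFinite _
  haveI : Fintype (N ⊓ Subgroup.centralizer ({(x : G)} : Set G) : Subgroup G) := Fintype.ofFinite _
  letI := irrFintype (G := Subgroup.centralizer ({x} : Set N))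
  haveI : Fintype (Set (IrrCharacter (Subgroup.centralizer ({x} : Set N)))) := Fintype.ofFinite _
  let e : Subgroup.centralizer ({x} : Set N) ≃*
      (N ⊓ Subgroup.centralizer ({(x : G)} : Set G) : Subgroup G) :=
    { toFun := fun c => ⟨((c : N) : G), (c : N).2, Subgroup.mem_centralizer_singleton_iff.2
        (congrArg Subtype.val (Subgroup.mem_centralizer_singleton_iff.1 c.2))⟩
      invFun := fun c => ⟨⟨c, c.2.1⟩, Subgroup.mem_centralizer_singleton_iff.2
        (Subtype.ext (Subgroup.mem_centralizer_singleton_iff.1 c.2.2))⟩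
      left_inv := fun _ => rfl
      right_inv := fun _ => rfl
      map_mul' := fun _ _ => rfl }
  -- induction from the centralizer to `N` is defined
  have hdef : ∀ φ : IrrCharacter (Subgroup.centralizer ({x} : Set N)),
      InducedBlockDefined M (Subgroup.centralizer ({x} : Set N))
        (blockOf M (φ : Subgroup.centralizer ({x} : Set N) → ℂ)) := by
    intro φ
    have hcom : ∀ c : N, c ∈ Subgroup.centralizer ({x} : Set N) →
        ∀ v ∈ Subgroup.zpowers x, Commute c v := fun c hc v hv => by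
      obtain ⟨i, rfl⟩ := hv
      exact (show Commute c x from Subgroup.mem_centralizer_singleton_iff.1 hc).zpow_right i
    refine exists_induced hM (P := Subgroup.zpowers x)
      (IsPGroup.of_card (n := k) (by rw [Nat.card_zpowers, hk]))
      (Subgroup.zpowers_le.2 (Subgroup.mem_centralizer_singleton_iff.2 rfl)) (fun c hc => ?_)
      (fun c hc => Subgroup.mem_normalizer_iff.2 fun v => ?_) (isPBlock_blockOf φ)
    · exact Subgroup.mem_centralizer_singleton_iff.2
        ((Subgroup.mem_centralizer_iff.1 hc x (Subgroup.mem_zpowers x)).symm)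
    · constructor
      · intro hv
        rwa [(hcom c hc v hv).eq, mul_inv_cancel_right]
      · intro hv
        have h1 : c⁻¹ * (c * v * c⁻¹) * c = c * v * c⁻¹ := by
          rw [(hcom c⁻¹ (inv_mem hc) _ hv).eq, inv_mul_cancel_right]
        have h2 : v = c * v * c⁻¹ := by rw [← h1]; group
        rwa [← h2] at hv
  have key : ∀ φ : IrrCharacter (Subgroup.centralizer ({x} : Set N)),
      irrComp e.symm φ ∈ indSet M b (N ⊓ Subgroup.centralizer ({(x : G)} : Set G)) ↔
        ∃ γ ∈ 𝔅, IsInducedBlock M (Subgroup.centralizer ({x} : Set N))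
          (blockOf M (φ : Subgroup.centralizer ({x} : Set N) → ℂ)) γ := by
    intro φ
    obtain ⟨γ, hγ⟩ := hdef φ
    obtain ⟨η, hη⟩ := exists_mem_block hγ.2.1
    have h1 : ∀ g : G, MemLocalIdeal M
        (omega (irrComp e.symm φ : (N ⊓ Subgroup.centralizer ({(x : G)} : Set G) : Subgroup G) → ℂ)
          (resFun _ (classInd g)) - omega (η : N → ℂ) (resFun N (classInd g))) := by
      intro g
      have h := induced_cong _ (hγ.2.2 φ (mem_blockOf_self φ) η hη)
        (isIntClass_resFun (M := M) N (isIntClass_classInd g))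
      rwa [← omega_irrComp e.symm φ] at h
    rw [mem_indSet_iff hb _ hχ]
    constructor
    · intro h
      refine ⟨γ, mem_filter.2 ⟨mem_univ _, ?_⟩, hγ⟩
      have hηb : η ∈ indSet M b N := (mem_indSet_iff hb _ hχ).2 fun g =>
        memLocalIdeal_sub_trans (memLocalIdeal_sub_comm (h1 g)) (h g)
      obtain ⟨β, hηβ, hβ⟩ := hηb
      rwa [block_eq_of_common hγ.2.1 hβ.1 hη hηβ]
    · rintro ⟨γ', hγ', hind'⟩ g
      obtain rfl := induced_unique hγ hind'
      exact memLocalIdeal_sub_trans (h1 g)
        ((mem_indSet_iff hb η hχ).1 ⟨γ, hη, (mem_filter.1 hγ').2⟩ g)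
  set 𝔇 : Finset (Set (IrrCharacter (Subgroup.centralizer ({x} : Set N)))) :=
    univ.filter fun β => ∃ γ ∈ 𝔅, IsInducedBlock M (Subgroup.centralizer ({x} : Set N)) β γ
  have h𝔇 : ∀ β ∈ 𝔇, IsPBlock M β := fun β hβ => by
    obtain ⟨γ, -, h⟩ := (mem_filter.1 hβ).2
    exact h.1
  have himg : {φ | ∃ β ∈ 𝔇, φ ∈ β} =
      irrComp e '' indSet M b (N ⊓ Subgroup.centralizer ({(x : G)} : Set G)) := by
    ext φ
    constructor
    · rintro ⟨β, hβ, hφ⟩
      refine ⟨irrComp e.symm φ, (key φ).2 ?_, irrComp_symm' e φ⟩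
      obtain ⟨γ, hγ, h⟩ := (mem_filter.1 hβ).2
      exact ⟨γ, hγ, by rwa [← eq_blockOf_of_mem h.1 hφ]⟩
    · rintro ⟨ψ, hψ, rfl⟩
      obtain ⟨γ, hγ, h⟩ := (key (irrComp e ψ)).1 (by rwa [irrComp_symm])
      exact ⟨_, mem_filter.2 ⟨mem_univ _, γ, hγ, h⟩, mem_blockOf_self _⟩
  rw [← blockRank_irrComp e, ← himg, blockRank]
  rw [show (fun φ : IrrCharacter (Subgroup.centralizer ({x} : Set N)) =>
      pRegularPart p (φ : Subgroup.centralizer ({x} : Set N) → ℂ)) =
      fun φ : IrrCharacter (Subgroup.centralizer ({x} : Set N)) => regPart p (φ : Subgroup.centralizer ({x} : Set N) → ℂ) from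
    funext fun φ => CfsgLib.Block.pRegularPart_eq _, finrank_span_union hM 𝔇 h𝔇]
  have h2 : ∀ γ ∈ 𝔅, (∑ᶠ β ∈ {β : Set (IrrCharacter (Subgroup.centralizer ({x} : Set N))) |
      IsInducedBlock M (Subgroup.centralizer ({x} : Set N)) β γ}, blockRank p β) =
      ∑ β ∈ univ.filter (fun β => IsInducedBlock M (Subgroup.centralizer ({x} : Set N)) β γ),
        blockRank p β := fun γ _ => finsum_mem_eq_sum_of_inter_support_eq _ (by ext; simp)
  rw [sum_congr rfl h2, ← sum_biUnion]
  · refine sum_congr ?_ fun _ _ => rfl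
    ext β
    simp [𝔇]
  · intro γ _ γ' _ hne
    simp only [Function.onFun, Finset.disjoint_left, mem_filter, mem_univ, true_and]
    exact fun β h h' => hne (induced_unique h h')

/-- The weight of a `p`-element inside a subgroup. -/
noncomputable def weight (M : Ideal AlgInt) (p : ℕ) (b : Set (IrrCharacter G)) (N : Subgroup G)
    (u : G) : ℤ :=
  (Nat.card ↥(N ⊓ Subgroup.centralizer ({u} : Set G)) : ℤ) *
    (blockRank p (indSet M b (N ⊓ Subgroup.centralizer ({u} : Set G))) : ℤ)

open Classical in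
/-- `#N (k - l)` is the sum of the weights of the nontrivial `p`-elements of `N`. -/
theorem card_mul_sub [M.IsPrime] (hM : IsPModular p M) (hb : IsPBlock M b) (N : Subgroup G) :
    (Nat.card N : ℤ) * ((Nat.card (indSet M b N) : ℤ) - (blockRank p (indSet M b N) : ℤ)) =
      ∑ u ∈ univ.filter (fun u : G => u ≠ 1 ∧ (∃ k : ℕ, orderOf u = p ^ k) ∧ u ∈ N),
        weight M p b N u := by
  haveI := Fintype.ofFinite N
  set S : Finset N := univ.filter fun g : N => ∃ k : ℕ, orderOf g = p ^ k with hS
  set X : Finset N := S.image fun g : N => (ConjClasses.mk g).out with hXdef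
  have hout : ∀ g : N, IsConj g (ConjClasses.mk g).out := fun g =>
    (ConjClasses.mk_eq_mk_iff_isConj.1 (Quotient.out_eq (ConjClasses.mk g))).symm
  have hconjord : ∀ g h : N, IsConj g h → orderOf g = orderOf h := fun g h hgh => by
    obtain ⟨c, rfl⟩ := isConj_iff.1 hgh
    exact ((MulAut.conj c).orderOf_eq g).symm
  have hX : ∀ x ∈ X, ∃ k : ℕ, orderOf x = p ^ k := by
    intro x hx
    obtain ⟨g, hg, rfl⟩ := mem_image.1 hx
    obtain ⟨k, hk⟩ := (mem_filter.1 hg).2
    exact ⟨k, by rw [← hconjord _ _ (hout g), hk]⟩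
  have hXrep : ∀ g : N, (∃ k : ℕ, orderOf g = p ^ k) → ∃! x, x ∈ X ∧ IsConj g x := by
    intro g hg
    refine ⟨(ConjClasses.mk g).out,
      ⟨mem_image.2 ⟨g, mem_filter.2 ⟨mem_univ _, hg⟩, rfl⟩, hout g⟩, ?_⟩
    rintro x ⟨hx, hgx⟩
    obtain ⟨h, -, rfl⟩ := mem_image.1 hx
    rw [ConjClasses.mk_eq_mk_iff_isConj.2 (hgx.trans (hout h).symm)]
  set L : N → ℕ := fun x =>
    blockRank p (indSet M b (N ⊓ Subgroup.centralizer ({(x : G)} : Set G))) with hL
  have hcount := card_indSet hM hb N X hX hXrep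
  -- the section rank is a class function
  have hinv : ∀ g : N, (∃ k : ℕ, orderOf g = p ^ k) → ∀ x ∈ X, IsConj g x → L g = L x := by
    intro g hg x hx hgx
    by_cases hgX : g ∈ X
    · rw [(hXrep g hg).unique ⟨hgX, IsConj.refl g⟩ ⟨hx, hgx⟩]
    have hX' : ∀ z ∈ insert g (X.erase x), ∃ k : ℕ, orderOf z = p ^ k := by
      intro z hz
      rcases mem_insert.1 hz with rfl | hz
      · exact hg
      · exact hX z (mem_of_mem_erase hz)
    have hXrep' : ∀ h : N, (∃ k : ℕ, orderOf h = p ^ k) →
        ∃! z, z ∈ insert g (X.erase x) ∧ IsConj h z := by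
      intro h hh
      obtain ⟨z, ⟨hz, hhz⟩, huniq⟩ := hXrep h hh
      by_cases hzx : z = x
      · subst hzx
        refine ⟨g, ⟨mem_insert_self _ _, hhz.trans hgx.symm⟩, ?_⟩
        rintro w ⟨hw, hhw⟩
        rcases mem_insert.1 hw with rfl | hw
        · rfl
        · exact absurd (huniq w ⟨mem_of_mem_erase hw, hhw⟩) (mem_erase.1 hw).1
      · refine ⟨z, ⟨mem_insert_of_mem (mem_erase.2 ⟨hzx, hz⟩), hhz⟩, ?_⟩
        rintro w ⟨hw, hhw⟩
        rcases mem_insert.1 hw with rfl | hw
        · exact absurd (huniq x ⟨hx, hhw.trans hgx⟩).symm hzx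
        · exact huniq w ⟨mem_of_mem_erase hw, hhw⟩
    have h2 := card_indSet hM hb N _ hX' hXrep'
    rw [hcount, sum_insert fun h => hgX (mem_of_mem_erase h), ← add_sum_erase X _ hx] at h2
    exact (Nat.add_right_cancel h2).symm
  -- from classes to elements
  have hall : (Nat.card N : ℤ) * (Nat.card (indSet M b N) : ℤ) = ∑ g ∈ S, weight M p b N (g : G) := by
    rw [hcount, Nat.cast_sum, mul_sum,
      ← sum_fiberwise_of_maps_to (t := X) (g := fun g : N => (ConjClasses.mk g).out)
        (fun g hg => mem_image_of_mem _ hg)]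
    refine sum_congr rfl fun x hx => ?_
    set C := Subgroup.centralizer ({x} : Set N)
    have hC : ∀ g : N, IsConj g x → Nat.card (Subgroup.centralizer ({g} : Set N)) = Nat.card C := by
      intro g hg
      obtain ⟨c, rfl⟩ := isConj_iff.1 hg
      refine Nat.card_congr ((MulAut.conj c).toEquiv.subtypeEquiv fun a => ?_)
      simp only [C, Subgroup.mem_centralizer_singleton_iff, MulEquiv.toEquiv_eq_coe,
        MulEquiv.coe_toEquiv, MulAut.conj_apply]
      constructor
      · intro h
        calc c * a * c⁻¹ * (c * g * c⁻¹) = c * (a * g) * c⁻¹ := by group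
          _ = c * g * c⁻¹ * (c * a * c⁻¹) := by rw [h]; group
      · intro h
        have h' := congrArg (fun z => c⁻¹ * z * c) h
        simpa [mul_assoc] using h'
    have hcardK : ∀ g : N, Nat.card ↥(N ⊓ Subgroup.centralizer ({(g : G)} : Set G)) =
        Nat.card (Subgroup.centralizer ({g} : Set N)) := fun g =>
      Nat.card_congr
        { toFun := fun c => ⟨⟨c, c.2.1⟩, Subgroup.mem_centralizer_singleton_iff.2
            (Subtype.ext (Subgroup.mem_centralizer_singleton_iff.1 c.2.2))⟩
          invFun := fun c => ⟨((c : N) : G), (c : N).2, Subgroup.mem_centralizer_singleton_iff.2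
            (congrArg Subtype.val (Subgroup.mem_centralizer_singleton_iff.1 c.2))⟩
          left_inv := fun _ => rfl
          right_inv := fun _ => rfl }
    have hfib : S.filter (fun g : N => (ConjClasses.mk g).out = x) =
        univ.filter fun g : N => IsConj g x := by
      ext g
      simp only [mem_filter, mem_univ, true_and, hS]
      constructor
      · rintro ⟨-, rfl⟩; exact hout g
      · intro h
        obtain ⟨k, hk⟩ := hX x hx
        refine ⟨⟨k, by rw [hconjord _ _ h, hk]⟩, ?_⟩
        exact (hXrep g ⟨k, by rw [hconjord _ _ h, hk]⟩).unique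
          ⟨mem_image.2 ⟨g, mem_filter.2 ⟨mem_univ _, k, by rw [hconjord _ _ h, hk]⟩, rfl⟩, hout g⟩
          ⟨hx, h⟩
    rw [hfib]
    refine Eq.trans ?_ (Finset.sum_congr rfl fun (g : N) hg => show (Nat.card C : ℤ) * (L x : ℤ) =
        weight M p b N (g : G) by
      obtain ⟨k, hk⟩ := hX x hx
      rw [weight, hcardK, hC g (mem_filter.1 hg).2, ← hinv g
        ⟨k, by rw [hconjord _ _ (mem_filter.1 hg).2, hk]⟩ x hx (mem_filter.1 hg).2])
    rw [sum_const, nsmul_eq_mul, ← mul_assoc]
    congr 1
    have horb : Nat.card {g : N // IsConj g x} = C.index := by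
      rw [← card_class x, ← Nat.card_eq_finsetCard]
      exact Nat.card_congr (Equiv.subtypeEquivRight fun g => by
        simp only [mem_filter, mem_univ, true_and]; exact ⟨IsConj.symm, IsConj.symm⟩)
    rw [← Nat.card_eq_finsetCard,
      show Nat.card {g // g ∈ univ.filter fun g : N => IsConj g x} = Nat.card {g : N // IsConj g x}
        from Nat.card_congr (Equiv.subtypeEquivRight fun g => by simp),
      horb, ← Nat.cast_mul, mul_comm, Subgroup.card_mul_index]
  rw [mul_sub, hall, sub_eq_iff_eq_add', ← add_sum_erase S _ (show (1 : N) ∈ S from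
    mem_filter.2 ⟨mem_univ _, 0, by simp⟩)]
  congr 1
  · have h1 : N ⊓ Subgroup.centralizer ({(1 : G)} : Set G) = N := inf_eq_left.2 fun n _ =>
      Subgroup.mem_centralizer_singleton_iff.2 (by rw [mul_one, one_mul])
    rw [weight, Subgroup.coe_one, h1]
  · refine sum_bij (fun (g : N) _ => (g : G)) (fun g hg => ?_) (fun g _ g' _ h => Subtype.ext h)
      (fun g hg => ?_) (fun _ _ => rfl)
    · obtain ⟨hg1, hgS⟩ := mem_erase.1 hg
      obtain ⟨k, hk⟩ := (mem_filter.1 hgS).2
      exact mem_filter.2 ⟨mem_univ _, fun h => hg1 (Subtype.ext h),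
        ⟨k, by rw [Subgroup.orderOf_coe, hk]⟩, g.2⟩
    · obtain ⟨-, hg1, ⟨k, hk⟩, hgN⟩ := mem_filter.1 hg
      exact ⟨⟨g, hgN⟩, mem_erase.2 ⟨fun h => hg1 (congrArg Subtype.val h),
        mem_filter.2 ⟨mem_univ _, k, by rw [Subgroup.orderOf_mk, hk]⟩⟩, rfl⟩

/-- At the whole group nothing happens. -/
theorem indSet_top [M.IsPrime] (hb : IsPBlock M b) :
    indSet M b ⊤ = irrComp (Subgroup.topEquiv (G := G)) '' b := by
  haveI := Fintype.ofFinite (⊤ : Subgroup G)
  obtain ⟨χ, hχ⟩ := exists_mem_block hb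
  have homega : ∀ (φ : IrrCharacter G) (g : G),
      omega (irrComp (Subgroup.topEquiv (G := G)) φ : (⊤ : Subgroup G) → ℂ)
        (resFun ⊤ (classInd g)) = centralChar (φ : G → ℂ) g := fun φ g => by
    rw [← omega_classInd, ← omega_irrComp (Subgroup.topEquiv (G := G)) φ]
    rfl
  ext ψ
  rw [mem_indSet_iff hb ψ hχ]
  constructor
  · intro h
    refine ⟨irrComp (Subgroup.topEquiv (G := G)).symm ψ, ?_, irrComp_symm' _ ψ⟩
    refine (sameBlock_iff_mem hb hχ).2 fun g => memLocalIdeal_sub_comm ?_
    rw [← homega, irrComp_symm']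
    exact h g
  · rintro ⟨φ, hφ, rfl⟩ g
    rw [homega]
    exact sameBlock_of_mem hb hφ hχ g

/-! ### Chains -/

section chains

variable (p)

/-- A chain of nontrivial `p`-subgroups, each normal in the ones above it. -/
def IsNChain (s : Finset (Subgroup G)) : Prop :=
  (∀ Q ∈ s, ∀ R ∈ s, Q ≤ R ∨ R ≤ Q) ∧ (∀ Q ∈ s, Q ≠ ⊥ ∧ IsPGroup p Q) ∧
    ∀ Q ∈ s, ∀ R ∈ s, Q ≤ R → R ≤ Subgroup.normalizer ((Q : Subgroup G) : Set G)

/-- The stabilizer of a chain. -/
def stab (s : Finset (Subgroup G)) : Subgroup G :=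
  ⨅ Q ∈ s, Subgroup.normalizer ((Q : Subgroup G) : Set G)

variable {p}

theorem mem_stab {s : Finset (Subgroup G)} {g : G} :
    g ∈ stab s ↔ ∀ Q ∈ s, g ∈ Subgroup.normalizer ((Q : Subgroup G) : Set G) := by
  simp [stab, Subgroup.mem_iInf]

theorem IsNChain.mono {s t : Finset (Subgroup G)} (h : IsNChain p s) (hts : t ⊆ s) :
    IsNChain p t :=
  ⟨fun Q hQ R hR => h.1 Q (hts hQ) R (hts hR), fun Q hQ => h.2.1 Q (hts hQ),
    fun Q hQ R hR => h.2.2 Q (hts hQ) R (hts hR)⟩

theorem sup_mem_or_bot {s : Finset (Subgroup G)}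
    (h : ∀ Q ∈ s, ∀ R ∈ s, Q ≤ R ∨ R ≤ Q) : s.sup id ∈ s ∨ s.sup id = ⊥ := by
  rcases s.eq_empty_or_nonempty with rfl | hne
  · exact Or.inr Finset.sup_empty
  · obtain ⟨T, hT, hmax⟩ := s.exists_maximal hne
    refine Or.inl ?_
    rwa [le_antisymm (Finset.sup_le fun Q hQ => ?_) (Finset.le_sup (f := id) hT)]
    rcases h Q hQ T hT with h' | h'
    · exact h'
    · exact hmax hQ h'

open Classical in
/-- The largest member avoiding `u`. -/
noncomputable def below (s : Finset (Subgroup G)) (u : G) : Subgroup G :=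
  (s.filter fun Q : Subgroup G => u ∉ Q).sup id

/-- The top of the chain extended by `u`. -/
noncomputable def top' (s : Finset (Subgroup G)) (u : G) : Subgroup G :=
  s.sup id ⊔ Subgroup.zpowers u

/-- The member to be toggled. -/
noncomputable def pivot (s : Finset (Subgroup G)) (u : G) : Subgroup G :=
  below s u ⊔ Subgroup.closure ((fun t => t * u * t⁻¹) '' (top' s u : Set G))

variable {s : Finset (Subgroup G)} {u : G}

theorem mem_pivot : u ∈ pivot s u :=
  Subgroup.mem_sup_right (Subgroup.subset_closure ⟨1, Subgroup.one_mem _, by simp⟩)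

theorem below_le_sup : below s u ≤ s.sup id := by
  classical
  exact Finset.sup_mono (Finset.filter_subset _ _)

theorem pivot_le_top' : pivot s u ≤ top' s u := by
  refine sup_le (below_le_sup.trans le_sup_left) ((Subgroup.closure_le _).2 ?_)
  rintro _ ⟨t, ht, rfl⟩
  exact Subgroup.mul_mem _ (Subgroup.mul_mem _ ht
    (Subgroup.mem_sup_right (Subgroup.mem_zpowers u))) (Subgroup.inv_mem _ ht)

variable [hp : Fact p.Prime] (hs : IsNChain p s) (hu : ∃ k : ℕ, orderOf u = p ^ k)
  (hus : u ∈ stab s)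

include hs hus in
theorem sup_normalized : u ∈ Subgroup.normalizer ((s.sup id : Subgroup G) : Set G) := by
  rcases sup_mem_or_bot hs.1 with h | h
  · exact mem_stab.1 hus _ h
  · rw [h]
    exact Subgroup.normalizer_eq_top (H := (⊥ : Subgroup G)) ▸ Subgroup.mem_top u

include hs hu hus in
theorem isPGroup_top' : IsPGroup p (top' s u) := by
  obtain ⟨k, hk⟩ := hu
  have hz : IsPGroup p (Subgroup.zpowers u) :=
    IsPGroup.of_card (n := k) (by rw [Nat.card_zpowers, hk])
  have hT : IsPGroup p (s.sup id : Subgroup G) := by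
    rcases sup_mem_or_bot hs.1 with h | h
    · exact (hs.2.1 _ h).2
    · rw [h]; exact IsPGroup.of_bot
  exact hT.to_sup_of_normal_left' hz (Subgroup.zpowers_le.2 (sup_normalized hs hus))

include hs hus in
theorem top'_le_normalizer {Q : Subgroup G} (hQ : Q ∈ s) :
    top' s u ≤ Subgroup.normalizer ((Q : Subgroup G) : Set G) := by
  refine sup_le (Finset.sup_le fun R hR => ?_) (Subgroup.zpowers_le.2 (mem_stab.1 hus Q hQ))
  rcases hs.1 Q hQ R hR with h | h
  · exact hs.2.2 Q hQ R hR h
  · exact h.trans Subgroup.le_normalizer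

include hs in
theorem below_mem_or_bot : below s u ∈ s ∧ u ∉ below s u ∨ below s u = ⊥ := by
  classical
  rcases sup_mem_or_bot (s := s.filter fun Q : Subgroup G => u ∉ Q) (fun Q hQ R hR =>
    hs.1 Q (mem_filter.1 hQ).1 R (mem_filter.1 hR).1) with h | h
  · exact Or.inl (mem_filter.1 h)
  · exact Or.inr h

include hs hus in
theorem top'_le_normalizer_below :
    top' s u ≤ Subgroup.normalizer ((below s u : Subgroup G) : Set G) := by
  rcases below_mem_or_bot (u := u) hs with h | h
  · exact top'_le_normalizer hs hus h.1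
  · rw [h, Subgroup.normalizer_eq_top (H := (⊥ : Subgroup G))]; exact le_top

include hs hus in
/-- An element of the stabilizer commuting with `u` normalizes the pivot. -/
theorem normalizes_pivot {n : G} (hn : n ∈ stab s) (hnu : n * u = u * n) :
    n ∈ Subgroup.normalizer ((pivot s u : Subgroup G) : Set G) := by
  rw [Subgroup.mem_normalizer_iff_map_conj_eq]
  refine Subgroup.eq_of_le_of_card_ge ?_
    (Subgroup.card_map_of_injective (MulEquiv.injective _)).ge
  have hfix : ∀ Q : Subgroup G, (Q ∈ s ∨ Q = ⊥) → Q.map (MulAut.conj n : G →* G) = Q := by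
    rintro Q (hQ | rfl)
    · exact Subgroup.mem_normalizer_iff_map_conj_eq.1 (mem_stab.1 hn Q hQ)
    · exact Subgroup.map_bot _
  have hun : n * u * n⁻¹ = u := by rw [hnu, mul_inv_cancel_right]
  have htop : (top' s u).map (MulAut.conj n : G →* G) = top' s u := by
    rw [top', Subgroup.map_sup, hfix _ (sup_mem_or_bot hs.1), MonoidHom.map_zpowers]
    congr 2
  rw [pivot, Subgroup.map_sup, MonoidHom.map_closure, hfix _
    ((below_mem_or_bot hs).imp And.left id)]
  refine sup_le_sup le_rfl (Subgroup.closure_mono ?_)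
  rintro _ ⟨_, ⟨t, ht, rfl⟩, rfl⟩
  refine ⟨n * t * n⁻¹, htop ▸ ⟨t, ht, rfl⟩, ?_⟩
  show n * t * n⁻¹ * u * (n * t * n⁻¹)⁻¹ = n * (t * u * t⁻¹) * n⁻¹
  calc n * t * n⁻¹ * u * (n * t * n⁻¹)⁻¹ = n * t * n⁻¹ * (n * u * n⁻¹) * (n * t * n⁻¹)⁻¹ := by
        rw [hun]
    _ = n * (t * u * t⁻¹) * n⁻¹ := by group

include hs hus in
theorem top'_normalizes_pivot :
    top' s u ≤ Subgroup.normalizer ((pivot s u : Subgroup G) : Set G) := by
  intro t ht
  rw [Subgroup.mem_normalizer_iff_map_conj_eq]
  refine Subgroup.eq_of_le_of_card_ge ?_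
    (Subgroup.card_map_of_injective (MulEquiv.injective _)).ge
  rw [pivot, Subgroup.map_sup, MonoidHom.map_closure,
    Subgroup.mem_normalizer_iff_map_conj_eq.1 (top'_le_normalizer_below hs hus ht)]
  refine sup_le_sup le_rfl (Subgroup.closure_mono ?_)
  rintro _ ⟨_, ⟨t', ht', rfl⟩, rfl⟩
  refine ⟨t * t', Subgroup.mul_mem _ ht ht', ?_⟩
  show t * t' * u * (t * t')⁻¹ = t * (t' * u * t'⁻¹) * t⁻¹
  group

include hs hus in
theorem pivot_le {Q : Subgroup G} (hQ : Q ∈ s) (huQ : u ∈ Q) : pivot s u ≤ Q := by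
  refine sup_le ?_ ((Subgroup.closure_le _).2 ?_)
  · rcases below_mem_or_bot (u := u) hs with h | h
    · rcases hs.1 _ h.1 Q hQ with h' | h'
      · exact h'
      · exact absurd (h' huQ) h.2
    · rw [h]; exact bot_le
  · rintro _ ⟨t, ht, rfl⟩
    exact (Subgroup.mem_normalizer_iff.1 (top'_le_normalizer hs hus hQ ht) u).1 huQ

theorem le_pivot {Q : Subgroup G} (hQ : Q ∈ s) (huQ : u ∉ Q) : Q ≤ pivot s u := by
  classical
  exact (Finset.le_sup (f := id) (mem_filter.2 ⟨hQ, huQ⟩)).trans le_sup_left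

open Classical in
include hs hu hus in
theorem insert_pivot (hu1 : u ≠ 1) :
    IsNChain p (insert (pivot s u) s) ∧ u ∈ stab (insert (pivot s u) s) ∧
      stab (insert (pivot s u) s) ⊓ Subgroup.centralizer ({u} : Set G) =
        stab s ⊓ Subgroup.centralizer ({u} : Set G) := by
  have hcomp : ∀ Q ∈ s, Q ≤ pivot s u ∨ pivot s u ≤ Q := fun Q hQ => by
    by_cases h : u ∈ Q
    · exact Or.inr (pivot_le hs hus hQ h)
    · exact Or.inl (le_pivot hQ h)
  refine ⟨⟨?_, ?_, ?_⟩, mem_stab.2 fun Q hQ => ?_, ?_⟩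
  · intro Q hQ R hR
    rcases mem_insert.1 hQ with rfl | hQ <;> rcases mem_insert.1 hR with rfl | hR
    · exact Or.inl le_rfl
    · exact (hcomp R hR).symm
    · exact hcomp Q hQ
    · exact hs.1 Q hQ R hR
  · intro Q hQ
    rcases mem_insert.1 hQ with rfl | hQ
    · refine ⟨fun h => ?_, (isPGroup_top' hs hu hus).to_le pivot_le_top'⟩
      exact hu1 (Subgroup.mem_bot.1 (h ▸ mem_pivot))
    · exact hs.2.1 Q hQ
  · intro Q hQ R hR hQR
    rcases mem_insert.1 hQ with rfl | hQ <;> rcases mem_insert.1 hR with rfl | hR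
    · exact Subgroup.le_normalizer
    · exact ((Finset.le_sup (f := id) hR).trans le_sup_left).trans (top'_normalizes_pivot hs hus)
    · exact pivot_le_top'.trans (top'_le_normalizer hs hus hQ)
    · exact hs.2.2 Q hQ R hR hQR
  · rcases mem_insert.1 hQ with rfl | hQ
    · exact Subgroup.le_normalizer mem_pivot
    · exact mem_stab.1 hus Q hQ
  · ext n
    simp only [Subgroup.mem_inf, mem_stab, mem_insert, forall_eq_or_imp]
    exact ⟨fun h => ⟨h.1.2, h.2⟩, fun h => ⟨⟨normalizes_pivot hs hus (mem_stab.2 h.1)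
      (Subgroup.mem_centralizer_singleton_iff.1 h.2), h.1⟩, h.2⟩⟩

open Classical in
include hs hu hus in
theorem pivot_insert : pivot (insert (pivot s u) s) u = pivot s u := by
  have h1 : below (insert (pivot s u) s) u = below s u := by
    unfold below
    rw [filter_insert, if_neg (not_not.2 mem_pivot)]
  have h2 : top' (insert (pivot s u) s) u = top' s u := by
    unfold top'
    rw [Finset.sup_insert, id_eq, sup_assoc]
    exact sup_eq_right.2 pivot_le_top'
  show below _ u ⊔ Subgroup.closure (_ '' (top' _ u : Set G)) = _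
  rw [h1, h2]
  rfl

open Classical in
include hs hu hus in
theorem pivot_erase : pivot (s.erase (pivot s u)) u = pivot s u := by
  have h1 : below (s.erase (pivot s u)) u = below s u := by
    unfold below
    congr 1
    ext Q
    simp only [mem_filter, mem_erase]
    exact ⟨fun h => ⟨h.1.2, h.2⟩, fun h => ⟨⟨fun e => h.2 (e ▸ mem_pivot), h.1⟩, h.2⟩⟩
  by_cases hR : pivot s u ∈ s
  swap
  · rw [erase_eq_of_notMem hR]
  have h2 : top' (s.erase (pivot s u)) u = top' s u := by
    have hsplit : s.sup id = pivot s u ⊔ (s.erase (pivot s u)).sup id := by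
      conv_lhs => rw [← insert_erase hR]
      rw [Finset.sup_insert, id_eq]
    refine le_antisymm (sup_le_sup (Finset.sup_mono (erase_subset _ _)) le_rfl) ?_
    refine sup_le (hsplit.le.trans (sup_le ?_ le_sup_left)) le_sup_right
    by_cases habove : ∃ Q ∈ s.erase (pivot s u), u ∈ Q
    · obtain ⟨Q, hQ, huQ⟩ := habove
      exact (pivot_le hs hus (mem_of_mem_erase hQ) huQ).trans
        ((Finset.le_sup (f := id) hQ).trans le_sup_left)
    · push Not at habove
      have hb : (s.erase (pivot s u)).sup id = below s u := by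
        unfold below
        congr 1
        ext Q
        simp only [mem_filter, mem_erase]
        exact ⟨fun h => ⟨h.2, habove Q (mem_erase.2 h)⟩, fun h => ⟨fun e => h.2 (e ▸ mem_pivot), h.1⟩⟩
      rw [top', hb]
      by_contra hlt
      have hle : below s u ⊔ Subgroup.zpowers u ≤ pivot s u :=
        sup_le le_sup_left (Subgroup.zpowers_le.2 mem_pivot)
      -- a maximal subgroup of the top is normal
      have htop : top' s u = pivot s u := by
        refine le_antisymm (sup_le (hsplit.le.trans (sup_le le_rfl ?_))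
          (Subgroup.zpowers_le.2 mem_pivot)) pivot_le_top'
        rw [hb]; exact le_sup_left
      set R := pivot s u with hRdef
      have hRp : IsPGroup p R := htop ▸ isPGroup_top' hs hu hus
      haveI : Group.IsNilpotent R := hRp.isNilpotent
      have hne : (below s u ⊔ Subgroup.zpowers u).subgroupOf R ≠ ⊤ := fun h =>
        hlt (Subgroup.subgroupOf_eq_top.1 h)
      obtain ⟨W, hW, hWle⟩ :=
        (eq_top_or_exists_le_coatom ((below s u ⊔ Subgroup.zpowers u).subgroupOf R)).resolve_left hne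
      haveI : W.Normal := Subgroup.NormalizerCondition.normal_of_coatom W
        Group.normalizerCondition_of_isNilpotent hW
      refine hW.1 (eq_top_iff.2 fun r _ => ?_)
      have hsub : R ≤ W.map R.subtype := by
        conv_lhs => rw [hRdef, pivot]
        refine sup_le (fun g hg => ?_) ((Subgroup.closure_le _).2 ?_)
        · exact ⟨⟨g, hle (Subgroup.mem_sup_left hg)⟩, hWle (Subgroup.mem_subgroupOf.2
            (Subgroup.mem_sup_left hg)), rfl⟩
        · rintro _ ⟨t, ht, rfl⟩
          have huW : (⟨u, mem_pivot⟩ : R) ∈ W :=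
            hWle (Subgroup.mem_subgroupOf.2 (Subgroup.mem_sup_right (Subgroup.mem_zpowers u)))
          exact ⟨_, (inferInstance : W.Normal).conj_mem _ huW ⟨t, htop.le ht⟩, rfl⟩
      obtain ⟨w, hw, hwr⟩ := hsub r.2
      rwa [← show w = r from Subtype.ext hwr]
  show below _ u ⊔ Subgroup.closure (_ '' (top' _ u : Set G)) = _
  rw [h1, h2]
  rfl

end chains

open Classical in
/-- **The alternating sum over chains.** -/
theorem alternating_sum [M.IsPrime] (hM : IsPModular p M) (hb : IsPBlock M b) :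
    (Nat.card G : ℤ) * ((Nat.card b : ℤ) - (blockRank p b : ℤ)) =
      ∑ᶠ s ∈ {s : Finset (Subgroup G) | s.Nonempty ∧ (∀ Q ∈ s, ∀ R ∈ s, Q ≤ R ∨ R ≤ Q) ∧
        (∀ Q ∈ s, Q ≠ ⊥ ∧ IsPGroup p Q) ∧
        ∃ T ∈ s, ∀ Q ∈ s, Q ≤ T ∧ T ≤ Subgroup.normalizer ((Q : Subgroup G) : Set G)},
        (-1 : ℤ) ^ (s.card - 1) * (Nat.card (stab s) : ℤ) *
          ((Nat.card (indSet M b (stab s)) : ℤ) - (blockRank p (indSet M b (stab s)) : ℤ)) := by
  haveI : Fact p.Prime := ⟨hM.1⟩
  haveI : Fintype (Subgroup G) := Fintype.ofFinite _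
  set Ω : Finset (Finset (Subgroup G)) := univ.filter fun s => IsNChain p s
  set f : Finset (Subgroup G) → ℤ := fun s => (Nat.card (stab s) : ℤ) *
    ((Nat.card (indSet M b (stab s)) : ℤ) - (blockRank p (indSet M b (stab s)) : ℤ))
  have hzero : ∑ s ∈ Ω, (-1 : ℤ) ^ s.card * f s = 0 := by
    rw [sum_congr rfl fun s _ => by rw [show f s = _ from card_mul_sub hM hb (stab s), mul_sum],
      sum_comm' (t' := univ.filter fun u : G => u ≠ 1 ∧ ∃ k : ℕ, orderOf u = p ^ k)
        (s' := fun u => Ω.filter fun s => u ∈ stab s) (fun s u => by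
          simp only [mem_filter, mem_univ, true_and]; tauto)]
    refine sum_eq_zero fun u hu => ?_
    obtain ⟨-, hu1, hu2⟩ := mem_filter.1 hu
    refine sum_involution (fun s _ => if pivot s u ∈ s then s.erase (pivot s u)
      else insert (pivot s u) s) ?_ ?_ ?_ ?_
    · intro s hs
      simp only [Ω, mem_filter, mem_univ, true_and] at hs
      obtain ⟨hs, hus⟩ := hs
      unfold weight
      by_cases hR : pivot s u ∈ s
      · have hs' := hs.mono (erase_subset (pivot s u) s)
        have hus' : u ∈ stab (s.erase (pivot s u)) :=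
          mem_stab.2 fun Q hQ => mem_stab.1 hus Q (mem_of_mem_erase hQ)
        have h3 := (insert_pivot hs' hu2 hus' hu1).2.2
        rw [pivot_erase hs hu2 hus, insert_erase hR] at h3
        rw [if_pos hR, ← h3, ← card_erase_add_one hR, pow_succ]
        ring
      · rw [if_neg hR, (insert_pivot hs hu2 hus hu1).2.2, card_insert_of_notMem hR, pow_succ]
        ring
    · intro s hs _ h
      split_ifs at h with hR
      · exact absurd hR (erase_eq_self.1 h)
      · exact hR (insert_eq_self.1 h)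
    · intro s hs
      simp only [Ω, mem_filter, mem_univ, true_and] at hs ⊢
      split_ifs with hR
      · exact ⟨hs.1.mono (erase_subset _ _),
          mem_stab.2 fun Q hQ => mem_stab.1 hs.2 Q (mem_of_mem_erase hQ)⟩
      · exact ⟨(insert_pivot hs.1 hu2 hs.2 hu1).1, (insert_pivot hs.1 hu2 hs.2 hu1).2.1⟩
    · intro s hs
      simp only [Ω, mem_filter, mem_univ, true_and] at hs
      by_cases hR : pivot s u ∈ s
      · simp only [if_pos hR, pivot_erase hs.1 hu2 hs.2, if_neg (notMem_erase _ _),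
          insert_erase hR]
      · simp only [if_neg hR, pivot_insert hs.1 hu2 hs.2, if_pos (mem_insert_self _ _),
          erase_insert hR]
  rw [← add_sum_erase Ω _ (show (∅ : Finset (Subgroup G)) ∈ Ω from mem_filter.2
    ⟨mem_univ _, by simp, by simp, by simp⟩)] at hzero
  have hempty : f ∅ = (Nat.card G : ℤ) * ((Nat.card b : ℤ) - (blockRank p b : ℤ)) := by
    show (Nat.card (stab (∅ : Finset (Subgroup G))) : ℤ) *
      ((Nat.card (indSet M b (stab (∅ : Finset (Subgroup G)))) : ℤ) -
        (blockRank p (indSet M b (stab (∅ : Finset (Subgroup G)))) : ℤ)) = _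
    rw [show stab (∅ : Finset (Subgroup G)) = (⊤ : Subgroup G) from eq_top_iff.2 fun g _ =>
      mem_stab.2 fun Q hQ => absurd hQ (notMem_empty Q), indSet_top hb, blockRank_irrComp,
      Nat.card_image_of_injective (irrComp_injective' _), Subgroup.card_top]
  rw [card_empty, pow_zero, one_mul, hempty] at hzero
  rw [finsum_mem_eq_sum_of_inter_support_eq _ (t := Ω.erase ∅), eq_neg_of_add_eq_zero_left hzero,
    ← sum_neg_distrib]
  · refine sum_congr rfl fun s hs => ?_
    obtain ⟨n, hn⟩ := Nat.exists_eq_succ_of_ne_zero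
      (card_ne_zero.2 (nonempty_iff_ne_empty.2 (mem_erase.1 hs).1))
    rw [hn, pow_succ, Nat.succ_sub_one]
    simp only [f]
    ring
  · ext s
    simp only [Set.mem_inter_iff, Set.mem_setOf_eq, mem_coe, mem_erase, Ω, mem_filter, mem_univ,
      true_and, and_congr_left_iff]
    intro _
    constructor
    · rintro ⟨hne, h1, h2, T, hT, hT'⟩
      exact ⟨nonempty_iff_ne_empty.1 hne, h1, h2, fun Q hQ R hR _ => (hT' R hR).1.trans (hT' Q hQ).2⟩
    · rintro ⟨hne, h1, h2, h3⟩
      have hne' := nonempty_iff_ne_empty.2 hne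
      refine ⟨hne', h1, h2, ?_⟩
      obtain ⟨T, hT, hmax⟩ := s.exists_maximal hne'
      have hle : ∀ Q ∈ s, Q ≤ T := fun Q hQ => by
        rcases h1 Q hQ T hT with h' | h'
        · exact h'
        · exact hmax hQ h'
      exact ⟨T, hT, fun Q hQ => ⟨hle Q hQ, h3 Q hQ T hT (hle Q hQ)⟩⟩

end CfsgLib.ChainCount
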