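import Cfsg.Agent.BrauerPairs.NormalSupport
import Cfsg.Agent.Blocks.Regular

/-!
# Regular elements acting on a chain of `p`-subgroups
-/

namespace CfsgLib.BlockB

open Cfsg CfsgLib.BrauerPairs CfsgLib.Block

variable {p : ℕ} [hp : Fact p.Prime] {G : Type*} [Group G] [Finite G]

local notation "C[" Q "]" => Subgroup.centralizer (SetLike.coe Q)
local notation "N[" Q "]" => Subgroup.normalizer (SetLike.coe Q)

/-- A `p'`-element centralizing `X` and the centralizer of `X` in a `p`-group `W` it normalizes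
centralizes `W`. -/
theorem centralizes_of_centralizer {n : G} (hn : ¬ p ∣ orderOf n) {W X : Subgroup G}
    (hW : IsPGroup p W) (hnW : n ∈ N[W]) (hXW : X ≤ W) (hnX : n ∈ C[X])
    (hnC : n ∈ C[W ⊓ C[X]]) : n ∈ C[W] := by
  set Y := W ⊓ Subgroup.centralizer ({n} : Set G) with hY
  have hfix : ∀ y : G, y ∈ Y → n * y = y * n := fun y hy =>
    (Subgroup.mem_centralizer_singleton_iff.mp hy.2).symm
  have hXY : X ≤ Y := fun x hx =>
    ⟨hXW hx, Subgroup.mem_centralizer_singleton_iff.mpr (Subgroup.mem_centralizer_iff.mp hnX x hx)⟩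
  have hnY : n ∈ N[Y] := centralizer_le_normalizer Y
    (Subgroup.mem_centralizer_iff.mpr fun y hy => (hfix y hy).symm)
  by_cases hlt : Y = W
  · exact Subgroup.mem_centralizer_iff.mpr fun w hw => (hfix w (hlt.ge hw)).symm
  exfalso
  have hlt' : Y < W := lt_of_le_of_ne inf_le_left hlt
  obtain ⟨y, hy, hyY⟩ := SetLike.exists_of_lt (lt_normalizer_inf hW hlt')
  apply hyY
  have hnyW : n * y * n⁻¹ ∈ W := (Subgroup.mem_normalizer_iff.mp hnW y).mp hy.1
  set z := y⁻¹ * (n * y * n⁻¹) with hz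
  have hzW : z ∈ W := W.mul_mem (W.inv_mem hy.1) hnyW
  have hzX : z ∈ C[X] := Subgroup.mem_centralizer_iff.mpr fun x hx => by
    have h1 : y * x * y⁻¹ ∈ Y := (Subgroup.mem_normalizer_iff.mp hy.2 x).mp (hXY hx)
    have h2 : n * (y * x * y⁻¹) * n⁻¹ = y * x * y⁻¹ := by rw [hfix _ h1, mul_inv_cancel_right]
    have h3 : n⁻¹ * x * n = x := by rw [mul_assoc, ← hfix x (hXY hx), inv_mul_cancel_left]
    calc x * z = y⁻¹ * (y * x * y⁻¹) * (n * y * n⁻¹) := by rw [hz]; group
      _ = y⁻¹ * (n * (y * x * y⁻¹) * n⁻¹) * (n * y * n⁻¹) := by rw [h2]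
      _ = y⁻¹ * (n * y) * x * n⁻¹ := by group
      _ = y⁻¹ * (n * y * n⁻¹) * (n * x * n⁻¹) := by group
      _ = z * x := by rw [hfix x (hXY hx), mul_inv_cancel_right, hz]
  have hzn : n * z = z * n := (Subgroup.mem_centralizer_iff.mp hnC z ⟨hzW, hzX⟩).symm
  have hpow : ∀ m : ℕ, n ^ m * y * (n ^ m)⁻¹ = y * z ^ m := by
    intro m
    induction m with
    | zero => simp
    | succ m ih =>
      have hc : n * z ^ m * n⁻¹ = z ^ m := by
        rw [((show Commute n z from hzn).pow_right m).eq, mul_inv_cancel_right]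
      calc n ^ (m + 1) * y * (n ^ (m + 1))⁻¹ = n * (n ^ m * y * (n ^ m)⁻¹) * n⁻¹ := by
            rw [pow_succ']; group
        _ = (n * y * n⁻¹) * (n * z ^ m * n⁻¹) := by rw [ih]; group
        _ = y * z ^ (m + 1) := by
            rw [hc, show n * y * n⁻¹ = y * z by rw [hz]; group, pow_succ', mul_assoc]
  have h1 := hpow (orderOf n)
  rw [pow_orderOf_eq_one, one_mul, inv_one, mul_one, left_eq_mul] at h1
  have hz1 : z = 1 := by
    obtain ⟨k, hk⟩ := IsPGroup.iff_orderOf.mp hW ⟨z, hzW⟩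
    rw [← orderOf_eq_one_iff]
    refine Nat.eq_one_of_dvd_coprimes ?_ dvd_rfl (orderOf_dvd_of_pow_eq_one h1)
    rw [← Subgroup.orderOf_mk z hzW, hk]
    exact Nat.Coprime.pow_left k ((hp.out.coprime_iff_not_dvd).mpr hn)
  refine ⟨hy.1, Subgroup.mem_centralizer_singleton_iff.mpr ?_⟩
  rw [hz, inv_mul_eq_one] at hz1
  conv_lhs => rw [hz1, inv_mul_cancel_right]

/-- The idempotent of a block of a chain normalizer lives on the centralizer of the chain. -/
theorem blockCoeff_eq_zero_of_chain {G : Type*} [Group G] [Fintype G] {M : Ideal AlgInt}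
    [M.IsPrime] (hM : IsPModular p M) {m : ℕ} {Q : Fin (m + 1) → Subgroup G} (hQ : StrictMono Q)
    (hQp : ∀ i, IsPGroup p (Q i)) {N : Subgroup G} [Fintype N]
    (hN : ∀ g : G, g ∈ N ↔ ∀ i, g ∈ N[Q i]) {E : Set (IrrCharacter N)} (hE : IsPBlock M E)
    {n : N} (hn : (n : G) ∉ C[Q (Fin.last m)]) : blockCoeff E n = 0 := by
  by_contra hne
  apply hn
  have hreg : ¬ p ∣ orderOf n := fun h => hne (CfsgLib.Block.blockCoeff_eq_zero_of_singular hM hE h)
  have hregG : ¬ p ∣ orderOf (n : G) := by rwa [Subgroup.orderOf_coe]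
  -- the regular element centralizes every normal `p`-subgroup of the chain normalizer
  have hcent : ∀ i, ∀ x ∈ Q i ⊓ N, x * (n : G) = n * x := by
    intro i x hx
    haveI : ((Q i ⊓ N).subgroupOf N).Normal := ⟨fun y hy g => by
      rw [Subgroup.mem_subgroupOf] at hy ⊢
      exact ⟨(Subgroup.mem_normalizer_iff.mp ((hN g).mp g.2 i) (y : G)).mp hy.1,
        N.mul_mem (N.mul_mem g.2 y.2) (N.inv_mem g.2)⟩⟩
    have hRp : IsPGroup p ((Q i ⊓ N).subgroupOf N) :=
      ((hQp i).to_le inf_le_left).of_equiv (Subgroup.subgroupOfEquivOfLe inf_le_right).symm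
    have hnC : n ∈ Subgroup.centralizer (((Q i ⊓ N).subgroupOf N : Subgroup N) : Set N) := by
      by_contra h
      exact hne (blockCoeff_eq_zero_of_normal hM hRp hE h)
    exact congrArg Subtype.val (Subgroup.mem_centralizer_iff.mp hnC ⟨x, hx.2⟩ hx)
  have key : ∀ k (hk : k < m + 1), (n : G) ∈ C[Q ⟨k, hk⟩] := by
    intro k
    induction k with
    | zero =>
      intro hk
      refine Subgroup.mem_centralizer_iff.mpr fun x hx => hcent _ x ⟨hx, (hN x).mpr fun j => ?_⟩
      exact Subgroup.le_normalizer (hQ.monotone (Fin.mk_le_of_le_val (Nat.zero_le _)) hx)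
    | succ k ih =>
      intro hk
      have hk' : k < m + 1 := Nat.lt_of_succ_lt hk
      refine centralizes_of_centralizer hregG (hQp _) ((hN _).mp n.2 _)
        (hQ.monotone (Fin.mk_le_mk.mpr (Nat.le_succ k))) (ih hk') ?_
      refine Subgroup.mem_centralizer_iff.mpr fun x hx => hcent ⟨k + 1, hk⟩ x
        ⟨hx.1, (hN x).mpr fun j => ?_⟩
      rcases le_or_gt (j : ℕ) k with hj | hj
      · exact centralizer_le_normalizer _ (Subgroup.centralizer_le
          (SetLike.coe_subset_coe.mpr (hQ.monotone (show j ≤ ⟨k, hk'⟩ from hj))) hx.2)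
      · exact Subgroup.le_normalizer (hQ.monotone (show (⟨k + 1, hk⟩ : Fin (m + 1)) ≤ j from hj) hx.1)
  exact key m (Nat.lt_succ_self m)

end CfsgLib.BlockB
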