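import Cfsg.Prelude.Def_Blocks
import Mathlib.Algebra.MonoidAlgebra.Basic
import Mathlib.RingTheory.Artinian.Module
import Mathlib.LinearAlgebra.FiniteDimensional.Basic
import Mathlib.GroupTheory.PGroup
import Mathlib.Algebra.CharP.Basic
import Mathlib.Data.ZMod.Basic

/-!
# Nilpotent class sums

A class sum all of whose members act fixed-point-freely on a normal `p`-subgroup is nilpotent in
characteristic `p`.
-/

set_option autoImplicit false
set_option linter.unusedSectionVars false
set_option linter.style.haveILetI false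

namespace CfsgLib.Block.ClassNil

open Finset

variable {G : Type*} [Group G] [Fintype G] {p : ℕ} [hp : Fact p.Prime] {F : Type*} [Field F]
  [CharP F p]

local notation "A" => MonoidAlgebra F G

/-- Translation by an element of the group. -/
noncomputable def el (F : Type*) [Field F] {G : Type*} [Group G] (g : G) : MonoidAlgebra F G :=
  MonoidAlgebra.single g 1

theorem el_mul (g h : G) : el F g * el F h = el F (g * h) := by
  rw [el, el, el, MonoidAlgebra.single_mul_single, one_mul]

theorem el_one : el F (1 : G) = 1 := rfl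

/-- A nonzero vector has a nonzero fixed vector among its combinations of translates. -/
theorem exists_fixed (P : Subgroup G) [Fintype P] (hP : IsPGroup p P) (w : A) (hw : w ≠ 0) :
    ∃ c : P → F, (∑ v : P, c v • (el F (v : G) * w)) ≠ 0 ∧
      ∀ u : P, el F (u : G) * ∑ v : P, c v • (el F (v : G) * w) =
        ∑ v : P, c v • (el F (v : G) * w) := by
  classical
  let ι : ZMod p →+* F := ZMod.castHom dvd_rfl F
  let Φ : (P → ZMod p) →+ A :=
    AddMonoidHom.mk' (fun c => ∑ v : P, ι (c v) • (el F (v : G) * w)) fun c d => by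
      simp [add_smul, sum_add_distrib]
  have hshift : ∀ (u : P) (c : P → ZMod p),
      el F (u : G) * Φ c = Φ fun v => c (u⁻¹ * v) := fun u c => by
    show el F (u : G) * ∑ v : P, ι (c v) • (el F (v : G) * w) =
      ∑ v : P, ι (c (u⁻¹ * v)) • (el F (v : G) * w)
    rw [mul_sum]
    refine Fintype.sum_equiv (Equiv.mulLeft u) _ _ fun v => ?_
    rw [mul_smul_comm, ← mul_assoc, el_mul, Equiv.coe_mulLeft, inv_mul_cancel_left,
      Subgroup.coe_mul]
  let S := Φ.range
  haveI : Finite S := Finite.of_surjective Φ.rangeRestrict Φ.rangeRestrict_surjective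
  letI act : MulAction P S :=
    { smul := fun u x => ⟨el F (u : G) * x, by
        obtain ⟨c, hc⟩ := x.2
        exact ⟨_, (hshift u c).symm.trans (by rw [hc])⟩⟩
      one_smul := fun x => Subtype.ext (show el F ((1 : P) : G) * (x : A) = x by
        rw [Subgroup.coe_one, el_one, one_mul])
      mul_smul := fun u v x => Subtype.ext (show el F ((u * v : P) : G) * (x : A) =
          el F (u : G) * (el F (v : G) * x) by rw [← mul_assoc, el_mul, Subgroup.coe_mul]) }
  have hwS : w ∈ S := ⟨Pi.single 1 1, by
    show ∑ v : P, ι ((Pi.single 1 1 : P → ZMod p) v) • (el F (v : G) * w) = w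
    rw [sum_eq_single (1 : P) (fun v _ hv => by rw [Pi.single_eq_of_ne hv, map_zero, zero_smul])
      (by simp), Pi.single_eq_same, map_one, one_smul, Subgroup.coe_one, el_one, one_mul]⟩
  have hdvd : p ∣ Nat.card S := by
    have h1 : addOrderOf (⟨w, hwS⟩ : S) = p := by
      refine addOrderOf_eq_prime (Subtype.ext ?_) fun h => hw (congrArg Subtype.val h)
      show p • w = 0
      rw [← Nat.cast_smul_eq_nsmul F, CharP.cast_eq_zero, zero_smul]
    exact h1 ▸ addOrderOf_dvd_natCard _
  obtain ⟨z, hz, hz0⟩ := hP.exists_fixed_point_of_prime_dvd_card_of_fixed_point S hdvd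
    (a := (0 : S)) (fun u => Subtype.ext (mul_zero _))
  obtain ⟨c, hc⟩ := z.2
  refine ⟨fun v => ι (c v), ?_, fun u => ?_⟩
  · show Φ c ≠ 0
    rw [hc]
    exact fun h => hz0 (Subtype.ext h).symm
  · show el F (u : G) * Φ c = Φ c
    rw [hc]
    exact congrArg Subtype.val (hz u)

/-- The sum of a conjugation invariant set without `P`-fixed points is nilpotent. -/
theorem isNilpotent_sum (P : Subgroup G) [P.Normal] [Fintype P] (hP : IsPGroup p P) (s : Finset G)
    (hs : ∀ x : G, ∀ y ∈ s, x * y * x⁻¹ ∈ s) (hfree : ∀ y ∈ s, y ∉ Subgroup.centralizer (P : Set G)) :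
    IsNilpotent (∑ y ∈ s, el F y : A) := by
  classical
  set K : A := ∑ y ∈ s, el F y
  have hcen : ∀ g : G, el F g * K = K * el F g := fun g => by
    rw [mul_sum, sum_mul]
    refine sum_nbij' (fun y => g * y * g⁻¹) (fun y => g⁻¹ * y * g) (fun y hy => hs g y hy)
      (fun y hy => by simpa using hs g⁻¹ y hy) (fun y _ => by group) (fun y _ => by group)
      fun y _ => by rw [el_mul, el_mul, inv_mul_cancel_right]
  -- the sum kills fixed vectors
  have hkill : ∀ z : A, (∀ u : P, el F (u : G) * z = z) → K * z = 0 := by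
    intro z hz
    letI act : MulAction P {y // y ∈ s} :=
      { smul := fun u y => ⟨(u : G) * y * (u : G)⁻¹, hs u y y.2⟩
        one_smul := fun y => Subtype.ext (show ((1 : P) : G) * y * ((1 : P) : G)⁻¹ = y by simp)
        mul_smul := fun u v y => Subtype.ext (show ((u * v : P) : G) * y * ((u * v : P) : G)⁻¹ =
          u * (v * y * (v : G)⁻¹) * (u : G)⁻¹ by simp [mul_assoc]) }
    have hconst : ∀ (u : P) (y : {y // y ∈ s}), el F ((u • y : {y // y ∈ s}) : G) * z =
        el F (y : G) * z := by
      intro u y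
      have hmem : (y : G)⁻¹ * u * y ∈ P := by simpa using ‹P.Normal›.conj_mem _ u.2 (y : G)⁻¹
      show el F ((u : G) * y * (u : G)⁻¹) * z = _
      rw [show (u : G) * y * (u : G)⁻¹ = y * ((y : G)⁻¹ * u * y) * ((u⁻¹ : P) : G) by
          rw [Subgroup.coe_inv]; group, ← el_mul, mul_assoc, hz u⁻¹, ← el_mul, mul_assoc,
        hz ⟨_, hmem⟩]
    rw [sum_mul, ← sum_coe_sort]
    rw [← sum_fiberwise univ (Quotient.mk (MulAction.orbitRel P {y // y ∈ s}))
      fun y : {y // y ∈ s} => el F (y : G) * z]
    refine sum_eq_zero fun q _ => ?_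
    obtain ⟨y₀, rfl⟩ := Quotient.exists_rep q
    rw [sum_congr rfl fun y hy => ?_, sum_const]
    · have hcard : p ∣ (univ.filter fun y : {y // y ∈ s} =>
          (Quotient.mk (MulAction.orbitRel P {y // y ∈ s}) y) = ⟦y₀⟧).card := by
        have e : (univ.filter fun y : {y // y ∈ s} =>
            (Quotient.mk (MulAction.orbitRel P {y // y ∈ s}) y) = ⟦y₀⟧).card =
            Nat.card (MulAction.orbit P y₀) := by
          rw [← Nat.card_eq_finsetCard]
          exact Nat.card_congr ((Equiv.refl _).subtypeEquiv fun y => by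
            simp [Quotient.eq, MulAction.orbitRel_apply])
        rw [e]
        obtain ⟨n, hn⟩ := hP.card_orbit y₀
        rw [hn]
        refine dvd_pow_self p fun h0 => hfree y₀ y₀.2 ?_
        rw [h0, pow_zero] at hn
        obtain ⟨_⟩ := Nat.card_eq_one_iff_unique.1 hn
        rw [Subgroup.mem_centralizer_iff]
        intro u hu
        have h1 := congrArg Subtype.val (congrArg Subtype.val (Subsingleton.elim
          (⟨(⟨u, hu⟩ : P) • y₀, MulAction.mem_orbit _ _⟩ : MulAction.orbit P y₀)
          ⟨y₀, MulAction.mem_orbit_self _⟩))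
        change u * (y₀ : G) * u⁻¹ = y₀ at h1
        exact mul_inv_eq_iff_eq_mul.1 h1
      rw [← Nat.cast_smul_eq_nsmul F, (CharP.cast_eq_zero_iff F p _).2 hcard, zero_smul]
    · simp only [mem_filter, mem_univ, true_and, Quotient.eq, MulAction.orbitRel_apply] at hy
      obtain ⟨u, rfl⟩ := hy
      exact hconst u y₀
  -- stabilise
  haveI : Module.Finite F A := inferInstance
  set f : Module.End F A := LinearMap.mulLeft F K
  have hpow : ∀ (n : ℕ) (x : A), (f ^ n) x = K ^ n * x := fun n x => by
    simp only [f, LinearMap.pow_mulLeft, LinearMap.mulLeft_apply]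
  obtain ⟨n₀, hn₀⟩ := Filter.eventually_atTop.1 (Module.End.eventually_disjoint_ker_pow_range_pow f)
  refine ⟨n₀ + 1, by_contra fun hne => ?_⟩
  obtain ⟨c, hc0, hcfix⟩ := exists_fixed P hP (K ^ (n₀ + 1)) hne
  set z := ∑ v : P, c v • (el F (v : G) * K ^ (n₀ + 1))
  have hzK : z = K ^ (n₀ + 1) * ∑ v : P, c v • el F (v : G) := by
    rw [mul_sum]
    refine sum_congr rfl fun v _ => ?_
    rw [mul_smul_comm, (Commute.pow_right (hcen (v : G)) (n₀ + 1)).eq]
  refine hc0 ((Submodule.disjoint_def.1 (hn₀ (n₀ + 1) (by omega))) z ?_ ?_)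
  · rw [LinearMap.mem_ker, hpow, pow_succ, mul_assoc, hkill z hcfix, mul_zero]
  · exact ⟨_, (hpow _ _).trans hzK.symm⟩

end CfsgLib.Block.ClassNil
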