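import Cfsg.Agent.BlocksB.ClassSum
import Cfsg.Agent.Char.AlgInt
import Cfsg.Prelude.Def_Local

/-!
# Degrees divisible by a large power of p, from counting quotients of conjugates
-/

namespace CfsgLib.BlocksB

open CfsgLib.Char

variable {G : Type*} [Group G]

/-- The average of a character over a subgroup is a natural number. -/
theorem exists_avg_eq_natCast {χ : G → ℂ} (hχ : Cfsg.IsCharacter G χ) (P : Subgroup G)
    [Fintype P] : ∃ m : ℕ, ∑ w : P, χ w = (Nat.card P : ℂ) * (m : ℂ) := by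
  obtain ⟨n, ρ, rfl⟩ := hχ
  let σ : Representation ℂ P (Fin n → ℂ) := ρ.comp P.subtype
  haveI : Invertible (Nat.card P : ℂ) := invertibleOfNonzero (Nat.cast_ne_zero.mpr Nat.card_pos.ne')
  refine ⟨Module.finrank ℂ σ.invariants, ?_⟩
  rw [← σ.card_inv_mul_sum_char_eq_finrank, mul_inv_cancel_left₀ (Invertible.ne_zero _)]
  exact Finset.sum_congr rfl fun w _ => rfl

open Classical in
/-- If no two distinct conjugates of `x` have a quotient in the subgroup `P` of order `p ^ c`,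
some degree is divisible by `p ^ (c - a)`, with `p ^ a` the p-part of `|C(x)|`. -/
theorem exists_pow_dvd_charDegree [Finite G] (p : ℕ) [hp : Fact p.Prime] (x : G) (P : Subgroup G)
    (c : ℕ) (hP : Nat.card P = p ^ c)
    (h : ∀ u v : G, IsConj x u → IsConj x v → u * v⁻¹ ∈ P → u = v) :
    ∃ χ : Cfsg.IrrCharacter G,
      p ^ (c - (Nat.card (Subgroup.centralizer ({x} : Set G))).factorization p) ∣
        Cfsg.charDegree (χ : G → ℂ) := by
  haveI := Fintype.ofFinite G
  set C := Subgroup.centralizer ({x} : Set G) with hC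
  set a := (Nat.card C).factorization p with ha
  by_contra hno
  simp only [not_exists] at hno
  have hac : a < c := by
    by_contra hcon
    refine hno ⟨fun _ => 1, isIrrCharacter_one⟩ ?_
    rw [Nat.sub_eq_zero_of_le (not_lt.mp hcon), pow_zero]
    exact one_dvd _
  have hGne : (Nat.card G : ℂ) ≠ 0 := Nat.cast_ne_zero.mpr Nat.card_pos.ne'
  -- the count
  have key : (Nat.card C : ℂ) = ∑ χ ∈ irrFinset G,
      χ x * χ x⁻¹ * (∑ w : P, χ w) / χ 1 := by
    have h1 : ∀ w : P, ((Finset.univ.filter fun gh : G × G =>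
        gh.1 * x * gh.1⁻¹ * (gh.2 * x⁻¹ * gh.2⁻¹) = ((w⁻¹ : P) : G)).card : ℂ)
        = (Nat.card G : ℂ) * ∑ χ ∈ irrFinset G, χ x * χ x⁻¹ * χ w / χ 1 := fun w => by
      rw [card_pairs, Subgroup.coe_inv, inv_inv]
    have h2 : ∀ w : P, w ≠ 1 → (Finset.univ.filter fun gh : G × G =>
        gh.1 * x * gh.1⁻¹ * (gh.2 * x⁻¹ * gh.2⁻¹) = ((w⁻¹ : P) : G)).card = 0 := by
      intro w hw
      rw [Finset.card_eq_zero, Finset.filter_eq_empty_iff]
      rintro ⟨g, k⟩ _ he
      have hconj : k * x⁻¹ * k⁻¹ = (k * x * k⁻¹)⁻¹ := by group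
      rw [hconj] at he
      have := h (g * x * g⁻¹) (k * x * k⁻¹) (isConj_iff.mpr ⟨g, rfl⟩) (isConj_iff.mpr ⟨k, rfl⟩)
        (by rw [he]; exact (w⁻¹).2)
      simp only at he
      rw [this, mul_inv_cancel] at he
      exact hw (by
        have : (w⁻¹ : P) = 1 := Subtype.ext he.symm
        simpa using this)
    have h3 : (Finset.univ.filter fun gh : G × G =>
        gh.1 * x * gh.1⁻¹ * (gh.2 * x⁻¹ * gh.2⁻¹) = (((1 : P)⁻¹ : P) : G)).card
        = Nat.card G * Nat.card C := by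
      rw [Nat.card_eq_fintype_card, Nat.card_eq_fintype_card, ← Fintype.card_prod,
        ← Finset.card_univ (α := G × C)]
      refine Finset.card_bij' (fun gh _ => (gh.1, ⟨gh.1⁻¹ * gh.2, ?_⟩))
        (fun gc _ => (gc.1, gc.1 * gc.2)) (fun _ _ => Finset.mem_univ _) ?_ ?_ ?_
      · rename_i hgh
        have he := (Finset.mem_filter.mp hgh).2
        simp only [inv_one, Subgroup.coe_one] at he
        rw [Subgroup.mem_centralizer_singleton_iff]
        calc gh.1⁻¹ * gh.2 * x = gh.1⁻¹ * 1 * (gh.2 * x) := by group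
          _ = x * (gh.1⁻¹ * gh.2) := by rw [← he]; group
      · rintro ⟨g, k⟩ _
        refine Finset.mem_filter.mpr ⟨Finset.mem_univ _, ?_⟩
        have hk := Subgroup.mem_centralizer_singleton_iff.mp k.2
        simp only [inv_one, Subgroup.coe_one]
        have : g * (k : G) * x⁻¹ * (g * (k : G))⁻¹ = g * x⁻¹ * g⁻¹ := by
          have hk' : (k : G) * x⁻¹ = x⁻¹ * (k : G) := (Commute.inv_right hk).eq
          calc g * (k : G) * x⁻¹ * (g * (k : G))⁻¹ = g * ((k : G) * x⁻¹) * (g * (k : G))⁻¹ := by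
                group
            _ = g * x⁻¹ * g⁻¹ := by rw [hk']; group
        rw [this]; group
      · intro gh _; simp
      · intro gc _; ext <;> simp
    have hsum : ∑ w : P, ((Finset.univ.filter fun gh : G × G =>
        gh.1 * x * gh.1⁻¹ * (gh.2 * x⁻¹ * gh.2⁻¹) = ((w⁻¹ : P) : G)).card : ℂ)
        = (Nat.card G : ℂ) * (Nat.card C : ℂ) := by
      rw [Finset.sum_eq_single 1 (fun w _ hw => by rw [h2 w hw, Nat.cast_zero])
        (fun hn => absurd (Finset.mem_univ _) hn), h3, Nat.cast_mul]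
    simp_rw [h1, ← Finset.mul_sum] at hsum
    rw [← mul_left_cancel₀ hGne hsum, Finset.sum_comm]
    exact Finset.sum_congr rfl fun χ _ => by rw [Finset.mul_sum, Finset.sum_div]
  -- the arithmetic
  set K := ordCompl[p] (Nat.card G) with hK
  have hKp : ¬ p ∣ K := Nat.not_dvd_ordCompl hp.out Nat.card_pos.ne'
  have hint : IsIntegral ℤ (((K * Nat.card C : ℕ) : ℂ) / ((p ^ (a + 1) : ℕ) : ℂ)) := by
    rw [Nat.cast_mul, key, Finset.mul_sum, Finset.sum_div]
    refine IsIntegral.sum _ fun χ hχ => ?_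
    have hχ := mem_irrFinset.mp hχ
    obtain ⟨hd, hpos⟩ := charDegree_spec hχ
    obtain ⟨m, hm⟩ := exists_avg_eq_natCast (IsIrrCharacter.isCharacter hχ) P
    set d := Cfsg.charDegree χ with hddef
    have hdvd : p ^ (a + 1) * d ∣ K * p ^ c := by
      have hv : ¬ p ^ (c - a) ∣ d := hno ⟨χ, hχ⟩
      rw [hp.out.pow_dvd_iff_le_factorization hpos.ne', not_le] at hv
      have h1 : p ^ (d.factorization p) * ordCompl[p] d = d := Nat.ordProj_mul_ordCompl_eq_self d p
      have h2 : ordCompl[p] d ∣ K :=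
        Nat.ordCompl_dvd_ordCompl_of_dvd (charDegree_dvd hχ) p
      rw [← h1, ← mul_assoc, ← pow_add, mul_comm K]
      exact mul_dvd_mul (Nat.pow_dvd_pow p (by omega)) h2
    obtain ⟨e, he⟩ := hdvd
    have hpne : (((p ^ (a + 1) : ℕ)) : ℂ) ≠ 0 :=
      Nat.cast_ne_zero.mpr (pow_ne_zero _ hp.out.ne_zero)
    have hdne : (d : ℂ) ≠ 0 := Nat.cast_ne_zero.mpr hpos.ne'
    have : (K : ℂ) * (χ x * χ x⁻¹ * (∑ w : P, χ w) / χ 1) / ((p ^ (a + 1) : ℕ) : ℂ)
        = χ x * χ x⁻¹ * (m : ℂ) * (e : ℂ) := by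
      rw [hd, hm, hP]
      have he' : (K : ℂ) * ((p ^ c : ℕ) : ℂ) = ((p ^ (a + 1) : ℕ) : ℂ) * (d : ℂ) * (e : ℂ) := by
        exact_mod_cast he
      field_simp
      linear_combination (χ x * χ x⁻¹ * (m : ℂ)) * he'
    rw [this]
    have hχc := IsIrrCharacter.isCharacter hχ
    have hnat : ∀ n : ℕ, IsIntegral ℤ (n : ℂ) := fun n => by
      simpa using isIntegral_algebraMap (R := ℤ) (A := ℂ) (x := (n : ℤ))
    exact (((IsCharacter.isIntegral hχc x).mul (IsCharacter.isIntegral hχc x⁻¹)).mul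
      (hnat m)).mul (hnat e)
  have hdiv := dvd_of_isIntegral_div (pow_ne_zero _ hp.out.ne_zero) hint
  have : p ^ (a + 1) ∣ Nat.card C :=
    (Nat.Coprime.pow_left _ (hp.out.coprime_iff_not_dvd.mpr hKp)).dvd_of_dvd_mul_left hdiv
  rw [hp.out.pow_dvd_iff_le_factorization Nat.card_pos.ne'] at this
  omega

end CfsgLib.BlocksB
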