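import Cfsg.Agent.BlocksB.Subsection

/-!
# Consequences for subsections
-/

namespace CfsgLib.BlockB

open Finset Cfsg CfsgLib.Block CfsgLib.Block.Chr CfsgLib.Char
open scoped ComplexConjugate

set_option linter.unusedSectionVars false
set_option linter.style.haveILetI false

universe u

variable {G : Type u} [Group G] [Fintype G] {M : Ideal AlgInt} [M.IsPrime] {p : ℕ} [Fact p.Prime]

theorem centralizer_zpowers_eq (u : G) :
    Subgroup.centralizer (Subgroup.zpowers u : Set G) = Subgroup.centralizer ({u} : Set G) := by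
  ext w
  rw [Subgroup.mem_centralizer_iff, Subgroup.mem_centralizer_singleton_iff]
  refine ⟨fun hw => (hw u (Subgroup.mem_zpowers u)).symm, fun hw v hv => ?_⟩
  obtain ⟨i, rfl⟩ := hv
  exact ((show Commute u w from hw.symm).zpow_left i).eq

theorem zpowers_le_centralizer_zpowers (u : G) :
    Subgroup.zpowers u ≤ Subgroup.centralizer (Subgroup.zpowers u : Set G) := by
  rw [Subgroup.zpowers_le, centralizer_zpowers_eq, Subgroup.mem_centralizer_singleton_iff]

theorem finsum_mem_block [Fintype (IrrCharacter G)] (B : Set (IrrCharacter G))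
    [DecidablePred (· ∈ B)] {A : Type*} [AddCommMonoid A] (F : IrrCharacter G → A) :
    ∑ᶠ χ ∈ B, F χ = ∑ χ ∈ univ.filter (· ∈ B), F χ :=
  finsum_mem_eq_sum_of_inter_support_eq _ (by ext; simp)

/-- The `b`-part of the inverse twist is the conjugate. -/
theorem blockPart_secFun_inv {H : Subgroup G} [Fintype H] {u : G}
    (hH : H = Subgroup.centralizer ({u} : Set G)) (b : Set (IrrCharacter H)) (χ : IrrCharacter G)
    (s : H) :
    blockPart b (fun c : H => (χ : G → ℂ) (u⁻¹ * c)) s⁻¹ =
      conj (blockPart b (secFun H u χ) s) := by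
  classical
  letI := irrFintype (G := H)
  rw [blockPart_eq_sum_inner, blockPart_eq_sum_inner, map_sum]
  refine sum_congr rfl fun ξ _ => ?_
  rw [map_mul, conj_irr]
  congr 1
  simp only [CfsgLib.Char.classInner_def, map_mul, map_inv₀, map_natCast, map_sum,
    Complex.conj_conj, secFun]
  congr 1
  refine Fintype.sum_equiv (Equiv.inv H) _ _ fun c => ?_
  show (χ : G → ℂ) (u⁻¹ * c) * conj ((ξ : H → ℂ) c) =
    conj ((χ : G → ℂ) (u * ((c⁻¹ : H) : G))) * (ξ : H → ℂ) c⁻¹
  rw [conj_irr, conj_irr, Subgroup.coe_inv, _root_.mul_inv_rev, inv_inv]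
  congr 2
  exact congrArg _ ((show Commute (c : G) u from (mem_H_iff hH).1 c.2).inv_right).eq.symm

/-- The norms of a subsection sum to the rank. -/
theorem sum_norms (hM : IsPModular p M) {B : Set (IrrCharacter G)} {u : G} {k : ℕ}
    (hu : orderOf u = p ^ k) {e : Set (IrrCharacter (Subgroup.centralizer (Subgroup.zpowers u : Set G)))}
    (hBe : IsBrauerPairOf p M B (Subgroup.zpowers u) e) :
    ∑ᶠ χ ∈ B, ∑ᶠ s : Subgroup.centralizer (Subgroup.zpowers u : Set G),
      pRegularPart p (blockPart e (fun c : Subgroup.centralizer (Subgroup.zpowers u : Set G) =>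
        (χ : G → ℂ) (u * c))) s *
      blockPart e (fun c : Subgroup.centralizer (Subgroup.zpowers u : Set G) =>
        (χ : G → ℂ) (u⁻¹ * c)) s⁻¹ =
    (Nat.card (Subgroup.centralizer (Subgroup.zpowers u : Set G)) : ℂ) * (blockRank p e : ℂ) := by
  classical
  haveI : Fintype (Subgroup.centralizer (Subgroup.zpowers u : Set G)) := Fintype.ofFinite _
  letI := irrFintype (G := G)
  have hind := isInducedBlock_of_isBrauerPairOf hM (zpowers_le_centralizer_zpowers u) hBe
  have hH := centralizer_zpowers_eq u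
  have hC : (Nat.card (Subgroup.centralizer (Subgroup.zpowers u : Set G)) : ℂ) ≠ 0 :=
    Nat.cast_ne_zero.2 Nat.card_pos.ne'
  rw [← sum_contrib_diag hM hH hu hind, mul_sum, finsum_mem_block B]
  refine sum_congr rfl fun χ _ => ?_
  rw [contrib, CfsgLib.Char.classInner_def, mul_inv_cancel_left₀ hC, finsum_eq_sum_of_fintype]
  refine sum_congr rfl fun s _ => ?_
  rw [pRegularPart_eq, blockPart_secFun_inv hH, subPart_eq_regPart hM hind.1]
  by_cases hs : p ∣ orderOf s
  · simp [regPart_of_dvd hs]
  · simp only [regPart_of_not_dvd hs]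
    rfl

end CfsgLib.BlockB
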