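import Cfsg.Agent.Blocks.BrauerFeit
import Cfsg.Agent.Blocks.MinMax

/-!
# Counting the members of a block by height
-/

namespace CfsgLib.BlockB

open Finset Cfsg CfsgLib.Block CfsgLib.Block.Chr CfsgLib.Char

universe u

variable {G : Type u} [Group G] [Fintype G] {M : Ideal AlgInt} [M.IsPrime] {p : ℕ} [Fact p.Prime]
  {B : Set (IrrCharacter G)}

open scoped Classical in
/-- The squares of a row of the reduced matrix off the diagonal are bounded. -/
theorem row_bound (hM : IsPModular p M) (hB : IsPBlock M B) [Fintype (IrrCharacter G)]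
    {χ : IrrCharacter G} (hχ : χ ∈ B) :
    4 * ∑ ψ ∈ (univ.filter (· ∈ B)).erase χ, redInt p B χ ψ ^ 2 ≤
      ((p : ℤ) ^ blockDefect p B) ^ 2 := by
  have hs := redInt_sum_sq hM hB hχ
  rw [← add_sum_erase _ _ (mem_filter.2 ⟨mem_univ χ, hχ⟩)] at hs
  nlinarith [sq_nonneg (2 * redInt p B χ χ - (p : ℤ) ^ blockDefect p B)]

theorem pow_le_sq {q n : ℤ} {h : ℕ} (hdvd : q ^ h ∣ n) (hne : n ≠ 0) : q ^ (2 * h) ≤ n ^ 2 := by
  rw [pow_mul', ← sq_abs (q ^ h), ← sq_abs n]
  refine pow_le_pow_left₀ (abs_nonneg _) ?_ 2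
  exact Int.le_of_dvd (abs_pos.2 hne) ((abs_dvd _ _).2 ((dvd_abs _ _).2 hdvd))

/-- The sum over a block of `p` to twice the height. -/
theorem sum_pow_height_le (hM : IsPModular p M) (hB : IsPBlock M B) {D : Subgroup G}
    (hD : IsDefectGroup p M B D) :
    ∑ᶠ χ ∈ B, p ^ (2 * blockHeight p B (χ : G → ℂ)) ≤ Nat.card D ^ 2 / 4 + 1 := by
  classical
  letI := irrFintype (G := G)
  obtain ⟨ξ, hξ, h0⟩ := exists_height_zero hM hB
  rw [card_defectGroup hM hB hD, finsum_mem_eq_sum_filter (fun χ : IrrCharacter G =>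
    p ^ (2 * blockHeight p B (χ : G → ℂ))) B (Set.toFinite _)]
  have hfin : (Set.Finite.toFinset (Set.toFinite (Function.support fun χ : IrrCharacter G =>
      p ^ (2 * blockHeight p B (χ : G → ℂ))))).filter (· ∈ B) = univ.filter (· ∈ B) := by
    ext χ
    simp [Nat.pos_iff_ne_zero, (Fact.out : p.Prime).ne_zero]
  rw [hfin, ← add_sum_erase _ _ (mem_filter.2 ⟨mem_univ ξ, hξ⟩), h0, mul_zero, pow_zero,
    add_comm]
  refine Nat.succ_le_succ ((Nat.le_div_iff_mul_le four_pos).2 ?_)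
  have h1 : (∑ ψ ∈ (univ.filter (· ∈ B)).erase ξ,
      ((p ^ (2 * blockHeight p B (ψ : G → ℂ)) : ℕ) : ℤ)) ≤
      ∑ ψ ∈ (univ.filter (· ∈ B)).erase ξ, redInt p B ξ ψ ^ 2 := by
    refine sum_le_sum fun ψ hψ => ?_
    have hψB : ψ ∈ B := (mem_filter.1 (mem_of_mem_erase hψ)).2
    rw [Nat.cast_pow]
    exact pow_le_sq (pow_dvd_redInt hM hB hξ hψB).1 (redInt_ne_zero hM hB hξ hψB h0)
  have h2 := row_bound hM hB hξ
  rw [← Nat.cast_le (α := ℤ)]
  push_cast at h1 ⊢
  linarith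

/-- A block with a character of positive height has few characters. -/
theorem two_mul_card_le (hM : IsPModular p M) (hB : IsPBlock M B) {χ : IrrCharacter G}
    (hχ : χ ∈ B) (hpos : blockHeight p B (χ : G → ℂ) ≠ 0) :
    2 * Nat.card B ≤ p ^ (2 * blockDefect p B - 2) := by
  classical
  letI := irrFintype (G := G)
  obtain ⟨ξ, hξ, h0⟩ := exists_height_zero hM hB
  have hd := height_add_two_le hM hB hχ hpos
  set d := blockDefect p B
  have hp0 : (0 : ℤ) < p := Int.natCast_pos.2 (Fact.out : p.Prime).pos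
  set S := univ.filter (· ∈ B)
  -- characters of height zero, from the row of `χ`
  have hzero : 4 * ((p : ℤ) ^ 2 * (S.filter fun ψ : IrrCharacter G => blockHeight p B (ψ : G → ℂ) = 0).card) ≤
      ((p : ℤ) ^ d) ^ 2 := by
    refine le_trans (mul_le_mul_of_nonneg_left ?_ (by norm_num)) (row_bound hM hB hχ)
    rw [card_eq_sum_ones, Nat.cast_sum, mul_sum]
    refine le_trans (sum_le_sum fun ψ hψ => ?_)
      (sum_le_sum_of_subset_of_nonneg (s := S.filter fun ψ : IrrCharacter G => blockHeight p B (ψ : G → ℂ) = 0)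
        (fun ψ hψ => mem_erase.2 ⟨fun h => hpos (by rw [← h]; exact (mem_filter.1 hψ).2), (mem_filter.1 hψ).1⟩)
        fun ψ _ _ => sq_nonneg _)
    obtain ⟨hψS, hψ0⟩ := mem_filter.1 hψ
    have hψB : ψ ∈ B := (mem_filter.1 hψS).2
    have hne : redInt p B χ ψ ≠ 0 := by
      rw [redInt_comm]; exact redInt_ne_zero hM hB hψB hχ hψ0
    have hdvd := (pow_dvd_redInt hM hB hχ hψB).2.2 hpos
    rw [hψ0, zero_add] at hdvd
    simpa using pow_le_sq hdvd hne
  -- characters of positive height, from the row of `ξ`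
  have hposc : 4 * ((p : ℤ) ^ 2 * (S.filter fun ψ : IrrCharacter G => ¬ blockHeight p B (ψ : G → ℂ) = 0).card) ≤
      ((p : ℤ) ^ d) ^ 2 := by
    refine le_trans (mul_le_mul_of_nonneg_left ?_ (by norm_num)) (row_bound hM hB hξ)
    rw [card_eq_sum_ones, Nat.cast_sum, mul_sum]
    refine le_trans (sum_le_sum fun ψ hψ => ?_)
      (sum_le_sum_of_subset_of_nonneg (s := S.filter fun ψ : IrrCharacter G => ¬ blockHeight p B (ψ : G → ℂ) = 0)
        (fun ψ hψ => mem_erase.2 ⟨fun h => (mem_filter.1 hψ).2 (by rw [h]; exact h0), (mem_filter.1 hψ).1⟩)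
        fun ψ _ _ => sq_nonneg _)
    obtain ⟨hψS, hψ0⟩ := mem_filter.1 hψ
    have hψB : ψ ∈ B := (mem_filter.1 hψS).2
    rw [Nat.cast_one, mul_one]
    exact le_trans (pow_le_pow_right₀ hp0 (by omega : 2 ≤ 2 * blockHeight p B (ψ : G → ℂ)))
      (pow_le_sq (pow_dvd_redInt hM hB hξ hψB).1 (redInt_ne_zero hM hB hξ hψB h0))
  have hcard : (Nat.card B : ℤ) = ((S.filter fun ψ : IrrCharacter G => blockHeight p B (ψ : G → ℂ) = 0).card : ℤ) +
      (S.filter fun ψ : IrrCharacter G => ¬ blockHeight p B (ψ : G → ℂ) = 0).card := by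
    rw [← Nat.cast_add, card_filter_add_card_filter_not, Nat.card_eq_fintype_card,
      Fintype.card_subtype]
  have hsplit : ((p : ℤ) ^ d) ^ 2 = (p : ℤ) ^ 2 * (p : ℤ) ^ (2 * d - 2) := by
    rw [← pow_mul, ← pow_add]
    congr 1
    omega
  rw [← Nat.cast_le (α := ℤ)]
  push_cast
  have hp2 : (0 : ℤ) < (p : ℤ) ^ 2 := by positivity
  refine le_of_mul_le_mul_left ?_ hp2
  rw [hcard, ← hsplit]
  linarith

end CfsgLib.BlockB
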