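import Cfsg.Agent.BlocksB.DefectTwoBound
import Cfsg.Agent.BlocksB.HeightCount
import Cfsg.Agent.BlocksB.InducedDefect

/-!
# The number of characters of a block and its defect
-/

set_option autoImplicit false
set_option linter.unusedSectionVars false
set_option linter.style.haveILetI false

namespace CfsgLib.BlockB

open Finset Cfsg CfsgLib.Block CfsgLib.Block.Chr CfsgLib.Char CfsgLib.BrauerPairs

universe u

variable {M : Ideal AlgInt} [M.IsPrime] {p : ℕ} [Fact p.Prime]

/-- At most `p ^ d` characters for `d ≤ 2`, and `p ^ (2 d - 2)` for larger defects. -/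
theorem card_le_pow_defect (hM : IsPModular p M) :
    ∀ (d : ℕ) {G : Type u} [Group G] [Fintype G] {B : Set (IrrCharacter G)}, IsPBlock M B →
      blockDefect p B = d →
      (d ≤ 2 → Nat.card B ≤ p ^ d) ∧ (3 ≤ d → Nat.card B ≤ p ^ (2 * d - 2)) := by
  intro d
  induction d using Nat.strong_induction_on with
  | _ d ih => ?_
  intro G _ _ B hB hd
  classical
  have hp := (Fact.out : p.Prime)
  by_cases hh : ∀ χ ∈ B, blockHeight p B (χ : G → ℂ) = 0
  swap
  · push Not at hh
    obtain ⟨χ, hχ, hne⟩ := hh
    have h2 := height_add_two_le hM hB hχ hne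
    rw [hd] at h2
    refine ⟨fun h => ?_, fun _ => ?_⟩
    · omega
    · have := two_mul_card_le hM hB hχ hne
      rw [hd] at this
      omega
  rcases Nat.eq_zero_or_pos d with rfl | hdpos
  · refine ⟨fun _ => ?_, fun h => absurd h (by omega)⟩
    rw [(card_and_rank_of_defect_zero hM hB hd).1, pow_zero]
  obtain ⟨D, hD⟩ := exists_defectGroup hB hM
  have hDp := isPGroup_defectGroup hD
  have hDcard : Nat.card D = p ^ d := by rw [card_defectGroup hM hB hD, hd]
  haveI : Nontrivial D := Finite.one_lt_card_iff_nontrivial.1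
    (by rw [hDcard]; exact Nat.one_lt_pow hdpos.ne' hp.one_lt)
  haveI : Nontrivial (Subgroup.center D) := hDp.center_nontrivial
  obtain ⟨z, hz⟩ := exists_prime_orderOf_dvd_card' (G := Subgroup.center D) p (by
    obtain ⟨j, hj⟩ := IsPGroup.iff_card.1 (hDp.to_subgroup (Subgroup.center D))
    rw [hj]
    refine dvd_pow_self p fun h => ?_
    have := Finite.one_lt_card_iff_nontrivial.2 ‹Nontrivial (Subgroup.center D)›
    rw [hj, h, pow_zero] at this
    exact this.false)
  set y : G := ((z : D) : G) with hydef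
  have hy : orderOf y = p := by rw [hydef, Subgroup.orderOf_coe, Subgroup.orderOf_coe, hz]
  have hQD : Subgroup.zpowers y ≤ D := Subgroup.zpowers_le.2 (z : D).2
  have hDQ : D ≤ Subgroup.centralizer (Subgroup.zpowers y : Set G) := by
    rw [centralizer_zpowers_eq]
    intro u hu
    rw [Subgroup.mem_centralizer_singleton_iff]
    exact congrArg Subtype.val (Subgroup.mem_center_iff.1 z.2 ⟨u, hu⟩)
  have key : ∀ H : Subgroup G, H = Subgroup.centralizer (Subgroup.zpowers y : Set G) →
      ∀ [Fintype H], ∃ b, IsInducedBlock M H b B ∧ blockDefect p b = blockDefect p B := by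
    rintro H rfl _
    exact exists_induced_of_central hM hB hD hQD hDQ
  haveI : Fintype (Subgroup.centralizer ({y} : Set G)) := Fintype.ofFinite _
  obtain ⟨b, hind, hbd⟩ := key (Subgroup.centralizer ({y} : Set G))
    (centralizer_zpowers_eq y).symm
  by_cases h2 : d = 2
  · subst h2
    exact ⟨fun _ => card_le_sq_of_defect_two hM rfl hy hind hbd hd, fun h => absurd h (by omega)⟩
  -- the rank is bounded by the number of characters one defect below
  have hyH : y ∈ Subgroup.centralizer ({y} : Set G) :=
    Subgroup.mem_centralizer_singleton_iff.2 rfl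
  set yH : Subgroup.centralizer ({y} : Set G) := ⟨y, hyH⟩
  have hcen : Subgroup.zpowers yH ≤ Subgroup.center _ := by
    rw [Subgroup.zpowers_le, Subgroup.mem_center_iff]
    rintro ⟨g, hg⟩
    exact Subtype.ext (Subgroup.mem_centralizer_singleton_iff.1 hg)
  haveI : (Subgroup.zpowers yH).Normal :=
    ⟨fun w hw g => by
      rwa [show g * w * g⁻¹ = w by
        rw [Subgroup.mem_center_iff.1 (hcen hw) g, mul_inv_cancel_right]]⟩
  have hcZ : Nat.card (Subgroup.zpowers yH) = p := by
    rw [Nat.card_zpowers, ← Subgroup.orderOf_coe, hy]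
  have hZp : IsPGroup p (Subgroup.zpowers yH) := IsPGroup.of_card (n := 1) (by rw [hcZ, pow_one])
  letI : Fintype (Subgroup.centralizer ({y} : Set G) ⧸ Subgroup.zpowers yH) := Fintype.ofFinite _
  obtain ⟨hBb, hdef⟩ := isPBlock_eq_below hM hcen hZp hind.1
  rw [hbd, hd, hcZ, hp.factorization_self] at hdef
  haveI : Fintype (Quot.below (N := Subgroup.zpowers yH) b) := Fintype.ofFinite _
  have hrank : blockRank p b ≤ Nat.card (Quot.below (N := Subgroup.zpowers yH) b) :=
    (blockRank_below hM hcen hZp hind.1).le.trans (blockRank_le_card hM hBb)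
  obtain ⟨ihsmall, ihbig⟩ := ih _ (by omega) hBb rfl
  have hsq := card_sq_le hM hh (k := 1) (by rw [hy, pow_one]) hind hbd
  rw [hd] at hsq
  have hroot : ∀ e f : ℕ, Nat.card (Quot.below (N := Subgroup.zpowers yH) b) ≤ p ^ e →
      2 * d + e ≤ 2 * f → Nat.card B ≤ p ^ f := by
    intro e f he hf
    refine (Nat.pow_le_pow_iff_left two_ne_zero).1 (hsq.trans ?_)
    rw [← pow_mul]
    calc p ^ (2 * d) * blockRank p b ≤ p ^ (2 * d) * p ^ e :=
          Nat.mul_le_mul_left _ (hrank.trans he)
      _ = p ^ (2 * d + e) := (pow_add _ _ _).symm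
      _ ≤ p ^ (f * 2) := Nat.pow_le_pow_right hp.pos (by omega)
  refine ⟨fun h => hroot _ _ (ihsmall (by omega)) (by omega), fun h => ?_⟩
  rcases Nat.lt_or_ge d 4 with h3 | h4
  · exact hroot _ _ (ihsmall (by omega)) (by omega)
  · exact hroot _ _ (ihbig (by omega)) (by omega)

end CfsgLib.BlockB
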