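import Cfsg.Agent.Blocks.LocalRing
import Cfsg.Agent.Char.AlgInt
import Mathlib.RingTheory.Polynomial.Cyclotomic.Eval
import Mathlib.RingTheory.Polynomial.Cyclotomic.Roots

/-!
# Division by the prime among the integers of a prime power cyclotomic field

An integral combination of `p`-power roots of unity which is a multiple of `p` in the local ring
at one prime over `p` is `p` times an algebraic integer.
-/

namespace CfsgLib.BlockB

open Finset Cfsg CfsgLib.Block Polynomial

set_option linter.style.haveILetI false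
set_option linter.unusedSectionVars false

variable {M : Ideal AlgInt} [M.IsPrime] {p : ℕ} [Fact p.Prime]

theorem root_sub_one_mem (hM : IsPModular p M) {z : ℂ} {k : ℕ} (hz : z ^ p ^ k = 1) :
    MemLocalIdeal M (z - 1) := by
  have hi : IsIntegral ℤ z := CfsgLib.Char.isIntegral_of_pow_eq_one (pow_pos hM.1.pos k) hz
  have h5 := res_eq_one_of_pow_eq_one hM
    (z := (⟨z, memLocalRing_of_isIntegral hi⟩ : localRing M)) (n := k)
    (Subtype.ext (by simpa using hz))
  simpa using res_eq_iff.1 (h5.trans (map_one (res M)).symm)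

/-- `p` is a multiple of the totient power of `ζ - 1`. -/
theorem exists_prime_eq_pow_mul (hM : IsPModular p M) {k : ℕ} {ζ : ℂ}
    (hζ : IsPrimitiveRoot ζ (p ^ (k + 1))) :
    ∃ w : ℂ, MemLocalRing M w ∧ (p : ℂ) = (ζ - 1) ^ Nat.totient (p ^ (k + 1)) * w := by
  classical
  have hpos : 0 < p ^ (k + 1) := pow_pos hM.1.pos _
  haveI : NeZero (p ^ (k + 1)) := ⟨hpos.ne'⟩
  have hint : IsIntegral ℤ ζ := CfsgLib.Char.isIntegral_of_pow_eq_one hpos hζ.pow_eq_one
  have h1 : (p : ℂ) = ∏ μ ∈ primitiveRoots (p ^ (k + 1)) ℂ, (1 - μ) := by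
    rw [← Polynomial.eval_one_cyclotomic_prime_pow (R := ℂ) (p := p) k,
      cyclotomic_eq_prod_X_sub_primitiveRoots hζ, eval_prod]
    simp
  have h2 : ∀ μ ∈ primitiveRoots (p ^ (k + 1)) ℂ, ∃ w : ℂ, MemLocalRing M w ∧
      1 - μ = (ζ - 1) * w := by
    intro μ hμ
    obtain ⟨i, -, rfl⟩ := hζ.eq_pow_of_pow_eq_one ((mem_primitiveRoots hpos).1 hμ).pow_eq_one
    refine ⟨-(∑ j ∈ range i, ζ ^ j),
      memLocalRing_neg (memLocalRing_of_isIntegral (IsIntegral.sum _ fun j _ => hint.pow j)), ?_⟩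
    rw [mul_neg, mul_geom_sum, neg_sub]
  choose! w hw hμ using h2
  refine ⟨∏ μ ∈ primitiveRoots (p ^ (k + 1)) ℂ, w μ,
    prod_mem (S := (localRing M : Subring ℂ)) hw, ?_⟩
  rw [h1, prod_congr rfl hμ, prod_mul_distrib, prod_const, hζ.card_primitiveRoots]

/-- A polynomial value at a root of `p`-power order which is locally a multiple of `p` is `p`
times a polynomial value. -/
theorem exists_poly_div (hM : IsPModular p M) {k : ℕ} {ζ : ℂ}
    (hζ : IsPrimitiveRoot ζ (p ^ (k + 1))) (P0 : Polynomial ℤ)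
    (h : MemLocalRing M (aeval ζ P0 / (p : ℂ))) :
    ∃ R : Polynomial ℤ, aeval ζ P0 = (p : ℂ) * aeval ζ R := by
  classical
  set m := p ^ (k + 1)
  have hm : 0 < m := pow_pos hM.1.pos _
  haveI : NeZero m := ⟨hm.ne'⟩
  set P : Polynomial ℤ := P0 %ₘ cyclotomic m ℤ
  set Q : Polynomial ℤ := P.comp (X + 1)
  have hcyc : aeval ζ (cyclotomic m ℤ) = 0 := by
    rw [aeval_def, eval₂_eq_eval_map, map_cyclotomic, ← IsRoot.def]
    exact hζ.isRoot_cyclotomic hm
  have hdeg : Q.natDegree < Nat.totient m := by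
    have h1 : P.degree < (cyclotomic m ℤ).degree :=
      degree_modByMonic_lt _ (cyclotomic.monic m ℤ)
    rw [degree_cyclotomic] at h1
    have h2 : P.natDegree < Nat.totient m := by
      rcases eq_or_ne P 0 with h0 | h0
      · rw [h0, natDegree_zero]
        exact Nat.totient_pos.2 hm
      · exact (natDegree_lt_iff_degree_lt h0).2 h1
    refine lt_of_le_of_lt natDegree_comp_le ?_
    rwa [show (X + 1 : Polynomial ℤ).natDegree = 1 from natDegree_X_add_C 1, mul_one]
  have hval : aeval ζ P0 = ∑ j ∈ range (Nat.totient m), (Q.coeff j : ℂ) * (ζ - 1) ^ j := by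
    have h1 : aeval (ζ - 1) Q = aeval ζ P0 := by
      rw [show aeval (ζ - 1) Q = aeval ζ P by simp [Q, aeval_comp]]
      conv_rhs => rw [← modByMonic_add_div P0 (cyclotomic m ℤ)]
      simp [P, hcyc]
    rw [← h1, aeval_eq_sum_range' hdeg]
    simp
  rw [hval] at h
  obtain ⟨w, hw, hpw⟩ := exists_prime_eq_pow_mul hM hζ
  set π : ℂ := ζ - 1
  have hπ : MemLocalIdeal M π := root_sub_one_mem hM hζ.pow_eq_one
  have hπ0 : π ≠ 0 := sub_ne_zero.2 (hζ.ne_one (Nat.one_lt_pow (Nat.succ_ne_zero k) hM.1.one_lt))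
  have hπR : MemLocalRing M π := memLocalIdeal_memLocalRing hπ
  have hp0 : (p : ℂ) ≠ 0 := Nat.cast_ne_zero.2 hM.1.ne_zero
  set φ := Nat.totient m
  have hc : ∀ j < φ, (p : ℤ) ∣ Q.coeff j := by
    intro j
    induction j using Nat.strong_induction_on with
    | _ j ih =>
      intro hj
      rw [← memLocalIdeal_intCast_iff hM]
      set T := ∑ i ∈ Ico (j + 1) φ, (Q.coeff i : ℂ) * π ^ (i - j)
      have hT : MemLocalIdeal M T := by
        refine memLocalIdeal_sum fun i hi => ?_
        obtain ⟨hi1, -⟩ := mem_Ico.1 hi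
        obtain ⟨r, hr⟩ : ∃ r, i - j = r + 1 := ⟨i - j - 1, by omega⟩
        rw [hr, pow_succ, ← mul_assoc]
        exact memLocalIdeal_mul_left (memLocalRing_mul (intCast_mem (localRing M) _)
          (pow_mem (S := (localRing M : Subring ℂ)) hπR r)) hπ
      set S := ∑ i ∈ range j, (Q.coeff i : ℂ) * π ^ i
      have hS : MemLocalRing M (S / (p : ℂ)) := by
        rw [sum_div]
        refine sum_mem (S := (localRing M : Subring ℂ)) fun i hi => ?_
        obtain ⟨t, ht⟩ := ih i (mem_range.1 hi) (lt_trans (mem_range.1 hi) hj)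
        rw [ht, show ((((p : ℤ) * t : ℤ)) : ℂ) * π ^ i / (p : ℂ) = (t : ℂ) * π ^ i by
          push_cast; field_simp]
        exact mul_mem (intCast_mem _ _) (pow_mem hπR i)
      have hsplit : ∑ i ∈ range φ, (Q.coeff i : ℂ) * π ^ i =
          S + π ^ j * ((Q.coeff j : ℂ) + T) := by
        rw [← sum_range_add_sum_Ico _ hj.le, sum_eq_sum_Ico_succ_bot hj, mul_add, mul_sum]
        congr 1
        congr 1
        · ring
        refine sum_congr rfl fun i hi => ?_
        rw [← mul_assoc, mul_comm (π ^ j), mul_assoc, ← pow_add,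
          Nat.add_sub_cancel' (le_of_lt (mem_Ico.1 hi).1)]
      set R := (∑ i ∈ range φ, (Q.coeff i : ℂ) * π ^ i) / (p : ℂ) - S / (p : ℂ)
      have hR : MemLocalRing M R := (localRing M).sub_mem h hS
      have heq : (Q.coeff j : ℂ) + T = π ^ (φ - j) * (w * R) := by
        refine mul_left_cancel₀ (pow_ne_zero j hπ0) ?_
        rw [← mul_assoc, ← pow_add, Nat.add_sub_cancel' hj.le, ← mul_assoc, ← hpw]
        simp only [R]
        field_simp
        rw [hsplit]
        ring
      have hI : MemLocalIdeal M ((Q.coeff j : ℂ) + T) := by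
        obtain ⟨r, hr⟩ : ∃ r, φ - j = r + 1 := ⟨φ - j - 1, by omega⟩
        rw [heq, hr, pow_succ']
        exact memLocalIdeal_mul_right (memLocalIdeal_mul_right hπ
          (pow_mem (S := (localRing M : Subring ℂ)) hπR r)) (memLocalRing_mul hw hR)
      simpa using memLocalIdeal_sub hI hT
  choose! t ht using hc
  refine ⟨∑ j ∈ range φ, Polynomial.C (t j) * (X - 1) ^ j, ?_⟩
  rw [hval, map_sum, mul_sum]
  refine sum_congr rfl fun j hj => ?_
  rw [ht j (mem_range.1 hj)]
  simp only [map_mul, aeval_C, map_pow, map_sub, aeval_X, map_one, π]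
  push_cast
  simp [mul_assoc]

/-- A polynomial value which is locally a multiple of a power of `p`. -/
theorem exists_poly_div_pow (hM : IsPModular p M) {k : ℕ} {ζ : ℂ}
    (hζ : IsPrimitiveRoot ζ (p ^ (k + 1))) :
    ∀ (j : ℕ) (P : Polynomial ℤ), MemLocalRing M (aeval ζ P / (p : ℂ) ^ j) →
      ∃ R : Polynomial ℤ, aeval ζ P = (p : ℂ) ^ j * aeval ζ R := by
  intro j
  induction j with
  | zero => exact fun P _ => ⟨P, by rw [pow_zero, one_mul]⟩
  | succ j ih =>
    intro P h
    have hp0 : (p : ℂ) ≠ 0 := Nat.cast_ne_zero.2 hM.1.ne_zero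
    obtain ⟨R, hR⟩ := ih P (by
      have h2 := memLocalRing_mul h (natCast_mem_localRing (M := M) p)
      convert h2 using 1
      rw [pow_succ]
      field_simp)
    obtain ⟨R', hR'⟩ := exists_poly_div hM hζ R (by
      convert h using 1
      rw [hR, pow_succ]
      field_simp)
    exact ⟨R', by rw [hR, hR', pow_succ, mul_assoc]⟩

/-- An integral combination of roots of `p`-power order which is locally a multiple of `p`. -/
theorem isIntegral_div_of_memLocalRing (hM : IsPModular p M) {ι : Type*} (s : Finset ι)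
    (n : ι → ℤ) (z : ι → ℂ) {k : ℕ} (hz : ∀ i ∈ s, z i ^ p ^ k = 1)
    (h : MemLocalRing M ((∑ i ∈ s, (n i : ℂ) * z i) / (p : ℂ))) :
    IsIntegral ℤ ((∑ i ∈ s, (n i : ℂ) * z i) / (p : ℂ)) := by
  classical
  have hz' : ∀ i ∈ s, z i ^ p ^ (k + 1) = 1 := fun i hi => by
    rw [pow_succ, pow_mul, hz i hi, one_pow]
  set m := p ^ (k + 1)
  have hm : 0 < m := pow_pos hM.1.pos _
  haveI : NeZero m := ⟨hm.ne'⟩
  set ζ : ℂ := Complex.exp (2 * Real.pi * Complex.I / m)
  have hζ : IsPrimitiveRoot ζ m := Complex.isPrimitiveRoot_exp m hm.ne'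
  choose! e _ he using fun i (hi : i ∈ s) => hζ.eq_pow_of_pow_eq_one (hz' i hi)
  set P0 : Polynomial ℤ := ∑ i ∈ s, Polynomial.C (n i) * X ^ e i
  have hP0 : aeval ζ P0 = ∑ i ∈ s, (n i : ℂ) * z i := by
    simp only [P0, map_sum, map_mul, aeval_C, map_pow, aeval_X]
    exact sum_congr rfl fun i hi => by rw [he i hi]; rfl
  rw [← hP0] at h ⊢
  obtain ⟨R, hR⟩ := exists_poly_div hM hζ P0 h
  rw [hR, mul_div_cancel_left₀ _ (Nat.cast_ne_zero.2 hM.1.ne_zero : (p : ℂ) ≠ 0)]
  have hint : IsIntegral ℤ ζ := CfsgLib.Char.isIntegral_of_pow_eq_one hm hζ.pow_eq_one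
  rw [aeval_eq_sum_range]
  exact IsIntegral.sum _ fun j _ => by
    rw [zsmul_eq_mul]
    exact IsIntegral.mul (by simpa using isIntegral_algebraMap (R := ℤ) (A := ℂ) (x := R.coeff j))
      (hint.pow j)

end CfsgLib.BlockB
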