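import Cfsg.Agent.BlocksB.MajorValuation
import Cfsg.Agent.BlocksB.RamifiedDiv
import Cfsg.Agent.BlocksB.BinaryForm

/-!
# Major subsections of rank at most two

If a major subsection has rank at most two, then the block has at most `p ^ d` characters.
-/

namespace CfsgLib.BlockB

open Matrix Finset Cfsg CfsgLib.Block CfsgLib.Block.Chr CfsgLib.Char
open scoped ComplexConjugate

set_option linter.unusedSectionVars false
set_option linter.style.haveILetI false

/-- The Gram matrix of the rows of `U` is forced by the idempotent `U Q Uᴴ`. -/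
theorem gram_eq_of_idem {n : Type*} [Fintype n] {l : ℕ} (U : Matrix n (Fin l) ℂ)
    (Q C : Matrix (Fin l) (Fin l) ℂ) {q : ℂ} (hq : q ≠ 0) (hQC : Q * C = q • 1)
    (hidem : (U * Q * Uᴴ) * (U * Q * Uᴴ) = q • (U * Q * Uᴴ))
    (htr : (U * Q * Uᴴ).trace = q * l) : Uᴴ * U = C := by
  set W := Uᴴ * U with hW
  have h3 : W * Q * (W * Q) * (W * Q) = q • (W * Q * (W * Q)) := by
    have h := congrArg (fun X => Uᴴ * X * (U * Q)) hidem
    simp only [Matrix.mul_smul, Matrix.smul_mul] at h
    simp only [hW, Matrix.mul_assoc] at h ⊢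
    exact h
  have htr2 : (W * Q * (W * Q)).trace = q * (q * l) := by
    have : (W * Q * (W * Q)).trace = ((U * Q * Uᴴ) * (U * Q * Uᴴ)).trace := by
      rw [show W * Q * (W * Q) = Uᴴ * (U * Q * Uᴴ * U * Q) by simp only [hW, Matrix.mul_assoc],
        trace_mul_comm]
      simp only [Matrix.mul_assoc]
    rw [this, hidem, trace_smul, htr, smul_eq_mul]
  set X := q⁻¹ • (W * Q) with hX
  have hX3 : X * X * X = X * X := by
    simp only [hX, Matrix.mul_smul, Matrix.smul_mul, smul_smul]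
    rw [h3, smul_smul]
    congr 1
    field_simp
  set Y := X * X with hY
  have hYY : Y * Y = Y := by rw [hY, ← Matrix.mul_assoc, hX3, hX3]
  have hYtr : Y.trace = (l : ℂ) := by
    simp only [hY, hX, Matrix.mul_smul, Matrix.smul_mul, smul_smul, trace_smul, htr2, smul_eq_mul]
    field_simp
  set f := Matrix.toLin' Y
  have hff : ∀ x, f (f x) = f x := fun x => by
    rw [← LinearMap.comp_apply, ← Matrix.toLin'_mul, hYY]
  have hproj : LinearMap.IsProj (LinearMap.range f) f :=
    ⟨fun c => LinearMap.mem_range_self _ c, by rintro _ ⟨c, rfl⟩; exact hff c⟩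
  have hrk : Module.finrank ℂ (LinearMap.range f) = l := by
    have h := hproj.trace
    rw [Matrix.trace_toLin'_eq, hYtr] at h
    exact_mod_cast h.symm
  have htop : LinearMap.range f = ⊤ :=
    Submodule.eq_top_of_finrank_eq (by rw [hrk, Module.finrank_fin_fun])
  have hY1 : Y = 1 := by
    refine Matrix.ext_iff_mulVec.2 fun x => ?_
    obtain ⟨z, hz⟩ : x ∈ LinearMap.range f := htop ▸ Submodule.mem_top
    rw [one_mulVec, ← hz, ← Matrix.toLin'_apply]
    exact hff z
  have hX1 : X = 1 := by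
    rwa [hY1, Matrix.one_mul] at hX3
  have hWQ : W * Q = q • 1 := by
    rw [← hX1, hX, smul_smul, mul_inv_cancel₀ hq, one_smul]
  have h := congrArg (fun Z => Z * C) hWQ
  simp only [Matrix.mul_assoc, hQC, Matrix.mul_smul, Matrix.mul_one, Matrix.smul_mul,
    Matrix.one_mul] at h
  exact smul_right_injective _ hq h

universe u

variable {G : Type u} [Group G] [Fintype G] {M : Ideal AlgInt} [M.IsPrime] {p : ℕ} [Fact p.Prime]
  {H : Subgroup G} [Fintype H] {y : G} {b : Set (IrrCharacter H)} {B : Set (IrrCharacter G)}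

set_option maxHeartbeats 800000 in
/-- A block with a major subsection of rank at most two has at most `p ^ d` characters. -/
theorem card_le_of_rank_le_two (hM : IsPModular p M) (hH : H = Subgroup.centralizer ({y} : Set G))
    {k : ℕ} (hy : orderOf y = p ^ k) (hind : IsInducedBlock M H b B)
    (hbd : blockDefect p b = blockDefect p B) (hl : blockRank p b ≤ 2) :
    Nat.card B ≤ p ^ blockDefect p B := by
  classical
  letI := irrFintype (G := G)
  letI := irrFintype (G := H)
  haveI : Fintype b := Fintype.ofFinite b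
  haveI : Fintype B := Fintype.ofFinite B
  have hb := hind.1
  have hB := hind.2.1
  set d := blockDefect p B
  have hp0 : (p : ℂ) ≠ 0 := Nat.cast_ne_zero.2 hM.1.ne_zero
  have hpk : 0 < p ^ k := pow_pos hM.1.pos k
  set q : ℤ := (p : ℤ) ^ d with hq
  have hq0 : 0 < q := pow_pos (Int.natCast_pos.2 hM.1.pos) _
  -- the integral matrix of `b` and its factorization
  let R : Matrix b b ℤ := Matrix.of fun ξ η : b => redInt p b ξ.1 η.1
  have hRsymm : Rᵀ = R := by
    ext ξ η
    exact redInt_comm _ _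
  have hRc : ∀ ξ η : b, ((R ξ η : ℤ) : ℂ) = (p : ℂ) ^ d * regMat p b ξ η := fun ξ η => by
    show (redInt p b ξ.1 η.1 : ℂ) = _
    rw [redInt_eq_regMat hM hb, hbd]
  have hqc : ((q : ℤ) : ℂ) = (p : ℂ) ^ d := by rw [hq, Int.cast_pow, Int.cast_natCast]
  have hsq : R * R = q • R := by
    ext ξ η
    apply Int.cast_injective (α := ℂ)
    have h := congrFun (congrFun (regMat_mul_self hM hb) ξ) η
    rw [Matrix.mul_apply] at h
    rw [Matrix.mul_apply, Matrix.smul_apply, smul_eq_mul, Int.cast_sum, Int.cast_mul, hqc, hRc,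
      ← h, mul_sum, mul_sum]
    refine sum_congr rfl fun ζ _ => ?_
    rw [Int.cast_mul, hRc, hRc]
    ring
  obtain ⟨l, ⟨S₁⟩⟩ := exists_symFactor R q hRsymm hsq
  have hlr : l = blockRank p b := by
    have h := S₁.trace_eq
    have h' : R.trace = q * (blockRank p b : ℤ) := by
      show ∑ ξ : b, redInt p b ξ.1 ξ.1 = _
      rw [sum_redInt_diag hM hb, hbd]
    exact_mod_cast (mul_left_cancel₀ hq0.ne' (h.symm.trans h'))
  -- the coefficients
  choose L N hL hL1 hN hLN using fun (χ : B) (ξ : b) => exists_section_coeff hM hH hy χ.1 ξ.1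
  let A : Matrix B b ℂ := Matrix.of fun χ ξ => L χ ξ * (N χ ξ : ℂ)
  let U : SymFactor R q l → Matrix B (Fin l) ℂ := fun S =>
    A * S.E.map (Int.castRingHom ℂ)
  let P : Matrix B B ℂ := Matrix.of fun χ ψ => (p : ℂ) ^ d * contrib p b y χ.1 ψ.1
  have hPU : ∀ S : SymFactor R q l,
      P = U S * S.Q.map (Int.castRingHom ℂ) * (U S)ᴴ := by
    intro S
    have h1 : P = A * R.map (Int.castRingHom ℂ) * Aᴴ := by
      ext χ ψ
      show (p : ℂ) ^ d * contrib p b y χ.1 ψ.1 = _
      rw [contrib_eq_sum hM hb, mul_sum, Matrix.mul_apply]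
      simp only [Matrix.mul_apply, sum_mul]
      rw [sum_comm (γ := b)]
      refine sum_congr rfl fun ξ _ => ?_
      rw [mul_sum]
      refine sum_congr rfl fun η _ => ?_
      simp only [A, Matrix.conjTranspose_apply, Matrix.of_apply, Matrix.map_apply,
        Int.coe_castRingHom, hLN, hRc, Complex.star_def]
      ring
    rw [h1, show R.map (Int.castRingHom ℂ) = (S.E * S.Q * S.Eᵀ).map (Int.castRingHom ℂ) from
      congrArg (fun X : Matrix b b ℤ => X.map (Int.castRingHom ℂ)) S.hR]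
    simp only [U, Matrix.map_mul, Matrix.conjTranspose_mul, Matrix.mul_assoc]
    congr 4
    ext i j
    simp [Complex.star_def]
  have hsumB : ∀ F : IrrCharacter G → ℂ, ∑ χ ∈ univ.filter (· ∈ B), F χ = ∑ χ : B, F χ.1 :=
    fun F => sum_subtype (univ.filter (· ∈ B)) (p := (· ∈ B)) (by simp) F
  have hPP : P * P = ((p : ℂ) ^ d) • P := by
    ext χ ψ
    rw [Matrix.mul_apply, Matrix.smul_apply, smul_eq_mul]
    show ∑ φ : B, (p : ℂ) ^ d * contrib p b y χ.1 φ.1 * ((p : ℂ) ^ d * contrib p b y φ.1 ψ.1) =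
      (p : ℂ) ^ d * ((p : ℂ) ^ d * contrib p b y χ.1 ψ.1)
    rw [← contrib_mul hM hH hy hind χ.1 ψ.1, hsumB, mul_sum, mul_sum]
    exact sum_congr rfl fun φ _ => by ring
  have hPtr : P.trace = (p : ℂ) ^ d * (l : ℂ) := by
    show ∑ χ : B, (p : ℂ) ^ d * contrib p b y χ.1 χ.1 = _
    rw [← mul_sum, ← hsumB fun χ => contrib p b y χ χ, sum_contrib_diag hM hH hy hind, hlr]
  have hgram : ∀ (S : SymFactor R q l) (i j : Fin l),
      ∑ χ : B, conj (U S χ i) * U S χ j = ((S.C i j : ℤ) : ℂ) := by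
    intro S i j
    have hQC : S.Q.map (Int.castRingHom ℂ) * S.C.map (Int.castRingHom ℂ) =
        ((p : ℂ) ^ d) • 1 := by
      rw [← Matrix.map_mul, show S.Q * S.C = q • 1 from S.hQC, ← hqc]
      ext i j
      simp only [Matrix.map_apply, Matrix.smul_apply, Matrix.one_apply, smul_eq_mul, mul_ite,
        mul_one, mul_zero, Int.coe_castRingHom]
      split_ifs <;> simp
    have h := gram_eq_of_idem (U S) _ _ (pow_ne_zero d hp0) hQC (by rw [← hPU]; exact hPP)
      (by rw [← hPU]; exact hPtr)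
    have h2 := congrFun (congrFun h i) j
    rw [Matrix.mul_apply] at h2
    simpa [Matrix.conjTranspose_apply, Complex.star_def] using h2
  have hUK : ∀ (S : SymFactor R q l) χ i,
      U S χ i ∈ cycloField (p ^ k) ∧ IsIntegral ℤ (U S χ i) := by
    intro S χ i
    simp only [U, A, Matrix.mul_apply, Matrix.of_apply, Matrix.map_apply, Int.coe_castRingHom]
    exact ⟨sum_mem fun ξ _ => mul_mem (mul_mem (root_mem_cycloField (hL χ ξ)) (natCast_mem _ _))
        (intCast_mem _ _), IsIntegral.sum _ fun ξ _ =>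
      ((isIntegral_of_pow_eq_one hpk (hL χ ξ)).mul (isIntegral_natCast_complex _)).mul
        (by simpa using isIntegral_algebraMap (R := ℤ) (A := ℂ) (x := S.E ξ i))⟩
  have hPne : ∀ χ ψ : B, blockHeight p B ((ψ : IrrCharacter G) : G → ℂ) = 0 → P χ ψ ≠ 0 :=
    fun χ ψ h0 => mul_ne_zero (pow_ne_zero d hp0) (contrib_ne_zero hM hH hy hind hbd χ.2 ψ.2 h0)
  obtain ⟨φ₀, hφ₀, hφ00⟩ := exists_height_zero hM hB
  have hrow : ∀ (S : SymFactor R q l) χ, ∃ i, U S χ i ≠ 0 := by
    intro S χ
    by_contra hcon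
    push Not at hcon
    refine hPne χ ⟨φ₀, hφ₀⟩ hφ00 ?_
    rw [hPU S, Matrix.mul_assoc, Matrix.mul_apply]
    exact sum_eq_zero fun i _ => by rw [hcon i, zero_mul]
  have hkB : Nat.card B = (univ : Finset B).card := by rw [Nat.card_eq_fintype_card, card_univ]
  suffices hmain : ((univ : Finset B).card : ℤ) ≤ q by
    rw [hkB]
    rw [hq] at hmain
    exact_mod_cast hmain
  rcases (show l = 0 ∨ l = 1 ∨ l = 2 by omega) with rfl | rfl | rfl
  · obtain ⟨i, -⟩ := hrow S₁ ⟨φ₀, hφ₀⟩
    exact i.elim0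
  · have h1 := card_le_sum_normSq hpk (univ : Finset B) (fun χ => U S₁ χ 0)
      (fun χ _ => (hUK S₁ χ 0).1) (fun χ _ => (hUK S₁ χ 0).2) (fun χ _ => by
        obtain ⟨i, hi⟩ := hrow S₁ χ
        rwa [Subsingleton.elim i 0] at hi) ((S₁.C 0 0 : ℤ) : ℚ) (by
        rw [Rat.cast_intCast, ← hgram S₁ 0 0]
        exact sum_congr rfl fun χ _ => mul_comm _ _)
    have h2 : S₁.Q 0 0 * S₁.C 0 0 = q := by
      have h : (S₁.Q * S₁.C) 0 0 = (q • (1 : Matrix (Fin 1) (Fin 1) ℤ)) 0 0 :=
        congrFun (congrFun S₁.hQC 0) 0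
      simpa [Matrix.mul_apply] using h
    have hc := S₁.C_diag_pos 0
    have hQ1 : 1 ≤ S₁.Q 0 0 := pos_of_mul_pos_left (by rw [h2]; exact hq0) hc.le
    have h1' : ((univ : Finset B).card : ℤ) ≤ S₁.C 0 0 := by exact_mod_cast h1
    nlinarith
  obtain ⟨S, hb0, hba, hac⟩ := S₁.exists_reduced
  set a := S.C 0 0 with ha
  set bb := S.C 0 1 with hbb
  set c := S.C 1 1 with hc
  set x := S.Q 0 0 with hx
  set z := S.Q 1 1 with hz
  set w := S.Q 0 1 with hw
  have hC10 : S.C 1 0 = bb := by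
    conv_lhs => rw [← S.C_symm]
    rfl
  have hQ10 : S.Q 1 0 = w := by
    conv_lhs => rw [← S.hsymm]
    rfl
  have hQCe : ∀ i j, S.Q i 0 * S.C 0 j + S.Q i 1 * S.C 1 j = if i = j then q else 0 := by
    intro i j
    have h : (S.Q * S.C) i j = (q • (1 : Matrix (Fin 2) (Fin 2) ℤ)) i j :=
      congrFun (congrFun S.hQC i) j
    rw [Matrix.mul_apply, Fin.sum_univ_two, Matrix.smul_apply, Matrix.one_apply, smul_eq_mul,
      mul_ite, mul_one, mul_zero] at h
    exact h
  have e00 : x * a + w * bb = q := by simpa [hC10] using hQCe 0 0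
  have e01 : x * bb + w * c = 0 := by simpa using hQCe 0 1
  have e10 : w * a + z * bb = 0 := by simpa [hC10, hQ10] using hQCe 1 0
  have e11 : w * bb + z * c = q := by simpa [hQ10] using hQCe 1 1
  have hapos : 0 < a := S.C_diag_pos 0
  have hcpos : 0 < c := S.C_diag_pos 1
  set u : B → ℂ := fun χ => U S χ 0 with hu
  set v : B → ℂ := fun χ => U S χ 1 with hv
  have huv : ∀ χ, u χ ≠ 0 ∨ v χ ≠ 0 := fun χ => by
    obtain ⟨i, hi⟩ := hrow S χ
    fin_cases i
    · exact Or.inl hi
    · exact Or.inr hi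
  have guu : ∑ χ, u χ * conj (u χ) = ((a : ℤ) : ℂ) := by
    rw [ha, ← hgram S 0 0]; exact sum_congr rfl fun χ _ => mul_comm _ _
  have gvv : ∑ χ, v χ * conj (v χ) = ((c : ℤ) : ℂ) := by
    rw [hc, ← hgram S 1 1]; exact sum_congr rfl fun χ _ => mul_comm _ _
  rcases reduced_bound hapos hb0 hba hac hq0 e00 e01 e10 e11 with hbound | ⟨hb00, hw0, hxa, hzc, hdvd⟩
  · -- three linear forms, of which two are nonzero
    let Fm : B × Fin 3 → ℂ := fun r => ![u r.1, v r.1, u r.1 - v r.1] r.2
    let T := (univ : Finset (B × Fin 3)).filter fun r => Fm r ≠ 0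
    have h1 := card_le_sum_normSq hpk T Fm
      (fun r _ => by
        obtain ⟨χ, j⟩ := r
        fin_cases j
        · exact (hUK S χ 0).1
        · exact (hUK S χ 1).1
        · exact sub_mem (hUK S χ 0).1 (hUK S χ 1).1)
      (fun r _ => by
        obtain ⟨χ, j⟩ := r
        fin_cases j
        · exact (hUK S χ 0).2
        · exact (hUK S χ 1).2
        · exact (hUK S χ 0).2.sub (hUK S χ 1).2)
      (fun r hr => (mem_filter.1 hr).2) ((2 * (a + c - bb) : ℤ) : ℚ) (by
        have huvs : ∑ χ, u χ * conj (v χ) = ((bb : ℤ) : ℂ) := by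
          rw [← hC10, ← hgram S 1 0]; exact sum_congr rfl fun χ _ => mul_comm _ _
        have hvus : ∑ χ, v χ * conj (u χ) = ((bb : ℤ) : ℂ) := by
          rw [hbb, ← hgram S 0 1]; exact sum_congr rfl fun χ _ => mul_comm _ _
        rw [Rat.cast_intCast, sum_filter_of_ne (p := fun r => Fm r ≠ 0) fun r _ h => fun h0 => h (by rw [h0, zero_mul]),
          Fintype.sum_prod_type]
        simp only [Fm, Fin.sum_univ_three, Matrix.cons_val_zero, Matrix.cons_val_one,
          Matrix.cons_val_two, Matrix.tail_cons, Matrix.head_cons, map_sub, mul_sub, sub_mul,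
          sum_add_distrib, sum_sub_distrib, guu, gvv, huvs, hvus]
        push_cast
        ring)
    have h2 : 2 * (univ : Finset B).card ≤ T.card := by
      rw [card_filter, Fintype.sum_prod_type, mul_comm, ← smul_eq_mul, ← sum_const]
      refine sum_le_sum fun χ _ => ?_
      simp only [Fm, Fin.sum_univ_three, Matrix.cons_val_zero, Matrix.cons_val_one,
        Matrix.cons_val_two, Matrix.tail_cons, Matrix.head_cons]
      rcases eq_or_ne (u χ) 0 with h | h
      · simp [h, (huv χ).resolve_left (not_not.2 h)]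
      · rcases eq_or_ne (v χ) 0 with h' | h'
        · simp [h, h']
        · simp [h, h']
    have h1' : (T.card : ℤ) ≤ 2 * (a + c - bb) := by exact_mod_cast h1
    have h2' : 2 * ((univ : Finset B).card : ℤ) ≤ (T.card : ℤ) := by exact_mod_cast h2
    linarith
  -- the diagonal case
  have hcard_ne : ∀ (f : B → ℂ) (hf : ∀ χ, f χ ∈ cycloField (p ^ k) ∧ IsIntegral ℤ (f χ)) (m : ℤ),
      ∑ χ, f χ * conj (f χ) = (m : ℂ) → ((univ.filter fun χ => f χ ≠ 0).card : ℤ) ≤ m := by
    intro f hf m hm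
    have h := card_le_sum_normSq hpk (univ.filter fun χ => f χ ≠ 0) f (fun χ _ => (hf χ).1)
      (fun χ _ => (hf χ).2) (fun χ hχ => (mem_filter.1 hχ).2) (m : ℚ) (by
        rw [Rat.cast_intCast, sum_filter_of_ne (p := fun χ => f χ ≠ 0) fun χ _ h => fun h0 => h (by rw [h0, zero_mul]), hm])
    exact_mod_cast h
  have hKu := fun χ => hUK S χ 0
  have hKv := fun χ => hUK S χ 1
  have hnu := hcard_ne u hKu a guu
  have hnv := hcard_ne v hKv c gvv
  have hzpos : 0 < z := pos_of_mul_pos_left (hzc ▸ hq0) hcpos.le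
  rcases lt_or_ge 1 z with hz2 | hz1
  · -- both norms are at most half of `q`
    have hsub : (univ : Finset B) ⊆
        (univ.filter fun χ => u χ ≠ 0) ∪ univ.filter fun χ => v χ ≠ 0 := fun χ _ => by
      rcases huv χ with h | h
      · exact mem_union_left _ (mem_filter.2 ⟨mem_univ _, h⟩)
      · exact mem_union_right _ (mem_filter.2 ⟨mem_univ _, h⟩)
    have h3 := (card_le_card hsub).trans (card_union_le _ _)
    have h3' : ((univ : Finset B).card : ℤ) ≤ a + c := by
      have : ((univ : Finset B).card : ℤ) ≤ ((univ.filter fun χ => u χ ≠ 0).card : ℤ) +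
          ((univ.filter fun χ => v χ ≠ 0).card : ℤ) := by exact_mod_cast h3
      linarith
    nlinarith
  have hz' : z = 1 := le_antisymm hz1 hzpos
  rw [hz', one_mul] at hzc
  -- `p` divides the determinant
  have hpx : (p : ℤ) ∣ x := by
    obtain ⟨cc, hccR, -, hcong⟩ := redInt_cong (p := p) hM hb
    let f : Fin 2 → ℂ := fun i => ∑ ξ : b, (S.F i ξ : ℂ) * (redDeg p b ξ.1 : ℂ)
    have hfR : ∀ i, MemLocalRing M (f i) := fun i => sum_mem (S := (localRing M : Subring ℂ))
      fun ξ _ => mul_mem (intCast_mem _ _) (natCast_mem _ _)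
    have hQf : ∀ i j, MemLocalIdeal M ((S.Q i j : ℂ) - cc * f i * f j) := by
      intro i j
      have e : (S.Q i j : ℂ) = ∑ ξ : b, ∑ η : b,
          (S.F i ξ : ℂ) * (S.F j η : ℂ) * (redInt p b ξ.1 η.1 : ℂ) := by
        rw [S.Q_eq, Matrix.mul_apply]
        simp only [Matrix.mul_apply, Matrix.transpose_apply, Int.cast_sum, Int.cast_mul, sum_mul]
        rw [sum_comm]
        refine sum_congr rfl fun ξ _ => sum_congr rfl fun η _ => ?_
        simp only [R, Matrix.of_apply]
        ring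
      rw [e, mul_assoc, sum_mul_sum, mul_sum, ← sum_sub_distrib]
      refine memLocalIdeal_sum fun ξ _ => ?_
      rw [mul_sum, ← sum_sub_distrib]
      refine memLocalIdeal_sum fun η _ => ?_
      have h := memLocalIdeal_mul_left (mul_mem (intCast_mem (localRing M) (S.F i ξ))
        (intCast_mem (localRing M) (S.F j η))) (hcong ξ.1 ξ.2 η.1 η.2)
      convert h using 1
      ring
    have h00 := hQf 0 0
    have h11 := hQf 1 1
    have h01 := hQf 0 1
    rw [← hx] at h00
    rw [← hz, hz', Int.cast_one] at h11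
    rw [← hw, hw0, Int.cast_zero] at h01
    rw [← memLocalIdeal_intCast_iff hM]
    have r00 : MemLocalRing M (cc * f 0 * f 0) :=
      memLocalRing_mul (memLocalRing_mul hccR (hfR 0)) (hfR 0)
    have r01 : MemLocalRing M (cc * f 0 * f 1) :=
      memLocalRing_mul (memLocalRing_mul hccR (hfR 0)) (hfR 1)
    have h := memLocalIdeal_sub (memLocalIdeal_add (memLocalIdeal_mul_left r00 h11) h00)
      (memLocalIdeal_mul_left r01 h01)
    convert h using 1
    ring
  obtain ⟨x', hx'⟩ := hpx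
  have hmR : MemLocalRing M ((x' : ℤ) : ℂ) := intCast_mem (localRing M) x'
  have hxI : MemLocalIdeal M ((x : ℤ) : ℂ) := (memLocalIdeal_intCast_iff hM).2 ⟨x', hx'⟩
  have hP : ∀ χ ψ, P χ ψ = (x : ℂ) * (u χ * conj (u ψ)) + v χ * conj (v ψ) := by
    intro χ ψ
    rw [hPU S]
    simp only [Matrix.mul_apply, Fin.sum_univ_two, Matrix.conjTranspose_apply, Matrix.map_apply,
      Int.coe_castRingHom, Complex.star_def, hu, hv, ← hx, ← hz, ← hw, hQ10, hw0, hz']
    push_cast
    ring
  have hRu : ∀ χ, MemLocalRing M (u χ) ∧ MemLocalRing M (conj (u χ)) := fun χ =>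
    ⟨memLocalRing_of_isIntegral (hKu χ).2,
      memLocalRing_of_isIntegral ((hKu χ).2.map (RingHom.toIntAlgHom (starRingEnd ℂ)))⟩
  have hRv : ∀ χ, MemLocalRing M (v χ) ∧ MemLocalRing M (conj (v χ)) := fun χ =>
    ⟨memLocalRing_of_isIntegral (hKv χ).2,
      memLocalRing_of_isIntegral ((hKv χ).2.map (RingHom.toIntAlgHom (starRingEnd ℂ)))⟩
  set Z : B → Prop := fun χ => blockHeight p B ((χ : IrrCharacter G) : G → ℂ) = 0 with hZ
  have hvunit : ∀ ψ, Z ψ → ¬ MemLocalIdeal M (conj (v ψ)) := by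
    intro ψ h0 hI
    refine (scaled_contrib_props hM hH hy hind hbd ψ.1 ψ.1).2.2 ψ.2 ψ.2 h0 h0 ?_
    show MemLocalIdeal M (P ψ ψ)
    rw [hP]
    exact memLocalIdeal_add (memLocalIdeal_mul_right hxI (memLocalRing_mul (hRu ψ).1 (hRu ψ).2))
      (memLocalIdeal_mul_left (hRv ψ).1 hI)
  have hvdiv : ∀ χ, ¬ Z χ → IsIntegral ℤ (v χ / (p : ℂ)) := by
    intro χ h0
    have hψ : Z ⟨φ₀, hφ₀⟩ := hφ00
    have hunit := hvunit _ hψ
    obtain ⟨j, hj⟩ := Nat.exists_eq_succ_of_ne_zero h0
    have h1 := (scaled_contrib_height hM hH hy hind hbd χ.2 hφ₀).1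
    rw [hj, pow_succ] at h1
    have h2 : MemLocalRing M (P χ ⟨φ₀, hφ₀⟩ / (p : ℂ)) := by
      have h := memLocalRing_mul (pow_mem (natCast_mem (localRing M) p) j) h1
      convert h using 1
      show (p : ℂ) ^ d * contrib p b y χ.1 φ₀ / (p : ℂ) = _
      field_simp
      ring
    have h3 : MemLocalRing M (v χ / (p : ℂ)) := by
      have h := memLocalRing_mul
        ((localRing M).sub_mem h2 (memLocalRing_mul hmR (memLocalRing_mul (hRu χ).1
          (hRu ⟨φ₀, hφ₀⟩).2))) (memLocalRing_inv (hRv ⟨φ₀, hφ₀⟩).2 hunit)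
      convert h using 1
      rw [hP, hx', Int.cast_mul, Int.cast_natCast]
      have hne := ne_zero_of_not_memLocalIdeal hunit
      field_simp
      ring
    have hvsum : v χ = ∑ ξ : b, ((S.E ξ 1 * (N χ ξ : ℤ) : ℤ) : ℂ) * L χ ξ := by
      simp only [hv, U, A, Matrix.mul_apply, Matrix.of_apply, Matrix.map_apply, Int.coe_castRingHom]
      exact sum_congr rfl fun ξ _ => by push_cast; ring
    rw [hvsum] at h3 ⊢
    exact isIntegral_div_of_memLocalRing hM univ _ _ (fun ξ _ => hL χ ξ) h3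
  set S0 := univ.filter fun χ => Z χ
  set S1 := univ.filter fun χ => ¬ Z χ ∧ v χ ≠ 0
  set S2 := univ.filter fun χ => ¬ Z χ ∧ v χ = 0
  have hv0 : ∀ χ ∈ S0, v χ ≠ 0 := fun χ hχ h => hvunit χ (mem_filter.1 hχ).2
    (by rw [h, map_zero]; exact memLocalIdeal_zero)
  have hk : (univ : Finset B).card = S0.card + (S1.card + S2.card) := by
    rw [← card_filter_add_card_filter_not (s := univ) Z]
    congr 1
    rw [← card_filter_add_card_filter_not (s := univ.filter fun χ => ¬ Z χ) (fun χ => v χ ≠ 0),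
      filter_filter, filter_filter]
    congr 2
    ext χ
    simp [S2]
  have hweight : (S0.card : ℤ) + (p : ℤ) ^ 2 * S1.card ≤ q := by
    let F : B ⊕ (B × ℕ) → ℂ := Sum.elim v fun r => v r.1 / (p : ℂ)
    have h := card_le_sum_normSq hpk (S0.disjSum (S1 ×ˢ range (p ^ 2))) F
      (fun r _ => by
        rcases r with χ | ⟨χ, j⟩
        · exact (hKv χ).1
        · exact div_mem (hKv χ).1 (natCast_mem _ _))
      (fun r hr => by
        rcases r with χ | ⟨χ, j⟩
        · exact (hKv χ).2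
        · have hr' := (mem_product.1 (inr_mem_disjSum.1 hr)).1
          exact hvdiv χ (mem_filter.1 hr').2.1)
      (fun r hr => by
        rcases r with χ | ⟨χ, j⟩
        · exact hv0 χ (inl_mem_disjSum.1 hr)
        · exact div_ne_zero (mem_filter.1 (mem_product.1 (inr_mem_disjSum.1 hr)).1).2.2 hp0)
      ((c : ℤ) : ℚ) (by
        rw [Rat.cast_intCast, sum_disjSum, sum_product, ← gvv]
        simp only [F, Sum.elim_inl, Sum.elim_inr, sum_const, card_range, nsmul_eq_mul, map_div₀,
          map_natCast]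
        push_cast
        have e : ∀ χ : B, (p : ℂ) ^ 2 * (v χ / (p : ℂ) * (conj (v χ) / (p : ℂ))) =
            v χ * conj (v χ) := fun χ => by field_simp
        simp only [e]
        rw [← sum_union (disjoint_filter.2 fun χ _ h1 h2 => h2.1 h1), ← filter_or]
        refine sum_subset (subset_univ _) fun χ _ hχ => ?_
        rw [mem_filter] at hχ
        push Not at hχ
        obtain ⟨hne, hval⟩ := hχ (mem_univ χ)
        rw [hval hne, zero_mul])
    rw [card_disjSum, card_product, card_range] at h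
    have h' : ((S0.card + S1.card * p ^ 2 : ℕ) : ℤ) ≤ c := by exact_mod_cast h
    push_cast at h'
    rw [hzc] at h'
    linarith
  have hp2 : (2 : ℤ) ≤ (p : ℤ) := by exact_mod_cast hM.1.two_le
  have hp4 : (4 : ℤ) ≤ (p : ℤ) ^ 2 := (show (4 : ℤ) = 2 ^ 2 by norm_num) ▸
    pow_le_pow_left₀ (by norm_num) hp2 2
  have hw4 : 4 * (S1.card : ℤ) ≤ (p : ℤ) ^ 2 * S1.card :=
    mul_le_mul_of_nonneg_right hp4 (Nat.cast_nonneg _)
  have hS0 : (0 : ℤ) ≤ S0.card := Nat.cast_nonneg _
  have hS1 : (0 : ℤ) ≤ S1.card := Nat.cast_nonneg _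
  rcases S2.eq_empty_or_nonempty with h2e | ⟨χ₂, hχ₂⟩
  · rw [hk, h2e, card_empty, add_zero]
    push_cast
    linarith
  obtain ⟨-, hχ2Z, hχ2v⟩ := mem_filter.1 hχ₂
  have hsub : S0 ∪ S2 ⊆ univ.filter fun χ => u χ ≠ 0 := by
    intro χ hχ
    refine mem_filter.2 ⟨mem_univ _, fun h0 => ?_⟩
    rcases mem_union.1 hχ with h | h
    · refine hPne χ₂ χ (mem_filter.1 h).2 ?_
      rw [hP, hχ2v, h0, map_zero]
      ring
    · exact (huv χ).elim (fun hne => hne h0) fun hne => hne (mem_filter.1 h).2.2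
  have h3 := card_le_card hsub
  rw [card_union_of_disjoint (disjoint_filter.2 fun χ _ h1 h2 => h2.1 h1)] at h3
  have h3' : (S0.card : ℤ) + S2.card ≤ a := by
    have : ((S0.card : ℤ) + S2.card) ≤ ((univ.filter fun χ => u χ ≠ 0).card : ℤ) := by
      exact_mod_cast h3
    linarith
  have hx2 : 2 ≤ x := by
    have hxpos : 0 < x := pos_of_mul_pos_left (hxa ▸ hq0) hapos.le
    rw [hx'] at hxpos ⊢
    have hx'pos : 0 < x' := pos_of_mul_pos_right hxpos (by linarith)
    nlinarith
  have h2a : 2 * a ≤ q := hxa ▸ mul_le_mul_of_nonneg_right hx2 hapos.le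
  rw [hk]
  push_cast
  linarith

end CfsgLib.BlockB
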