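import Cfsg.Agent.BlocksB.CentralQuotientBound
import Cfsg.Agent.BlocksB.RankTwo
import Cfsg.Agent.BlocksB.Cyclic.Main
import Cfsg.Agent.Blocks.Correspond

/-!
# Blocks of defect two with all heights zero

A major subsection `(y, b)` with `y` of order `p` has the Cartan form `p (1 + m J)` of size `n`,
`n m + 1 = p`, coming from the block of defect one of `C(y) ⧸ ⟨y⟩`. This bounds the number of
characters by `p ^ 2`.
-/

set_option autoImplicit false
set_option linter.unusedSectionVars false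
set_option linter.style.haveILetI false

namespace CfsgLib.BlockB

open Matrix Finset Cfsg CfsgLib.Block CfsgLib.Block.Chr CfsgLib.Char CfsgLib.BrauerPairs
  CfsgLib.Cyclic
open scoped ComplexConjugate

universe u

variable {G : Type u} [Group G] [Fintype G] {M : Ideal AlgInt} [M.IsPrime] {p : ℕ}
  [Fact p.Prime]

/-- The regular form of a block of defect one in signed non-exceptional members. -/
theorem exists_gram_defect_one (hM : IsPModular p M) {B : Set (IrrCharacter G)}
    (hB : IsPBlock M B) (hd : blockDefect p B = 1) [Fintype B] :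
    ∃ n m : ℕ, 0 < n ∧ 0 < m ∧ n * m + 1 = p ∧ blockRank p B = n ∧
      ∃ (x : Fin n → B) (δ : Fin n → ℤ), (∀ i, δ i = 1 ∨ δ i = -1) ∧
        (∀ i j, (δ i : ℂ) * (δ j : ℂ) * regMat p B (x i) (x j) =
          (if i = j then 1 else 0) - (m : ℂ) * (p : ℂ)⁻¹) ∧
        ∀ η : B, ∃ a : Fin n → ℤ, regPart p ((η : IrrCharacter G) : G → ℂ) =
          ∑ i, (a i : ℂ) • ((δ i : ℂ) • regPart p (((x i : B) : IrrCharacter G) : G → ℂ)) := by
  classical
  haveI := charP_residue hM
  obtain ⟨P, hP⟩ := exists_defectGroup hB hM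
  haveI : Fintype P := Fintype.ofFinite P
  have hcard : Nat.card P = p := by rw [card_defectGroup hM hB hP, hd, pow_one]
  have hcyc : IsCyclic P := isCyclic_of_prime_card hcard
  have hP1 : P ≠ ⊥ := fun h => (Fact.out : p.Prime).ne_one
    (by rw [← hcard, h, Subgroup.card_bot])
  obtain ⟨c, hc⟩ := exists_inducing (H := Subgroup.centralizer (P : Set G)) (P := P) hM
    (IsPGroup.of_card (n := 1) (by rw [hcard, pow_one]))
    (fun u hu => Subgroup.mem_centralizer_iff.2 fun w hw => commute_of_cyclic hcyc w hw u hu)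
    le_rfl (Subgroup.centralizer_le_normalizer _) hB hP (x := 1)
    (by rintro u ⟨w, hw, rfl⟩; simpa using hw)
  obtain ⟨t, n, S⟩ := exists_cycData hM hB hP hcyc hP1 hc
  obtain ⟨ms, V⟩ := S.exists_cycVals
  obtain ⟨χ₀, hχ₀⟩ := exists_mem_block hB
  obtain ⟨hrank, X, δ, δ₀, rep, T, -⟩ := exists_tree S V ⟨χ₀, hχ₀⟩
  set e := X.equivFinOfCardEq T.card_X
  let x : Fin n → B := fun i => (e.symm i).1
  have hxX : ∀ i, x i ∈ X := fun i => (e.symm i).2
  have hxinj : Function.Injective x := fun i j h => e.symm.injective (Subtype.ext h)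
  have hY := T.card_Y
  rw [hcard] at hY
  have hp2 := (Fact.out : p.Prime).two_le
  refine ⟨n, (Xᶜ).card, S.n_pos, Nat.pos_of_ne_zero fun h => ?_, hY, hrank, x, fun i => δ (x i),
    fun i => T.sign _ (hxX i), fun i j => ?_, fun η => ?_⟩
  · rw [h, mul_zero] at hY
    omega
  · have h := CycVals.decomp S V (x i) (x j)
    rw [classInner_regPart_regPart] at h
    have hsum : ∑ u ∈ univ.filter (fun u : P => u ≠ 1),
        aval (ms (x i).1) u * conj (aval (ms (x j).1) u) =
        ((n * (Xᶜ).card : ℕ) : ℂ) * ((δ (x i) : ℂ) * (δ (x j) : ℂ)) := by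
      rw [sum_congr rfl fun u hu => show aval (ms (x i).1) u * conj (aval (ms (x j).1) u) =
          (δ (x i) : ℂ) * (δ (x j) : ℂ) by
        rw [T.val_X _ (hxX i) u (mem_filter.1 hu).2, T.val_X _ (hxX j) u (mem_filter.1 hu).2]
        simp, sum_const, nsmul_eq_mul, filter_ne' univ (1 : P), card_erase_of_mem (mem_univ _),
        card_univ, ← Nat.card_eq_fintype_card, hcard]
      congr 2
      omega
    rw [hsum, hcard] at h
    have hn0 : (n : ℂ) ≠ 0 := Nat.cast_ne_zero.2 S.n_pos.ne'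
    have hp0 : (p : ℂ) ≠ 0 := Nat.cast_ne_zero.2 (Fact.out : p.Prime).ne_zero
    have e1 : ∀ z : B, z ∈ X → (δ z : ℂ) * (δ z : ℂ) = 1 := fun z hz => by
      rcases T.sign z hz with e | e <;> simp [e]
    have hm : ((n : ℂ) * p)⁻¹ * (((n * (Xᶜ).card : ℕ) : ℂ) * ((δ (x i) : ℂ) * (δ (x j) : ℂ))) =
        ((Xᶜ).card : ℂ) * (p : ℂ)⁻¹ * ((δ (x i) : ℂ) * (δ (x j) : ℂ)) := by
      push_cast
      field_simp
    rw [hm] at h
    by_cases hij : i = j
    · subst hij
      rw [if_pos rfl] at h ⊢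
      linear_combination (-(δ (x i) : ℂ) * (δ (x i) : ℂ)) * h +
        (1 - ((Xᶜ).card : ℂ) * (p : ℂ)⁻¹ * ((δ (x i) : ℂ) * (δ (x i) : ℂ) + 1)) *
          e1 _ (hxX i)
    · rw [if_neg fun hh => hij (hxinj hh)] at h
      rw [if_neg hij]
      linear_combination (-(δ (x i) : ℂ) * (δ (x j) : ℂ)) * h +
        (-((Xᶜ).card : ℂ) * (p : ℂ)⁻¹) * e1 _ (hxX i) +
        (-((Xᶜ).card : ℂ) * (p : ℂ)⁻¹ * (δ (x i) : ℂ) * (δ (x i) : ℂ)) * e1 _ (hxX j)
  · by_cases hη : η ∈ X
    · refine ⟨fun i => if i = e ⟨η, hη⟩ then δ η else 0, ?_⟩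
      dsimp only
      rw [sum_eq_single (e ⟨η, hη⟩) (fun i _ hi => by rw [if_neg hi, Int.cast_zero, zero_smul])
        (fun h => absurd (mem_univ _) h), if_pos rfl, smul_smul]
      simp only [x, Equiv.symm_apply_apply]
      rw [show (δ η : ℂ) * (δ η : ℂ) = 1 by rcases T.sign η hη with e | e <;> simp [e], one_smul]
    · refine ⟨fun _ => -δ₀, ?_⟩
      funext g
      rw [Finset.sum_apply]
      simp only [Pi.smul_apply, smul_eq_mul]
      by_cases hg : p ∣ orderOf g
      · simp [regPart_of_dvd hg]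
      · simp only [regPart_of_not_dvd hg]
        have h := T.reg η hη g hg
        have hs : ∑ z ∈ X, (δ z : ℂ) * ((z : IrrCharacter G) : G → ℂ) g =
            ∑ i : Fin n, (δ (x i) : ℂ) * (((x i : B) : IrrCharacter G) : G → ℂ) g := by
          rw [← Finset.sum_coe_sort X]
          exact (Fintype.sum_equiv e.symm _ _ fun i => rfl).symm
        rw [hs] at h
        rw [← mul_sum, Int.cast_neg]
        have e0 : (δ₀ : ℂ) * (δ₀ : ℂ) = 1 := by rcases T.sign₀ with e | e <;> simp [e]
        linear_combination (δ₀ : ℂ) * h - ((η : IrrCharacter G) : G → ℂ) g * e0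

/-- The Cartan form of a block of defect two over a central subgroup of order `p`. -/
theorem exists_cartan_defect_two (hM : IsPModular p M) {Z : Subgroup G} [Z.Normal]
    (hZ : Z ≤ Subgroup.center G) (hcZ : Nat.card Z = p) {B : Set (IrrCharacter G)}
    (hB : IsPBlock M B) (hd : blockDefect p B = 2) :
    ∃ n m : ℕ, 0 < n ∧ 0 < m ∧ n * m + 1 = p ∧ blockRank p B = n ∧
      ∃ E : B → Fin n → ℤ, ∀ ξ η : B, redInt p B ξ.1 η.1 =
        ∑ i, ∑ j, E ξ i * ((if i = j then (p : ℤ) else 0) - m) * E η j := by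
  classical
  have hp := (Fact.out : p.Prime)
  have hZp : IsPGroup p Z := IsPGroup.of_card (n := 1) (by rw [hcZ, pow_one])
  letI : Fintype (G ⧸ Z) := Fintype.ofFinite _
  obtain ⟨hBb, hdef⟩ := isPBlock_eq_below hM hZ hZp hB
  rw [hd, hcZ, hp.factorization_self] at hdef
  letI : Fintype (Quot.below (N := Z) B) := Fintype.ofFinite _
  obtain ⟨n, m, hn, hm, hnm, hrank, x, δ, hδ, hgram, hspan⟩ :=
    exists_gram_defect_one hM hBb (by omega)
  refine ⟨n, m, hn, hm, hnm, (blockRank_below hM hZ hZp hB).trans hrank, ?_⟩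
  have hp0 : (p : ℂ) ≠ 0 := Nat.cast_ne_zero.2 hp.ne_zero
  let xG : Fin n → B := fun i => ⟨Quot.inflIrr (x i).1, (x i).2⟩
  let φ : Fin n → G → ℂ := fun i => (δ i : ℂ) • regPart p ((xG i).1 : G → ℂ)
  have hφgram : ∀ i j, (p : ℂ) * classInner (φ i) (φ j) =
      (if i = j then 1 else 0) - (m : ℂ) * (p : ℂ)⁻¹ := by
    intro i j
    rw [← hgram i j, ← classInner_regPart_regPart, ← classInner_regPart_inflIrr hZ hZp, hcZ]
    simp only [φ, xG, classInner_smul_left, classInner_smul_right, map_intCast]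
    ring
  choose c hcR hcexp using fun ξ : B => exists_regPart_coeff hM hZ hZp hB ξ.2
  choose a ha using hspan
  let Ec : B → Fin n → ℂ := fun ξ i => ∑ η, c ξ η * (a η i : ℂ)
  have hinfl : ∀ η : Quot.below (N := Z) B, regPart p (Quot.inflIrr η.1 : G → ℂ) =
      ∑ i, (a η i : ℂ) • φ i := by
    intro η
    funext g
    rw [Finset.sum_apply]
    by_cases hg : p ∣ orderOf g
    · rw [regPart_of_dvd hg]
      exact (sum_eq_zero fun i _ => by simp [φ, regPart_of_dvd hg]).symm
    · rw [regPart_inflIrr_apply η.1 hg, ha η, Finset.sum_apply]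
      exact sum_congr rfl fun i _ => by
        simp only [φ, xG, Pi.smul_apply, regPart_inflIrr_apply _ hg]
  have hexp : ∀ ξ : B, regPart p ((ξ : IrrCharacter G) : G → ℂ) = ∑ i, Ec ξ i • φ i := by
    intro ξ
    rw [hcexp ξ, sum_congr rfl fun η _ => by rw [hinfl η, smul_sum], sum_comm]
    refine sum_congr rfl fun i _ => ?_
    simp only [Ec, sum_smul, smul_smul]
  have hEloc : ∀ ξ i, MemLocalRing M (Ec ξ i) := fun ξ i =>
    memLocalRing_sum fun η _ => memLocalRing_mul (hcR ξ η) (intCast_mem (localRing M) _)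
  have hred : ∀ ξ η : B, (redInt p B ξ.1 η.1 : ℂ) = (p : ℂ) ^ 2 *
      classInner (regPart p ((ξ : IrrCharacter G) : G → ℂ))
        (regPart p ((η : IrrCharacter G) : G → ℂ)) := fun ξ η => by
    rw [redInt_eq_regMat hM hB, hd, classInner_regPart_regPart]
  -- the coefficients are integers
  have hint : ∀ ξ i, ∃ E : ℤ, Ec ξ i = (E : ℂ) := by
    intro ξ
    set z : Fin n → ℤ := fun j => δ j * redInt p B ξ.1 (xG j).1 with hz
    have hzval : ∀ j, (z j : ℂ) = (p : ℂ) * Ec ξ j - (m : ℂ) * ∑ i, Ec ξ i := by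
      intro j
      have h1 : (z j : ℂ) = (p : ℂ) ^ 2 *
          classInner (regPart p ((ξ : IrrCharacter G) : G → ℂ)) (φ j) := by
        simp only [z, Int.cast_mul, hred, φ, classInner_smul_right, map_intCast]
        ring
      rw [h1, hexp ξ, classInner_sum_left, mul_sum, sum_congr rfl fun i _ => show
          (p : ℂ) ^ 2 * classInner (Ec ξ i • φ i) (φ j) =
            (if i = j then (p : ℂ) * Ec ξ i else 0) - (m : ℂ) * Ec ξ i by
        rw [classInner_smul_left, show (p : ℂ) ^ 2 * (Ec ξ i * classInner (φ i) (φ j)) =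
          (p : ℂ) * Ec ξ i * ((p : ℂ) * classInner (φ i) (φ j)) by ring, hφgram i j]
        split_ifs <;> field_simp <;> ring, sum_sub_distrib, sum_ite_eq', if_pos (mem_univ j),
        ← mul_sum]
    have hsum : ((∑ j, z j : ℤ) : ℂ) = ∑ i, Ec ξ i := by
      rw [Int.cast_sum, sum_congr rfl fun j _ => hzval j, sum_sub_distrib, ← mul_sum, sum_const,
        card_univ, Fintype.card_fin, nsmul_eq_mul]
      have : (n : ℂ) * (m : ℂ) + 1 = (p : ℂ) := by exact_mod_cast hnm
      linear_combination (-(∑ i, Ec ξ i)) * this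
    intro i
    have hw : ((z i + (m : ℤ) * ∑ j, z j : ℤ) : ℂ) = (p : ℂ) * Ec ξ i := by
      rw [Int.cast_add (z i), Int.cast_mul (m : ℤ), hsum, hzval, Int.cast_natCast]
      ring
    obtain ⟨q, hq⟩ : (p : ℤ) ∣ z i + (m : ℤ) * ∑ j, z j := by
      rw [← memLocalIdeal_intCast_iff hM, hw]
      exact memLocalIdeal_mul_right (memLocalIdeal_p hM) (hEloc ξ i)
    refine ⟨q, mul_left_cancel₀ hp0 ?_⟩
    rw [← hw, hq]
    push_cast
    rfl
  choose E hE using hint
  refine ⟨E, fun ξ η => ?_⟩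
  apply Int.cast_injective (α := ℂ)
  rw [hred, hexp ξ, hexp η, classInner_sum_left, mul_sum]
  push_cast
  refine sum_congr rfl fun i _ => ?_
  rw [classInner_sum_right, mul_sum]
  refine sum_congr rfl fun j _ => ?_
  rw [classInner_smul_left, classInner_smul_right, hE, hE, map_intCast,
    show (p : ℂ) ^ 2 * ((E ξ i : ℂ) * ((E η j : ℂ) * classInner (φ i) (φ j))) =
      (p : ℂ) * (E ξ i : ℂ) * (E η j : ℂ) * ((p : ℂ) * classInner (φ i) (φ j)) by ring,
    hφgram i j]
  split_ifs <;> push_cast <;> field_simp <;> ring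

/-- Adjacent differences of a vector with zero ends: two of them are nonzero. -/
theorem two_le_card_diff {w : ℕ → ℂ} {n : ℕ} (h0 : w 0 = 0) (hn : w (n + 1) = 0)
    (hne : ∃ k ≤ n, w k ≠ 0) :
    2 ≤ ((range (n + 1)).filter fun k => w (k + 1) - w k ≠ 0).card := by
  classical
  set S := (range (n + 1)).filter fun k => w (k + 1) - w k ≠ 0
  have hsum : ∑ k ∈ S, (w (k + 1) - w k) = 0 := by
    rw [sum_filter_ne_zero, sum_range_sub, h0, hn, sub_zero]
  by_contra hlt
  rcases (show S.card = 0 ∨ S.card = 1 by omega) with h | h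
  · obtain ⟨k, hk, hwk⟩ := hne
    have hall : ∀ j ≤ n + 1, w j = 0 := by
      intro j hj
      induction j with
      | zero => exact h0
      | succ j ih =>
        by_contra hj0
        have : j ∈ S := mem_filter.2 ⟨mem_range.2 (by omega), by rwa [ih (by omega), sub_zero]⟩
        rw [card_eq_zero.1 h] at this
        exact absurd this (notMem_empty j)
    exact hwk (hall k (by omega))
  · obtain ⟨k, hk⟩ := card_eq_one.1 h
    rw [hk, sum_singleton] at hsum
    exact (mem_filter.1 (hk ▸ mem_singleton_self k : k ∈ S)).2 hsum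

variable {H : Subgroup G} [Fintype H] {y : G} {b : Set (IrrCharacter H)}
  {B : Set (IrrCharacter G)}

set_option maxHeartbeats 800000 in
/-- A block of defect two with all heights zero has at most `p ^ 2` characters. -/
theorem card_le_sq_of_defect_two (hM : IsPModular p M)
    (hH : H = Subgroup.centralizer ({y} : Set G)) (hy : orderOf y = p)
    (hind : IsInducedBlock M H b B) (hbd : blockDefect p b = blockDefect p B)
    (hd : blockDefect p B = 2) :
    Nat.card B ≤ p ^ 2 := by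
  classical
  letI := irrFintype (G := G)
  letI := irrFintype (G := H)
  haveI : Fintype b := Fintype.ofFinite b
  haveI : Fintype B := Fintype.ofFinite B
  have hb := hind.1
  have hB := hind.2.1
  have hp := (Fact.out : p.Prime)
  have hyk : orderOf y = p ^ 1 := by rw [hy, pow_one]
  have hp0 : (p : ℂ) ≠ 0 := Nat.cast_ne_zero.2 hp.ne_zero
  have hpk : 0 < p ^ 1 := pow_pos hp.pos 1
  have hyH : y ∈ H := by rw [hH, Subgroup.mem_centralizer_singleton_iff]
  have hcen : Subgroup.zpowers (⟨y, hyH⟩ : H) ≤ Subgroup.center H := by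
    rw [Subgroup.zpowers_le, Subgroup.mem_center_iff]
    rintro ⟨g, hg⟩
    rw [hH, Subgroup.mem_centralizer_singleton_iff] at hg
    exact Subtype.ext hg
  haveI : (Subgroup.zpowers (⟨y, hyH⟩ : H)).Normal :=
    ⟨fun z hz g => by
      rwa [show g * z * g⁻¹ = z by
        rw [Subgroup.mem_center_iff.1 (hcen hz) g, mul_inv_cancel_right]]⟩
  obtain ⟨n, m, hn, hm, hnm, hrank, E, hE⟩ := exists_cartan_defect_two hM hcen
    (by rw [Nat.card_zpowers, ← Subgroup.orderOf_coe, hy]) hb (hbd.trans hd)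
  choose L N hL hL1 hN hLN using
    fun (χ : B) (ξ : b) => exists_section_coeff hM hH hyk χ.1 ξ.1
  let A : Matrix B b ℂ := Matrix.of fun χ ξ => L χ ξ * (N χ ξ : ℂ)
  let Em : Matrix b (Fin n) ℂ := Matrix.of fun ξ i => (E ξ i : ℂ)
  let Q : Matrix (Fin n) (Fin n) ℂ := Matrix.of fun i j => (if i = j then (p : ℂ) else 0) - m
  let C : Matrix (Fin n) (Fin n) ℂ :=
    Matrix.of fun i j => (p : ℂ) * ((if i = j then 1 else 0) + m)
  let P : Matrix B B ℂ := Matrix.of fun χ ψ => (p : ℂ) ^ 2 * contrib p b y χ.1 ψ.1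
  set U : Matrix B (Fin n) ℂ := A * Em with hU
  have hRQ : Matrix.of (fun ξ η : b => (p : ℂ) ^ 2 * regMat p b ξ η) = Em * Q * Emᵀ := by
    ext ξ η
    rw [Matrix.of_apply, ← hd, ← hbd, ← redInt_eq_regMat hM hb, hE ξ η, Matrix.mul_apply]
    push_cast
    simp only [Matrix.mul_apply, sum_mul, Em, Q, Matrix.of_apply, Matrix.transpose_apply]
    rw [sum_comm]
  have hPU : P = U * Q * Uᴴ := by
    have h1 : P = A * Matrix.of (fun ξ η : b => (p : ℂ) ^ 2 * regMat p b ξ η) * Aᴴ := by
      ext χ ψ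
      show (p : ℂ) ^ 2 * contrib p b y χ.1 ψ.1 = _
      rw [contrib_eq_sum hM hb, mul_sum, Matrix.mul_apply]
      simp only [Matrix.mul_apply, sum_mul]
      rw [sum_comm (γ := b)]
      refine sum_congr rfl fun ξ _ => ?_
      rw [mul_sum]
      refine sum_congr rfl fun η _ => ?_
      simp only [A, Matrix.conjTranspose_apply, Matrix.of_apply, hLN, Complex.star_def]
      ring
    rw [h1, hRQ]
    simp only [U, Matrix.conjTranspose_mul, Matrix.mul_assoc]
    congr 4
    ext i j
    simp [Em, Complex.star_def]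
  have hQC : Q * C = ((p : ℂ) ^ 2) • 1 := by
    ext i j
    simp only [Q, C, Matrix.mul_apply, Matrix.of_apply, sub_mul, sum_sub_distrib, ite_mul,
      zero_mul, sum_ite_eq, mem_univ, if_true, ← mul_sum, sum_add_distrib, sum_ite_eq', sum_const,
      card_univ, Fintype.card_fin, nsmul_eq_mul, Matrix.smul_apply, Matrix.one_apply, smul_eq_mul]
    have : (n : ℂ) * (m : ℂ) + 1 = (p : ℂ) := by exact_mod_cast hnm
    linear_combination (-(p : ℂ) * (m : ℂ)) * this
  have hsumB : ∀ F : IrrCharacter G → ℂ, ∑ χ ∈ univ.filter (· ∈ B), F χ = ∑ χ : B, F χ.1 :=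
    fun F => sum_subtype (univ.filter (· ∈ B)) (p := (· ∈ B)) (by simp) F
  have hPP : P * P = ((p : ℂ) ^ 2) • P := by
    ext χ ψ
    rw [Matrix.mul_apply, Matrix.smul_apply, smul_eq_mul]
    show ∑ φ : B, (p : ℂ) ^ 2 * contrib p b y χ.1 φ.1 * ((p : ℂ) ^ 2 * contrib p b y φ.1 ψ.1) =
      (p : ℂ) ^ 2 * ((p : ℂ) ^ 2 * contrib p b y χ.1 ψ.1)
    rw [← contrib_mul hM hH hyk hind χ.1 ψ.1, hsumB, mul_sum, mul_sum]
    exact sum_congr rfl fun φ _ => by ring
  have hPtr : P.trace = (p : ℂ) ^ 2 * (n : ℂ) := by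
    show ∑ χ : B, (p : ℂ) ^ 2 * contrib p b y χ.1 χ.1 = _
    rw [← mul_sum, ← hsumB fun χ => contrib p b y χ χ, sum_contrib_diag hM hH hyk hind, hrank]
  have hgram : ∀ i j : Fin n, ∑ χ : B, conj (U χ i) * U χ j = C i j := by
    intro i j
    have h := gram_eq_of_idem U Q C (pow_ne_zero 2 hp0) hQC (by rw [← hPU]; exact hPP)
      (by rw [← hPU]; exact hPtr)
    have h2 := congrFun (congrFun h i) j
    rw [Matrix.mul_apply] at h2
    simpa [Matrix.conjTranspose_apply, Complex.star_def] using h2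
  have hUK : ∀ χ i, U χ i ∈ cycloField (p ^ 1) ∧ IsIntegral ℤ (U χ i) := by
    intro χ i
    simp only [U, A, Em, Matrix.mul_apply, Matrix.of_apply]
    exact ⟨sum_mem fun ξ _ => mul_mem (mul_mem (root_mem_cycloField (hL χ ξ)) (natCast_mem _ _))
        (intCast_mem _ _), IsIntegral.sum _ fun ξ _ =>
      ((isIntegral_of_pow_eq_one hpk (hL χ ξ)).mul (isIntegral_natCast_complex _)).mul
        (by simpa using isIntegral_algebraMap (R := ℤ) (A := ℂ) (x := E ξ i))⟩
  obtain ⟨φ₀, hφ₀, hφ00⟩ := exists_height_zero hM hB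
  have hrow : ∀ χ, ∃ i, U χ i ≠ 0 := by
    intro χ
    by_contra hcon
    push Not at hcon
    refine mul_ne_zero (pow_ne_zero 2 hp0) (contrib_ne_zero hM hH hyk hind hbd χ.2 hφ₀ hφ00)
      (show P χ ⟨φ₀, hφ₀⟩ = 0 from ?_)
    rw [hPU, Matrix.mul_assoc, Matrix.mul_apply]
    exact sum_eq_zero fun i _ => by rw [hcon i, zero_mul]
  -- the adjacent differences
  let w : ℕ → B → ℂ := fun k χ => if h : 1 ≤ k ∧ k ≤ n then U χ ⟨k - 1, by omega⟩ else 0
  let Fm : B × ℕ → ℂ := fun r => w (r.2 + 1) r.1 - w r.2 r.1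
  let T := ((univ : Finset B) ×ˢ range (n + 1)).filter fun r => Fm r ≠ 0
  let Sv : ℕ → ℕ → ℂ := fun a c =>
    if (1 ≤ a ∧ a ≤ n) ∧ (1 ≤ c ∧ c ≤ n) then (p : ℂ) * ((if a = c then 1 else 0) + m) else 0
  have hS : ∀ a c, ∑ χ, w a χ * conj (w c χ) = Sv a c := by
    intro a c
    simp only [w, Sv]
    by_cases ha : 1 ≤ a ∧ a ≤ n
    · by_cases hc : 1 ≤ c ∧ c ≤ n
      · simp only [dif_pos ha, dif_pos hc, if_pos (show _ ∧ _ from ⟨ha, hc⟩)]
        rw [sum_congr rfl fun χ _ => mul_comm _ _, hgram]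
        simp only [C, Matrix.of_apply, Fin.mk.injEq]
        by_cases hac : a = c
        · subst hac; simp
        · rw [if_neg hac, if_neg (by omega)]
      · simp [dif_pos ha, dif_neg hc, hc]
    · simp [dif_neg ha, ha]
  have hdiag : ∀ a, Sv a a = if 1 ≤ a ∧ a ≤ n then (p : ℂ) * (1 + m) else 0 := fun a => by
    simp [Sv]
  have hcount : ∀ (s : Finset ℕ), s = Icc 1 n → (s.card : ℂ) = (n : ℂ) := fun s hs => by
    rw [hs]; simp
  have htot : ∑ χ, ∑ k ∈ range (n + 1), (w (k + 1) χ - w k χ) * conj (w (k + 1) χ - w k χ) =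
      2 * (p : ℂ) * ((n : ℂ) + m) := by
    rw [sum_comm]
    simp only [map_sub, sub_mul, mul_sub, sum_sub_distrib, hS]
    have h1 : ∑ k ∈ range (n + 1), Sv (k + 1) (k + 1) = (n : ℂ) * ((p : ℂ) * (1 + m)) := by
      rw [sum_congr rfl fun k _ => hdiag (k + 1), ← sum_filter, sum_const, nsmul_eq_mul,
        show (range (n + 1)).filter (fun k => 1 ≤ k + 1 ∧ k + 1 ≤ n) = range n by
          ext k; simp; omega, card_range]
    have h2 : ∑ k ∈ range (n + 1), Sv k k = (n : ℂ) * ((p : ℂ) * (1 + m)) := by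
      rw [sum_congr rfl fun k _ => hdiag k, ← sum_filter, sum_const, nsmul_eq_mul,
        hcount _ (by ext k; simp)]
    have hoff : ∀ k, Sv (k + 1) k = Sv k (k + 1) ∧
        Sv k (k + 1) = if 1 ≤ k ∧ k + 1 ≤ n then (p : ℂ) * m else 0 := fun k => by
      simp only [Sv, if_neg (show ¬ k + 1 = k by omega), if_neg (show ¬ k = k + 1 by omega),
        zero_add]
      constructor <;> split_ifs <;> first | rfl | omega
    have h3 : ∑ k ∈ range (n + 1), Sv k (k + 1) = ((n : ℂ) - 1) * ((p : ℂ) * m) := by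
      rw [sum_congr rfl fun k _ => (hoff k).2, ← sum_filter, sum_const, nsmul_eq_mul,
        show (range (n + 1)).filter (fun k => 1 ≤ k ∧ k + 1 ≤ n) = Ico 1 n by
          ext k; simp; omega, Nat.card_Ico, Nat.cast_sub (show 1 ≤ n from hn), Nat.cast_one]
    have h4 : ∑ k ∈ range (n + 1), Sv (k + 1) k = ((n : ℂ) - 1) * ((p : ℂ) * m) :=
      (sum_congr rfl fun k _ => (hoff k).1).trans h3
    rw [h1, h2, h3, h4]
    ring
  have h1 := card_le_sum_normSq hpk T Fm
    (fun r _ => by
      have : ∀ a, w a r.1 ∈ cycloField (p ^ 1) := fun a => by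
        simp only [w]; split_ifs
        · exact (hUK _ _).1
        · exact zero_mem _
      exact sub_mem (this _) (this _))
    (fun r _ => by
      have : ∀ a, IsIntegral ℤ (w a r.1) := fun a => by
        simp only [w]; split_ifs
        · exact (hUK _ _).2
        · exact isIntegral_zero
      exact (this _).sub (this _))
    (fun r hr => (mem_filter.1 hr).2) ((2 * p * (n + m) : ℕ) : ℚ) (by
      rw [Rat.cast_natCast, sum_filter_of_ne (p := fun r => Fm r ≠ 0)
        fun r _ h => fun h0 => h (by rw [h0, zero_mul]), sum_product]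
      push_cast
      exact htot)
  have h2 : 2 * Nat.card B ≤ T.card := by
    rw [Nat.card_eq_fintype_card, ← card_univ, card_filter, sum_product, mul_comm, ← smul_eq_mul,
      ← sum_const]
    refine sum_le_sum fun χ _ => ?_
    rw [← card_filter]
    refine two_le_card_diff (w := fun k => w k χ) (by simp [w]) (by simp [w]) ?_
    obtain ⟨i, hi⟩ := hrow χ
    refine ⟨i.1 + 1, i.2, ?_⟩
    simpa [w, Nat.succ_le_iff.2 i.2] using hi
  have h1' : T.card ≤ 2 * p * (n + m) := by exact_mod_cast h1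
  have h3 : n + m ≤ p := by nlinarith
  calc Nat.card B ≤ p * (n + m) := by
        have := h2.trans h1'
        rw [mul_assoc] at this
        omega
    _ ≤ p * p := Nat.mul_le_mul_left p h3
    _ = p ^ 2 := (sq p).symm

end CfsgLib.BlockB
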