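import Cfsg.Agent.BlocksB.RegRank
import Cfsg.Agent.Blocks.SecondMain
import Cfsg.Prelude.Def_BrauerPairs

/-!
# The matrix of contributions of a subsection

For a `p`-element `y` with centralizer `H` and a block `b` of `H` inducing `B`, the `b`-parts of
`c ↦ χ (y * c)` cut off at singular elements give an idempotent matrix on `B` of trace `l(b)`.
-/

namespace CfsgLib.BlockB

open Finset Cfsg CfsgLib.Block CfsgLib.Block.Chr CfsgLib.Char
open scoped ComplexConjugate

set_option linter.unusedSectionVars false
set_option linter.style.haveILetI false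

universe u

variable {G : Type u} [Group G] [Fintype G] {M : Ideal AlgInt} [M.IsPrime] {p : ℕ} [Fact p.Prime]
  {H : Subgroup G} [Fintype H] {y : G} {B : Set (IrrCharacter G)} {b : Set (IrrCharacter H)}

/-- The function `c ↦ χ (y * c)` on `H`. -/
def secFun (H : Subgroup G) (y : G) (χ : IrrCharacter G) : H → ℂ := fun c => (χ : G → ℂ) (y * c)

/-- The `b`-part of the regular part of `secFun`. -/
noncomputable def subPart (p : ℕ) (b : Set (IrrCharacter H)) (y : G) (χ : IrrCharacter G) : H → ℂ :=
  blockPart b (regPart p (secFun H y χ))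

/-- The contribution of the subsection. -/
noncomputable def contrib (p : ℕ) (b : Set (IrrCharacter H)) (y : G) (χ ψ : IrrCharacter G) : ℂ :=
  classInner (subPart p b y χ) (subPart p b y ψ)

theorem mem_H_iff (hH : H = Subgroup.centralizer ({y} : Set G)) {g : G} : g ∈ H ↔ g * y = y * g := by
  rw [hH, Subgroup.mem_centralizer_singleton_iff]

theorem isClassFunction_regPart_self {K : Type*} [Group K] [Fintype K] {θ : K → ℂ}
    (hθ : IsClassFunction K θ) : IsClassFunction K (regPart p θ) := fun g x => by
  have ho : orderOf (x * g * x⁻¹) = orderOf g :=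
    orderOf_injective (MulAut.conj x).toMonoidHom (MulAut.conj x).injective g
  simp only [regPart, ho, hθ g x]

theorem isClassFunction_secFun (hH : H = Subgroup.centralizer ({y} : Set G)) (χ : IrrCharacter G) :
    IsClassFunction H (secFun H y χ) := by
  intro c v
  have hv : (v : G) * y = y * v := (mem_H_iff hH).1 v.2
  show (χ : G → ℂ) (y * ((v * c * v⁻¹ : H) : G)) = (χ : G → ℂ) (y * (c : G))
  rw [← isClassFunction_irr χ (y * (c : G)) (v : G)]
  refine congrArg (χ : G → ℂ) ?_
  push_cast
  calc y * ((v : G) * c * (v : G)⁻¹) = (y * (v : G)) * c * (v : G)⁻¹ := by group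
    _ = (v : G) * (y * c) * (v : G)⁻¹ := by rw [← hv]; group

/-- Column orthogonality inside the section of `y`. -/
theorem kernel_eq (hH : H = Subgroup.centralizer ({y} : Set G)) {k : ℕ} (hy : orderOf y = p ^ k)
    [Fintype (IrrCharacter G)] [Fintype (IrrCharacter H)] (u v : H) :
    ∑ ψ : IrrCharacter G, regPart p (secFun H y ψ) u * conj (regPart p (secFun H y ψ) v) =
      ∑ ξ : IrrCharacter H, regPart p (ξ : H → ℂ) u * conj (regPart p (ξ : H → ℂ) v) := by
  classical
  by_cases hu : p ∣ orderOf u
  · simp [regPart_of_dvd hu]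
  by_cases hv : p ∣ orderOf v
  · simp [regPart_of_dvd hv]
  simp only [regPart_of_not_dvd hu, regPart_of_not_dvd hv, secFun]
  rw [column_orth, column_orth]
  have hcom : ∀ w : H, Commute y (w : G) := fun w => ((mem_H_iff hH).1 w.2).symm
  have hpart : ∀ w : H, ¬ p ∣ orderOf w → IsPPart p (y * (w : G)) y := fun w hw =>
    ⟨w, rfl, hcom w, ⟨k, hy⟩, by rwa [Subgroup.orderOf_coe]⟩
  have hconj : ∀ g : G, ∀ w w' : H, ¬ p ∣ orderOf w → ¬ p ∣ orderOf w' →
      g * (y * w) * g⁻¹ = y * w' → g ∈ H ∧ g * w * g⁻¹ = (w' : G) := by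
    intro g w w' hw hw' h
    have hgy : g * y * g⁻¹ = y := by
      refine (pPart_unique (Fact.out : p.Prime) (hpart w' hw') (x' := g * y * g⁻¹) (y' := g * w * g⁻¹)
        (n := k) (m := orderOf w) ?_ ?_ ?_ hw ?_).symm
      · rw [← h]; group
      · show g * y * g⁻¹ * (g * w * g⁻¹) = g * w * g⁻¹ * (g * y * g⁻¹)
        calc g * y * g⁻¹ * (g * w * g⁻¹) = g * (y * w) * g⁻¹ := by group
          _ = g * (w * y) * g⁻¹ := by rw [(hcom w).eq]
          _ = _ := by group
      · rw [conj_pow, ← hy, pow_orderOf_eq_one, mul_one, mul_inv_cancel]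
      · rw [conj_pow, ← Subgroup.orderOf_coe, pow_orderOf_eq_one, mul_one, mul_inv_cancel]
    refine ⟨(mem_H_iff hH).2 ?_, ?_⟩
    · calc g * y = g * y * g⁻¹ * g := by group
        _ = y * g := by rw [hgy]
    · apply mul_left_cancel (a := y)
      calc y * (g * w * g⁻¹) = g * y * g⁻¹ * (g * w * g⁻¹) := by rw [hgy]
        _ = g * (y * w) * g⁻¹ := by group
        _ = y * w' := h
  have hiff : IsConj (y * (u : G)) (y * (v : G)) ↔ IsConj u v := by
    constructor
    · intro hc
      obtain ⟨g, hg⟩ := isConj_iff.1 hc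
      obtain ⟨hgH, hgu⟩ := hconj g u v hu hv hg
      exact isConj_iff.2 ⟨⟨g, hgH⟩, Subtype.ext hgu⟩
    · intro hc
      obtain ⟨g, hg⟩ := isConj_iff.1 hc
      refine isConj_iff.2 ⟨(g : G), ?_⟩
      have hg' : (g : G) * u * (g : G)⁻¹ = (v : G) := congrArg (Subtype.val : H → G) hg
      calc (g : G) * (y * u) * (g : G)⁻¹ = ((g : G) * y) * u * (g : G)⁻¹ := by group
        _ = y * ((g : G) * u * (g : G)⁻¹) := by rw [← (hcom g).eq]; group
        _ = y * v := by rw [hg']
  have hcard : Nat.card (Subgroup.centralizer ({y * (u : G)} : Set G)) =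
      Nat.card (Subgroup.centralizer ({u} : Set H)) := by
    rw [← Subgroup.card_map_of_injective (K := Subgroup.centralizer ({u} : Set H)) (f := H.subtype)
      H.subtype_injective]
    congr 2
    ext g
    rw [Subgroup.mem_centralizer_singleton_iff, Subgroup.mem_map]
    constructor
    · intro hg
      have hg' : g * (y * u) * g⁻¹ = y * u := by rw [hg, mul_inv_cancel_right]
      obtain ⟨hgH, hgu⟩ := hconj g u u hu hu hg'
      refine ⟨⟨g, hgH⟩, Subgroup.mem_centralizer_singleton_iff.2 (Subtype.ext ?_), rfl⟩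
      show g * u = u * g
      calc g * (u : G) = g * u * g⁻¹ * g := by group
        _ = u * g := by rw [hgu]
    · rintro ⟨w, hw, rfl⟩
      have hw' : (w : G) * u = u * w :=
        congrArg (Subtype.val : H → G) (Subgroup.mem_centralizer_singleton_iff.1 hw)
      show (w : G) * (y * u) = y * u * w
      rw [← mul_assoc, ← (hcom w).eq, mul_assoc, hw', mul_assoc]
  rw [hcard]
  exact if_congr hiff rfl rfl

theorem subPart_eq_conv (hH : H = Subgroup.centralizer ({y} : Set G)) (χ : IrrCharacter G) (s : H) :
    subPart p b y χ s = ∑ k : H, blockCoeff b k * regPart p (secFun H y χ) (k * s) :=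
  blockPart_eq_conv b (isClassFunction_regPart_self (isClassFunction_secFun hH χ)) s

theorem subPart_eq_regPart (hM : IsPModular p M) (hb : IsPBlock M b) (χ : IrrCharacter G) :
    subPart p b y χ = regPart p (blockPart b (secFun H y χ)) :=
  blockPart_regPart hM hb _

theorem subPart_eq_zero_of_dvd (hM : IsPModular p M) (hb : IsPBlock M b) (χ : IrrCharacter G)
    {s : H} (hs : p ∣ orderOf s) : subPart p b y χ s = 0 := by
  rw [subPart_eq_regPart hM hb, regPart_of_dvd hs]

/-- The second main theorem in this notation. -/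
theorem subPart_eq_zero_of_not_mem (hM : IsPModular p M)
    (hH : H = Subgroup.centralizer ({y} : Set G)) {k : ℕ} (hy : orderOf y = p ^ k)
    (hind : IsInducedBlock M H b B) {χ : IrrCharacter G} (hχ : χ ∉ B) : subPart p b y χ = 0 := by
  funext s
  by_cases hs : p ∣ orderOf s
  · rw [subPart_eq_zero_of_dvd hM hind.1 χ hs]; rfl
  rw [subPart_eq_regPart hM hind.1, regPart_of_not_dvd hs]
  subst hH
  refine blockPart_eq_zero_of_not_induced hM hy (isPBlock_blockOf χ) (mem_blockOf_self χ) hind.1
    (fun h => hχ ?_) s hs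
  rw [induced_unique hind h]
  exact mem_blockOf_self χ

/-- The products of the `b`-parts of the members of `B` are those of the members of `b`. -/
theorem sum_subPart_mul_conj (hM : IsPModular p M) (hH : H = Subgroup.centralizer ({y} : Set G))
    {k : ℕ} (hy : orderOf y = p ^ k) (hind : IsInducedBlock M H b B)
    [Fintype (IrrCharacter G)] [Fintype (IrrCharacter H)]
    [DecidablePred (· ∈ B)] [DecidablePred (· ∈ b)] (s t : H) :
    ∑ ψ ∈ univ.filter (· ∈ B), subPart p b y ψ s * conj (subPart p b y ψ t) =
      ∑ ξ ∈ univ.filter (· ∈ b), regPart p (ξ : H → ℂ) s * conj (regPart p (ξ : H → ℂ) t) := by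
  rw [sum_filter_of_ne (fun ψ _ hne => by
    by_contra hψ
    exact hne (by rw [subPart_eq_zero_of_not_mem hM hH hy hind hψ, Pi.zero_apply, zero_mul]))]
  have hξ : ∀ (ξ : IrrCharacter H) (w : H),
      ∑ k : H, blockCoeff b k * regPart p (ξ : H → ℂ) (k * w) =
        if ξ ∈ b then regPart p (ξ : H → ℂ) w else 0 := by
    intro ξ w
    rw [← blockPart_eq_conv b (isClassFunction_regPart_self (isClassFunction_irr ξ)) w,
      blockPart_regPart hM hind.1, blockPart_irr]
    split_ifs with h
    · rfl
    · by_cases hw : p ∣ orderOf w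
      · rw [regPart_of_dvd hw]
      · rw [regPart_of_not_dvd hw]; rfl
  calc ∑ ψ : IrrCharacter G, subPart p b y ψ s * conj (subPart p b y ψ t)
      = ∑ i : H, ∑ j : H, blockCoeff b i * conj (blockCoeff b j) *
          ∑ ψ : IrrCharacter G, regPart p (secFun H y ψ) (i * s) *
            conj (regPart p (secFun H y ψ) (j * t)) := by
        simp only [subPart_eq_conv hH, map_sum, map_mul, sum_mul_sum]
        simp only [mul_sum]
        rw [sum_comm]
        refine sum_congr rfl fun i _ => ?_
        rw [sum_comm]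
        exact sum_congr rfl fun j _ => sum_congr rfl fun ψ _ => by ring
    _ = ∑ i : H, ∑ j : H, blockCoeff b i * conj (blockCoeff b j) *
          ∑ ξ : IrrCharacter H, regPart p (ξ : H → ℂ) (i * s) *
            conj (regPart p (ξ : H → ℂ) (j * t)) := by
        simp only [kernel_eq hH hy]
    _ = ∑ ξ : IrrCharacter H, (∑ i : H, blockCoeff b i * regPart p (ξ : H → ℂ) (i * s)) *
          conj (∑ j : H, blockCoeff b j * regPart p (ξ : H → ℂ) (j * t)) := by
        simp only [map_sum, map_mul, sum_mul_sum]
        simp only [mul_sum]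
        rw [sum_congr rfl fun i _ => sum_comm, sum_comm]
        exact sum_congr rfl fun ξ _ => sum_congr rfl fun i _ => sum_congr rfl fun j _ => by ring
    _ = _ := by
        rw [sum_filter]
        refine sum_congr rfl fun ξ _ => ?_
        rw [hξ, hξ]
        split_ifs <;> simp

theorem conj_contrib (χ ψ : IrrCharacter G) :
    conj (contrib p b y χ ψ) = contrib p b y ψ χ := by
  simp only [contrib, CfsgLib.Char.classInner_def, map_mul, map_inv₀, map_natCast, map_sum,
    Complex.conj_conj]
  congr 1
  exact sum_congr rfl fun g _ => mul_comm _ _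

theorem classInner_subPart_regPart (hM : IsPModular p M) (hb : IsPBlock M b) (χ : IrrCharacter G)
    (ξ : IrrCharacter H) :
    classInner (subPart p b y χ) (regPart p (ξ : H → ℂ)) =
      classInner (subPart p b y χ) (ξ : H → ℂ) := by
  simp only [CfsgLib.Char.classInner_def]
  congr 1
  refine sum_congr rfl fun g _ => ?_
  by_cases hg : p ∣ orderOf g
  · rw [subPart_eq_zero_of_dvd hM hb χ hg]; simp
  · rw [regPart_of_not_dvd hg]

/-- The matrix of contributions is idempotent. -/
theorem contrib_mul (hM : IsPModular p M) (hH : H = Subgroup.centralizer ({y} : Set G))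
    {k : ℕ} (hy : orderOf y = p ^ k) (hind : IsInducedBlock M H b B)
    [Fintype (IrrCharacter G)] [DecidablePred (· ∈ B)] (χ φ : IrrCharacter G) :
    ∑ ψ ∈ univ.filter (· ∈ B), contrib p b y χ ψ * contrib p b y ψ φ = contrib p b y χ φ := by
  classical
  letI := irrFintype (G := H)
  set f := subPart p b y
  set c : ℂ := (Nat.card H : ℂ)⁻¹
  have hself : ∀ g, f χ g = ∑ ξ ∈ univ.filter (· ∈ b), classInner (f χ) (ξ : H → ℂ) * (ξ : H → ℂ) g := by
    intro g
    show blockPart b _ g = _
    rw [blockPart_eq_sum_inner]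
    refine sum_congr rfl fun ξ hξ => ?_
    rw [show f χ = blockPart b (regPart p (secFun H y χ)) from rfl, classInner_blockPart,
      if_pos (mem_filter.1 hξ).2]
  calc ∑ ψ ∈ univ.filter (· ∈ B), contrib p b y χ ψ * contrib p b y ψ φ
      = ∑ s : H, ∑ t : H, c * c * f χ s * conj (f φ t) *
          ∑ ψ ∈ univ.filter (· ∈ B), f ψ t * conj (f ψ s) := by
        simp only [contrib, CfsgLib.Char.classInner_def, f, c, mul_sum, sum_mul]
        rw [sum_congr rfl fun ψ _ => sum_comm, sum_comm]
        refine sum_congr rfl fun s _ => ?_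
        rw [sum_comm]
        exact sum_congr rfl fun t _ => sum_congr rfl fun ψ _ => by ring
    _ = ∑ s : H, ∑ t : H, c * c * f χ s * conj (f φ t) *
          ∑ ξ ∈ univ.filter (· ∈ b), regPart p (ξ : H → ℂ) t * conj (regPart p (ξ : H → ℂ) s) := by
        simp only [f, sum_subPart_mul_conj hM hH hy hind]
    _ = ∑ ξ ∈ univ.filter (· ∈ b), classInner (f χ) (regPart p (ξ : H → ℂ)) *
          conj (classInner (f φ) (regPart p (ξ : H → ℂ))) := by
        simp only [CfsgLib.Char.classInner_def, c, map_mul, map_inv₀, map_natCast, map_sum,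
          Complex.conj_conj, mul_sum, sum_mul]
        rw [sum_congr rfl fun s _ => sum_comm, sum_comm]
        refine sum_congr rfl fun ξ _ => ?_
        rw [sum_comm]
        exact sum_congr rfl fun t _ => sum_congr rfl fun s _ => by ring
    _ = contrib p b y χ φ := by
        simp only [f, classInner_subPart_regPart hM hind.1]
        rw [contrib, CfsgLib.Char.classInner_def]
        simp only [CfsgLib.Char.classInner_def (subPart p b y φ), map_mul, map_inv₀, map_natCast,
          map_sum, Complex.conj_conj, mul_sum]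
        rw [sum_comm]
        refine sum_congr rfl fun g _ => ?_
        rw [show subPart p b y χ g = _ from hself g, sum_mul, mul_sum]
        exact sum_congr rfl fun ξ _ => by ring

/-- The trace of the matrix of contributions is the rank of `b`. -/
theorem sum_contrib_diag (hM : IsPModular p M) (hH : H = Subgroup.centralizer ({y} : Set G))
    {k : ℕ} (hy : orderOf y = p ^ k) (hind : IsInducedBlock M H b B)
    [Fintype (IrrCharacter G)] [DecidablePred (· ∈ B)] :
    ∑ χ ∈ univ.filter (· ∈ B), contrib p b y χ χ = (blockRank p b : ℂ) := by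
  classical
  letI := irrFintype (G := H)
  haveI : Fintype b := Fintype.ofFinite b
  rw [blockRank_eq_trace hM hind.1]
  simp only [contrib, CfsgLib.Char.classInner_def, regMat]
  rw [← mul_sum, sum_comm]
  simp only [sum_subPart_mul_conj hM hH hy hind]
  rw [sum_comm, mul_sum, sum_subtype (univ.filter (· ∈ b)) (p := (· ∈ b)) (by simp)
    (fun ξ : IrrCharacter H => (Nat.card H : ℂ)⁻¹ *
      ∑ g : H, regPart p (ξ : H → ℂ) g * conj (regPart p (ξ : H → ℂ) g))]
  refine sum_congr rfl fun ξ _ => ?_
  congr 1
  refine sum_congr rfl fun g _ => ?_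
  by_cases hg : p ∣ orderOf g
  · simp [regPart_of_dvd hg]
  · simp [regPart_of_not_dvd hg]

/-- A Brauer pair of `B` on a cyclic group induces `B`. -/
theorem isInducedBlock_of_isBrauerPairOf (hM : IsPModular p M) {Q : Subgroup G}
    {e : Set (IrrCharacter (Subgroup.centralizer (Q : Set G)))}
    (hQc : Q ≤ Subgroup.centralizer (Q : Set G)) (hBe : IsBrauerPairOf p M B Q e)
    [Fintype (Subgroup.centralizer (Q : Set G))] :
    IsInducedBlock M (Subgroup.centralizer (Q : Set G)) e B := by
  classical
  obtain ⟨⟨hQ, he⟩, hB, hcong⟩ := hBe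
  obtain ⟨B', hB'⟩ := exists_induced hM hQ hQc le_rfl (Subgroup.centralizer_le_normalizer _) he
  obtain ⟨ξ, hξ⟩ := exists_mem_block he
  obtain ⟨χ, hχ⟩ := exists_mem_block hB'.2.1
  have h1 := induced_cong _ (hB'.2.2 ξ hξ χ hχ) (isIntClass_blockCoeff hB)
  have h2 := hcong ξ hξ
  have heq : brauerOmega Q (blockCoeff B) (ξ : Subgroup.centralizer (Q : Set G) → ℂ) =
      omega (ξ : Subgroup.centralizer (Q : Set G) → ℂ)
        (resFun (Subgroup.centralizer (Q : Set G)) (blockCoeff B)) := by
    rw [brauerOmega, omega, finsum_eq_sum_of_fintype, sum_div]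
    rfl
  rw [heq] at h2
  rw [omega_blockCoeff] at h1
  by_cases hm : χ ∈ B
  · rwa [block_eq_of_common hB hB'.2.1 hm hχ]
  · rw [if_neg hm, sub_zero] at h1
    exact absurd ((memLocalIdeal_iff_of_cong h2).1 h1) not_memLocalIdeal_one

end CfsgLib.BlockB
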