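import Cfsg.Agent.BlocksB.PrincipalGapOne
import Cfsg.Agent.Blocks.Transport
import Cfsg.Agent.Blocks.PrincipalCoeff
import Cfsg.Agent.Transfer.PResidual
import Mathlib.GroupTheory.GroupAction.CardCommute

/-!
# Principal blocks with a single class of nontrivial `p`-elements
-/

namespace CfsgLib.GapOne

open Cfsg Finset CfsgLib.Block CfsgLib.Block.Chr CfsgLib.Char
open scoped ComplexConjugate

universe u

variable {p : ℕ} {G : Type u} [Group G] [Fintype G] {M : Ideal AlgInt} [M.IsPrime]

omit [Fintype G] in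
theorem centralizer_one : Subgroup.centralizer ({(1 : G)} : Set G) = ⊤ :=
  eq_top_iff.2 fun w _ => Subgroup.mem_centralizer_singleton_iff.2 (by simp)

/-- The isomorphism of `C(1)` with `G`. -/
def centralizerOneEquiv : ↥(Subgroup.centralizer ({(1 : G)} : Set G)) ≃* G :=
  (MulEquiv.subgroupCongr centralizer_one).trans Subgroup.topEquiv

theorem blockRank_principal_centralizer_one (hM : IsPModular p M) :
    blockRank p (principalBlock M ↥(Subgroup.centralizer ({(1 : G)} : Set G))) =
      blockRank p (principalBlock M G) := by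
  haveI : Fintype ↥(Subgroup.centralizer ({(1 : G)} : Set G)) := Fintype.ofFinite _
  let e := centralizerOneEquiv (G := G)
  have h1 : principalBlock M ↥(Subgroup.centralizer ({(1 : G)} : Set G)) =
      irrComp e '' principalBlock M G := by
    show blockOf M (irrComp e (oneIrr G) : ↥(Subgroup.centralizer ({(1 : G)} : Set G)) → ℂ) = _
    exact blockOf_irrComp e (oneIrr G)
  let L : (G → ℂ) ≃ₗ[ℂ] (↥(Subgroup.centralizer ({(1 : G)} : Set G)) → ℂ) :=
    LinearEquiv.funCongrLeft ℂ ℂ e.toEquiv
  unfold Cfsg.blockRank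
  rw [h1, Set.image_image]
  rw [← LinearEquiv.finrank_map_eq L (Submodule.span ℂ
    ((fun χ : IrrCharacter G => pRegularPart p (χ : G → ℂ)) '' principalBlock M G)),
    Submodule.map_span]
  refine congrArg (fun S => Module.finrank ℂ ↥(Submodule.span ℂ S)) ?_
  rw [Set.image_image]
  refine Set.image_congr fun χ _ => ?_
  funext h
  show pRegularPart p (irrComp e χ : _ → ℂ) h = pRegularPart p (χ : G → ℂ) (e h)
  rw [pRegularPart_eq, pRegularPart_eq]
  simp only [regPart, e.orderOf_eq]
  rfl

/-- The rank of the principal block is one exactly for groups with a normal `p`-complement. -/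
theorem hnpc_of_blockRank_one {C : Type u} [Group C] [Finite C] (hM : IsPModular p M)
    (h : blockRank p (principalBlock M C) = 1) : Cfsg.HasNormalPComplement p C := by
  haveI : Fact p.Prime := ⟨hM.1⟩
  haveI := Fintype.ofFinite C
  exact (Cfsg.Agent.S4691.result p M hM).2 ((Cfsg.Agent.S4646.result p M hM).2 h)

theorem blockRank_one_of_hnpc {C : Type u} [Group C] [Finite C] (hM : IsPModular p M)
    (h : Cfsg.HasNormalPComplement p C) : blockRank p (principalBlock M C) = 1 := by
  haveI : Fact p.Prime := ⟨hM.1⟩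
  haveI := Fintype.ofFinite C
  exact (Cfsg.Agent.S4646.result p M hM).1 ((Cfsg.Agent.S4691.result p M hM).1 h)

omit [Fintype G] in
/-- A set of representatives of the classes of `p`-elements containing `1`. -/
theorem exists_reps [Finite G] (hp : p.Prime) :
    ∃ X : Finset G, (1 : G) ∈ X ∧ (∀ x ∈ X, ∃ k : ℕ, orderOf x = p ^ k) ∧
      (∀ g : G, (∃ k : ℕ, orderOf g = p ^ k) → ∃! x, x ∈ X ∧ IsConj g x) := by
  classical
  haveI := Fintype.ofFinite G
  let rep : G → G := fun g => (ConjClasses.mk g).exists_rep.choose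
  have hrep : ∀ g, IsConj (rep g) g := fun g =>
    ConjClasses.mk_eq_mk_iff_isConj.1 (ConjClasses.mk g).exists_rep.choose_spec
  have hrep' : ∀ {g g'}, IsConj g g' → rep g = rep g' := fun {g g'} h => by
    simp only [rep, ConjClasses.mk_eq_mk_iff_isConj.2 h]
  have hord : ∀ {g g' : G}, IsConj g g' → orderOf g = orderOf g' := fun {g g'} h => by
    obtain ⟨c, rfl⟩ := isConj_iff.1 h
    exact ((MulAut.conj c).orderOf_eq g).symm
  refine ⟨(univ.filter fun g => ∃ k : ℕ, orderOf g = p ^ k).image rep, ?_, ?_, ?_⟩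
  · exact mem_image.2 ⟨1, mem_filter.2 ⟨mem_univ _, 0, by simp⟩,
      isConj_one_left.1 (hrep 1)⟩
  · intro x hx
    obtain ⟨g, hg, rfl⟩ := mem_image.1 hx
    obtain ⟨k, hk⟩ := (mem_filter.1 hg).2
    exact ⟨k, (hord (hrep g)).trans hk⟩
  · intro g hg
    refine ⟨rep g, ⟨mem_image_of_mem _ (mem_filter.2 ⟨mem_univ _, hg⟩), (hrep g).symm⟩, ?_⟩
    rintro x ⟨hx, hgx⟩
    obtain ⟨g', -, rfl⟩ := mem_image.1 hx
    exact hrep' ((hrep g').symm.trans hgx.symm)

/-- A group whose principal block has rank one has as many principal characters as classes of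
`p`-elements, at most the order of a Sylow subgroup. -/
theorem nilpotent_case (hM : IsPModular p M) (h : Cfsg.HasNormalPComplement p G) :
    (p ^ (Nat.card G).factorization p ≥ Nat.card (principalBlock M G)) ∧
      ∃ (Q : Type u) (_ : Group Q) (_ : Finite Q), IsPGroup p Q ∧
        Nat.card Q = p ^ (Nat.card G).factorization p ∧
        Nat.card (ConjClasses Q) ≤ Nat.card (principalBlock M G) := by
  classical
  haveI : Fact p.Prime := ⟨hM.1⟩
  obtain ⟨X, -, hX, hXrep⟩ := exists_reps (G := G) hM.1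
  have hk : Nat.card (principalBlock M G) = X.card := by
    rw [card_principal_eq hM X hX hXrep, card_eq_sum_ones]
    refine sum_congr rfl fun x hx => blockRank_one_of_hnpc hM ?_
    exact PResidual.hasNormalPComplement_of_injective (Subgroup.subtype _)
      (Subgroup.subtype_injective _) h
  refine ⟨?_, ?_⟩
  · obtain ⟨P⟩ : Nonempty (Sylow p G) := inferInstance
    rw [hk, ← P.card_eq_multiplicity, ← Nat.card_eq_finsetCard]
    have hmem : ∀ x : X, ∃ y : ↥(P : Subgroup G), IsConj (y : G) (x : G) := by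
      intro x
      obtain ⟨k, hxk⟩ := hX _ x.2
      obtain ⟨P', hP'⟩ := (IsPGroup.of_card (p := p) (n := k)
        (show Nat.card (Subgroup.zpowers (x : G)) = p ^ k by rw [Nat.card_zpowers, hxk])).exists_le_sylow
      obtain ⟨g, hg⟩ := MulAction.exists_smul_eq G P' P
      refine ⟨⟨g * (x : G) * g⁻¹, ?_⟩, (isConj_iff.2 ⟨g, rfl⟩).symm⟩
      rw [← hg]
      exact Subgroup.smul_mem_pointwise_smul (x : G) (MulAut.conj g) (P' : Subgroup G)
        (hP' (Subgroup.mem_zpowers _))
    choose y hy using hmem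
    refine Nat.card_le_card_of_injective y fun a b hab => ?_
    have hab' : IsConj (a : G) (b : G) := ((hy a).symm.trans (hab ▸ hy b))
    obtain ⟨z, -, hz⟩ := hXrep (a : G) (hX _ a.2)
    exact Subtype.ext ((hz _ ⟨a.2, IsConj.refl _⟩).trans (hz _ ⟨b.2, hab'⟩).symm)
  · obtain ⟨N, hNn, hN, hidx⟩ := exists_complement_data h
    refine ⟨G ⧸ N, inferInstance, inferInstance, IsPGroup.of_card hidx, hidx, ?_⟩
    rw [hk, ← Nat.card_eq_finsetCard]
    refine Nat.card_le_card_of_surjective
      (fun x : X => ConjClasses.mk (QuotientGroup.mk' N (x : G))) ?_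
    intro c
    obtain ⟨q, rfl⟩ := ConjClasses.exists_rep c
    obtain ⟨g, rfl⟩ := QuotientGroup.mk'_surjective N q
    obtain ⟨a, b, hab, -, -, -, -, hb, ha, -, -⟩ := exists_pPart hM.1 g
    obtain ⟨x, ⟨hx, hax⟩, -⟩ := hXrep a ha
    refine ⟨⟨x, hx⟩, ?_⟩
    show ConjClasses.mk (QuotientGroup.mk' N x) = ConjClasses.mk (QuotientGroup.mk' N g)
    rw [← hab, map_mul, show QuotientGroup.mk' N b = 1 from
      (QuotientGroup.eq_one_iff b).2 (mem_of_regular hM.1 N hidx hb), mul_one,
      ConjClasses.mk_eq_mk_iff_isConj]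
    exact (QuotientGroup.mk' N).map_isConj hax.symm

/-- A `p`-group of order at least three with at most three classes has order three. -/
theorem card_eq_three_of_classes {Q : Type u} [Group Q] [Finite Q] (hQ : IsPGroup p Q)
    [Fact p.Prime] (h3 : 3 ≤ Nat.card Q) (hk : Nat.card (ConjClasses Q) ≤ 3) :
    Nat.card Q = 3 := by
  classical
  haveI := Fintype.ofFinite Q
  set Z := Subgroup.center Q
  set n := Nat.card Q
  haveI : Nontrivial Q := (Finite.one_lt_card_iff_nontrivial.1 (by omega))
  have hZ : 2 ≤ Nat.card Z := by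
    haveI := hQ.center_nontrivial
    exact Finite.one_lt_card_iff_nontrivial.2 inferInstance
  have hkn := card_comm_eq_card_conjClasses_mul_card Q
  have hsig : Nat.card {q : Q × Q // Commute q.1 q.2} =
      ∑ g : Q, Nat.card ↥(Subgroup.centralizer ({g} : Set Q)) := by
    rw [← Nat.card_sigma]
    exact Nat.card_congr
      { toFun := fun q => ⟨q.1.1, q.1.2, Subgroup.mem_centralizer_singleton_iff.2 q.2.eq.symm⟩
        invFun := fun q => ⟨(q.1, q.2.1), (Subgroup.mem_centralizer_singleton_iff.1 q.2.2).symm⟩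
        left_inv := fun _ => rfl
        right_inv := fun _ => rfl }
  rw [hsig] at hkn
  have hlow : ∑ g : Q, (if g ∈ Z then n else 2 * Nat.card Z) ≤
      ∑ g : Q, Nat.card ↥(Subgroup.centralizer ({g} : Set Q)) := by
    refine sum_le_sum fun g _ => ?_
    split_ifs with hg
    · rw [show Subgroup.centralizer ({g} : Set Q) = ⊤ from eq_top_iff.2 fun w _ =>
        Subgroup.mem_centralizer_singleton_iff.2 (Subgroup.mem_center_iff.1 hg w)]
      rw [Subgroup.card_top]
    · have hlt : Z < Subgroup.centralizer ({g} : Set Q) := by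
        refine lt_of_le_of_ne (Subgroup.center_le_centralizer _) fun he => hg ?_
        rw [he]
        exact Subgroup.mem_centralizer_singleton_iff.2 rfl
      obtain ⟨c, hc⟩ := Subgroup.card_dvd_of_le hlt.le
      have hpos : 0 < Nat.card ↥(Subgroup.centralizer ({g} : Set Q)) := Nat.card_pos
      have hne : Nat.card Z ≠ Nat.card ↥(Subgroup.centralizer ({g} : Set Q)) := fun he =>
        hlt.ne (Subgroup.eq_of_le_of_card_ge hlt.le he.ge)
      have h2c : 2 ≤ c := by
        rcases c with _ | _ | c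
        · simp at hc
        · exact absurd (by simpa using hc.symm) hne
        · omega
      calc 2 * Nat.card Z ≤ c * Nat.card Z := Nat.mul_le_mul_right _ h2c
        _ = _ := by rw [hc, mul_comm]
  rw [sum_ite, sum_const, sum_const, smul_eq_mul, smul_eq_mul] at hlow
  have hc1 : (univ.filter (· ∈ Z)).card = Nat.card Z := by
    rw [Nat.card_eq_fintype_card, Fintype.card_subtype]
  have hc2 : (univ.filter (· ∈ Z)).card + (univ.filter fun g => ¬ g ∈ Z).card = n := by
    rw [card_filter_add_card_filter_not, Finset.card_univ, ← Nat.card_eq_fintype_card]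
  have hle := hlow.trans (hkn.le.trans (Nat.mul_le_mul_right _ hk))
  rw [hc1] at hle hc2
  by_contra hne
  change _ ≤ 3 * n at hle
  generalize (univ.filter fun g => ¬ g ∈ Z).card = o at hle hc2
  generalize Nat.card Z = z at hle hc2 hZ
  rcases Nat.eq_zero_or_pos o with rfl | ho
  · simp only [Nat.zero_mul, Nat.add_zero] at hle hc2
    have := Nat.le_of_mul_le_mul_right hle (by omega)
    omega
  · have h2n : 2 * n ≤ z * n := Nat.mul_le_mul_right _ hZ
    have h4o : o * 4 ≤ o * (2 * z) := Nat.mul_le_mul_left _ (by omega)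
    rcases Nat.lt_or_ge z 3 with hz | hz
    · omega
    · have h3n : 3 * n ≤ z * n := Nat.mul_le_mul_right _ hz
      omega

/-- The data at a class of `p`-elements which is the only nontrivial one. -/
theorem one_class_values (hM : IsPModular p M) [Fintype (IrrCharacter G)]
    [DecidablePred (· ∈ principalBlock M G)] {x : G} {k : ℕ}
    (hx : orderOf x = p ^ k) (hx1 : x ≠ 1)
    (hC : Cfsg.HasNormalPComplement p ↥(Subgroup.centralizer ({x} : Set G)))
    (hone : ∀ g : G, (∃ j : ℕ, orderOf g = p ^ j) → g ≠ 1 → IsConj g x) :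
    ∃ a : IrrCharacter G → ℤ,
      (∀ χ ∈ principalBlock M G, (χ : G → ℂ) x = a χ) ∧ a (oneIrr G) = 1 ∧
      (∀ χ ∈ principalBlock M G, a χ ≠ 0) ∧
      ∑ χ ∈ univ.filter (· ∈ principalBlock M G), (charDegree (χ : G → ℂ) : ℤ) * a χ = 0 ∧
      ∑ χ ∈ univ.filter (· ∈ principalBlock M G), a χ * a χ =
        (p : ℤ) ^ (Nat.card G).factorization p := by
  classical
  haveI : Fact p.Prime := ⟨hM.1⟩
  have hxp : p ∣ orderOf x := by
    rcases k with _ | k
    · exact absurd (orderOf_eq_one_iff.1 (by simpa using hx)) hx1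
    · exact ⟨p ^ k, by rw [hx, pow_succ']⟩
  have hpG : p ∣ Nat.card G := hxp.trans (orderOf_dvd_natCard x)
  obtain ⟨N, hNn, hN, hidx⟩ := exists_complement_data hC
  haveI := hNn
  -- the centralizer of `x` contains a Sylow subgroup
  obtain ⟨P⟩ : Nonempty (Sylow p G) := inferInstance
  have hfac : (Nat.card ↥(Subgroup.centralizer ({x} : Set G))).factorization p =
      (Nat.card G).factorization p := by
    refine le_antisymm ?_ ?_
    · exact (Nat.factorization_le_iff_dvd Nat.card_pos.ne' Nat.card_pos.ne').2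
        (Subgroup.card_subgroup_dvd_card _) p
    · haveI : Nontrivial ↥(P : Subgroup G) := by
        rw [← Finite.one_lt_card_iff_nontrivial, P.card_eq_multiplicity]
        exact Nat.one_lt_pow
          (hM.1.factorization_pos_of_dvd Nat.card_pos.ne' hpG).ne' hM.1.one_lt
      haveI := P.isPGroup'.center_nontrivial
      obtain ⟨z, hz⟩ := exists_ne (1 : Subgroup.center ↥(P : Subgroup G))
      have hz1 : ((z : ↥(P : Subgroup G)) : G) ≠ 1 := fun h => hz (Subtype.ext (Subtype.ext h))
      obtain ⟨j, hj⟩ := IsPGroup.iff_orderOf.1 P.isPGroup' (z : ↥(P : Subgroup G))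
      obtain ⟨c, hc⟩ := isConj_iff.1 (hone _ ⟨j, by rw [Subgroup.orderOf_coe, hj]⟩ hz1)
      have hle : (P : Subgroup G).map (MulAut.conj c).toMonoidHom ≤
          Subgroup.centralizer ({x} : Set G) := by
        rintro _ ⟨w, hw, rfl⟩
        rw [Subgroup.mem_centralizer_singleton_iff, ← hc]
        have h := congrArg Subtype.val (Subgroup.mem_center_iff.1 z.2 ⟨w, hw⟩)
        simp only [Subgroup.coe_mul] at h
        have h' : Commute w ((z : ↥(P : Subgroup G)) : G) := h
        exact (h'.map (MulAut.conj c)).eq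
      have hd := Subgroup.card_dvd_of_le hle
      rw [Subgroup.card_map_of_injective (MulAut.conj c).injective, P.card_eq_multiplicity] at hd
      exact (hM.1.pow_dvd_iff_le_factorization Nat.card_pos.ne').1 hd
  rw [hfac] at hidx
  have hidx' : ∃ n : ℕ, N.index = p ^ n := ⟨_, hidx⟩
  -- integrality
  have hint : ∀ χ : IrrCharacter G, ∃ m : ℤ, (χ : G → ℂ) x = m := by
    intro χ
    refine IsCharacter.exists_int_apply (isCharacter_irr χ) fun t ht => ?_
    have hcop : (orderOf x).Coprime t := (ht.coprime_dvd_right (orderOf_dvd_natCard x)).symm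
    have ho : orderOf (x ^ t) = p ^ k := by rw [hcop.orderOf_pow, hx]
    have hne : x ^ t ≠ 1 := fun h => hx1 (by
      rw [← orderOf_eq_one_iff, ← hcop.orderOf_pow, h, orderOf_one])
    obtain ⟨c, hc⟩ := isConj_iff.1 (hone _ ⟨k, ho⟩ hne)
    conv_rhs => rw [← hc]
    rw [isClassFunction_irr χ]
  choose a ha using hint
  refine ⟨a, fun χ _ => ha χ, ?_, ?_, ?_, ?_⟩
  · exact_mod_cast ((ha (oneIrr G)).symm.trans (oneIrr_apply x))
  · intro χ hχ h0
    -- a character of the principal block vanishing on the singular elements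
    by_cases h1 : χ = oneIrr G
    · subst h1
      have := ha (oneIrr G)
      rw [h0, oneIrr_apply, Int.cast_zero] at this
      exact one_ne_zero this
    have hsing : ∀ g : G, p ∣ orderOf g → (χ : G → ℂ) g = 0 := by
      intro g hg
      obtain ⟨u, v, huv, hcomm, -, -, hu1, hv, hu, -, -⟩ := exists_pPart hM.1 g
      obtain ⟨c, hc⟩ := isConj_iff.1 (hone u hu (hu1 hg))
      rw [← isClassFunction_irr χ g c]
      have hmem : c * v * c⁻¹ ∈ Subgroup.centralizer ({x} : Set G) := by
        rw [Subgroup.mem_centralizer_singleton_iff, ← hc]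
        exact (hcomm.map (MulAut.conj c)).symm.eq
      have hreg : ¬ p ∣ orderOf (⟨c * v * c⁻¹, hmem⟩ : ↥(Subgroup.centralizer ({x} : Set G))) := by
        rw [← Subgroup.orderOf_coe]
        rwa [show orderOf (c * v * c⁻¹) = orderOf v from (MulAut.conj c).orderOf_eq v]
      have h := principal_constant hM hx N hN hidx' hχ (mem_of_regular hM.1 N hidx hreg)
      rw [show c * g * c⁻¹ = x * (c * v * c⁻¹) by rw [← huv, ← hc]; group]
      rw [h, ha, h0, Int.cast_zero]
    have hu := (heightForm_unit_iff hM isPBlock_principalBlock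
      (oneIrr_mem_principalBlock (G := G)) hχ).2 oneIrr_height_zero
    refine hu ?_
    have hzero : heightForm p (oneIrr G) χ = 0 := by
      have hsum : ∑ g : G, (χ : G → ℂ) g = 0 := by
        have h := classInner_irr χ (oneIrr G)
        rw [if_neg h1, CfsgLib.Char.classInner_def] at h
        simpa [oneIrr_apply] using h
      have heq : ∀ g : G, regPart p (fun g => conj ((oneIrr G : G → ℂ) g)) g * (χ : G → ℂ) g =
          (χ : G → ℂ) g := by
        intro g
        by_cases hg : p ∣ orderOf g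
        · rw [hsing g hg, mul_zero]
        · rw [regPart_of_not_dvd hg, oneIrr_apply, map_one, one_mul]
      rw [heightForm, omega, sum_congr rfl fun g _ => heq g, hsum, zero_div]
    rw [hzero]
    exact memLocalIdeal_zero
  · have h := sum_degree_mul hM hx hxp N hN hidx'
    rw [sum_congr rfl fun χ _ => by rw [ha χ]] at h
    exact_mod_cast h
  · have h := sum_sq_value hM hx N hN hidx'
    rw [sum_congr rfl fun χ _ => by rw [ha χ, map_intCast (starRingEnd ℂ)], hidx] at h
    exact_mod_cast h

/-- A relation at an odd prime: the indicators weight the values at `x` to total one. -/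
theorem one_class_indicator (hM : IsPModular p M) (hp2 : p ≠ 2) [Fintype (IrrCharacter G)]
    [DecidablePred (· ∈ principalBlock M G)] {x : G} {k : ℕ}
    (hx : orderOf x = p ^ k)
    (hC : Cfsg.HasNormalPComplement p ↥(Subgroup.centralizer ({x} : Set G)))
    (a : IrrCharacter G → ℤ) (ha : ∀ χ ∈ principalBlock M G, (χ : G → ℂ) x = a χ)
    (hne : ∀ χ ∈ principalBlock M G, a χ ≠ 0) :
    ∃ ν : IrrCharacter G → ℤ, (∀ χ, ν χ = 0 ∨ ν χ = 1 ∨ ν χ = -1) ∧ ν (oneIrr G) = 1 ∧
      ∑ χ ∈ univ.filter (· ∈ principalBlock M G), ν χ * a χ = 1 ∧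
      ∀ χ ∈ principalBlock M G, ν χ = 0 →
        ∃ ψ ∈ principalBlock M G, ψ ≠ χ ∧ ν ψ = 0 ∧ a ψ = a χ := by
  classical
  haveI : Fact p.Prime := ⟨hM.1⟩
  obtain ⟨N, hNn, hN, hidx⟩ := exists_complement_data hC
  haveI := hNn
  haveI : Fintype N := Fintype.ofFinite _
  have hval : ∀ χ : IrrCharacter G, ∃ e : ℤ, (e = 0 ∨ e = 1 ∨ e = -1) ∧
      (Nat.card G : ℂ)⁻¹ * ∑ g : G, conj ((χ : G → ℂ) (g * g)) = e ∧
      (e = 0 ↔ ∃ g, ((χ : G → ℂ) g).im ≠ 0) := by
    intro χ
    have hconj : (Nat.card G : ℂ)⁻¹ * ∑ g : G, conj ((χ : G → ℂ) (g * g)) =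
        conj ((Nat.card G : ℂ)⁻¹ * ∑ g : G, (χ : G → ℂ) (g * g)) := by
      rw [map_mul, map_sum, map_inv₀, Complex.conj_natCast]
    rcases IsIrrCharacter.fs_indicator χ.2 with ⟨hi, h⟩ | ⟨hr, h | ⟨h, -⟩⟩
    · exact ⟨0, Or.inl rfl, by rw [hconj, h]; simp, by simp [hi]⟩
    · exact ⟨1, Or.inr (Or.inl rfl), by rw [hconj, h]; simp, by simp [hr]⟩
    · exact ⟨-1, Or.inr (Or.inr rfl), by rw [hconj, h]; simp, by simp [hr]⟩
  choose ν hν hνval hν0 using hval
  refine ⟨ν, hν, ?_, ?_, ?_⟩
  · have h := hνval (oneIrr G)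
    simp only [oneIrr_apply, map_one, sum_const, Finset.card_univ, nsmul_eq_mul, mul_one] at h
    rw [← Nat.card_eq_fintype_card, inv_mul_cancel₀ (Nat.cast_ne_zero.2 Nat.card_pos.ne')] at h
    exact_mod_cast h.symm
  · have h := sum_indicator_value hM hp2 hx N hN ⟨_, hidx⟩
    rw [sum_congr rfl fun χ hχ => by rw [hνval χ, ha χ (mem_filter.1 hχ).2]] at h
    exact_mod_cast h
  · intro χ hχ h0
    obtain ⟨g, hg⟩ := (hν0 χ).1 h0
    let ψ : IrrCharacter G := ⟨fun g => conj ((χ : G → ℂ) g), IsIrrCharacter.conj χ.2⟩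
    have hψx : (ψ : G → ℂ) x = a χ := by
      show conj ((χ : G → ℂ) x) = _
      rw [ha χ hχ, map_intCast (starRingEnd ℂ)]
    have hψ : ψ ∈ principalBlock M G := by
      by_contra hn
      have h := sum_complement hM hx N hN ⟨_, hidx⟩ ψ
      rw [if_neg hn] at h
      have h' : ∑ n : N, conj ((χ : G → ℂ)
          (x * ((n : ↥(Subgroup.centralizer ({x} : Set G))) : G))) = 0 := h
      rw [← map_sum, sum_complement hM hx N hN ⟨_, hidx⟩ χ, if_pos hχ, map_mul, Complex.conj_natCast,
        ha χ hχ, map_intCast (starRingEnd ℂ)] at h'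
      rcases mul_eq_zero.1 h' with h' | h'
      · exact absurd h' (Nat.cast_ne_zero.2 Nat.card_pos.ne')
      · exact hne χ hχ (by exact_mod_cast h')
    refine ⟨ψ, hψ, fun he => hg ?_, (hν0 ψ).2 ⟨g, by simpa [ψ] using hg⟩, ?_⟩
    · exact Complex.conj_eq_iff_im.1 (congrFun (congrArg Subtype.val he) g)
    · exact_mod_cast (ha ψ hψ).symm.trans hψx

end CfsgLib.GapOne
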