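import Cfsg.Agent.Char.AlgInt
import Cfsg.Agent.Char.Values
import Mathlib.Analysis.SpecialFunctions.Log.Basic
import Mathlib.RingTheory.Norm.Transitivity
import Mathlib.Analysis.Complex.Polynomial.Basic

/-!
# Nonzero algebraic integers in a cyclotomic field have average square norm at least one
-/

namespace CfsgLib.BlockB

open scoped ComplexConjugate
open Finset

set_option linter.style.haveILetI false

/-- The field generated by the `N`-th roots of unity. -/
noncomputable def cycloField (N : ℕ) : IntermediateField ℚ ℂ :=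
  IntermediateField.adjoin ℚ {z : ℂ | z ^ N = 1}

theorem finiteDimensional_cycloField {N : ℕ} (hN : 0 < N) :
    FiniteDimensional ℚ (cycloField N) := by
  haveI : Finite {z : ℂ | z ^ N = 1} := by
    haveI : NeZero N := ⟨hN.ne'⟩
    refine Set.Finite.to_subtype (Set.Finite.subset (Polynomial.nthRoots N (1 : ℂ)).toFinset.finite_toSet ?_)
    intro z hz
    simp only [coe_sort_coe, Multiset.mem_toFinset, Finset.mem_coe, Polynomial.mem_nthRoots hN]
    exact hz
  exact IntermediateField.finiteDimensional_adjoin fun z hz =>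
    (CfsgLib.Char.isIntegral_of_pow_eq_one hN hz).tower_top

theorem root_mem_cycloField {N : ℕ} {z : ℂ} (hz : z ^ N = 1) : z ∈ cycloField N :=
  IntermediateField.subset_adjoin ℚ _ hz

theorem conj_mem_and_comm {N : ℕ} (hN : 0 < N) (σ : cycloField N →ₐ[ℚ] ℂ) {x : ℂ}
    (hx : x ∈ cycloField N) :
    ∃ h : conj x ∈ cycloField N, σ ⟨conj x, h⟩ = conj (σ ⟨x, hx⟩) := by
  refine IntermediateField.adjoin_induction ℚ
    (p := fun x hx => ∃ h : conj x ∈ cycloField N, σ ⟨conj x, h⟩ = conj (σ ⟨x, hx⟩))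
    (fun z hz => ?_) (fun q => ?_) (fun x y hx hy ⟨a, ha⟩ ⟨b, hb⟩ => ?_)
    (fun x hx ⟨a, ha⟩ => ?_) (fun x y hx hy ⟨a, ha⟩ ⟨b, hb⟩ => ?_) hx
  · have hz1 : z ^ N = 1 := hz
    have hnorm := Complex.norm_eq_one_of_pow_eq_one hz1 hN.ne'
    have hconj : conj z = z⁻¹ := (Complex.inv_eq_conj hnorm).symm
    have hmem : z ∈ cycloField N := root_mem_cycloField hz1
    refine ⟨hconj ▸ inv_mem hmem, ?_⟩
    have h1 : (⟨conj z, hconj ▸ inv_mem hmem⟩ : cycloField N) = ⟨z, hmem⟩⁻¹ := Subtype.ext hconj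
    have hpow : σ ⟨z, hmem⟩ ^ N = 1 := by
      rw [← map_pow, show (⟨z, hmem⟩ : cycloField N) ^ N = 1 from Subtype.ext hz1, map_one]
    rw [h1, map_inv₀]
    exact Complex.inv_eq_conj (Complex.norm_eq_one_of_pow_eq_one hpow hN.ne')
  · have h : conj ((algebraMap ℚ ℂ) q) = algebraMap ℚ ℂ q := by
      rw [eq_ratCast, map_ratCast]
    have hm : conj ((algebraMap ℚ ℂ) q) ∈ cycloField N := by
      rw [h]; exact IntermediateField.algebraMap_mem _ q
    refine ⟨hm, ?_⟩
    have h1 : (⟨conj ((algebraMap ℚ ℂ) q), hm⟩ : cycloField N) =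
        algebraMap ℚ (cycloField N) q := Subtype.ext h
    rw [h1, show (⟨(algebraMap ℚ ℂ) q, _⟩ : cycloField N) = algebraMap ℚ (cycloField N) q from rfl,
      σ.commutes, h]
  · refine ⟨by rw [map_add]; exact add_mem a b, ?_⟩
    have h1 : (⟨conj (x + y), by rw [map_add]; exact add_mem a b⟩ : cycloField N) =
        ⟨conj x, a⟩ + ⟨conj y, b⟩ := Subtype.ext (map_add _ _ _)
    rw [h1, map_add, ha, hb, ← map_add, ← map_add]
    rfl
  · refine ⟨by rw [map_inv₀]; exact inv_mem a, ?_⟩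
    have h1 : (⟨conj x⁻¹, by rw [map_inv₀]; exact inv_mem a⟩ : cycloField N) = ⟨conj x, a⟩⁻¹ :=
      Subtype.ext (map_inv₀ _ _)
    rw [h1, map_inv₀, ha, ← map_inv₀, ← map_inv₀]
    rfl
  · refine ⟨by rw [map_mul]; exact mul_mem a b, ?_⟩
    have h1 : (⟨conj (x * y), by rw [map_mul]; exact mul_mem a b⟩ : cycloField N) =
        ⟨conj x, a⟩ * ⟨conj y, b⟩ := Subtype.ext (map_mul _ _ _)
    rw [h1, map_mul, ha, hb, ← map_mul, ← map_mul]
    rfl

/-- If the squared norms of nonzero algebraic integers in a cyclotomic field sum to a rational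
number, that number is at least their number. -/
theorem card_le_sum_normSq {N : ℕ} (hN : 0 < N) {ι : Type*} (s : Finset ι) (a : ι → ℂ)
    (hK : ∀ i ∈ s, a i ∈ cycloField N) (hint : ∀ i ∈ s, IsIntegral ℤ (a i))
    (hne : ∀ i ∈ s, a i ≠ 0) (q : ℚ) (hsum : ∑ i ∈ s, a i * conj (a i) = (q : ℂ)) :
    (s.card : ℚ) ≤ q := by
  classical
  haveI := finiteDimensional_cycloField hN
  let x : {i // i ∈ s} → cycloField N := fun i => ⟨a i, hK i i.2⟩
  have hσ : ∀ σ : cycloField N →ₐ[ℚ] ℂ, ∑ i ∈ s.attach, ‖σ (x i)‖ ^ 2 = (q : ℝ) := by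
    intro σ
    apply Complex.ofReal_injective
    rw [Complex.ofReal_sum, Complex.ofReal_ratCast]
    have hq : ∑ i ∈ s.attach, x i * ⟨conj (a i), (conj_mem_and_comm hN σ (hK i i.2)).1⟩ =
        algebraMap ℚ (cycloField N) q := by
      apply Subtype.ext
      rw [AddSubmonoidClass.coe_finset_sum]
      refine Eq.trans ?_ ((sum_attach s fun i => a i * conj (a i)).trans (hsum.trans (eq_ratCast (algebraMap ℚ ℂ) q).symm))
      rfl
    have h := congrArg σ hq
    rw [map_sum, σ.commutes, eq_ratCast] at h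
    rw [← h]
    refine sum_congr rfl fun i _ => ?_
    rw [map_mul, (conj_mem_and_comm hN σ (hK i i.2)).2, Complex.mul_conj', Complex.ofReal_pow]
  set m := (univ : Finset (cycloField N →ₐ[ℚ] ℂ)).card with hm
  have hm0 : 0 < m := card_pos.2 ⟨(cycloField N).val, mem_univ _⟩
  have hlow : ∀ i ∈ s.attach, (m : ℝ) ≤ ∑ σ : cycloField N →ₐ[ℚ] ℂ, ‖σ (x i)‖ ^ 2 := by
    intro i _
    have hx0 : x i ≠ 0 := fun h => hne i i.2 (congrArg Subtype.val h)
    have hpos : ∀ σ : cycloField N →ₐ[ℚ] ℂ, 0 < ‖σ (x i)‖ ^ 2 := fun σ => by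
      have := (map_ne_zero σ).2 hx0
      positivity
    have hint' : ∀ σ : cycloField N →ₐ[ℚ] ℂ, IsIntegral ℤ (σ (x i)) := fun σ => by
      have h1 : IsIntegral ℤ (x i) :=
        (isIntegral_algebraMap_iff (algebraMap (cycloField N) ℂ).injective).1 (hint i i.2)
      exact h1.map (σ.restrictScalars ℤ)
    have hn := Algebra.norm_eq_prod_embeddings ℚ ℂ (x i)
    obtain ⟨n, hn1, hn2⟩ := CfsgLib.Char.exists_int_of_isIntegral_rat (Algebra.norm ℚ (x i))
      (IsIntegral.prod _ fun σ _ => hint' σ) (hn.symm.trans (eq_ratCast _ _))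
    have hn0 : n ≠ 0 := by
      intro h0
      rw [h0, Int.cast_zero, prod_eq_zero_iff] at hn1
      obtain ⟨σ, -, hz⟩ := hn1
      exact (map_ne_zero σ).2 hx0 hz
    have hprod : (1 : ℝ) ≤ ∏ σ : cycloField N →ₐ[ℚ] ℂ, ‖σ (x i)‖ ^ 2 := by
      rw [prod_pow, ← norm_prod, hn1, Complex.norm_intCast, sq_abs]
      have h1 : (1 : ℤ) ≤ n ^ 2 := (sq_pos_of_ne_zero hn0)
      exact_mod_cast h1
    have hlog := Real.log_nonneg hprod
    rw [Real.log_prod fun σ _ => (hpos σ).ne'] at hlog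
    have h3 := sum_le_sum (s := univ) fun σ _ => Real.log_le_sub_one_of_pos (hpos σ)
    rw [sum_sub_distrib, sum_const, nsmul_eq_mul, mul_one, ← hm] at h3
    linarith
  have h2 := sum_le_sum hlow
  rw [sum_const, nsmul_eq_mul, card_attach, sum_comm, sum_congr rfl (fun σ _ => hσ σ), sum_const,
    nsmul_eq_mul, ← hm, mul_comm] at h2
  have h4 := le_of_mul_le_mul_left h2 (Nat.cast_pos.2 hm0)
  exact_mod_cast h4

end CfsgLib.BlockB
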