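import Cfsg.Agent.BrauerPairs.Reduction
import Cfsg.Agent.BrauerPairs.LocalBlocks
import Cfsg.Agent.Blocks.Heights

/-!
# Defect groups are intersections of two Sylow subgroups

Green's theorem, by counting in the residue group algebra: if no element of a defect class
centralizing `D` meets the Sylow subgroup `P` exactly in `D`, then the sum over `C_P(D)` kills the
Brauer image of the class sum, hence that of the block idempotent, which is absurd since a
`p`-group fixes a nonzero vector in every nonzero module.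
-/

set_option autoImplicit false
set_option linter.unusedSectionVars false
set_option linter.style.haveILetI false

namespace CfsgLib.Green

open Cfsg CfsgLib.BrauerPairs CfsgLib.Block

universe u

section algebra

variable {p : ℕ} [hp : Fact p.Prime] {k : Type*} [Field k] [CharP k p]
  {G : Type u} [Group G] [Fintype G]

open Classical in
/-- The sum of the elements of a subgroup. -/
noncomputable def sumOf (k : Type*) [Field k] (Q : Subgroup G) : MonoidAlgebra k G :=
  ofFun fun g => if g ∈ Q then 1 else 0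

theorem suppIn_sumOf (Q : Subgroup G) : SuppIn Q (sumOf k Q) := fun g hg => by
  simp [sumOf, hg]

/-- An idempotent invariant under a `p`-group is not killed by the sum over that group. -/
theorem sumOf_mul_ne_zero {Q : Subgroup G} (hQ : IsPGroup p Q) {b : MonoidAlgebra k G}
    (hb : FixBy Q b) (hbb : b * b = b) (hb0 : b ≠ 0) : sumOf k Q * b ≠ 0 := by
  classical
  intro h0
  obtain ⟨w, hw0, hwQ, hwe⟩ := exists_fixed_ne_zero hQ hb0
  have hbw : b * w = w := hwe b (fun q hq => (alg_commute (k := k) (le_refl Q)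
    (fun g hg => by
      have : q ≠ g := fun h => hg (h ▸ hq)
      simp [this]) hb).symm) hbb
  have hwinv : ∀ q ∈ Q, ∀ y : G, w.coeff (q⁻¹ * y) = w.coeff y := fun q hq y => by
    have := congrArg (fun a => a.coeff y) (hwQ q hq)
    simpa using this
  let r : G → G := fun y => (Quotient.mk (QuotientGroup.rightRel Q) y).out
  have hr : ∀ y, y * (r y)⁻¹ ∈ Q := fun y =>
    QuotientGroup.rightRel_apply.1 (Quotient.exact (Quotient.out_eq _))
  have hr' : ∀ y, ∀ x ∈ Q, r (x⁻¹ * y) = r y := fun y x hx => by
    refine congrArg Quotient.out (Quotient.sound (QuotientGroup.rightRel_apply.2 ?_))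
    simpa [mul_assoc] using hx
  let w' : MonoidAlgebra k G := ofFun fun y => if y = r y then w.coeff y else 0
  have hw' : sumOf k Q * w' = w := by
    refine coeff_ext fun y => ?_
    rw [coeff_mul, Finset.sum_eq_single (y * (r y)⁻¹)]
    · have h1 : (y * (r y)⁻¹)⁻¹ * y = r y := by group
      have h2 : r (r y) = r y := congrArg Quotient.out (Quotient.out_eq _)
      rw [h1]
      simp only [sumOf, w', coeff_ofFun, if_pos (hr y), h2, if_true, one_mul]
      rw [← h1]
      exact hwinv _ (hr y) y
    · intro x _ hx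
      by_cases hxQ : x ∈ Q
      · simp only [sumOf, w', coeff_ofFun, if_pos hxQ, one_mul]
        refine if_neg fun h => hx ?_
        rw [hr' y x hxQ] at h
        rw [← h]; group
      · simp [sumOf, hxQ]
    · exact fun h => absurd (Finset.mem_univ _) h
  refine hw0 ?_
  calc w = b * (sumOf k Q * w') := by rw [hw', hbw]
    _ = sumOf k Q * b * w' := by
      rw [← mul_assoc, alg_commute (le_refl Q) (suppIn_sumOf Q) hb]
    _ = 0 := by rw [h0, zero_mul]

/-- The counting lemma: the sum over `C_P(D)` kills an invariant element all of whose support meets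
`P` in more than `D`. -/
theorem sumOf_mul_eq_zero {P D : Subgroup G} (hP : IsPGroup p P) (hDP : D ≤ P)
    {a : MonoidAlgebra k G} (hsupp : SuppIn (Subgroup.centralizer (D : Set G)) a)
    (hfix : FixBy (Subgroup.normalizer (D : Set G)) a)
    (hbad : ∀ x : G, a.coeff x ≠ 0 → ∀ U : Subgroup G, IsPGroup p U → D ≤ U →
      U ≤ Subgroup.centralizer ({x} : Set G) → U = D)
    (hne : ∀ x : G, a.coeff x ≠ 0 → P ⊓ P.map (MulAut.conj x).toMonoidHom ≠ D) :
    sumOf k (P ⊓ Subgroup.centralizer (D : Set G)) * a = 0 := by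
  classical
  set Q := P ⊓ Subgroup.centralizer (D : Set G) with hQ
  refine coeff_ext fun z => ?_
  rw [coeff_mul, MonoidAlgebra.coeff_zero, Finsupp.zero_apply]
  by_cases hz : z ∈ Subgroup.centralizer (D : Set G)
  swap
  · refine Finset.sum_eq_zero fun x _ => ?_
    by_cases hx : x ∈ Q
    · rw [hsupp _ fun h => hz ?_, mul_zero]
      simpa using (Subgroup.centralizer (D : Set G)).mul_mem hx.2 h
    · simp [sumOf, hx]
  set U := (P ⊓ Subgroup.normalizer (D : Set G)) ⊓ P.map (MulAut.conj z⁻¹).toMonoidHom with hU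
  have hUP : IsPGroup p U := hP.to_le (inf_le_left.trans inf_le_left)
  rw [show ∑ x : G, (sumOf k Q).coeff x * a.coeff (x⁻¹ * z) =
      ∑ y : G, (if y * z⁻¹ ∈ Q then a.coeff y else 0) from
    Fintype.sum_equiv ((Equiv.inv G).trans (Equiv.mulRight z)) _ _ fun x => by
      simp [sumOf]]
  let _ : MulAction U G := MulAction.compHom G ((MulAut.conj).comp U.subtype)
  have hsmul : ∀ (u : U) (y : G), u • y = (u : G) * y * (u : G)⁻¹ := fun _ _ => rfl
  rw [sum_eq_sum_fixed hUP (fun y => if y * z⁻¹ ∈ Q then a.coeff y else 0) fun u y => by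
    simp only [hsmul]
    have hu1 : (u : G) ∈ P := u.2.1.1
    have hu2 : (u : G) ∈ Subgroup.normalizer (D : Set G) := u.2.1.2
    have hu3 : z * (u : G) * z⁻¹ ∈ P := by
      obtain ⟨v, hv, hvu⟩ := u.2.2
      rw [← hvu]
      simpa [mul_assoc] using hv
    have hc : (u : G) * z * (u : G)⁻¹ * z⁻¹ ∈ Q := by
      refine Subgroup.mem_inf.2 ⟨?_, Subgroup.mul_mem _ ?_ (Subgroup.inv_mem _ hz)⟩
      · have := P.mul_mem hu1 (P.inv_mem hu3)
        simpa [mul_assoc] using this
      · exact (Subgroup.mem_normalizer_iff.1 (map_normalizer_centralizer hu2) z).1 hz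
    have hiff : (u : G) * y * (u : G)⁻¹ * z⁻¹ ∈ Q ↔ y * z⁻¹ ∈ Q := by
      rw [show (u : G) * y * (u : G)⁻¹ * z⁻¹ =
        ((u : G) * (y * z⁻¹) * (u : G)⁻¹) * ((u : G) * z * (u : G)⁻¹ * z⁻¹) by group,
        Q.mul_mem_cancel_right hc]
      have hcn : ∀ v : G, v ∈ Subgroup.centralizer (D : Set G) ↔
          (u : G) * v * (u : G)⁻¹ ∈ Subgroup.centralizer (D : Set G) := fun v =>
        Subgroup.mem_normalizer_iff.1 (map_normalizer_centralizer hu2) v
      have hPn : ∀ v : G, v ∈ P ↔ (u : G) * v * (u : G)⁻¹ ∈ P := fun v =>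
        Subgroup.mem_normalizer_iff.1 (Subgroup.le_normalizer hu1) v
      exact ⟨fun h => ⟨(hPn _).2 h.1, (hcn _).2 h.2⟩, fun h => ⟨(hPn _).1 h.1, (hcn _).1 h.2⟩⟩
    rw [if_congr hiff rfl rfl, hfix.coeff_eq' hu2]]
  refine Finset.sum_eq_zero fun y hy => ?_
  rw [Set.mem_toFinset] at hy
  split_ifs with hyQ
  swap
  · rfl
  by_contra hay
  have hyC : U ≤ Subgroup.centralizer ({y} : Set G) := fun u hu => by
    rw [Subgroup.mem_centralizer_singleton_iff]
    exact mul_inv_eq_iff_eq_mul.1 (hy ⟨u, hu⟩)
  have hDC : ∀ c ∈ Subgroup.centralizer (D : Set G), D.map (MulAut.conj c).toMonoidHom = D :=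
    fun c hc => map_conj_eq_self ((Subgroup.centralizer_le_normalizer (D : Set G)) hc)
  have hDU : D ≤ U := le_inf (le_inf hDP Subgroup.le_normalizer)
    ((hDC _ (inv_mem hz)).symm.le.trans (Subgroup.map_mono hDP))
  have hUD : U = D := hbad y hay U hUP hDU hyC
  have hmap : P.map (MulAut.conj z⁻¹).toMonoidHom = P.map (MulAut.conj y⁻¹).toMonoidHom := by
    have h1 := map_conj_eq_self (Subgroup.le_normalizer (P.inv_mem hyQ.1))
    rw [show y⁻¹ = z⁻¹ * (y * z⁻¹)⁻¹ by group, ← map_conj_map_conj, h1]
  rw [hmap] at hU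
  set R := P ⊓ P.map (MulAut.conj y⁻¹).toMonoidHom with hR
  have hyD : y ∈ Subgroup.centralizer (D : Set G) := by
    simpa using mul_mem hyQ.2 hz
  have hDR : D ≤ R := le_inf hDP ((hDC _ (inv_mem hyD)).symm.le.trans (Subgroup.map_mono hDP))
  refine hne y hay ?_
  have hRD : R = D := by
    by_contra hne'
    have hRp : IsPGroup p R := hP.to_le inf_le_left
    haveI : Group.IsNilpotent R := hRp.isNilpotent
    have hlt : D.subgroupOf R < ⊤ := lt_top_iff_ne_top.2 fun h =>
      hne' (le_antisymm (Subgroup.subgroupOf_eq_top.1 h) hDR)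
    obtain ⟨u, hun, huD⟩ := SetLike.exists_of_lt
      (Group.normalizerCondition_of_isNilpotent _ hlt)
    rw [Subgroup.mem_subgroupOf] at huD
    refine huD (hUD ▸ hU ▸ ⟨⟨u.2.1, Subgroup.mem_normalizer_iff.2 fun v => ?_⟩, u.2.2⟩)
    constructor
    · intro hv
      simpa [Subgroup.mem_subgroupOf] using
        (Subgroup.mem_normalizer_iff.1 hun ⟨v, hDR hv⟩).1 hv
    · intro hv
      have hvR : v ∈ R := by
        have := R.mul_mem (R.mul_mem (R.inv_mem u.2) (hDR hv)) u.2
        simpa [mul_assoc] using this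
      exact (Subgroup.mem_normalizer_iff.1 hun ⟨v, hvR⟩).2
        (by simpa [Subgroup.mem_subgroupOf] using hv)
  have h2 := congrArg (Subgroup.map (MulAut.conj y).toMonoidHom) hRD
  rw [hR, Subgroup.map_inf _ _ _ (MulEquiv.injective _), map_conj_map_conj, mul_inv_cancel,
    map_conj_one, hDC _ hyD, inf_comm] at h2
  exact h2

end algebra

variable {G : Type u} [Group G] [Fintype G] {p : ℕ} [hp : Fact p.Prime] {M : Ideal AlgInt}

/-- **Green's theorem**: a defect group is the intersection of a Sylow subgroup containing it with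
a conjugate by an element of a defect class. -/
theorem exists_sylow_inter (hM : IsPModular p M) {B : Set (IrrCharacter G)} (hB : IsPBlock M B)
    {D : Subgroup G} (hD : IsDefectGroup p M B D) (P : Sylow p G) (hDP : D ≤ P) :
    ∃ x : G, ¬ p ∣ orderOf x ∧
      (∃ S : Sylow p (Subgroup.centralizer ({x} : Set G)),
        (S : Subgroup (Subgroup.centralizer ({x} : Set G))).map
          (Subgroup.centralizer ({x} : Set G)).subtype = D) ∧
      (P : Subgroup G) ⊓ (P : Subgroup G).map (MulAut.conj x).toMonoidHom = D := by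
  classical
  haveI := hM.2.1.isPrime
  haveI := charP_residue hM
  obtain ⟨g, hg, S₀, hS₀⟩ := hD
  have hDp : IsPGroup p D := by rw [hS₀]; exact IsPGroup.map S₀.isPGroup' _
  have hgD : g ∈ Subgroup.centralizer (D : Set G) := Subgroup.mem_centralizer_iff.2 fun d hd => by
    obtain ⟨c, -, rfl⟩ := hS₀ ▸ hd
    exact Subgroup.mem_centralizer_singleton_iff.1 c.2
  -- the largest `p`-subgroups of the centralizers in the class
  have hmax : ∀ x : G, IsConj g x → ∀ U : Subgroup G, IsPGroup p U →
      U ≤ Subgroup.centralizer ({x} : Set G) → Nat.card U ≤ Nat.card D := by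
    intro x hx U hUp hUx
    obtain ⟨c, hc⟩ := isConj_iff.1 hx
    set U' := U.map (MulAut.conj c⁻¹).toMonoidHom with hU'
    have hU'C : U' ≤ (Subgroup.centralizer ({g} : Set G)) := by
      rintro _ ⟨u, hu, rfl⟩
      rw [Subgroup.mem_centralizer_singleton_iff]
      have h1 := Subgroup.mem_centralizer_singleton_iff.1 (hUx hu)
      rw [← hc] at h1
      simp only [MulEquiv.coe_toMonoidHom, MulAut.conj_apply, inv_inv]
      calc c⁻¹ * u * c * g = c⁻¹ * (u * (c * g * c⁻¹)) * c := by group
        _ = g * (c⁻¹ * u * c) := by rw [h1]; group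
    have hU'p : IsPGroup p (U'.subgroupOf (Subgroup.centralizer ({g} : Set G))) :=
      (hUp.map _).of_equiv (Subgroup.subgroupOfEquivOfLe hU'C).symm
    obtain ⟨S₁, hS₁⟩ := hU'p.exists_le_sylow
    have h1 := Subgroup.card_le_of_le hS₁
    rw [Nat.card_congr (Subgroup.subgroupOfEquivOfLe hU'C).toEquiv] at h1
    have h2 : Nat.card U' = Nat.card U :=
      Subgroup.card_map_of_injective (MulEquiv.injective _)
    have h3 : Nat.card D = Nat.card (S₀ : Subgroup (Subgroup.centralizer ({g} : Set G))) := by
      rw [hS₀]; exact Subgroup.card_map_of_injective (Subgroup.subtype_injective _)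
    rw [h3, ← h2, Sylow.card_eq_multiplicity S₀, ← Sylow.card_eq_multiplicity S₁]
    exact h1
  set e := idem M B with he
  set K := redFun M (classInd g) with hK
  have hKm : K ∈ alg (Residue M) ⊤ ⊤ := redFun_mem (isClassFunction_classInd g)
  obtain ⟨χ, hχ⟩ := exists_mem_block hB
  -- the class sum is invertible on the block
  have hblk := isBlk_idem hM hB
  obtain ⟨b, hb, hKb⟩ : ∃ b ∈ alg (Residue M) ⊤ ⊤, K * e * b = e := by
    rcases IsPrimIdem.nilpotent_or_inv (alg_comm (k := Residue M) (le_refl (⊤ : Subgroup G)))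
        hblk (mul_mem hKm (idem_mem B)) (by
          rw [alg_commute le_rfl (idem_mem B).1 (mul_mem hKm (idem_mem B)).2, mul_assoc,
            idem_idem hB]) with ⟨n, hn⟩ | h
    · exfalso
      have hlam : ∀ j, lam χ ((K * e) ^ (j + 1)) = (lam χ (K * e)) ^ (j + 1) := by
        intro j
        induction j with
        | zero => simp
        | succ j ih =>
          rw [pow_succ, lam_mul χ (pow_mem (mul_mem hKm (idem_mem B)) _)
            (mul_mem hKm (idem_mem B)), ih, ← pow_succ]
      rcases n with _ | n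
      · exact idem_ne_zero hB (by rw [← mul_one (idem M B), ← pow_zero (K * e), hn, mul_zero])
      · have h1 := hlam n
        rw [hn, lam_zero, lam_mul χ hKm (idem_mem B), lam_idem hB χ, if_pos hχ, mul_one, hK,
          lam_redFun χ (isIntClass_classInd g), omega_classInd] at h1
        exact hg.2.2 χ hχ ((red_eq_zero_iff (centralChar_mem χ g)).1
          (pow_eq_zero_iff (Nat.succ_ne_zero n) |>.1 h1.symm))
    · exact h
  by_contra hcon
  push Not at hcon
  have hP : IsPGroup p (P : Subgroup G) := P.isPGroup'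
  set N := sumOf (Residue M) ((P : Subgroup G) ⊓ Subgroup.centralizer (D : Set G))
  have h0 : N * br D K = 0 := by
    have hcoef : ∀ x : G, (br D K).coeff x ≠ 0 →
        x ∈ Subgroup.centralizer (D : Set G) ∧ IsConj g x := fun x hx => by
      rw [coeff_br] at hx
      split_ifs at hx with h
      · refine ⟨h, ?_⟩
        by_contra hnc
        rw [hK, coeff_redFun, classInd_of_not_isConj hnc, red_zero] at hx
        exact hx rfl
      · exact absurd rfl hx
    refine sumOf_mul_eq_zero hP hDP (suppIn_br K) (fixBy_br (hKm.2.mono le_top) le_rfl) ?_ ?_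
    · intro x hx U hUp hDU hUx
      exact (Subgroup.eq_of_le_of_card_ge hDU (hmax x (hcoef x hx).2 U hUp hUx)).symm
    · intro x hx
      obtain ⟨hxD, hxg⟩ := hcoef x hx
      have hDx : D ≤ Subgroup.centralizer ({x} : Set G) := fun d hd =>
        Subgroup.mem_centralizer_singleton_iff.2 (Subgroup.mem_centralizer_iff.1 hxD d hd)
      have hreg : ¬ p ∣ orderOf x := by
        obtain ⟨c, rfl⟩ := isConj_iff.1 hxg
        rw [show orderOf (c * g * c⁻¹) = orderOf g from (MulAut.conj c).orderOf_eq g]
        exact defectClass_regular hM hB hg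
      obtain ⟨S, hS⟩ := ((hDp.of_equiv
        (Subgroup.subgroupOfEquivOfLe hDx).symm)).exists_le_sylow
      refine hcon x hreg ⟨S, (Subgroup.eq_of_le_of_card_ge ?_ ?_).symm⟩
      · intro d hd
        exact ⟨⟨d, hDx hd⟩, hS hd, rfl⟩
      · exact hmax x hxg _ (S.isPGroup'.map _) (Subgroup.map_subtype_le _)
  have hne : br D e ≠ 0 := by
    intro h
    apply hg.2.1
    have h1 := congrArg (fun a => a.coeff g) h
    simp only [coeff_br, if_pos hgD, he, idem, coeff_redFun, MonoidAlgebra.coeff_zero,
      Finsupp.zero_apply] at h1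
    exact (red_eq_zero_iff hg.1).1 h1
  refine sumOf_mul_ne_zero (hP.to_le inf_le_left)
    (FixBy.mono (fixBy_br ((idem_mem (M := M) B).2.mono le_top) le_rfl)
      (inf_le_right.trans (Subgroup.centralizer_le_normalizer (D : Set G))))
    (br_idem hDp (idem_idem hB) ((idem_mem B).2.mono le_top)) hne ?_
  calc N * br D e = N * (br D K * br D (e * b)) := by
        rw [← br_mul hDp (hKm.2.mono le_top) ((mul_mem (idem_mem B) hb).2.mono le_top),
          ← mul_assoc K e b, hKb]
    _ = 0 := by rw [← mul_assoc, h0, zero_mul]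

end CfsgLib.Green
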