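import Cfsg.Agent.BlocksB.NormalCoverBlocks
import Cfsg.Agent.BrauerPairs.FirstMain
import Cfsg.Agent.BrauerPairs.MaxCriterion

/-!
# Blocks of a normalizer over a Brauer correspondent
-/

namespace CfsgLib.BlockB

open Cfsg CfsgLib.Block CfsgLib.Block.Chr CfsgLib.BrauerPairs CfsgLib.Char

set_option linter.unusedSectionVars false
set_option linter.style.haveILetI false

universe u

local notation "C[" Q "]" => Subgroup.centralizer (SetLike.coe Q)
local notation "N[" Q "]" => Subgroup.normalizer (SetLike.coe Q)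

variable {G : Type u} [Group G] [Fintype G] {M : Ideal AlgInt} [M.IsPrime] {p : ℕ}
  [hp : Fact p.Prime]

/-- Induction from a subgroup between `C(Q)` and `N(Q)` read off from the truncation. -/
theorem induced_iff_br (hM : IsPModular p M) {Q H : Subgroup G} (hQ : IsPGroup p Q) (hQH : Q ≤ H)
    (hCH : C[Q] ≤ H) (hHN : H ≤ N[Q]) {c : Set (IrrCharacter H)} (hc : IsPBlock M c)
    {B : Set (IrrCharacter G)} (hB : IsPBlock M B) :
    IsInducedBlock M H c B ↔ br Q (idem M B) * idemIn M H c = idemIn M H c := by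
  classical
  haveI := charP_residue hM
  haveI := Fintype.ofFinite H
  have hblk := isBlk_idemIn hM hc
  set u := idemIn M H c with hu
  have hbru : br Q u = u := br_eq_self_of_idem hQ hQH hHN hblk.mem hblk.idem
  have hmem : ∀ B' : Set (IrrCharacter G), br Q (idem M B') ∈ alg (Residue M) H H := fun B' =>
    ⟨(suppIn_br _).mono hCH, fixBy_br ((idem_mem B').2.mono le_top) hHN⟩
  have hid : ∀ B' : Set (IrrCharacter G), IsPBlock M B' →
      br Q (idem M B') * br Q (idem M B') = br Q (idem M B') := fun B' hB' =>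
    br_idem hQ (idem_idem hB') ((idem_mem B').2.mono le_top)
  have hS := alg_comm (k := Residue M) (le_refl H)
  have fwd : ∀ B' : Set (IrrCharacter G), IsInducedBlock M H c B' →
      br Q (idem M B') * u = u := by
    intro B' hind
    rw [hS _ (hmem B') _ hblk.mem]
    refine (hblk.mul_eq_zero_or (hmem B') (hid B' hind.2.1)).resolve_left fun h => ?_
    have huC : u ∈ alg (Residue M) C[Q] C[Q] := ⟨hbru ▸ suppIn_br u, hblk.fixBy.mono hCH⟩
    obtain ⟨f, hf, hfu⟩ := exists_blk_below huC hblk.idem hblk.ne_zero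
    have hpair := isPairOf_of_induced_sub hM hQ hQH hCH hind hf (by rw [← hu, hbru]; exact hfu)
    refine hf.ne_zero ?_
    calc f = br Q (idem M B') * (u * f) := by rw [hfu]; exact hpair.2.symm
      _ = 0 := by rw [← mul_assoc, hS _ (hmem B') _ hblk.mem, h, zero_mul]
  refine ⟨fwd B, fun h => ?_⟩
  obtain ⟨B₀, hB₀⟩ := exists_induced hM hQ hQH hCH hHN hc
  suffices B = B₀ by rw [this]; exact hB₀
  by_contra hne
  refine hblk.ne_zero ?_
  have h0 := (isBlk_idem hM hB).mul_eq_zero_of_ne (alg_comm le_rfl) (isBlk_idem hM hB₀.2.1)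
    fun e => hne (idem_injective hB hB₀.2.1 e)
  calc u = br Q (idem M B) * (br Q (idem M B₀) * u) := by rw [fwd B₀ hB₀, h]
    _ = 0 := by
      rw [← mul_assoc, ← br_mul hQ ((idem_mem B).2.mono le_top) ((idem_mem B₀).2.mono le_top), h0,
        map_zero, zero_mul]

/-- The same subgroup seen inside an overgroup carries the same idempotent. -/
theorem emb_idemIn_mapSet {S K : Subgroup G} [Fintype S] {K' : Subgroup S} (φ : K ≃* K')
    (hφ : ∀ x : K, ((φ x : S) : G) = x) (hKS : K ≤ S) (c : Set (IrrCharacter K)) :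
    emb S (idemIn M K' (mapSet φ c)) = idemIn M K c := by
  classical
  refine coeff_ext fun g => ?_
  rw [coeff_idemIn]
  by_cases hgS : g ∈ S
  swap
  · rw [coeff_emb_not_mem S _ hgS, subgroupBlockCoeff_not_mem c fun h => hgS (hKS h), red_zero]
  obtain ⟨s, rfl⟩ : ∃ s : S, (s : G) = g := ⟨⟨g, hgS⟩, rfl⟩
  rw [coeff_emb_coe, coeff_idemIn]
  by_cases hgK : (s : G) ∈ K
  · obtain ⟨x, hx⟩ : ∃ x : K, (x : G) = s := ⟨⟨_, hgK⟩, rfl⟩
    have hxs : (φ x : S) = s := Subtype.ext ((hφ x).trans hx)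
    rw [← hx, subgroupBlockCoeff_coe, ← hxs, subgroupBlockCoeff_coe, blockCoeff_map]
  · rw [subgroupBlockCoeff_not_mem c hgK, subgroupBlockCoeff_not_mem]
    intro hs
    exact hgK (by
      have := hφ (φ.symm ⟨s, hs⟩)
      rw [MulEquiv.apply_symm_apply] at this
      rw [show (s : G) = _ from this]
      exact SetLike.coe_mem _)

/-- The correspondent of a block of a normal subgroup is its truncation. -/
theorem br_idemIn_eq_of_inducedIn (hM : IsPModular p M) {N L Q : Subgroup G} [Fintype N]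
    (hQN : Q ≤ N) (hQ : IsPGroup p Q) (hL : L = N[Q] ⊓ N)
    {d : Set (IrrCharacter N)} (hdQ : IsDefectGroup p M d (Q.subgroupOf N))
    {e : Set (IrrCharacter L)} (hed : IsInducedBlockIn M N L e d) :
    br Q (idemIn M N d) = idemIn M L e := by
  classical
  haveI := charP_residue hM
  obtain ⟨he, hd, hcong⟩ := hed
  have hLN : L ≤ N := hL ▸ inf_le_right
  set Q' := Q.subgroupOf N
  set L' := L.subgroupOf N with hL'def
  let φ : L ≃* L' := (Subgroup.subgroupOfEquivOfLe hLN).symm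
  have hφ : ∀ x : L, ((φ x : N) : G) = x := fun x => rfl
  set e' := mapSet φ e with he'def
  have hQ' : IsPGroup p Q' := hQ.of_equiv (Subgroup.subgroupOfEquivOfLe hQN).symm
  have hQmap : Q'.map N.subtype = Q := Subgroup.map_subgroupOf_eq_of_le hQN
  have hQL' : Q' ≤ L' := fun x hx => by
    rw [hL'def, Subgroup.mem_subgroupOf, hL]
    exact ⟨Subgroup.le_normalizer hx, x.2⟩
  have hmemN : ∀ x : N, x ∈ N[Q'] ↔ (x : G) ∈ N[Q] := by
    intro x
    rw [Subgroup.mem_normalizer_iff, Subgroup.mem_normalizer_iff]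
    refine ⟨fun h y => ⟨fun hy => (h ⟨y, hQN hy⟩).1 hy, fun hy => ?_⟩, fun h y => h y⟩
    have hy' : y ∈ N := by
      have := mul_mem (mul_mem (N.inv_mem x.2) (hQN hy)) x.2
      simpa [mul_assoc] using this
    exact (h ⟨y, hy'⟩).2 hy
  have hNL' : N[Q'] = L' := by
    ext x
    rw [hmemN, hL'def, Subgroup.mem_subgroupOf, hL, Subgroup.mem_inf]
    exact ⟨fun h => ⟨h, x.2⟩, fun h => h.1⟩
  have hCL' : C[Q'] ≤ L' := hNL' ▸ CfsgLib.BrauerPairs.centralizer_le_normalizer Q'
  have he' : IsPBlock M e' := isPBlock_mapSet φ he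
  have hind : IsInducedBlock M L' e' d := by
    refine ⟨he', hd, fun ξ' hξ' χ hχ g => ?_⟩
    obtain ⟨ξ, hξ, rfl⟩ := hξ'
    convert hcong ξ hξ χ hχ g using 2
    rw [inducedCentralChar, inducedCentralCharIn]
    refine finsum_mem_eq_of_bijOn φ.symm ⟨fun k hk => ?_, φ.symm.injective.injOn, fun l hl => ?_⟩
      fun k hk => ?_
    · obtain ⟨x, hx⟩ := isConj_iff.1 hk
      refine ⟨x⁻¹, ?_⟩
      show ((x⁻¹ : N) : G) * ((φ.symm k : L) : G) * ((x⁻¹ : N) : G)⁻¹ = g
      rw [← hφ (φ.symm k), MulEquiv.apply_symm_apply, ← hx]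
      simp [mul_assoc]
    · obtain ⟨x, hx⟩ := hl
      refine ⟨φ l, isConj_iff.2 ⟨x⁻¹, Subtype.ext ?_⟩, φ.symm_apply_apply l⟩
      rw [Subgroup.coe_mul, Subgroup.coe_mul, Subgroup.coe_inv, Subgroup.coe_inv, hφ l, ← hx]
      simp [mul_assoc]
    · simp only [mapChar_apply, map_one]
  have h1 := (induced_iff_br hM hQ' hQL' hCL' (le_of_eq hNL'.symm) he' hd).1 hind
  have hdef := isDef_of_isDefectGroup hM hd hdQ
  have hprim := (br_isPrimIdem (H := (⊤ : Subgroup N)) le_top (isBlk_idem hM hd) hdef).1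
  have hblk' := isBlk_idemIn hM he'
  have hu' : idemIn M L' e' ∈ alg (Residue M) C[Q'] N[Q'] :=
    ⟨br_eq_self_of_idem hQ' hQL' hNL'.symm.le hblk'.mem hblk'.idem ▸ suppIn_br _,
      hblk'.fixBy.mono hNL'.le⟩
  have h2 : br Q' (idem M d) = idemIn M L' e' := by
    rcases hprim.mul_eq_zero_or hu' hblk'.idem with h | h
    · exact absurd (h1.symm.trans h) hblk'.ne_zero
    · exact h.symm.trans h1
  calc br Q (idemIn M N d) = emb N (br Q' (idem M d)) := by rw [idemIn_eq, ← hQmap, br_emb]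
    _ = idemIn M L e := by rw [h2, he'def, emb_idemIn_mapSet φ hφ hLN]

/-- Covering inside an intermediate group, in the group algebra of the whole group. -/
theorem cover_iff (hM : IsPModular p M) {H L : Subgroup G} [Fintype H] [Fintype L] (hLH : L ≤ H)
    [(L.subgroupOf H).Normal] {c : Set (IrrCharacter H)} (hc : IsPBlock M c)
    {e : Set (IrrCharacter L)} (he : IsPBlock M e) :
    (∃ ψ ∈ c, ∃ ξ ∈ e, classInner (fun l : L => (ψ : H → ℂ) (Subgroup.inclusion hLH l))
      (ξ : L → ℂ) ≠ 0) ↔ idemIn M H c * idemIn M L e ≠ 0 := by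
  classical
  haveI : Fintype (L.subgroupOf H) := Fintype.ofFinite _
  set φ := (Subgroup.subgroupOfEquivOfLe hLH).symm
  have hφ : ∀ x : L, ((φ x : H) : G) = x := fun x => rfl
  have he' := isPBlock_mapSet (M := M) φ he
  have hkey : idemIn M H c * idemIn M L e =
      emb H (idem M c * idemIn M (L.subgroupOf H) (mapSet φ e)) := by
    rw [map_mul, ← idemIn_eq, emb_idemIn_mapSet φ hφ hLH]
  have hinner : ∀ (ψ : IrrCharacter H) (ξ : IrrCharacter L),
      classInner (fun n : L.subgroupOf H => (ψ : H → ℂ) n) (mapChar φ ξ : L.subgroupOf H → ℂ) =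
        classInner (fun l : L => (ψ : H → ℂ) (Subgroup.inclusion hLH l)) (ξ : L → ℂ) := by
    intro ψ ξ
    simp only [classInner]
    rw [Nat.card_congr φ.toEquiv.symm, ← Equiv.sum_comp φ.toEquiv]
    congr 1
  rw [hkey, Ne, map_eq_zero_iff _ (emb_injective H)]
  constructor
  · rintro ⟨ψ, hψ, ξ, hξ, h⟩
    exact mul_idemIn_ne_zero_of_covered hM hc he' hψ ⟨ξ, hξ, rfl⟩ (by rw [hinner]; exact h)
  · intro h
    obtain ⟨ψ, hψ, θ, ⟨ξ, hξ, rfl⟩, h'⟩ := covered_of_mul_ne_zero hM hc he' h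
    exact ⟨ψ, hψ, ξ, hξ, by rw [← hinner]; exact h'⟩

/-- A defect group of a block of `N(Q)` over `e` meets `N` in `Q`. -/
theorem exists_defect_inf_eq (hM : IsPModular p M) {N Q : Subgroup G} [N.Normal]
    (hQN : Q ≤ N) (hQ : IsPGroup p Q) {H L : Subgroup G} [Fintype H] [Fintype L] (hH : H = N[Q])
    (hL : L = H ⊓ N) {c : Set (IrrCharacter H)} (hc : IsPBlock M c) {e : Set (IrrCharacter L)}
    (he : IsPBlock M e) (heQ : IsDefMax p L (idemIn M L e) Q)
    (hne : idemIn M H c * idemIn M L e ≠ 0) :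
    ∃ D, IsDefect p H H (idemIn M H c) D ∧ D ⊓ N = Q := by
  classical
  haveI := charP_residue hM
  have hLH : L ≤ H := hL ▸ inf_le_left
  haveI : (L.subgroupOf H).Normal := by
    refine (Subgroup.normal_subgroupOf_iff_le_normalizer hLH).2 fun x hx => ?_
    rw [Subgroup.mem_normalizer_iff]
    intro w
    have h2 : w ∈ N ↔ x * w * x⁻¹ ∈ N :=
      ⟨fun h => Subgroup.Normal.conj_mem ‹_› _ h x,
        fun h => by simpa [mul_assoc] using Subgroup.Normal.conj_mem ‹_› _ h x⁻¹⟩
    have h1 : w ∈ H ↔ x * w * x⁻¹ ∈ H :=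
      ⟨fun h => H.mul_mem (H.mul_mem hx h) (H.inv_mem hx), fun h => by
        simpa [mul_assoc] using H.mul_mem (H.mul_mem (H.inv_mem hx) h) hx⟩
    simp only [hL, Subgroup.mem_inf, h1, h2]
  haveI : Fintype (L.subgroupOf H) := Fintype.ofFinite _
  obtain ⟨D', hD'⟩ := exists_defectGroup hc hM
  have hmax := (isDefectGroup_sub_iff hM H hc D').1 hD'
  set D := D'.map H.subtype with hDdef
  have hblk := isBlk_idemIn hM hc
  have hQH : Q ≤ H := hH ▸ Subgroup.le_normalizer
  have hHN : H ≤ N[Q] := hH.le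
  refine ⟨D, (isDefect_iff_isDefMax hblk le_rfl Subgroup.le_normalizer).2 hmax, ?_⟩
  -- `Q` lies in `D`
  have husupp : SuppIn C[Q] (idemIn M H c) :=
    br_eq_self_of_idem hQ hQH hHN hblk.mem hblk.idem ▸ suppIn_br _
  have hQD : Q ≤ D := by
    have hR : IsPGroup p (Q ⊔ D : Subgroup G) :=
      hQ.to_sup_of_normal_left' hmax.1 (hmax.2.1.trans hHN)
    have h := hmax.2.2.2 _ hR (sup_le hQH hmax.2.1) (by rw [br_sup_eq husupp]; exact hmax.2.2.1)
    exact le_sup_left.trans (Subgroup.eq_of_le_of_card_ge le_sup_right h).ge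
  -- a conjugate of `e` survives at `D`
  set φ := (Subgroup.subgroupOfEquivOfLe hLH).symm
  have hφ : ∀ x : L, ((φ x : H) : G) = x := fun x => rfl
  have he' := isPBlock_mapSet (M := M) φ he
  have hne' : idem M c * idemIn M (L.subgroupOf H) (mapSet φ e) ≠ 0 := by
    intro h0
    refine hne ?_
    rw [idemIn_eq (H := H), ← emb_idemIn_mapSet φ hφ hLH, ← map_mul, h0, map_zero]
  obtain ⟨ψ, hψ, ξ', hξ', hcov⟩ := covered_of_mul_ne_zero hM hc he' hne'
  have hdef' := isDef_of_isDefectGroup hM hc hD'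
  obtain ⟨d, hd, -, hprod, hbrd⟩ :=
    exists_fixed_covered (N := L.subgroupOf H) hM hc hdef'.1 hdef'.2.2.2
  obtain ⟨h, -, hde⟩ := exists_conj_of_mul_ne_zero hM hc he' hd hψ hξ' hcov hprod
  set ε := idemIn M L e
  have hbrD : br D (cj (Residue M) ((h⁻¹ : H) : G) ε) ≠ 0 := by
    rw [show ε = emb H (idemIn M (L.subgroupOf H) (mapSet φ e)) from
      (emb_idemIn_mapSet φ hφ hLH e).symm, cj_emb, ← hde, hDdef, br_emb_eq, Ne,
      map_eq_zero_iff _ (emb_injective H)]
    exact hbrd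
  set R := D ⊓ N
  have hbrR : br (R.map (MulAut.conj (h : G)).toMonoidHom) ε ≠ 0 := by
    intro h0
    refine hbrD ?_
    rw [← br_br_of_le (inf_le_left : R ≤ D)]
    suffices br R (cj (Residue M) ((h⁻¹ : H) : G) ε) = 0 by rw [this, map_zero]
    have h1 := cj_br (k := Residue M) (P := R) (h : G) (cj (Residue M) ((h⁻¹ : H) : G) ε)
    rw [Subgroup.coe_inv, cj_cj_inv, h0] at h1
    rw [Subgroup.coe_inv]
    exact (EmbeddingLike.map_eq_zero_iff).1 h1
  have hRL : R.map (MulAut.conj (h : G)).toMonoidHom ≤ L := by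
    rintro _ ⟨r, hr, rfl⟩
    rw [hL]
    exact ⟨H.mul_mem (H.mul_mem h.2 (hmax.2.1 hr.1)) (H.inv_mem h.2),
      Subgroup.Normal.conj_mem ‹_› r hr.2 _⟩
  have hcard := heQ.2.2.2 _ ((hmax.1.to_le inf_le_left).map _) hRL hbrR
  rw [Subgroup.card_map_of_injective (f := (MulAut.conj (h : G)).toMonoidHom)
    (MulEquiv.injective _)] at hcard
  exact (Subgroup.eq_of_le_of_card_ge (le_inf hQD hQN) hcard).symm

/-- Two blocks of `N(Q)` over `e` inducing one block are equal. -/
theorem eq_of_induced_of_covering (hM : IsPModular p M) {N Q : Subgroup G} [N.Normal]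
    (hQN : Q ≤ N) (hQ : IsPGroup p Q) {H L : Subgroup G} [Fintype H] [Fintype L] (hH : H = N[Q])
    (hL : L = H ⊓ N) {e : Set (IrrCharacter L)}
    (he : IsPBlock M e) (heQ : IsDefMax p L (idemIn M L e) Q) {B : Set (IrrCharacter G)}
    {c c' : Set (IrrCharacter H)} (hc : IsInducedBlock M H c B) (hc' : IsInducedBlock M H c' B)
    (hne : idemIn M H c * idemIn M L e ≠ 0) (hne' : idemIn M H c' * idemIn M L e ≠ 0) :
    c = c' := by
  classical
  haveI := charP_residue hM
  have hQH : Q ≤ H := hH ▸ Subgroup.le_normalizer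
  have hCH : C[Q] ≤ H := hH ▸ CfsgLib.BrauerPairs.centralizer_le_normalizer Q
  have hB := isBlk_idem hM hc.2.1
  have key : ∀ {c : Set (IrrCharacter H)}, IsInducedBlock M H c B →
      idemIn M H c * idemIn M L e ≠ 0 →
      ∃ D, D ⊓ N = Q ∧ N[D] ≤ H ∧ IsDefect p H H (idemIn M H c) D ∧
        IsDef p (idem M B) D ∧ br D (idem M B) = br D (idemIn M H c) := by
    intro c hc hne
    obtain ⟨D, hD, hDN⟩ := exists_defect_inf_eq hM hQN hQ hH hL hc.1 he heQ hne
    have hND : N[D] ≤ H := by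
      intro x hx
      rw [hH, ← hDN, Subgroup.mem_normalizer_iff]
      intro w
      have h1 := Subgroup.mem_normalizer_iff.1 hx w
      have h2 : w ∈ N ↔ x * w * x⁻¹ ∈ N :=
        ⟨fun h => Subgroup.Normal.conj_mem ‹_› _ h x,
          fun h => by simpa [mul_assoc] using Subgroup.Normal.conj_mem ‹_› _ h x⁻¹⟩
      simp only [Subgroup.mem_inf, h1, h2]
    have hblk := isBlk_idemIn hM hc.1
    have hQD : Q ≤ D := hDN ▸ inf_le_left
    obtain ⟨hprim, hdef⟩ := br_isPrimIdem hND hblk hD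
    have hmul : br D (idem M B) * br D (idemIn M H c) = br D (idemIn M H c) := by
      have h1 := congrArg (br D)
        ((induced_iff_br hM hQ hQH hCH hH.le hc.1 hc.2.1).1 hc)
      rwa [br_mul hD.1 (fixBy_br ((idem_mem B).2.mono le_top) (hD.2.1.trans hH.le))
        (hblk.fixBy.mono hD.2.1), br_br_of_le hQD] at h1
    obtain ⟨b₀, ⟨hb₀, hb₀D, hb₀br⟩, -⟩ :=
      existsUnique_of_prim (H := (⊤ : Subgroup G)) le_top hprim hdef
    have heq : b₀ = idem M B := by
      by_contra hne'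
      refine hprim.ne_zero ?_
      have h0 := congrArg (br D) (hB.mul_eq_zero_of_ne (alg_comm le_rfl) hb₀ (Ne.symm hne'))
      rw [br_mul hD.1 ((idem_mem B).2.mono le_top) (hb₀.fixBy.mono le_top), hb₀br, map_zero, hmul]
        at h0
      exact h0
    subst heq
    exact ⟨D, hDN, hND, hD, hb₀D, hb₀br⟩
  obtain ⟨D, hDN, -, hD, hDB, hbr⟩ := key hc hne
  obtain ⟨D', hDN', -, hD', hDB', hbr'⟩ := key hc' hne'
  obtain ⟨x, -, hx⟩ := hDB.conj hDB'
  have hxH : x ∈ H := by
    have hQx : Q.map (MulAut.conj x).toMonoidHom = Q := by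
      conv_lhs => rw [← hDN']
      rw [Subgroup.map_inf _ _ _ (MulEquiv.injective _), hx, map_conj_eq_self, hDN]
      rw [Subgroup.normalizer_eq_top]; trivial
    rw [hH, Subgroup.mem_normalizer_iff]
    intro w
    constructor
    · intro hw; rw [← hQx]; exact ⟨w, hw, rfl⟩
    · intro hw
      rw [← hQx] at hw
      obtain ⟨v, hv, hv'⟩ := hw
      rwa [← (MulAut.conj x).injective hv']
  have hblk := isBlk_idemIn hM hc.1
  have hblk' := isBlk_idemIn hM hc'.1
  have hbr'' : br D (idem M B) = br D (idemIn M H c') := by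
    have h := congrArg (cj (Residue M) x) hbr'
    rw [cj_br, cj_br, hx, (idem_mem B).2 x trivial, hblk'.fixBy x hxH] at h
    exact h
  by_contra hcc
  refine hD.2.2.2 ?_
  have h0 := hblk.mul_eq_zero_of_ne (alg_comm le_rfl) hblk'
    fun h => hcc (idemIn_injective hc.1 hc'.1 h)
  calc br D (idemIn M H c) = br D (idem M B) * br D (idem M B) := by
        rw [br_idem hD.1 (idem_idem hc.2.1) ((idem_mem B).2.mono le_top), hbr]
    _ = br D (idemIn M H c) * br D (idemIn M H c') := by nth_rewrite 1 [hbr]; rw [hbr'']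
    _ = 0 := by rw [← br_mul hD.1 (hblk.fixBy.mono hD.2.1) (hblk'.fixBy.mono hD.2.1), h0, map_zero]

end CfsgLib.BlockB
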