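import Cfsg.Agent.BlocksB.CentralIdempotent
import Cfsg.Agent.Char.CosetConj
import Cfsg.Agent.Char.ExtendInv

/-!
# Supports of central idempotents vanishing on singular elements

Let `N` be a normal `p'`-subgroup, `L/N` a normal `p`-subgroup and `η` an invariant character of
`L` restricting irreducibly to `N`.  An idempotent class function in the block of `η|_N` which
vanishes at the `p`-singular elements is supported on the elements centralising `L/N`.  The proof
compares two evaluations of a quadratic sum.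
-/

set_option autoImplicit false
set_option linter.unusedSectionVars false
set_option linter.style.haveILetI false

namespace CfsgLib.Block.CentralIdem

open Cfsg Finset CfsgLib.Block CfsgLib.Block.Chr
open scoped ComplexConjugate

universe u

variable {G : Type u} [Group G] [Fintype G] {p : ℕ}

theorem not_dvd_orderOf_mul_iff [hp : Fact p.Prime] {N : Subgroup G} [N.Normal]
    (hN : ¬ p ∣ Nat.card N) (x : G) :
    p ∣ orderOf x ↔ p ∣ orderOf (QuotientGroup.mk' N x) := by
  refine ⟨fun h => ?_, fun h => h.trans (orderOf_map_dvd _ x)⟩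
  have hpow : x ^ orderOf (QuotientGroup.mk' N x) ∈ N := by
    rw [← QuotientGroup.eq_one_iff, QuotientGroup.mk_pow]
    exact pow_orderOf_eq_one _
  have h1 : orderOf x ∣ orderOf (QuotientGroup.mk' N x) * Nat.card N := by
    apply orderOf_dvd_of_pow_eq_one
    rw [pow_mul]
    exact congrArg Subtype.val (pow_card_eq_one' (x := (⟨_, hpow⟩ : N)))
  exact (hp.out.dvd_mul.1 (h.trans h1)).resolve_right hN

theorem dvd_orderOf_mul_mem [Fact p.Prime] {N : Subgroup G} [N.Normal]
    (hN : ¬ p ∣ Nat.card N) (x : G) {n : G} (hn : n ∈ N) :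
    p ∣ orderOf (x * n) ↔ p ∣ orderOf x := by
  rw [not_dvd_orderOf_mul_iff hN, not_dvd_orderOf_mul_iff hN x, map_mul,
    (QuotientGroup.eq_one_iff n).2 hn |> (fun h : (QuotientGroup.mk' N) n = 1 => h), mul_one]

theorem mem_of_mem_pQuotient [hp : Fact p.Prime] {N L : Subgroup G} [N.Normal]
    {a : ℕ} (ha : N.relIndex L = p ^ a) {x : G} (hx : x ∈ L) (hr : ¬ p ∣ orderOf x) : x ∈ N := by
  have h1 : x ^ p ^ a ∈ N := by
    have := Subgroup.pow_index_mem (N.subgroupOf L) (⟨x, hx⟩ : L)
    rw [Subgroup.mem_subgroupOf] at this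
    rw [← ha]
    exact this
  obtain ⟨c, hc⟩ := exists_pow_eq_self_of_coprime
    ((hp.out.coprime_iff_not_dvd.2 hr).pow_left a)
  rw [← hc]
  exact N.pow_mem h1 c

/-- Conjugacy inside a coset of a `p`-section. -/
theorem exists_conj_coset [hp : Fact p.Prime] {N L : Subgroup G} [N.Normal] [hLn : L.Normal]
    {a : ℕ} (ha : N.relIndex L = p ^ a) {g v : G} (hg : ¬ p ∣ orderOf g)
    (hv : v ∈ L) (hgv : ¬ p ∣ orderOf (g * v)) :
    ∃ u ∈ L, ∃ n ∈ N, g * v = u⁻¹ * (g * n) * u := by
  set π := QuotientGroup.mk' N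
  have hcard : Nat.card (L.map π) = p ^ a := by
    rw [← ha, ← Subgroup.relIndex_ker, QuotientGroup.ker_mk']
  have hgo : ¬ p ∣ orderOf (π g) := fun h => hg (h.trans (orderOf_map_dvd _ g))
  have hgvo : ¬ p ∣ orderOf (π (g * v)) := fun h => hgv (h.trans (orderOf_map_dvd _ _))
  have hcop : Nat.Coprime (orderOf (π g)) (Nat.card (L.map π)) := by
    rw [hcard]
    exact ((hp.out.coprime_iff_not_dvd.2 hgo).pow_left a).symm
  haveI : (L.map π).Normal := hLn.map π (QuotientGroup.mk'_surjective N)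
  obtain ⟨x, hx, c, hc, hcg, hxc⟩ := CfsgLib.Char.exists_conj_mem_centralizer_mul (L.map π) (π g)
    (fun h hh => Subgroup.Normal.conj_mem inferInstance h hh _) hcop (π g * π v * (π g)⁻¹)
    (Subgroup.Normal.conj_mem inferInstance _ (Subgroup.mem_map_of_mem _ hv) _)
  rw [inv_mul_cancel_right, ← map_mul] at hxc
  have hco : ¬ p ∣ orderOf (c * π g) := by
    rw [← hxc, show orderOf (x * π (g * v) * x⁻¹) = orderOf (π (g * v)) from
      (MulAut.conj x).orderOf_eq _]
    exact hgvo
  have hc1 : c = 1 := by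
    have hcp : orderOf c ∣ p ^ a := by
      rw [← hcard]
      exact (Subgroup.orderOf_coe (⟨c, hc⟩ : L.map π)).symm ▸ orderOf_dvd_natCard _
    have hcd : orderOf c ∣ (orderOf (c * π g) * orderOf (π g)) := by
      have : Commute (c * π g) (π g)⁻¹ :=
        ((show Commute c (π g) from hcg).mul_left (Commute.refl _)).inv_right
      have h1 := this.orderOf_mul_dvd_mul_orderOf
      rwa [orderOf_inv, mul_inv_cancel_right] at h1
    have hcop' : Nat.Coprime (p ^ a) (orderOf (c * π g) * orderOf (π g)) :=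
      ((hp.out.coprime_iff_not_dvd.2 fun h => (hp.out.dvd_mul.1 h).elim hco hgo)).pow_left a
    exact orderOf_eq_one_iff.1 (Nat.eq_one_of_dvd_coprimes hcop' hcp hcd)
  rw [hc1, one_mul] at hxc
  obtain ⟨u, hu, rfl⟩ := hx
  refine ⟨u, hu, g⁻¹ * (u * (g * v) * u⁻¹), ?_, by group⟩
  rw [← QuotientGroup.eq_one_iff]
  show π (g⁻¹ * (u * (g * v) * u⁻¹)) = 1
  rw [map_mul, map_mul _ (u * (g * v)) u⁻¹, map_mul _ u, map_inv, map_inv, hxc, inv_mul_cancel]

section Twist

variable {N L : Subgroup G} [hNn : N.Normal] [hLn : L.Normal]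

/-- The twisted sums over the cosets of `N` agree. -/
theorem sum_coset_eq [Fintype N] (hNL : N ≤ L) {m : ℕ} (R : Representation ℂ L (Fin m → ℂ))
    (hirr : Representation.IsIrreducible
      (R.comp (Subgroup.inclusion hNL) : Representation ℂ N (Fin m → ℂ)))
    (hinv : ∀ (g : G) (v : L), R.character (MulAut.conjNormal g v) = R.character v)
    {e : G → ℂ} (he : IsClassFunction G e) (g : G) {v u n₀ : G} (hv : v ∈ L) (hu : u ∈ L)
    (hn₀ : n₀ ∈ N) (hguv : g * v = u⁻¹ * (g * n₀) * u) :
    ∑ n : N, e (g * (v * (n : G))) * R.character ⟨v * n, L.mul_mem hv (hNL n.2)⟩ =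
      ∑ n : N, e (g * (n : G)) * R.character (Subgroup.inclusion hNL n) := by
  let φ : L →* L := (MulAut.conjNormal g⁻¹ : MulAut L).toMonoidHom
  have hφ : ∀ x : L, (φ x : G) = g⁻¹ * x * g := fun x => by
    simp [φ]
  set ι : N →* L := Subgroup.inclusion hNL with hι
  set A : Module.End ℂ (Fin m → ℂ) := ∑ n : N, e (g * (n : G)) • R (ι n) with hA
  obtain ⟨E⟩ := CfsgLib.Char.equiv_of_character_eq R
    (R.comp φ : Representation ℂ L (Fin m → ℂ)) (funext fun x => (hinv g⁻¹ x).symm)
  set S : Module.End ℂ (Fin m → ℂ) := E.toLinearEquiv.toLinearMap with hS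
  set S' : Module.End ℂ (Fin m → ℂ) := E.toLinearEquiv.symm.toLinearMap with hS'
  have hSS' : S * S' = 1 := LinearMap.ext fun w => E.toLinearEquiv.apply_symm_apply w
  have hS'S : S' * S = 1 := LinearMap.ext fun w => E.toLinearEquiv.symm_apply_apply w
  have hcomm : ∀ x : L, S * R x = R (φ x) * S := fun x =>
    E.toIntertwiningMap.isIntertwining' x
  have hφA : ∀ k : N, R (φ (ι k)) * A = A * R (ι k) := by
    intro k
    rw [hA, mul_sum, sum_mul]
    have hk : g⁻¹ * (k : G) * g ∈ N := by simpa using hNn.conj_mem _ k.2 g⁻¹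
    refine Fintype.sum_equiv
      ((Equiv.mulLeft (⟨g⁻¹ * (k : G) * g, hk⟩ : N)).trans (Equiv.mulRight k⁻¹)) _ _ fun n => ?_
    simp only [Equiv.trans_apply, Equiv.coe_mulLeft, Equiv.coe_mulRight, mul_smul_comm,
      smul_mul_assoc, ← map_mul]
    congr 1
    · rw [← he (g * (n : G)) (k : G)]
      congr 1
      simp only [Subgroup.coe_mul, Subgroup.coe_inv]
      group
    · congr 1
      apply Subtype.ext
      simp only [Subgroup.coe_mul, hι, Subgroup.coe_inclusion, hφ, Subgroup.coe_inv]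
      group
  haveI := hirr
  obtain ⟨c, hc⟩ := CfsgLib.Char.scalar_of_commute_all
    (R.comp ι : Representation ℂ N (Fin m → ℂ)) (S' * A) fun k => by
      show R (ι k) * (S' * A) = S' * A * R (ι k)
      have h1 : R (ι k) * S' = S' * R (φ (ι k)) := by
        calc R (ι k) * S' = S' * (S * R (ι k)) * S' := by
              rw [← mul_assoc S', hS'S, one_mul]
          _ = S' * (R (φ (ι k)) * S) * S' := by rw [hcomm]
          _ = S' * R (φ (ι k)) := by rw [mul_assoc, mul_assoc (R _), hSS', mul_one]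
      rw [← mul_assoc, h1, mul_assoc, hφA, ← mul_assoc]
  have hAS : A = c • S := by
    rw [← one_mul A, ← hSS', mul_assoc, hc, mul_smul_comm, mul_one]
  have hAL : ∀ x : L, R (φ x) * A = A * R x := fun x => by
    rw [hAS, mul_smul_comm, smul_mul_assoc, hcomm]
  -- evaluate
  let uL : L := ⟨u, hu⟩
  have hbij : ∀ n : N, n₀ * (u * (n : G) * u⁻¹) ∈ N := fun n =>
    N.mul_mem hn₀ (hNn.conj_mem _ n.2 u)
  let β : N ≃ N := (MulAut.conjNormal u : MulAut N).toEquiv.trans (Equiv.mulLeft ⟨n₀, hn₀⟩)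
  have hβ : ∀ n : N, (β n : G) = n₀ * (u * (n : G) * u⁻¹) := fun n => by
    simp [β, MulAut.conjNormal_apply]
  have hrhs : ∑ n : N, e (g * (n : G)) * R.character (ι n) = LinearMap.trace ℂ _ A := by
    rw [hA, map_sum]
    exact sum_congr rfl fun n _ => by rw [map_smul, smul_eq_mul]; rfl
  have hmat : LinearMap.trace ℂ (Fin m → ℂ) A =
      LinearMap.trace ℂ (Fin m → ℂ) (R (φ uL⁻¹) * A * R uL) := by
    rw [hAL, mul_assoc, ← map_mul, inv_mul_cancel, map_one, mul_one]
  rw [hrhs, hmat, hA, mul_sum, sum_mul, map_sum]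
  refine Fintype.sum_equiv β _ _ fun n => ?_
  rw [mul_smul_comm, smul_mul_assoc, map_smul, smul_eq_mul, ← map_mul, ← map_mul]
  congr 1
  · rw [hβ, ← he (g * (n₀ * (u * (n : G) * u⁻¹))) u⁻¹, ← mul_assoc g v, hguv]
    congr 1
    group
  · show R.character _ = R.character _
    congr 1
    apply Subtype.ext
    simp only [Subgroup.coe_mul, hι, Subgroup.coe_inclusion, hφ, Subgroup.coe_inv, hβ, uL]
    calc v * (n : G) = g⁻¹ * (g * v) * (n : G) := by group
      _ = _ := by rw [hguv]; group

/-- **The support lemma.** -/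
theorem support_centralizes [hp : Fact p.Prime] [Fintype N] (hNL : N ≤ L)
    (hN : ¬ p ∣ Nat.card N) {a : ℕ} (ha : N.relIndex L = p ^ a) {η : L → ℂ}
    (hη : IsIrrCharacter L η)
    (hres : IsIrrCharacter N (fun n : N => η (Subgroup.inclusion hNL n)))
    (hinv : ∀ (g : G) (v : L), η (MulAut.conjNormal g v) = η v)
    {e : G → ℂ} (he : IsClassFunction G e) (hee : conv e e = e)
    (hreg : ∀ x, p ∣ orderOf x → e x = 0) {K : ℂ} (hK : K ≠ 0)
    (hθ : ∀ g, ∑ n : N, e (g * (n : G)) * η (Subgroup.inclusion hNL n) = K * e g) :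
    ∀ g, e g ≠ 0 → ∀ v ∈ L, g⁻¹ * v * g * v⁻¹ ∈ N := by
  classical
  obtain ⟨m, R, -, rfl⟩ := hη
  obtain ⟨m', σ, hσ, hσe⟩ := hres
  obtain ⟨E⟩ := CfsgLib.Char.equiv_of_character_eq σ
    (R.comp (Subgroup.inclusion hNL) : Representation ℂ N (Fin m → ℂ)) hσe
  haveI := hσ
  have hirr := CfsgLib.Char.isIrreducible_of_equiv E
  let X : G → Finset L := fun g => univ.filter fun v : L => ¬ p ∣ orderOf (g * (v : G))
  let Z : Finset L := univ.filter fun v : L => (v : G) ∈ N
  have hcardZ : Z.card = Nat.card N := by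
    rw [← Nat.card_congr (Subgroup.subgroupOfEquivOfLe hNL).toEquiv,
      ← Nat.card_eq_finsetCard Z]
    exact Nat.card_congr ((Equiv.refl L).subtypeEquiv fun v => by
      simp [Z, Subgroup.mem_subgroupOf])
  have hZX : ∀ g, ¬ p ∣ orderOf g → Z ⊆ X g := fun g hg v hv => by
    simp only [Z, X, mem_filter, mem_univ, true_and] at hv ⊢
    rwa [dvd_orderOf_mul_mem hN g hv]
  -- the inner sum
  have hinner : ∀ g, ¬ p ∣ orderOf g →
      (Nat.card N : ℂ) * ∑ v : L, e (g * (v : G)) * R.character v =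
        ((X g).card : ℂ) * (K * e g) := by
    intro g hg
    set F : L → ℂ := fun v => e (g * (v : G)) * R.character v with hF
    have h1 : (Nat.card N : ℂ) * ∑ v : L, F v =
        ∑ v : L, ∑ n : N, F (v * Subgroup.inclusion hNL n) := by
      rw [sum_comm, Nat.card_eq_fintype_card, ← card_univ, ← nsmul_eq_mul, ← sum_const]
      exact sum_congr rfl fun n _ =>
        (Equiv.sum_comp (Equiv.mulRight (Subgroup.inclusion hNL n)) F).symm
    rw [h1, ← nsmul_eq_mul, ← sum_const, sum_filter]
    refine sum_congr rfl fun v _ => ?_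
    split_ifs with h
    · refine sum_eq_zero fun n _ => ?_
      have h0 : e (g * ((v : G) * (n : G))) = 0 := hreg _ (by
        rw [← mul_assoc, dvd_orderOf_mul_mem hN _ n.2]; exact h)
      simp [hF, h0]
    · obtain ⟨u, hu, n₀, hn₀, hguv⟩ := exists_conj_coset ha hg v.2 h
      rw [← hθ g, ← sum_coset_eq hNL R hirr hinv he g v.2 hu hn₀ hguv]
      rfl
  -- two evaluations
  have hA : ∑ g : G, e g⁻¹ * ∑ v : L, e (g * (v : G)) * R.character v = K * e 1 := by
    have h0 := hθ 1
    simp only [one_mul] at h0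
    rw [← h0]
    simp only [mul_sum]
    rw [sum_comm]
    have h2 : ∀ v : L, ∑ g : G, e g⁻¹ * (e (g * (v : G)) * R.character v) =
        e (v : G) * R.character v := fun v => by
      simp only [← mul_assoc, ← sum_mul]
      congr 1
      conv_rhs => rw [← hee]
      exact Fintype.sum_equiv (Equiv.inv G) _ _ fun g => by simp
    rw [sum_congr rfl fun v _ => h2 v, ← sum_subset (subset_univ Z) fun v _ hv => by
      have hs : p ∣ orderOf (v : G) := by
        by_contra hc
        exact hv (mem_filter.2 ⟨mem_univ v, mem_of_mem_pQuotient ha v.2 hc⟩)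
      rw [hreg _ hs, zero_mul]]
    exact (sum_nbij' (fun n : N => Subgroup.inclusion hNL n)
      (fun v : L => if h : (v : G) ∈ N then (⟨(v : G), h⟩ : N) else 1)
      (fun n _ => by simp [Z]) (fun v _ => mem_univ _) (fun n _ => by simp)
      (fun v hv => by
        simp only [Z, mem_filter, mem_univ, true_and] at hv
        apply Subtype.ext; simp [hv])
      (fun n _ => rfl)).symm
  have hB : ∑ g : G, ((X g).card : ℂ) * (e g⁻¹ * e g) = (Nat.card N : ℂ) * e 1 := by
    refine mul_left_cancel₀ hK ?_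
    rw [mul_left_comm K, ← hA, mul_sum, mul_sum]
    refine sum_congr rfl fun g _ => ?_
    by_cases hg : p ∣ orderOf g
    · simp [hreg g⁻¹ (by rwa [orderOf_inv])]
    · rw [mul_left_comm (Nat.card N : ℂ), hinner g hg]
      ring
  have he1 : ∑ g : G, e g⁻¹ * e g = e 1 := by
    conv_rhs => rw [← hee]
    exact Fintype.sum_equiv (Equiv.inv G) _ _ fun g => by simp
  have hC : ∑ g : G, (((X g).card : ℝ) - Nat.card N) * Complex.normSq (e g) = 0 := by
    apply Complex.ofReal_injective
    have hsq : ∀ g, (Complex.normSq (e g) : ℂ) = e g⁻¹ * e g := fun g => by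
      rw [apply_inv_of_idem he hee, Complex.normSq_eq_conj_mul_self]
    push_cast
    simp only [hsq, sub_mul, sum_sub_distrib, ← mul_sum]
    rw [hB, he1, sub_self]
  have hnn : ∀ g ∈ (univ : Finset G),
      0 ≤ (((X g).card : ℝ) - Nat.card N) * Complex.normSq (e g) := fun g _ => by
    by_cases hg : p ∣ orderOf g
    · simp [hreg g hg]
    · refine mul_nonneg (sub_nonneg.2 ?_) (Complex.normSq_nonneg _)
      exact_mod_cast hcardZ ▸ card_le_card (hZX g hg)
  intro g hg v hv
  have hgr : ¬ p ∣ orderOf g := fun h => hg (hreg g h)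
  have h0 := (sum_eq_zero_iff_of_nonneg hnn).1 hC g (mem_univ g)
  have hcard : (X g).card = Nat.card N := by
    rcases mul_eq_zero.1 h0 with h | h
    · exact_mod_cast sub_eq_zero.1 h
    · exact absurd (Complex.normSq_eq_zero.1 h) hg
  have hXZ : Z = X g := eq_of_subset_of_card_le (hZX g hgr) (by rw [hcard, hcardZ])
  have hw : g⁻¹ * v * g * v⁻¹ ∈ L := by
    refine L.mul_mem ?_ (L.inv_mem hv)
    simpa using hLn.conj_mem v hv g⁻¹
  have hmem : (⟨g⁻¹ * v * g * v⁻¹, hw⟩ : L) ∈ X g := by
    simp only [X, mem_filter, mem_univ, true_and]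
    rw [show g * (g⁻¹ * v * g * v⁻¹) = v * g * v⁻¹ by group,
      show orderOf (v * g * v⁻¹) = orderOf g from (MulAut.conj v).orderOf_eq g]
    exact hgr
  rw [← hXZ] at hmem
  exact (mem_filter.1 hmem).2

end Twist

end CfsgLib.Block.CentralIdem
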