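import Cfsg.Agent.BlocksB.PiKernel
import Cfsg.Agent.BrauerPairs.MaxCriterion

/-!
# Induced blocks when the centralizer of a defect group lies inside
-/

namespace CfsgLib.BlockB

open Cfsg CfsgLib.Block CfsgLib.Block.Chr CfsgLib.BrauerPairs

set_option linter.unusedSectionVars false
set_option linter.style.haveILetI false

universe u

local notation "C[" Q "]" => Subgroup.centralizer (SetLike.coe Q)
local notation "N[" Q "]" => Subgroup.normalizer (SetLike.coe Q)

variable {G : Type u} [Group G] [Fintype G] {M : Ideal AlgInt} [M.IsPrime] {p : ℕ}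
  [hp : Fact p.Prime]

/-- The central character of a block kills what the Brauer map at a surviving subgroup kills. -/
theorem lam_eq_zero_of_br_eq_zero (hM : IsPModular p M) {B : Set (IrrCharacter G)}
    (hB : IsPBlock M B) {ξ : IrrCharacter G} (hξ : ξ ∈ B) {P : Subgroup G} (hP : IsPGroup p P)
    (hne : br P (idem M B) ≠ 0) {c : MonoidAlgebra (Residue M) G}
    (hc : c ∈ alg (Residue M) (⊤ : Subgroup G) ⊤) (h0 : br P c = 0) : lam ξ c = 0 := by
  classical
  haveI := charP_residue hM
  have hblk := isBlk_idem hM hB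
  have hS := alg_comm (k := Residue M) (le_refl (⊤ : Subgroup G))
  have ha : c * idem M B ∈ alg (Residue M) (⊤ : Subgroup G) ⊤ := mul_mem hc (idem_mem B)
  have hlam : lam ξ (c * idem M B) = lam ξ c := by
    rw [lam_mul ξ hc (idem_mem B), lam_idem hB, if_pos hξ, mul_one]
  rcases hblk.nilpotent_or_inv hS ha
      (by rw [hS _ hblk.mem _ ha, mul_assoc, hblk.idem]) with ⟨n, hn⟩ | ⟨w, hw, hwe⟩
  · have hpow : ∀ m, lam ξ ((c * idem M B) ^ (m + 1)) = lam ξ c ^ (m + 1) := by
      intro m
      induction m with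
      | zero => rw [zero_add, pow_one, pow_one, hlam]
      | succ m ih => rw [pow_succ, lam_mul ξ (pow_mem ha _) ha, ih, hlam, ← pow_succ]
    have h1 := hpow n
    rw [pow_succ, hn, zero_mul, lam_zero] at h1
    exact eq_zero_of_pow_eq_zero h1.symm
  · refine absurd ?_ hne
    have hfix : ∀ {a : MonoidAlgebra (Residue M) G}, a ∈ alg (Residue M) (⊤ : Subgroup G) ⊤ →
        FixBy P a := fun h => h.2.mono le_top
    rw [← hwe, br_mul hP (hfix ha) (hfix hw), br_mul hP (hfix hc) (hfix (idem_mem B)), h0,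
      zero_mul, zero_mul]

theorem restr_mem_of_top {H : Subgroup G} [Fintype H] {a : MonoidAlgebra (Residue M) G}
    (ha : a ∈ alg (Residue M) (⊤ : Subgroup G) ⊤) :
    restr H a ∈ alg (Residue M) (⊤ : Subgroup H) ⊤ :=
  mem_alg_top fun g x => by
    simp only [restr, coeff_ofFun, Subgroup.coe_mul, Subgroup.coe_inv]
    exact coeff_conj_of_mem ha _ _

theorem br_emb_restr {H : Subgroup G} [Fintype H] {D : Subgroup G} (hCH : C[D] ≤ H)
    (a : MonoidAlgebra (Residue M) G) : br D (emb H (restr H a)) = br D a := by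
  classical
  refine coeff_ext fun g => ?_
  rw [coeff_br, coeff_br]
  split_ifs with hg
  · rw [show g = ((⟨g, hCH hg⟩ : H) : G) from rfl, coeff_emb_coe]
    simp [restr]
  · rfl

/-- A block of `H` with defect group `D₀`, `C(D₀) ≤ H`, has an induced block, and a pair on `D₀`. -/
theorem exists_induced_of_centralizer_le (hM : IsPModular p M) (H : Subgroup G) [Fintype H]
    {b : Set (IrrCharacter H)} (hb : IsPBlock M b) {D₀ : Subgroup H}
    (hD₀ : IsDefectGroup p M b D₀) (hCH : C[D₀.map H.subtype] ≤ H) :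
    ∃ B, IsInducedBlock M H b B := by
  classical
  haveI := charP_residue hM
  obtain ⟨ξ, hξ⟩ := exists_mem_block hb
  have hdef := (BrauerPairs.isDefectGroup_iff hM hb).1 hD₀
  set D := D₀.map H.subtype with hDdef
  have hD : IsPGroup p D := hdef.1.map _
  have hDH : D ≤ H := Subgroup.map_subtype_le D₀
  have hker : ∀ c ∈ alg (Residue M) (⊤ : Subgroup H) ⊤, br D₀ c = 0 → lam ξ c = 0 :=
    fun c hc h0 => lam_eq_zero_of_br_eq_zero hM hb hξ hdef.1 hdef.2.2.2 hc h0
  let ψ : MonoidAlgebra (Residue M) G → Residue M := fun a => lam ξ (restr H a)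
  have hψmul : ∀ a ∈ alg (Residue M) (⊤ : Subgroup G) ⊤, ∀ a' ∈ alg (Residue M) (⊤ : Subgroup G) ⊤,
      ψ (a * a') = ψ a * ψ a' := by
    intro a ha a' ha'
    have h1 := restr_mem_of_top (H := H) (mul_mem ha ha')
    have h2 := restr_mem_of_top (H := H) ha
    have h3 := restr_mem_of_top (H := H) ha'
    show lam ξ _ = lam ξ _ * lam ξ _
    rw [← lam_mul ξ h2 h3, ← sub_eq_zero, ← lam_sub ξ h1 (mul_mem h2 h3)]
    refine hker _ (sub_mem h1 (mul_mem h2 h3)) (emb_injective H ?_)
    rw [map_zero, ← br_emb, ← hDdef, map_sub, map_mul, map_sub, br_emb_restr hCH,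
      br_mul hD ((emb_mem H h2).2.mono hDH) ((emb_mem H h3).2.mono hDH), br_emb_restr hCH,
      br_emb_restr hCH, br_mul hD (ha.2.mono le_top) (ha'.2.mono le_top), sub_self]
  -- the block
  have hblk := isBlk_idemIn hM hb
  have hu0 : br D (idemIn M H b) ≠ 0 := by
    rw [idemIn_eq, hDdef, br_emb, Ne, map_eq_zero_iff _ (emb_injective H)]
    exact hdef.2.2.2
  obtain ⟨f, hf, hfu⟩ := exists_blk_below (a := br D (idemIn M H b))
    ⟨suppIn_br _, fixBy_br (hblk.fixBy.mono hCH) (CfsgLib.BrauerPairs.centralizer_le_normalizer D)⟩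
    (br_idem hD hblk.idem (hblk.fixBy.mono hDH)) hu0
  obtain ⟨e, ⟨he, hef⟩, -⟩ := existsUnique_isPairOf (p := p) (x := (D, f)) ⟨hD, hf⟩
  obtain ⟨B, hB, rfl⟩ := exists_idem_eq hM he
  refine ⟨B, hb, hB, ?_⟩
  have hψe : ψ (idem M B) = 1 := by
    have hee := hψmul _ (idem_mem B) _ (idem_mem B)
    rw [idem_idem hB] at hee
    rcases eq_or_ne (ψ (idem M B)) 0 with h0 | h0
    swap
    · exact (mul_left_cancel₀ h0 (by rw [mul_one]; exact hee)).symm
    exfalso
    have hr := restr_mem_of_top (H := H) (idem_mem (M := M) B)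
    have hS := alg_comm (k := Residue M) (le_refl (⊤ : Subgroup H))
    set c := restr H (idem M B) * idem M b
    have hc : c ∈ alg (Residue M) (⊤ : Subgroup H) ⊤ := mul_mem hr (idem_mem b)
    have hlamc : lam ξ c = 0 := by
      rw [lam_mul ξ hr (idem_mem b), show lam ξ (restr H (idem M B)) = 0 from h0, zero_mul]
    rcases (isBlk_idem hM hb).nilpotent_or_inv hS hc
        (by rw [hS _ (idem_mem b) _ hc, mul_assoc, idem_idem hb]) with ⟨n, hn⟩ | ⟨w, hw, hwe⟩
    · have hbr : br D (emb H c) * f = f := by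
        rw [show br D (emb H c) = br D (idem M B) * br D (idemIn M H b) by
          rw [map_mul, br_mul hD ((emb_mem H hr).2.mono hDH)
            ((emb_mem H (idem_mem b)).2.mono hDH), br_emb_restr hCH, idemIn_eq], mul_assoc, hfu]
        exact hef.2
      have hpow : ∀ m, br D (emb H (c ^ (m + 1))) * f = f := by
        intro m
        induction m with
        | zero => rw [zero_add, pow_one, hbr]
        | succ m ih =>
          rw [pow_succ, map_mul, br_mul hD ((emb_mem H (pow_mem hc _)).2.mono hDH)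
            ((emb_mem H hc).2.mono hDH), mul_assoc, hbr, ih]
      have := hpow n
      rw [pow_succ, hn, zero_mul, map_zero, map_zero, zero_mul] at this
      exact hf.ne_zero this.symm
    · have := lam_mul ξ hc hw
      rw [hwe, hlamc, zero_mul, lam_idem hb, if_pos hξ] at this
      exact one_ne_zero this
  have hval : ∀ χ ∈ B, ∀ a ∈ alg (Residue M) (⊤ : Subgroup G) ⊤, ψ a = lam χ a := by
    intro χ hχ a ha
    have hblkB := isBlk_idem hM hB
    have hS := alg_comm (k := Residue M) (le_refl (⊤ : Subgroup G))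
    set l := lam χ a
    set t := a * idem M B
    have ht : t ∈ alg (Residue M) (⊤ : Subgroup G) ⊤ := mul_mem ha (idem_mem B)
    have hs : l • idem M B ∈ alg (Residue M) (⊤ : Subgroup G) ⊤ :=
      Subalgebra.smul_mem _ (idem_mem B) _
    set c := t - l • idem M B with hcdef
    have hc : c ∈ alg (Residue M) (⊤ : Subgroup G) ⊤ := sub_mem ht hs
    have hlamc : lam χ c = 0 := by
      rw [lam_sub χ ht hs, lam_smul χ l (idem_mem B), lam_mul χ ha (idem_mem B), lam_idem hB,
        if_pos hχ, mul_one, sub_self]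
    have hψc : ψ c = ψ a - l := by
      show lam ξ (restr H (t - l • idem M B)) = _
      rw [show restr H (t - l • idem M B) = restr H t - l • restr H (idem M B) from
          coeff_ext fun h => by simp [restr],
        lam_sub ξ (restr_mem_of_top ht) (Subalgebra.smul_mem _ (restr_mem_of_top (idem_mem B)) _),
        lam_smul ξ l (restr_mem_of_top (idem_mem B))]
      show ψ (a * idem M B) - l * ψ (idem M B) = _
      rw [hψmul _ ha _ (idem_mem B), hψe, mul_one, mul_one]
    rcases hblkB.nilpotent_or_inv hS hc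
        (by rw [hS _ (idem_mem B) _ hc, hcdef, sub_mul, mul_assoc, idem_idem hB, smul_mul_assoc,
          idem_idem hB]) with ⟨n, hn⟩ | ⟨w, hw, hwe⟩
    · have hpow : ∀ m, ψ (c ^ (m + 1)) = ψ c ^ (m + 1) := by
        intro m
        induction m with
        | zero => rw [zero_add, pow_one, pow_one]
        | succ m ih => rw [pow_succ, hψmul _ (pow_mem hc _) _ hc, ih, ← pow_succ]
      have h1 := hpow n
      have hzero : ψ 0 = 0 := by
        show lam ξ (restr H 0) = 0
        rw [show restr H (0 : MonoidAlgebra (Residue M) G) = 0 from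
          coeff_ext fun h => by simp [restr], lam_zero]
      rw [pow_succ, hn, zero_mul, hzero] at h1
      have := eq_zero_of_pow_eq_zero h1.symm
      rw [hψc, sub_eq_zero] at this
      exact this
    · have := lam_mul χ hc hw
      rw [hwe, hlamc, zero_mul, lam_idem hB, if_pos hχ] at this
      exact absurd this one_ne_zero
  intro ξ' hξ' χ hχ g
  have hI := isIntClass_classInd (M := M) g
  have h := hval χ hχ _ (redFun_mem (M := M) hI.1)
  have hr : restr H (redFun M (classInd g)) = redFun M (resFun H (classInd g)) :=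
    coeff_ext fun h => by simp [restr, resFun]
  rw [show ψ (redFun M (classInd g)) = lam ξ (restr H (redFun M (classInd g))) from rfl, hr,
    lam_eq_of_sameBlock hb hξ hξ' (redFun_mem (isIntClass_resFun H hI).1),
    lam_redFun ξ' (isIntClass_resFun H hI), lam_redFun χ hI] at h
  rw [inducedCentralChar_eq, ← omega_classInd]
  exact (red_eq_iff (omega_mem ξ' (isIntClass_resFun H hI)) (omega_mem χ hI)).mp h

/-- A defect group of the induced block above `D₀` has its centre inside `D₀`. -/
theorem exists_defectGroup_center_le (hM : IsPModular p M) (H : Subgroup G) [Fintype H]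
    {b : Set (IrrCharacter H)} {B : Set (IrrCharacter G)} (hind : IsInducedBlock M H b B)
    {D₀ : Subgroup H} (hD₀ : IsDefectGroup p M b D₀) (hCH : C[D₀.map H.subtype] ≤ H) :
    ∃ R, IsDefectGroup p M B R ∧ D₀.map H.subtype ≤ R ∧
      ∀ z ∈ R, (∀ r ∈ R, r * z = z * r) → z ∈ D₀.map H.subtype := by
  classical
  haveI := charP_residue hM
  obtain ⟨hD, hDH, hu0, hmax⟩ := (isDefectGroup_sub_iff hM H hind.1 D₀).1 hD₀
  set D := D₀.map H.subtype
  have hblk := isBlk_idemIn hM hind.1
  set u := idemIn M H b with hu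
  have hfixC : FixBy C[D] u := hblk.fixBy.mono hCH
  obtain ⟨f, hf, hfu⟩ := exists_blk_below (a := br D u)
    ⟨suppIn_br _, fixBy_br hfixC (CfsgLib.BrauerPairs.centralizer_le_normalizer D)⟩
    (br_idem hD hblk.idem (hblk.fixBy.mono hDH)) hu0
  have hpair := isPairOf_of_induced_sub hM hD hDH hCH hind hf hfu
  have hblkB := isBlk_idem hM hind.2.1
  obtain ⟨R₀, hR₀⟩ := exists_defectGroup hind.2.1 hM
  have hdef₀ := isDef_of_isDefectGroup hM hind.2.1 hR₀
  obtain ⟨R, g, hcard, hg, hle⟩ := exists_ple_defect hblkB hdef₀ hpair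
  have hmaxp : IsMaxPair p (idem M B) (R, g) :=
    (isMaxPair_iff_card hblkB hdef₀).2 ⟨hg, hcard⟩
  refine ⟨R, (BrauerPairs.isDefectGroup_iff hM hind.2.1).2 (hmaxp.isDef hblkB), PLE.le hle, fun z hz hzc => ?_⟩
  have hDR : D ≤ R := PLE.le hle
  have hzC : z ∈ C[D] := Subgroup.mem_centralizer_iff.2 fun d hd => hzc d (hDR hd)
  set S := D ⊔ Subgroup.zpowers z
  have hSR : S ≤ R := sup_le hDR (Subgroup.zpowers_le.2 hz)
  have hSN : S ≤ N[D] := sup_le Subgroup.le_normalizer
    (Subgroup.zpowers_le.2 (CfsgLib.BrauerPairs.centralizer_le_normalizer D hzC))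
  have hSH : S ≤ H := sup_le hDH (Subgroup.zpowers_le.2 (hCH hzC))
  obtain ⟨gS, hgS, -⟩ := existsUnique_ple hg.1 hSR
  have hpS := PLE.isPair hgS hg.1
  obtain ⟨f', hf', -⟩ := existsUnique_nstep (Q := D) hpS le_sup_left hSN
  obtain ⟨f'', -, huniq⟩ := existsUnique_ple hg.1 hDR
  have hff : f' = f := (huniq f' (Relation.ReflTransGen.head hf' hgS)).trans (huniq f hle).symm
  rw [hff] at hf'
  have hbrS : br S u ≠ 0 := by
    intro h0
    refine hpS.2.ne_zero ?_
    have hbf := hf'.2.2.2.2.2
    have hfixu : FixBy S (br D u) := fixBy_br (hblk.fixBy.mono hSH) hSN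
    rw [← hbf]
    show br S f * gS = 0
    rw [← hfu, br_mul hpS.1 hfixu hf'.2.2.2.2.1, br_br_of_le le_sup_left, h0, zero_mul, zero_mul]
  have hle' := hmax S (hg.1.1.to_le hSR) hSH hbrS
  have heq : D = S := Subgroup.eq_of_le_of_card_ge le_sup_left hle'
  rw [heq]
  exact Subgroup.mem_sup_right (Subgroup.mem_zpowers z)

end CfsgLib.BlockB
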