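import Cfsg.Agent.Char.Equivalence
import Cfsg.Agent.Char.Central
import Cfsg.Agent.Char.Orthogonality
import Mathlib.LinearAlgebra.Matrix.PosDef
import Mathlib.LinearAlgebra.Matrix.Charpoly.Eigs
import Mathlib.LinearAlgebra.Eigenspace.Minpoly
import Mathlib.Analysis.Complex.Order

/-!
# Invariant bilinear forms and real forms of irreducible representations
-/

set_option autoImplicit false
set_option linter.unusedSectionVars false
set_option linter.style.haveILetI false

namespace CfsgLib.Char.RealForm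

open Finset Matrix
open scoped ComplexConjugate ComplexOrder

universe u

variable {G : Type u} [Group G] [Fintype G] {n : ℕ}

/-- The matrices of a representation on a coordinate space. -/
noncomputable def mat (ρ : Representation ℂ G (Fin n → ℂ)) : G →* Matrix (Fin n) (Fin n) ℂ where
  toFun g := LinearMap.toMatrix' (ρ g)
  map_one' := by rw [map_one, Module.End.one_eq_id, LinearMap.toMatrix'_id]
  map_mul' g h := by rw [map_mul, Module.End.mul_eq_comp, LinearMap.toMatrix'_comp]

theorem trace_mat (ρ : Representation ℂ G (Fin n → ℂ)) (g : G) :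
    (mat ρ g).trace = ρ.character g :=
  ((LinearMap.trace_eq_matrix_trace ℂ (Pi.basisFun ℂ (Fin n)) _).trans
    (by rw [LinearMap.toMatrix_eq_toMatrix']; rfl)).symm

/-- The representation of a matrix homomorphism. -/
noncomputable def repOf (X : G →* Matrix (Fin n) (Fin n) ℂ) : Representation ℂ G (Fin n → ℂ) where
  toFun g := Matrix.toLin' (X g)
  map_one' := by rw [map_one, Matrix.toLin'_one]; rfl
  map_mul' g h := by rw [map_mul, Matrix.toLin'_mul]; rfl

theorem mat_repOf (X : G →* Matrix (Fin n) (Fin n) ℂ) (g : G) : mat (repOf X) g = X g :=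
  LinearMap.toMatrix'_toLin' _

theorem character_repOf (X : G →* Matrix (Fin n) (Fin n) ℂ) (g : G) :
    (repOf X).character g = (X g).trace := by rw [← trace_mat, mat_repOf]

/-- The contragredient matrices. -/
noncomputable def contra (X : G →* Matrix (Fin n) (Fin n) ℂ) : G →* Matrix (Fin n) (Fin n) ℂ where
  toFun g := (X g⁻¹)ᵀ
  map_one' := by rw [inv_one, map_one, transpose_one]
  map_mul' g h := by rw [_root_.mul_inv_rev, map_mul, transpose_mul]

/-- The complex conjugate matrices. -/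
noncomputable def cmat (X : G →* Matrix (Fin n) (Fin n) ℂ) : G →* Matrix (Fin n) (Fin n) ℂ :=
  ((starRingEnd ℂ).mapMatrix : Matrix (Fin n) (Fin n) ℂ →+* _).toMonoidHom.comp X

theorem cmat_apply (X : G →* Matrix (Fin n) (Fin n) ℂ) (g : G) :
    cmat X g = (X g).map (starRingEnd ℂ) := rfl

/-- Matrix homomorphisms with equal traces are similar. -/
theorem exists_similar (X Y : G →* Matrix (Fin n) (Fin n) ℂ)
    (h : ∀ g, (X g).trace = (Y g).trace) :
    ∃ A B : Matrix (Fin n) (Fin n) ℂ, A * B = 1 ∧ B * A = 1 ∧ ∀ g, A * X g = Y g * A := by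
  obtain ⟨e⟩ := equiv_of_character_eq (repOf X) (repOf Y)
    (funext fun g => by rw [character_repOf, character_repOf, h])
  refine ⟨LinearMap.toMatrix' e.toLinearEquiv.toLinearMap,
    LinearMap.toMatrix' e.toLinearEquiv.symm.toLinearMap, ?_, ?_, fun g => ?_⟩
  · rw [← LinearMap.toMatrix'_comp, e.toLinearEquiv.comp_symm, LinearMap.toMatrix'_id]
  · rw [← LinearMap.toMatrix'_comp, e.toLinearEquiv.symm_comp, LinearMap.toMatrix'_id]
  · conv_lhs => rw [← mat_repOf X g]
    conv_rhs => rw [← mat_repOf Y g]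
    show _ * LinearMap.toMatrix' _ = LinearMap.toMatrix' _ * _
    rw [← LinearMap.toMatrix'_comp, ← LinearMap.toMatrix'_comp]
    exact congrArg _ (e.toIntertwiningMap.isIntertwining' g)

variable (ρ : Representation ℂ G (Fin n → ℂ)) [hirr : ρ.IsIrreducible]

include hirr in
/-- Schur's lemma for matrices. -/
theorem scalar_of_commute {A : Matrix (Fin n) (Fin n) ℂ} (h : ∀ g, mat ρ g * A = A * mat ρ g) :
    ∃ c : ℂ, A = c • 1 := by
  refine ⟨LinearMap.trace ℂ (Fin n → ℂ) (Matrix.toLin' A) /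
    (Module.finrank ℂ (Fin n → ℂ) : ℂ), ?_⟩
  have h1 := eq_smul_one_of_commute ρ (Matrix.toLin' A) fun g => by
    apply LinearMap.toMatrix'.injective
    rw [Module.End.mul_eq_comp, Module.End.mul_eq_comp, LinearMap.toMatrix'_comp,
      LinearMap.toMatrix'_comp, LinearMap.toMatrix'_toLin']
    exact h g
  conv_lhs => rw [← LinearMap.toMatrix'_toLin' A, h1, map_smul, Module.End.one_eq_id,
    LinearMap.toMatrix'_id]

theorem conj_trace_mat (g : G) : conj (mat ρ g).trace = (mat ρ g⁻¹).trace := by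
  rw [trace_mat, trace_mat]
  exact (IsCharacter.apply_inv ⟨n, ρ, rfl⟩ g).symm

include hirr in
/-- The invariant forms of a real irreducible character form a line with a given symmetry. -/
theorem exists_form (hreal : ∀ g : G, (ρ.character g).im = 0) :
    ∃ M B : Matrix (Fin n) (Fin n) ℂ, M * B = 1 ∧ B * M = 1 ∧ M ≠ 0 ∧
      (∀ g, (mat ρ g)ᵀ * M * mat ρ g = M) ∧
      ∀ M' : Matrix (Fin n) (Fin n) ℂ, (∀ g, (mat ρ g)ᵀ * M' * mat ρ g = M') →
        ∃ c : ℂ, M' = c • M := by
  obtain ⟨A, B, hAB, hBA, hA⟩ := exists_similar (mat ρ) (contra (mat ρ)) fun g => by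
    show _ = ((mat ρ g⁻¹)ᵀ).trace
    rw [trace_transpose, ← conj_trace_mat, trace_mat, Complex.conj_eq_iff_im.2 (hreal g)]
  have hX : ∀ g, (mat ρ g)ᵀ * (mat ρ g⁻¹)ᵀ = 1 := fun g => by
    rw [← transpose_mul, ← map_mul, inv_mul_cancel, map_one, transpose_one]
  have hX' : ∀ g, (mat ρ g⁻¹)ᵀ * (mat ρ g)ᵀ = 1 := fun g => by
    rw [← transpose_mul, ← map_mul, mul_inv_cancel, map_one, transpose_one]
  haveI : Nonempty (Fin n) := by
    rw [← Fin.pos_iff_nonempty]
    simpa using finrank_pos_of_isIrreducible ρ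
  refine ⟨A, B, hAB, hBA, fun h0 => ?_, fun g => ?_, fun M' hM' => ?_⟩
  · rw [h0, zero_mul] at hAB
    exact zero_ne_one hAB
  · rw [mul_assoc, hA]
    show _ * ((mat ρ g⁻¹)ᵀ * A) = A
    rw [← mul_assoc, hX, one_mul]
  · obtain ⟨c, hc⟩ := scalar_of_commute ρ (A := B * M') fun g => by
      have h1 : M' * mat ρ g = (mat ρ g⁻¹)ᵀ * M' := by
        conv_rhs => rw [← hM' g, ← mul_assoc, ← mul_assoc, hX', one_mul]
      have h2 : mat ρ g * B = B * (mat ρ g⁻¹)ᵀ := by
        calc mat ρ g * B = B * (A * mat ρ g) * B := by rw [← mul_assoc B, hBA, one_mul]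
          _ = B * (mat ρ g⁻¹)ᵀ := by
            rw [hA, mul_assoc, mul_assoc, hAB, mul_one]; rfl
      rw [← mul_assoc, h2, mul_assoc, ← h1, mul_assoc]
    refine ⟨c, ?_⟩
    calc M' = A * (B * M') := by rw [← mul_assoc, hAB, one_mul]
      _ = c • A := by rw [hc, mul_smul_comm, mul_one]

include hirr in
/-- The symmetry of an invariant form is the indicator. -/
theorem transpose_eq_indicator_smul (hreal : ∀ g : G, (ρ.character g).im = 0)
    (M : Matrix (Fin n) (Fin n) ℂ) (hM : ∀ g, (mat ρ g)ᵀ * M * mat ρ g = M) :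
    Mᵀ = ((Nat.card G : ℂ)⁻¹ * ∑ s : G, ρ.character (s * s)) • M := by
  obtain ⟨M₀, B, -, -, hM₀, hM₀inv, huniq⟩ := exists_form ρ hreal
  obtain ⟨c₀, rfl⟩ := huniq M hM
  obtain ⟨ε, hε⟩ := huniq M₀ᵀ fun g => by
    conv_rhs => rw [← hM₀inv g]
    simp only [transpose_mul, transpose_transpose, mul_assoc]
  have hεij : ∀ i j, M₀ j i = ε * M₀ i j := fun i j => by
    have := congrFun (congrFun hε i) j
    simpa using this
  set X := mat ρ
  have havg : ∀ i j : Fin n, ∃ c : ℂ, ∀ a b, ∑ g : G, X g i a * X g j b = c * M₀ a b := by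
    intro i j
    obtain ⟨c, hc⟩ := huniq (∑ g : G, (X g)ᵀ * Matrix.single i j 1 * X g) fun h => by
      rw [mul_sum, sum_mul]
      refine Fintype.sum_equiv (Equiv.mulRight h) _ _ fun g => ?_
      simp only [Equiv.coe_mulRight, X, map_mul, transpose_mul, mul_assoc]
    refine ⟨c, fun a b => ?_⟩
    have := congrFun (congrFun hc a) b
    rw [Matrix.sum_apply] at this
    simp only [Matrix.smul_apply, smul_eq_mul] at this
    rw [← this]
    refine sum_congr rfl fun g _ => ?_
    simp [Matrix.mul_apply, Matrix.single, ite_and]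
  choose c hc using havg
  have h1 : ∑ g : G, ρ.character g * ρ.character g = (Nat.card G : ℂ) := by
    have h := IsIrrCharacter.classInner_self (G := G) (χ := ρ.character) ⟨n, ρ, hirr, rfl⟩
    rw [Cfsg.classInner] at h
    have hG : (Nat.card G : ℂ) ≠ 0 := Nat.cast_ne_zero.2 Nat.card_pos.ne'
    field_simp at h
    rw [← h]
    exact sum_congr rfl fun g _ => by rw [Complex.conj_eq_iff_im.2 (hreal g)]
  have h2 : ∑ g : G, ρ.character (g * g) = ε * ∑ g : G, ρ.character g * ρ.character g := by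
    simp only [← trace_mat, Matrix.trace, Matrix.diag]
    have e1 : ∀ g : G, (∑ i, X (g * g) i i) = ∑ i, ∑ j, X g i j * X g j i := fun g =>
      sum_congr rfl fun i _ => by rw [map_mul, Matrix.mul_apply]
    simp only [X] at e1 hc
    simp only [e1, sum_mul_sum]
    rw [sum_comm, mul_sum]
    conv_rhs => rw [← mul_sum, sum_comm, mul_sum]
    refine sum_congr rfl fun i _ => ?_
    rw [sum_comm, mul_sum]
    conv_rhs => rw [← mul_sum, sum_comm, mul_sum]
    refine sum_congr rfl fun j _ => ?_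
    rw [hc i j j i, hc i j i j, hεij i j]
    ring
  have hG : (Nat.card G : ℂ) ≠ 0 := Nat.cast_ne_zero.2 Nat.card_pos.ne'
  rw [h2, h1, mul_comm ε, ← mul_assoc, inv_mul_cancel₀ hG, one_mul, transpose_smul, hε, smul_comm]

include hirr in
/-- A real irreducible character of indicator one has a real form. -/
theorem exists_real_form (hreal : ∀ g : G, (ρ.character g).im = 0)
    (hν : (Nat.card G : ℂ)⁻¹ * ∑ s : G, ρ.character (s * s) = 1) :
    ∃ P Q : Matrix (Fin n) (Fin n) ℂ, P * Q = 1 ∧ Q * P = 1 ∧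
      ∀ g, (Q * mat ρ g * P).map (starRingEnd ℂ) = Q * mat ρ g * P := by
  classical
  set X := mat ρ
  set σ : Matrix (Fin n) (Fin n) ℂ →+* Matrix (Fin n) (Fin n) ℂ := (starRingEnd ℂ).mapMatrix with hσ
  have hσσ : ∀ A, σ (σ A) = A := fun A => by ext i j; simp [hσ, RingHom.mapMatrix_apply]
  obtain ⟨T, S, hTS, hST, hT⟩ := exists_similar (cmat X) X fun g => by
    rw [cmat_apply, show ((X g).map (starRingEnd ℂ)).trace = conj (X g).trace by
      simp [Matrix.trace, map_sum], trace_mat, Complex.conj_eq_iff_im.2 (hreal g)]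
  have hT' : ∀ g, T * σ (X g) = X g * T := hT
  -- the scalar
  obtain ⟨μ, hμ⟩ := scalar_of_commute ρ (A := T * σ T) fun g => by
    have h := congrArg σ (hT' g)
    rw [map_mul, map_mul, hσσ] at h
    rw [← mul_assoc, ← hT', mul_assoc, ← h, mul_assoc]
  -- the hermitian form
  set H : Matrix (Fin n) (Fin n) ℂ := ∑ g : G, (X g)ᴴ * X g with hH
  have hHinv : ∀ h, (X h)ᴴ * H * X h = H := fun h => by
    rw [hH, mul_sum, sum_mul]
    refine Fintype.sum_equiv (Equiv.mulRight h) _ _ fun g => ?_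
    simp only [Equiv.coe_mulRight, map_mul, conjTranspose_mul, mul_assoc]
  have hHherm : Hᴴ = H := by simp [hH, conjTranspose_sum]
  have hHpd : H.PosDef := by
    rw [hH, ← add_sum_erase univ _ (mem_univ (1 : G)), map_one, conjTranspose_one, one_mul]
    exact PosDef.one.add_posSemidef (posSemidef_sum _ fun g _ => posSemidef_conjTranspose_mul_self _)
  have hσT : ∀ A : Matrix (Fin n) (Fin n) ℂ, σ Aᵀ = Aᴴ := fun A => by ext i j; rfl
  have hσH : ∀ A : Matrix (Fin n) (Fin n) ℂ, σ Aᴴ = Aᵀ := fun A => by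
    rw [← hσT, hσσ]
  -- the bilinear form
  set Mf := σ H * S with hMf
  have hMinv : ∀ g, (X g)ᵀ * Mf * X g = Mf := by
    intro g
    have h1 : S * X g = σ (X g) * S := by
      calc S * X g = S * (X g * T) * S := by rw [mul_assoc, mul_assoc, hTS, mul_one]
        _ = σ (X g) * S := by rw [← hT', ← mul_assoc S, hST, one_mul]
    have h2 : (X g)ᵀ * σ H * σ (X g) = σ H := by
      have := congrArg σ (hHinv g)
      rw [map_mul, map_mul, hσH] at this
      exact this
    rw [hMf, mul_assoc _ (σ H * S), mul_assoc (σ H), h1, ← mul_assoc (σ H), ← mul_assoc, ← mul_assoc,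
      h2]
  have hsym : Mfᵀ = Mf := by
    rw [transpose_eq_indicator_smul ρ hreal Mf hMinv, hν, one_smul]
  have hσHt : (σ H)ᵀ = H := by
    conv_rhs => rw [← hHherm]
    rfl
  have hsym' : Tᵀ * σ H = H * T := by
    rw [hMf, transpose_mul, hσHt] at hsym
    calc Tᵀ * σ H = Tᵀ * (σ H * S) * T := by rw [mul_assoc, mul_assoc, hST, mul_one]
      _ = Tᵀ * (Sᵀ * H) * T := by rw [hsym]
      _ = H * T := by rw [← mul_assoc Tᵀ, ← transpose_mul, hST, transpose_one, one_mul]
  have hkey : Tᴴ * H * T = conj μ • σ H := by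
    have h : Tᵀ * σ H * σ T = μ • H := by rw [hsym', mul_assoc, hμ, mul_smul_comm, mul_one]
    have h' := congrArg σ h
    rw [map_mul, map_mul, hσT, hσσ, hσσ] at h'
    rw [h']
    ext i j
    simp [hσ, RingHom.mapMatrix_apply]
  haveI : Nonempty (Fin n) := by
    rw [← Fin.pos_iff_nonempty]
    simpa using finrank_pos_of_isIrreducible ρ
  have hμpos : ∃ r : ℝ, 0 < r ∧ μ = r := by
    obtain ⟨i⟩ := ‹Nonempty (Fin n)›
    have hinjT : Function.Injective T.mulVec := fun a b hab => by
      simpa [Matrix.mulVec_mulVec, hST] using congrArg S.mulVec hab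
    have h1 : 0 < (Tᴴ * H * T) i i := (hHpd.conjTranspose_mul_mul_same hinjT).diag_pos
    have h2 : 0 < H i i := hHpd.diag_pos
    rw [hkey] at h1
    have h3 : σ H i i = conj (H i i) := rfl
    rw [Matrix.smul_apply, smul_eq_mul, h3, ← map_mul] at h1
    rw [Complex.lt_def] at h1 h2
    simp only [Complex.zero_re, Complex.zero_im, Complex.conj_re, Complex.conj_im,
      Complex.mul_re, Complex.mul_im] at h1 h2
    obtain ⟨h11, h12⟩ := h1
    obtain ⟨h21, h22⟩ := h2
    rw [← h22] at h11 h12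
    refine ⟨μ.re, ?_, ?_⟩
    · rw [mul_zero, sub_zero] at h11
      exact pos_of_mul_pos_left h11 h21.le
    · have him : μ.im = 0 := by
        have : μ.im * (H i i).re = 0 := by linarith
        exact (mul_eq_zero.1 this).resolve_right h21.ne'
      exact Complex.ext rfl (by simp [him])
  obtain ⟨r, hr, rfl⟩ := hμpos
  -- normalise
  set a : ℝ := (Real.sqrt r)⁻¹
  set T₁ : Matrix (Fin n) (Fin n) ℂ := (a : ℂ) • T with hT₁
  have hT₁T : T₁ * σ T₁ = 1 := by
    have e : σ T₁ = (a : ℂ) • σ T := by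
      ext i j; simp [hT₁, hσ, RingHom.mapMatrix_apply]
    rw [e, hT₁, smul_mul_smul_comm, hμ, smul_smul]
    rw [show (a : ℂ) * a * r = 1 by
      rw [← Complex.ofReal_mul, ← Complex.ofReal_mul, ← Complex.ofReal_one]
      congr 1
      rw [← mul_inv, Real.mul_self_sqrt hr.le, inv_mul_cancel₀ hr.ne'], one_smul]
  have hT₁X : ∀ g, T₁ * σ (X g) = X g * T₁ := fun g => by
    rw [hT₁, smul_mul_assoc, hT', mul_smul_comm]
  -- a good scalar
  obtain ⟨z, hz⟩ : ∃ z : ℂ, IsUnit (z • (1 : Matrix (Fin n) (Fin n) ℂ) + conj z • T₁) := by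
    have hfin : (spectrum ℂ (-T₁)).Finite := Set.toFinite _
    have hinf : (Set.range fun t : ℝ => ((1 : ℂ) + t * Complex.I) / (1 - t * Complex.I)).Infinite := by
      refine Set.infinite_range_of_injective fun s t hst => ?_
      have hs : (1 : ℂ) - s * Complex.I ≠ 0 := fun h => by
        have := congrArg Complex.re h; simp at this
      have ht : (1 : ℂ) - t * Complex.I ≠ 0 := fun h => by
        have := congrArg Complex.re h; simp at this
      rw [div_eq_div_iff hs ht] at hst
      have := congrArg Complex.im hst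
      simp at this
      linarith
    obtain ⟨w, ⟨t, rfl⟩, hw⟩ := hinf.exists_notMem_finset hfin.toFinset
    refine ⟨1 + t * Complex.I, ?_⟩
    rw [Set.Finite.mem_toFinset, spectrum.notMem_iff] at hw
    have hc : conj ((1 : ℂ) + t * Complex.I) = 1 - t * Complex.I := by
      simp [sub_eq_add_neg]
    have hne : (1 : ℂ) - t * Complex.I ≠ 0 := fun h => by
      have := congrArg Complex.re h; simp at this
    rw [hc]
    have e : ((1 : ℂ) + t * Complex.I) • (1 : Matrix (Fin n) (Fin n) ℂ) +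
        (1 - t * Complex.I) • T₁ = (Units.mk0 _ hne) •
          (algebraMap ℂ (Matrix (Fin n) (Fin n) ℂ)
            ((1 + t * Complex.I) / (1 - t * Complex.I)) - -T₁) := by
      rw [Units.smul_mk0, sub_neg_eq_add, smul_add, Algebra.algebraMap_eq_smul_one,
        smul_smul ((1 : ℂ) - t * Complex.I) ((1 + t * Complex.I) / (1 - t * Complex.I)),
        mul_div_cancel₀ _ hne]
    rw [e]
    exact hw.smul _
  obtain ⟨P, hP⟩ := hz
  refine ⟨P, (P⁻¹ : (Matrix (Fin n) (Fin n) ℂ)ˣ), P.mul_inv, P.inv_mul, fun g => ?_⟩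
  show σ _ = _
  have hfix : T₁ * σ (P : Matrix (Fin n) (Fin n) ℂ) = P := by
    have e : σ (z • (1 : Matrix (Fin n) (Fin n) ℂ) + conj z • T₁) = conj z • 1 + z • σ T₁ := by
      ext i j
      simp [hσ, RingHom.mapMatrix_apply, Matrix.one_apply, apply_ite (starRingEnd ℂ)]
    rw [hP, e, mul_add, mul_smul_comm, mul_smul_comm, mul_one, hT₁T, add_comm]
  set Q : Matrix (Fin n) (Fin n) ℂ := ↑(P⁻¹) with hQ
  have hσP : σ (P : Matrix (Fin n) (Fin n) ℂ) * σ Q = 1 := by
    rw [← map_mul, hQ, P.mul_inv, map_one]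
  have hQσ : σ Q = Q * T₁ := by
    calc σ Q = Q * P * σ Q := by rw [hQ, P.inv_mul, one_mul]
      _ = Q * T₁ := by rw [← hfix, mul_assoc Q, mul_assoc T₁, hσP, mul_one]
  rw [map_mul, map_mul, hQσ, mul_assoc Q T₁, hT₁X, ← mul_assoc, mul_assoc (Q * X g), hfix]

end CfsgLib.Char.RealForm
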