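import Mathlib

/-!
# Landau's theorem: the order of a finite group is bounded in the number of conjugacy classes
-/

namespace CfsgLib.BlockB

universe u

theorem exists_bound_unit_fractions (k : ℕ) : ∀ r : ℚ, ∃ N : ℕ, ∀ s : Multiset ℕ,
    Multiset.card s = k → (∀ n ∈ s, 0 < n) → (s.map fun n : ℕ => (n : ℚ)⁻¹).sum = r →
      ∀ n ∈ s, n ≤ N := by
  classical
  induction k with
  | zero =>
    intro r
    refine ⟨0, fun s hs _ _ n hn => ?_⟩
    rw [Multiset.card_eq_zero.1 hs] at hn
    simp at hn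
  | succ k ih =>
    intro r
    choose F hF using ih
    refine ⟨max ⌈((k : ℚ) + 1) / r⌉₊
      ((Finset.range (⌈((k : ℚ) + 1) / r⌉₊ + 1)).sup fun m => F (r - (m : ℚ)⁻¹)), ?_⟩
    intro s hs hpos hsum n hn
    obtain ⟨m, hm, hmin⟩ := Finset.exists_min_image s.toFinset (fun n => n)
      ⟨n, Multiset.mem_toFinset.2 hn⟩
    rw [Multiset.mem_toFinset] at hm
    have hm0 : (0 : ℚ) < m := Nat.cast_pos.2 (hpos m hm)
    have hle : r ≤ ((k : ℚ) + 1) * (m : ℚ)⁻¹ := by
      rw [← hsum]
      have hcard : Multiset.card (s.map fun n : ℕ => (n : ℚ)⁻¹) = k + 1 := by simp [hs]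
      have := Multiset.sum_le_card_nsmul (s.map fun n : ℕ => (n : ℚ)⁻¹) (m : ℚ)⁻¹ fun x hx => by
        obtain ⟨n', hn', rfl⟩ := Multiset.mem_map.1 hx
        exact inv_anti₀ hm0 (Nat.cast_le.2 (hmin n' (Multiset.mem_toFinset.2 hn')))
      rw [hcard, nsmul_eq_mul] at this
      exact_mod_cast this
    have hrest : ((s.erase m).map fun n : ℕ => (n : ℚ)⁻¹).sum = r - (m : ℚ)⁻¹ := by
      rw [← hsum, ← Multiset.cons_erase hm, Multiset.map_cons, Multiset.sum_cons,
        Multiset.erase_cons_head]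
      ring
    have hr : 0 < r := by
      rw [← hsum, ← Multiset.cons_erase hm, Multiset.map_cons, Multiset.sum_cons]
      have : 0 ≤ ((s.erase m).map fun n : ℕ => (n : ℚ)⁻¹).sum :=
        Multiset.sum_nonneg fun x hx => by
          obtain ⟨n', -, rfl⟩ := Multiset.mem_map.1 hx
          positivity
      have := inv_pos.2 hm0
      linarith
    have hmb : m ≤ ⌈((k : ℚ) + 1) / r⌉₊ := by
      have h2 : (m : ℚ) ≤ ((k : ℚ) + 1) / r := by
        rw [le_div_iff₀ hr]
        calc (m : ℚ) * r ≤ m * (((k : ℚ) + 1) * (m : ℚ)⁻¹) :=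
              mul_le_mul_of_nonneg_left hle hm0.le
          _ = (k : ℚ) + 1 := by field_simp
      exact_mod_cast h2.trans (Nat.le_ceil _)
    rcases eq_or_ne n m with rfl | hne
    · exact hmb.trans (le_max_left _ _)
    · refine le_trans ?_ (le_max_right _ _)
      refine le_trans ?_ (Finset.le_sup (Finset.mem_range.2 (Nat.lt_succ_of_le hmb)))
      exact hF _ (s.erase m) (by rw [Multiset.card_erase_of_mem hm, hs]; rfl)
        (fun x hx => hpos x (Multiset.mem_of_mem_erase hx)) hrest n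
        ((Multiset.mem_erase_of_ne hne).2 hn)

/-- Landau's theorem. -/
theorem exists_card_bound_of_card_conjClasses (K : ℕ) : ∃ N : ℕ, ∀ (G : Type u) [Group G]
    [Finite G], Nat.card (ConjClasses G) ≤ K → Nat.card G ≤ N := by
  classical
  choose F hF using fun k => exists_bound_unit_fractions k 1
  refine ⟨(Finset.range (K + 1)).sup F, fun G _ _ hk => ?_⟩
  letI := Fintype.ofFinite G
  letI := Fintype.ofFinite (ConjClasses G)
  let f : ConjClasses G → ℕ := fun C => Nat.card G / Nat.card C.carrier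
  have hdvd : ∀ C : ConjClasses G, Nat.card C.carrier ∣ Nat.card G := fun C => by
    obtain ⟨g, rfl⟩ := ConjClasses.mk_surjective C
    rw [← ConjAct.orbit_eq_carrier_conjClasses, Nat.card_coe_set_eq,
      ← MulAction.index_stabilizer]
    exact Subgroup.index_dvd_card _
  refine le_trans ?_ ((Finset.range (K + 1)).le_sup (f := F)
    (Finset.mem_range.2 (Nat.lt_succ_of_le hk)))
  refine hF _ (Finset.univ.val.map f) (by simp [Nat.card_eq_fintype_card]) ?_ ?_ _ ?_
  · intro n hn
    obtain ⟨C, -, rfl⟩ := Multiset.mem_map.1 hn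
    exact Nat.div_pos (Nat.le_of_dvd Nat.card_pos (hdvd C))
      (Nat.card_pos_iff.2 ⟨(ConjClasses.mk_surjective C).elim fun g hg =>
        ⟨⟨g, ConjClasses.mem_carrier_iff_mk_eq.2 hg⟩⟩, inferInstance⟩)
  · rw [Multiset.map_map]
    change ∑ C : ConjClasses G, ((f C : ℕ) : ℚ)⁻¹ = 1
    have h : ∀ C : ConjClasses G,
        ((f C : ℕ) : ℚ)⁻¹ = (Nat.card C.carrier : ℚ) / (Nat.card G : ℚ) := fun C => by
      rw [Nat.cast_div_charZero (hdvd C), inv_div]
    simp only [h, ← Finset.sum_div]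
    rw [div_eq_one_iff_eq (Nat.cast_ne_zero.2 Nat.card_pos.ne'), ← Nat.cast_sum]
    congr 1
    rw [← Group.sum_card_conj_classes_eq_card G, finsum_eq_sum_of_fintype]
    exact Finset.sum_congr rfl fun C _ => by rw [Set.ncard_def, Nat.card_coe_set_eq, Set.ncard_def]
  · refine Multiset.mem_map.2 ⟨ConjClasses.mk (1 : G), Finset.mem_univ _, ?_⟩
    have h1 : (ConjClasses.mk (1 : G)).carrier = {1} := by
      ext x
      rw [ConjClasses.mem_carrier_iff_mk_eq, ConjClasses.mk_eq_mk_iff_isConj, isConj_one_left]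
      rfl
    simp only [f, h1]
    simp

end CfsgLib.BlockB
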