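import Cfsg.Agent.BlocksB.SubsectionCor
import Cfsg.Agent.BlocksB.RankOne
import Cfsg.Agent.BlocksB.GaloisBound
import Cfsg.Agent.BrauerPairs.Major
import Cfsg.Agent.BrauerPairs.FusionBridge

/-!
# The contributions of a major subsection

For a major subsection `(y, b)` and characters of height zero, `p ^ d` times a contribution is an
algebraic integer which is not congruent to zero.
-/

namespace CfsgLib.BlockB

open Finset Cfsg CfsgLib.Block CfsgLib.Block.Chr CfsgLib.Char CfsgLib.BrauerPairs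
open scoped ComplexConjugate

set_option linter.unusedSectionVars false
set_option linter.style.haveILetI false

universe u

variable {G : Type u} [Group G] [Fintype G] {M : Ideal AlgInt} [M.IsPrime] {p : ℕ} [Fact p.Prime]

/-! ### The induced idempotent -/

/-- The idempotent of `b` induced to `G`. -/
noncomputable def indCoeff (H : Subgroup G) (b : Set (IrrCharacter H)) : G → ℂ := fun g =>
  (Nat.card H : ℂ)⁻¹ * ∑ x : G, subgroupBlockCoeff H b (x⁻¹ * g * x)

theorem indCoeff_eq_sum (H : Subgroup G) [Fintype H] (b : Set (IrrCharacter H))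
    [Fintype ((⊤ : Subgroup G) ⧸ H.subgroupOf ⊤)] (g : G) :
    indCoeff H b g = ∑ q : (⊤ : Subgroup G) ⧸ H.subgroupOf ⊤,
      subgroupBlockCoeff H b (((q.out : (⊤ : Subgroup G)) : G)⁻¹ * g * ((q.out : (⊤ : Subgroup G)) : G)) := by
  classical
  have hinv : ∀ h : H, ∀ z : G, subgroupBlockCoeff H b ((h : G)⁻¹ * z * h) = subgroupBlockCoeff H b z := by
    intro h z
    by_cases hz : z ∈ H
    · obtain ⟨w, rfl⟩ : ∃ w : H, (w : G) = z := ⟨⟨z, hz⟩, rfl⟩
      rw [show (h : G)⁻¹ * w * h = ((h⁻¹ * w * h : H) : G) by simp,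
        subgroupBlockCoeff_coe, subgroupBlockCoeff_coe]
      have := isClassFunction_blockCoeff b w h⁻¹
      rwa [inv_inv] at this
    · rw [subgroupBlockCoeff_not_mem b hz, subgroupBlockCoeff_not_mem b]
      intro hm
      exact hz (by simpa [mul_assoc] using H.mul_mem (H.mul_mem h.2 hm) (H.inv_mem h.2))
  rw [indCoeff]
  rw [← Finset.sum_fiberwise univ
    (fun x : G => ((⟨x, Subgroup.mem_top x⟩ : (⊤ : Subgroup G)) : (⊤ : Subgroup G) ⧸ H.subgroupOf ⊤)),
    mul_sum]
  refine sum_congr rfl fun q _ => ?_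
  set t : G := ((q.out : (⊤ : Subgroup G)) : G)
  have e : ∑ x ∈ univ.filter (fun x : G => ((⟨x, Subgroup.mem_top x⟩ : (⊤ : Subgroup G)) :
      (⊤ : Subgroup G) ⧸ H.subgroupOf ⊤) = q), subgroupBlockCoeff H b (x⁻¹ * g * x) =
      ∑ h : H, subgroupBlockCoeff H b ((t * h)⁻¹ * g * (t * h)) := by
    refine (sum_bij (fun (h : H) _ => t * (h : G)) (fun h _ => ?_) (fun h _ h' _ he => ?_)
      (fun x hx => ?_) (fun h _ => rfl)).symm
    · refine mem_filter.2 ⟨mem_univ _, ?_⟩
      rw [← QuotientGroup.out_eq' q, eq_comm, QuotientGroup.eq, Subgroup.mem_subgroupOf]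
      simp [t]
    · exact Subtype.ext (mul_left_cancel he)
    · have h1 := (mem_filter.1 hx).2
      rw [← QuotientGroup.out_eq' q, eq_comm, QuotientGroup.eq, Subgroup.mem_subgroupOf] at h1
      exact ⟨⟨t⁻¹ * x, by simpa [t] using h1⟩, mem_univ _, by simp⟩
  rw [e, sum_congr rfl fun h _ => by
    rw [show (t * (h : G))⁻¹ * g * (t * h) = (h : G)⁻¹ * (t⁻¹ * g * t) * h by group, hinv],
    sum_const, card_univ, nsmul_eq_mul, Nat.card_eq_fintype_card,
    inv_mul_cancel_left₀ (Nat.cast_ne_zero.2 Fintype.card_ne_zero)]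

theorem isIntClass_indCoeff (H : Subgroup G) {b : Set (IrrCharacter H)} (hb : IsPBlock M b) :
    IsIntClass M (indCoeff H b) := by
  classical
  haveI := Fintype.ofFinite H
  haveI : Fintype ((⊤ : Subgroup G) ⧸ H.subgroupOf ⊤) := Fintype.ofFinite _
  refine ⟨fun g z => ?_, fun g => ?_⟩
  · simp only [indCoeff]
    congr 1
    refine Fintype.sum_equiv (Equiv.mulLeft z⁻¹) _ _ fun x => ?_
    show _ = subgroupBlockCoeff H b ((z⁻¹ * x)⁻¹ * g * (z⁻¹ * x))
    congr 1
    group
  · rw [indCoeff_eq_sum]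
    exact memLocalRing_sum fun q _ => memLocalRing_subgroupBlockCoeff hb _

theorem redFun_indCoeff (H : Subgroup G) {b : Set (IrrCharacter H)} (hb : IsPBlock M b) :
    redFun M (indCoeff H b) = tr H ⊤ (idemIn M H b) := by
  classical
  haveI := Fintype.ofFinite H
  haveI : Fintype ((⊤ : Subgroup G) ⧸ H.subgroupOf ⊤) := Fintype.ofFinite _
  refine coeff_ext fun g => ?_
  rw [coeff_redFun, indCoeff_eq_sum, red_sum _ fun q _ => memLocalRing_subgroupBlockCoeff hb _,
    tr_apply, MonoidAlgebra.coeff_sum, Finsupp.finset_sum_apply]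
  exact sum_congr rfl fun q _ => by rw [coeff_cj, coeff_idemIn]

/-- The central character of the induced idempotent of a major subgroup is a unit. -/
theorem omega_indCoeff_not_ideal (hM : IsPModular p M) {Q H : Subgroup G} (hQ : IsPGroup p Q)
    (hH : H = Subgroup.centralizer (Q : Set G)) (hQH : Q ≤ H) [Fintype H]
    {b : Set (IrrCharacter H)} {B : Set (IrrCharacter G)} (hind : IsInducedBlock M H b B)
    (hbd : blockDefect p b = blockDefect p B) {χ : IrrCharacter G} (hχ : χ ∈ B) :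
    ¬ MemLocalIdeal M (omega (χ : G → ℂ) (indCoeff H b)) := by
  classical
  haveI := charP_residue hM
  subst hH
  obtain ⟨hb, hB, hcong⟩ := hind
  set bH := idemIn M (Subgroup.centralizer (Q : Set G)) b with hbH
  have hblkG := isBlk_idem hM hB
  have hblkH := isBlk_idemIn hM hb
  -- `(Q, b)` is a pair of `B`
  have hpair : IsBrauerPairOf p M B Q b := by
    refine ⟨⟨hQ, hb⟩, hB, fun ξ hξ => ?_⟩
    have h1 := induced_cong _ (hcong ξ hξ χ hχ) (isIntClass_blockCoeff hB)
    rw [omega_blockCoeff, if_pos hχ] at h1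
    have heq : brauerOmega Q (blockCoeff B) (ξ : Subgroup.centralizer (Q : Set G) → ℂ) =
        omega (ξ : Subgroup.centralizer (Q : Set G) → ℂ)
          (resFun (Subgroup.centralizer (Q : Set G)) (blockCoeff B)) := by
      rw [brauerOmega, omega, finsum_eq_sum_of_fintype, sum_div]
      rfl
    rwa [heq]
  obtain ⟨-, -, hpairG⟩ := (isBrauerPairOf_iff hM).mp hpair
  -- a common defect subgroup
  obtain ⟨D₀, hD₀⟩ := exists_defectGroup hb hM
  obtain ⟨Dg, hDg⟩ := exists_defectGroup hB hM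
  set D : Subgroup G := D₀.map (Subgroup.centralizer (Q : Set G)).subtype with hDdef
  have hmaxH := (isDefectGroup_sub_iff hM _ hb D₀).mp hD₀
  have hcardD : Nat.card D = Nat.card Dg := by
    rw [hDdef, Subgroup.card_map_of_injective (Subgroup.subtype_injective _),
      card_defectGroup hM hb hD₀, card_defectGroup hM hB hDg, hbd]
  have hDH : D ≤ Subgroup.centralizer (Q : Set G) := hmaxH.2.1
  have hDN : D ≤ Subgroup.normalizer (Q : Set G) :=
    hDH.trans (Subgroup.centralizer_le_normalizer _)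
  have hQD : Q ≤ D := by
    have hR : IsPGroup p (Q ⊔ D : Subgroup G) := hQ.to_sup_of_normal_left' hmaxH.1 hDN
    have hbr : br (Q ⊔ D) bH ≠ 0 := by
      intro h0
      refine hmaxH.2.2.1 (coeff_ext fun g => ?_)
      rw [coeff_br]
      split_ifs with hg
      · by_cases hgQ : g ∈ Subgroup.centralizer (Q : Set G)
        · have hgR : g ∈ Subgroup.centralizer ((Q ⊔ D : Subgroup G) : Set G) := by
            rw [Subgroup.mem_centralizer_iff]
            have hle : Q ⊔ D ≤ Subgroup.centralizer ({g} : Set G) := by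
              refine sup_le (fun u hu => ?_) (fun u hu => ?_)
              · exact Subgroup.mem_centralizer_singleton_iff.2 (Subgroup.mem_centralizer_iff.1 hgQ u hu)
              · exact Subgroup.mem_centralizer_singleton_iff.2 (Subgroup.mem_centralizer_iff.1 hg u hu)
            exact fun u hu => Subgroup.mem_centralizer_singleton_iff.1 (hle hu)
          rw [← coeff_br_of_mem (P := Q ⊔ D) bH hgR, h0]
        · rw [show bH.coeff g = 0 from hblkH.suppIn g hgQ]; rfl
      · rfl
    have := hmaxH.2.2.2 _ hR (sup_le hQH hDH) hbr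
    exact le_sup_left.trans (Subgroup.eq_of_le_of_card_ge le_sup_right this).ge
  have hCH : Subgroup.centralizer (D : Set G) ≤ Subgroup.centralizer (Q : Set G) :=
    Subgroup.centralizer_le (SetLike.coe_subset_coe.mpr hQD)
  set S := alg (Residue M) (Subgroup.centralizer (D : Set G)) (Subgroup.centralizer (D : Set G))
  have hbrS : br D bH ∈ S :=
    ⟨suppIn_br bH, fixBy_br (hblkH.fixBy.mono hCH) (Subgroup.centralizer_le_normalizer _)⟩
  obtain ⟨f, hf, hf0⟩ := exists_prim_mul_ne_zero (alg_comm (k := Residue M) le_rfl) hmaxH.2.2.1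
  have hfe : br D bH * f = f := by
    have hidem : br D bH * br D bH = br D bH := br_idem hmaxH.1 hblkH.idem (hblkH.fixBy.mono hDH)
    have := hf.mul_eq_self hbrS hidem hf0
    rwa [alg_comm (k := Residue M) le_rfl _ hf.mem _ hbrS] at this
  have hpD : IsPair p (D, f) := ⟨hmaxH.1, hf⟩
  have hstep : NStep p (Q, bH) (D, f) :=
    ⟨hpairG.1, hpD, hQD, hDN, hblkH.fixBy.mono hDH, hfe⟩
  have hmax : IsMaxPair p (idem M B) (D, f) :=
    (isMaxPair_iff_card hblkG (isDef_of_isDefectGroup hM hB hDg)).mpr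
      ⟨(isPairOf_iff_of_ple hblkG (Relation.ReflTransGen.single hstep) hpD).mp hpairG, hcardD⟩
  have hdef := (isDefect_iff_isDefMax hblkH le_rfl Subgroup.le_normalizer).mpr hmaxH
  have hnil := trace_mul_not_nilpotent hblkG hblkH hmax (isSplit_of_isBlk hM _ hf) hCH hdef hfe
  rw [← redFun_indCoeff _ hb] at hnil
  intro hideal
  apply hnil
  have hint := isIntClass_indCoeff (M := M) (Subgroup.centralizer (Q : Set G)) hb
  have hE : redFun M (indCoeff (Subgroup.centralizer (Q : Set G)) b) ∈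
      alg (Residue M) (⊤ : Subgroup G) ⊤ := redFun_mem hint.1
  have h0 : lam χ (redFun M (indCoeff (Subgroup.centralizer (Q : Set G)) b)) = 0 := by
    rw [lam_redFun χ hint, red_eq_zero_iff (omega_mem χ hint)]
    exact hideal
  rcases hblkG.nilpotent_or_inv (alg_comm le_rfl) (mul_mem hblkG.mem hE)
    (by rw [← mul_assoc, hblkG.idem]) with h | ⟨w, hw, h⟩
  · exact h
  · exfalso
    have h1 := lam_mul χ (mul_mem hblkG.mem hE) hw
    rw [h, lam_mul χ hblkG.mem hE, h0, lam_idem hB, if_pos hχ, mul_zero, zero_mul] at h1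
    exact one_ne_zero h1

/-! ### Contributions -/

/-- The degree without the least power of `p`. -/
noncomputable def redDeg (p : ℕ) {K : Type*} [Group K] (b : Set (IrrCharacter K))
    (ξ : IrrCharacter K) : ℕ :=
  charDegree (ξ : K → ℂ) / p ^ ((Nat.card K).factorization p - blockDefect p b)

section sub

variable {H : Subgroup G} [Fintype H] {y : G} {b : Set (IrrCharacter H)}

theorem pow_mul_redDeg (hM : IsPModular p M) (hb : IsPBlock M b) {ξ : IrrCharacter H} (hξ : ξ ∈ b) :
    p ^ ((Nat.card H).factorization p - blockDefect p b) * redDeg p b ξ = charDegree (ξ : H → ℂ) :=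
  Nat.mul_div_cancel' (((Fact.out : p.Prime).pow_dvd_iff_le_factorization (irr_one ξ).2.ne').2
    (degree_ge hM hb hξ))

/-- The reduced matrix is a multiple of the outer square of the reduced degrees. -/
theorem redInt_cong (hM : IsPModular p M) (hb : IsPBlock M b) :
    ∃ c : ℂ, MemLocalRing M c ∧ ¬ MemLocalIdeal M c ∧ ∀ ξ ∈ b, ∀ ξ' ∈ b,
      MemLocalIdeal M ((redInt p b ξ ξ' : ℂ) - c * redDeg p b ξ * redDeg p b ξ') := by
  classical
  obtain ⟨η, hη, h0⟩ := exists_height_zero hM hb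
  set w := ((Nat.card H / p ^ (Nat.card H).factorization p : ℕ) : ℂ)
  obtain ⟨hw, hw'⟩ := unit_ordCompl (G := H) hM
  have key : ∀ ξ ∈ b, ∀ ξ' ∈ b,
      w * (redInt p b ξ ξ' : ℂ) = (redDeg p b ξ' : ℂ) * heightForm p ξ ξ' := by
    intro ξ _ ξ' hξ'
    have h := mul_regInt (p := p) ξ ξ'
    rw [← redInt_spec hM hb hξ', ← pow_mul_redDeg hM hb hξ'] at h
    push_cast at h
    refine mul_left_cancel₀ (pow_ne_zero ((Nat.card H).factorization p - blockDefect p b)
      (Nat.cast_ne_zero.2 hM.1.ne_zero : (p : ℂ) ≠ 0)) ?_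
    linear_combination h
  have heη : ¬ p ∣ redDeg p b η := by
    have := factorization_degree hM hb hη
    rw [h0, add_zero] at this
    rw [redDeg, ← this]
    exact Nat.not_dvd_ordCompl hM.1 (irr_one η).2.ne'
  have heR : ∀ ξ, MemLocalRing M (redDeg p b ξ : ℂ) := fun ξ => natCast_mem_localRing _
  have hh : ¬ MemLocalIdeal M (heightForm p η η) := (heightForm_unit_iff hM hb hη hη).2 h0
  have hinv : MemLocalRing M ((redDeg p b η : ℂ) * w)⁻¹ := by
    rw [mul_inv]; exact memLocalRing_mul (memLocalRing_natCast_inv hM heη) hw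
  have hne : (redDeg p b η : ℂ) * w ≠ 0 := mul_ne_zero
    (Nat.cast_ne_zero.2 fun h => heη (h ▸ dvd_zero p)) (ne_zero_of_not_memLocalIdeal hw')
  refine ⟨heightForm p η η * ((redDeg p b η : ℂ) * w)⁻¹,
    memLocalRing_mul (heightForm_mem η η) hinv, ?_, ?_⟩
  · intro h
    refine not_memLocalIdeal_mul (heightForm_mem η η) hh ?_ h
    rw [mul_inv]
    exact not_memLocalIdeal_mul (memLocalRing_natCast_inv hM heη)
      (not_memLocalIdeal_inv (natCast_mem_localRing _) (mt (memLocalIdeal_natCast_iff hM).1 heη))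
      (not_memLocalIdeal_inv (natCast_mem_localRing _) hw')
  intro ξ hξ ξ' hξ'
  have h1 : MemLocalIdeal M ((redDeg p b η : ℂ) * heightForm p ξ ξ' -
      (redDeg p b ξ : ℂ) * heightForm p η η) := by
    have a1 := memLocalIdeal_mul_left (heR η) (heightForm_cong (p := p) hb ξ hξ' hη)
    have a2 := memLocalIdeal_mul_left (heR ξ) (heightForm_cong (p := p) hb η hξ hη)
    have e1 := key ξ hξ η hη
    rw [redInt_comm, key η hη ξ hξ] at e1
    have := memLocalIdeal_add a1 a2
    convert this using 1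
    first
      | linear_combination e1
      | linear_combination -e1
  have h2 := memLocalIdeal_mul_left (memLocalRing_mul hinv (heR ξ')) h1
  convert h2 using 1
  have e2 := key ξ hξ ξ' hξ'
  have hw0 : w ≠ 0 := ne_zero_of_not_memLocalIdeal hw'
  have hη0 : (redDeg p b η : ℂ) ≠ 0 := Nat.cast_ne_zero.2 fun h => heη (h ▸ dvd_zero p)
  have hR : (redInt p b ξ ξ' : ℂ) = w⁻¹ * ((redDeg p b ξ' : ℂ) * heightForm p ξ ξ') := by
    rw [← e2, inv_mul_cancel_left₀ hw0]
  rw [hR, mul_inv]
  have hi : (redDeg p b η : ℂ)⁻¹ * (redDeg p b η : ℂ) = 1 := inv_mul_cancel₀ hη0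
  linear_combination -(w⁻¹ * (redDeg p b ξ' : ℂ) * heightForm p ξ ξ') * hi

/-- A central element of the centralizer acts by a `p`-power root of unity. -/
theorem exists_section_scalar (hH : H = Subgroup.centralizer ({y} : Set G)) {k : ℕ}
    (hy : orderOf y = p ^ k) (ξ : IrrCharacter H) :
    ∃ lam : ℂ, lam ^ p ^ k = 1 ∧ ∀ (w : H), (w : G) = y → ∀ c : H,
      (ξ : H → ℂ) (w * c) = lam * (ξ : H → ℂ) c := by
  obtain ⟨n, σ, hirr, hσ⟩ := ξ.2
  haveI := hirr
  have hyH : y ∈ H := by rw [hH, Subgroup.mem_centralizer_singleton_iff]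
  set v : H := ⟨y, hyH⟩
  have hcomm : ∀ g, σ g * σ v = σ v * σ g := fun g => by
    rw [← map_mul, ← map_mul]
    exact congrArg σ (Subtype.ext ((mem_H_iff hH).1 g.2))
  obtain ⟨c, hc⟩ : ∃ c : ℂ, σ v = c • 1 := ⟨_, eq_smul_one_of_commute σ (σ v) hcomm⟩
  refine ⟨c, ?_, fun w hw d => ?_⟩
  · have h1 : v ^ p ^ k = 1 := Subtype.ext (by
      rw [SubgroupClass.coe_pow]
      exact hy ▸ pow_orderOf_eq_one y)
    have h2 := congrArg σ h1
    rw [map_pow, hc, smul_pow, one_pow, map_one] at h2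
    have ht := congrArg (LinearMap.trace ℂ (Fin n → ℂ)) h2
    rw [map_smul, LinearMap.trace_one, Module.finrank_fin_fun, smul_eq_mul] at ht
    have hn : (n : ℂ) ≠ 0 := by
      have := irr_one_ne_zero ξ
      rwa [← hσ, char_one_eq] at this
    exact mul_right_cancel₀ hn (ht.trans (one_mul _).symm)
  · rw [show w = v from Subtype.ext hw, ← hσ]
    simp only [Representation.character, map_mul, hc, smul_mul_assoc, one_mul, map_smul, smul_eq_mul]

/-- The multiplicity of `ξ` in the restriction. -/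
theorem exists_restr_mult (χ : IrrCharacter G) (ξ : IrrCharacter H) :
    ∃ n : ℕ, classInner (fun c : H => (χ : G → ℂ) c) (ξ : H → ℂ) = n :=
  IsCharacter.exists_classInner_eq_natCast'
    (IsCharacter.restrict (isCharacter_irr χ) H) (isCharacter_irr ξ)

/-- The coefficients of a section. -/
theorem exists_section_coeff (hM : IsPModular p M) (hH : H = Subgroup.centralizer ({y} : Set G))
    {k : ℕ} (hy : orderOf y = p ^ k) (χ : IrrCharacter G) (ξ : IrrCharacter H) :
    ∃ (lam : ℂ) (n : ℕ), lam ^ p ^ k = 1 ∧ MemLocalIdeal M (lam - 1) ∧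
      classInner (fun c : H => (χ : G → ℂ) c) (ξ : H → ℂ) = n ∧
      classInner (secFun H y χ) (ξ : H → ℂ) = lam * n := by
  classical
  letI := irrFintype (G := H)
  obtain ⟨n, hn⟩ := exists_restr_mult χ ξ
  obtain ⟨lam, hlam, hval⟩ := exists_section_scalar hH hy ξ
  refine ⟨lam, n, hlam, ?_, hn, ?_⟩
  · have hint : IsIntegral ℤ lam := isIntegral_of_pow_eq_one (pow_pos hM.1.pos k) hlam
    have hz := res_eq_one_of_pow_eq_one hM (z := (⟨lam, memLocalRing_of_isIntegral hint⟩ : localRing M))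
      (n := k) (Subtype.ext (by simpa using hlam))
    have h1 : res M (⟨lam, memLocalRing_of_isIntegral hint⟩ : localRing M) = res M 1 := by
      rw [hz, map_one]
    simpa using (res_eq_iff.1 h1)
  have hyH : y ∈ H := by rw [hH, Subgroup.mem_centralizer_singleton_iff]
  have hcl : IsClassFunction H (fun c : H => (χ : G → ℂ) c) :=
    fun c v => by simpa using isClassFunction_irr χ (c : G) (v : G)
  have hexp : secFun H y χ = fun c => ∑ ζ : IrrCharacter H,
      classInner (fun c : H => (χ : G → ℂ) c) (ζ : H → ℂ) * (ζ : H → ℂ) (⟨y, hyH⟩ * c) := by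
    funext c
    show (χ : G → ℂ) (y * c) = _
    exact classFun_expand hcl (⟨y, hyH⟩ * c)
  choose L _ hL using fun ζ : IrrCharacter H => exists_section_scalar hH hy ζ
  have hLξ : L ξ = lam := by
    have h1 := hL ξ ⟨y, hyH⟩ rfl 1
    rw [hval ⟨y, hyH⟩ rfl 1] at h1
    exact (mul_right_cancel₀ (irr_one_ne_zero ξ) h1).symm
  rw [hexp]
  simp only [hL _ ⟨y, hyH⟩ rfl, ← mul_assoc]
  have e : (fun c => ∑ ζ : IrrCharacter H,
      classInner (fun c : H => (χ : G → ℂ) c) (ζ : H → ℂ) * L ζ * (ζ : H → ℂ) c) =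
      ∑ ζ : IrrCharacter H,
        (classInner (fun c : H => (χ : G → ℂ) c) (ζ : H → ℂ) * L ζ) • (ζ : H → ℂ) := by
    funext c
    simp [Finset.sum_apply]
  rw [e, classInner_sum_left]
  simp only [classInner_smul_left, classInner_irr, mul_ite, mul_one, mul_zero, sum_ite_eq',
    mem_univ, if_true, hLξ, hn]
  exact mul_comm _ _

theorem contrib_eq_sum (hM : IsPModular p M) (hb : IsPBlock M b) [Fintype b]
    (χ ψ : IrrCharacter G) :
    contrib p b y χ ψ = ∑ ξ : b, ∑ ξ' : b, classInner (secFun H y χ) ((ξ : IrrCharacter H) : H → ℂ) *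
      conj (classInner (secFun H y ψ) ((ξ' : IrrCharacter H) : H → ℂ)) * regMat p b ξ ξ' := by
  classical
  letI := irrFintype (G := H)
  have hsub : ∀ φ : IrrCharacter G, subPart p b y φ =
      ∑ ξ : b, classInner (secFun H y φ) ((ξ : IrrCharacter H) : H → ℂ) •
        regPart p ((ξ : IrrCharacter H) : H → ℂ) := by
    intro φ
    funext s
    rw [Finset.sum_apply, subPart_eq_regPart hM hb]
    by_cases hs : p ∣ orderOf s
    · simp [regPart_of_dvd hs]
    · simp only [Pi.smul_apply, smul_eq_mul, regPart_of_not_dvd hs]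
      rw [blockPart_eq_sum_inner]
      exact sum_subtype (univ.filter (· ∈ b)) (p := (· ∈ b)) (by simp)
        fun ξ : IrrCharacter H => classInner (secFun H y φ) (ξ : H → ℂ) * (ξ : H → ℂ) s
  rw [contrib, hsub, hsub, classInner_sum_left]
  refine sum_congr rfl fun ξ _ => ?_
  rw [classInner_sum_right]
  refine sum_congr rfl fun ξ' _ => ?_
  rw [classInner_smul_left, classInner_smul_right, ← mul_assoc]
  congr 1
  simp only [regMat, CfsgLib.Char.classInner_def]
  congr 1
  refine sum_congr rfl fun g _ => ?_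
  by_cases hg : p ∣ orderOf g
  · simp [regPart_of_dvd hg]
  · simp [regPart_of_not_dvd hg]

/-- The reduced degree of the block part of a restriction. -/
theorem not_dvd_sum_redDeg (hM : IsPModular p M) {B : Set (IrrCharacter G)} {Q : Subgroup G}
    (hQ : IsPGroup p Q) (hH : H = Subgroup.centralizer (Q : Set G)) (hQH : Q ≤ H)
    (hind : IsInducedBlock M H b B) (hbd : blockDefect p b = blockDefect p B)
    {χ : IrrCharacter G} (hχ : χ ∈ B) (h0 : blockHeight p B (χ : G → ℂ) = 0) [Fintype b]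
    (n : b → ℕ)
    (hn : ∀ ξ : b, classInner (fun c : H => (χ : G → ℂ) c) ((ξ : IrrCharacter H) : H → ℂ) = n ξ) :
    ¬ p ∣ ∑ ξ : b, n ξ * redDeg p b ξ.1 := by
  classical
  letI := irrFintype (G := H)
  intro hdvd
  refine omega_indCoeff_not_ideal hM hQ hH hQH hind hbd hχ ?_
  set a := (Nat.card G).factorization p
  set aH := (Nat.card H).factorization p
  set d := blockDefect p B
  set qn := ∑ ξ : b, n ξ * redDeg p b ξ.1
  have haH : aH ≤ a := (Nat.factorization_le_iff_dvd Nat.card_pos.ne' Nat.card_pos.ne').2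
    (Subgroup.card_subgroup_dvd_card H) p
  have hdH : d ≤ aH := hbd ▸ blockDefect_le b
  set d' := charDegree (χ : G → ℂ) / p ^ (a - d)
  have hdeg : p ^ (a - d) * d' = charDegree (χ : G → ℂ) ∧ ¬ p ∣ d' := by
    have := factorization_degree hM hind.2.1 hχ
    rw [h0, add_zero] at this
    simp only [d', ← show (charDegree (χ : G → ℂ)).factorization p = a - d from this]
    exact ⟨Nat.ordProj_mul_ordCompl_eq_self _ _, Nat.not_dvd_ordCompl hM.1 (irr_one χ).2.ne'⟩
  set j := (Nat.card G / p ^ a) / (Nat.card H / p ^ aH) with hjdef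
  have hj : Nat.card G = p ^ (a - aH) * j * Nat.card H := by
    have h1 : Nat.card H / p ^ aH ∣ Nat.card G / p ^ a :=
      Nat.ordCompl_dvd_ordCompl_of_dvd (Subgroup.card_subgroup_dvd_card H) p
    calc Nat.card G = p ^ a * (Nat.card G / p ^ a) := (Nat.ordProj_mul_ordCompl_eq_self _ _).symm
      _ = p ^ (a - aH) * p ^ aH * (j * (Nat.card H / p ^ aH)) := by
        rw [← pow_add, Nat.sub_add_cancel haH, hjdef, Nat.div_mul_cancel h1]
      _ = p ^ (a - aH) * j * (p ^ aH * (Nat.card H / p ^ aH)) := by ring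
      _ = _ := by rw [Nat.ordProj_mul_ordCompl_eq_self]
  have hpart : ∑ h : H, blockCoeff b h * (χ : G → ℂ) h = ((p ^ (aH - d) * qn : ℕ) : ℂ) := by
    have hcl : IsClassFunction H (fun c : H => (χ : G → ℂ) c) :=
      fun c v => by simpa using isClassFunction_irr χ (c : G) (v : G)
    have h := blockPart_eq_conv b hcl 1
    rw [blockPart_eq_sum_inner] at h
    simp only [mul_one] at h
    rw [← h, sum_subtype (univ.filter (· ∈ b)) (p := (· ∈ b)) (by simp)
      (fun ξ : IrrCharacter H => classInner (fun c : H => (χ : G → ℂ) c) (ξ : H → ℂ) * (ξ : H → ℂ) 1),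
      mul_sum, Nat.cast_sum]
    refine sum_congr rfl fun ξ _ => ?_
    rw [hn, (irr_one ξ.1).1, ← pow_mul_redDeg hM hind.1 ξ.2, hbd]
    push_cast
    ring
  have hom : omega (χ : G → ℂ) (indCoeff H b) = ((j * qn : ℕ) : ℂ) * (d' : ℂ)⁻¹ := by
    have hsum : ∑ g : G, indCoeff H b g * (χ : G → ℂ) g =
        (Nat.card H : ℂ)⁻¹ * ((Nat.card G : ℂ) * ∑ h : H, blockCoeff b h * (χ : G → ℂ) h) := by
      rw [sum_congr rfl fun g _ => show indCoeff H b g * (χ : G → ℂ) g = (Nat.card H : ℂ)⁻¹ *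
          ∑ x : G, subgroupBlockCoeff H b (x⁻¹ * g * x) * (χ : G → ℂ) g by
        rw [indCoeff, mul_assoc, sum_mul], ← mul_sum]
      congr 1
      rw [sum_comm]
      have hx : ∀ x : G, ∑ g : G, subgroupBlockCoeff H b (x⁻¹ * g * x) * (χ : G → ℂ) g =
          ∑ h : H, blockCoeff b h * (χ : G → ℂ) h := by
        intro x
        have e1 : ∑ g : G, subgroupBlockCoeff H b (x⁻¹ * g * x) * (χ : G → ℂ) g =
            ∑ g : G, subgroupBlockCoeff H b g * (χ : G → ℂ) g := by
          refine Fintype.sum_equiv (MulAut.conj x⁻¹).toEquiv _ _ fun g => ?_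
          show subgroupBlockCoeff H b (x⁻¹ * g * x) * (χ : G → ℂ) g =
            subgroupBlockCoeff H b (x⁻¹ * g * x⁻¹⁻¹) * (χ : G → ℂ) (x⁻¹ * g * x⁻¹⁻¹)
          rw [isClassFunction_irr χ g x⁻¹, inv_inv]
        rw [e1, ← sum_filter_add_sum_filter_not univ (· ∈ H),
          sum_eq_zero (s := univ.filter fun g => g ∉ H) (fun g hg => by
            rw [subgroupBlockCoeff_not_mem b (mem_filter.1 hg).2, zero_mul]), add_zero,
          sum_subtype (univ.filter (· ∈ H)) (p := (· ∈ H)) (by simp)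
            (fun g => subgroupBlockCoeff H b g * (χ : G → ℂ) g)]
        exact sum_congr rfl fun h _ => by rw [subgroupBlockCoeff_coe]
      rw [sum_congr rfl fun x _ => hx x, sum_const, card_univ, nsmul_eq_mul,
        Nat.card_eq_fintype_card]
    rw [omega, hsum, hpart, (irr_one χ).1, ← hdeg.1, hj,
      show a - d = (a - aH) + (aH - d) by omega, pow_add]
    have hp0 : (p : ℂ) ≠ 0 := Nat.cast_ne_zero.2 hM.1.ne_zero
    have hd0 : (d' : ℂ) ≠ 0 := Nat.cast_ne_zero.2 fun h => hdeg.2 (h ▸ dvd_zero p)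
    have hH0 : (Nat.card H : ℂ) ≠ 0 := Nat.cast_ne_zero.2 Nat.card_pos.ne'
    push_cast
    field_simp
  rw [hom]
  exact memLocalIdeal_mul_right ((memLocalIdeal_natCast_iff hM).2 (hdvd.mul_left j))
    (memLocalRing_natCast_inv hM hdeg.2)

/-- The scaled contributions are algebraic integers, nonzero at heights zero. -/
theorem scaled_contrib_props (hM : IsPModular p M) (hH : H = Subgroup.centralizer ({y} : Set G))
    {k : ℕ} (hy : orderOf y = p ^ k) {B : Set (IrrCharacter G)} (hind : IsInducedBlock M H b B)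
    (hbd : blockDefect p b = blockDefect p B) (χ ψ : IrrCharacter G) :
    ((p : ℂ) ^ blockDefect p B * contrib p b y χ ψ ∈ cycloField (p ^ k)) ∧
      IsIntegral ℤ ((p : ℂ) ^ blockDefect p B * contrib p b y χ ψ) ∧
      (χ ∈ B → ψ ∈ B → blockHeight p B (χ : G → ℂ) = 0 → blockHeight p B (ψ : G → ℂ) = 0 →
        ¬ MemLocalIdeal M ((p : ℂ) ^ blockDefect p B * contrib p b y χ ψ)) := by
  classical
  letI := irrFintype (G := H)
  haveI : Fintype b := Fintype.ofFinite b
  choose L N hL hL1 hN hLN using fun φ (ξ : b) => exists_section_coeff hM hH hy φ ξ.1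
  have hconjL : ∀ φ ξ, conj (L φ ξ) = (L φ ξ)⁻¹ := fun φ ξ =>
    (Complex.inv_eq_conj (Complex.norm_eq_one_of_pow_eq_one (hL φ ξ) (pow_pos hM.1.pos k).ne')).symm
  have hformula : (p : ℂ) ^ blockDefect p B * contrib p b y χ ψ =
      ∑ ξ : b, ∑ ξ' : b, L χ ξ * (N χ ξ : ℂ) * ((L ψ ξ')⁻¹ * (N ψ ξ' : ℂ)) *
        (redInt p b ξ.1 ξ'.1 : ℂ) := by
    rw [contrib_eq_sum hM hind.1, mul_sum]
    refine sum_congr rfl fun ξ _ => ?_
    rw [mul_sum]
    refine sum_congr rfl fun ξ' _ => ?_
    rw [hLN, hLN, map_mul, hconjL, map_natCast, redInt_eq_regMat hM hind.1, hbd]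
    ring
  rw [hformula]
  have hpk : 0 < p ^ k := pow_pos hM.1.pos k
  refine ⟨sum_mem fun ξ _ => sum_mem fun ξ' _ => ?_,
    IsIntegral.sum _ fun ξ _ => IsIntegral.sum _ fun ξ' _ => ?_, fun hχ hψ h0 h0' => ?_⟩
  · exact mul_mem (mul_mem (mul_mem (root_mem_cycloField (hL χ ξ)) (natCast_mem _ _))
      (mul_mem (inv_mem (root_mem_cycloField (hL ψ ξ'))) (natCast_mem _ _))) (intCast_mem _ _)
  · refine (((isIntegral_of_pow_eq_one hpk (hL χ ξ)).mul (isIntegral_natCast_complex _)).mul
      ((isIntegral_of_pow_eq_one hpk ?_).mul (isIntegral_natCast_complex _))).mul ?_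
    · rw [inv_pow, hL, inv_one]
    · simpa using isIntegral_algebraMap (R := ℤ) (A := ℂ) (x := redInt p b ξ.1 ξ'.1)
  obtain ⟨c, hcR, hc, hcong⟩ := redInt_cong hM hind.1
  have hQ : IsPGroup p (Subgroup.zpowers y) :=
    IsPGroup.of_card (n := k) (by rw [Nat.card_zpowers, hy])
  have hHQ : H = Subgroup.centralizer (Subgroup.zpowers y : Set G) := by
    rw [centralizer_zpowers_eq, hH]
  have hQH : Subgroup.zpowers y ≤ H := hHQ ▸ zpowers_le_centralizer_zpowers y
  have hq1 := not_dvd_sum_redDeg hM hQ hHQ hQH hind hbd hχ h0 (N χ) (hN χ)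
  have hq2 := not_dvd_sum_redDeg hM hQ hHQ hQH hind hbd hψ h0' (N ψ) (hN ψ)
  have hgoal : MemLocalIdeal M ((∑ ξ : b, ∑ ξ' : b, L χ ξ * (N χ ξ : ℂ) *
      ((L ψ ξ')⁻¹ * (N ψ ξ' : ℂ)) * (redInt p b ξ.1 ξ'.1 : ℂ)) -
      c * ((∑ ξ : b, N χ ξ * redDeg p b ξ.1 : ℕ) : ℂ) * ((∑ ξ : b, N ψ ξ * redDeg p b ξ.1 : ℕ) : ℂ)) := by
    push_cast
    rw [mul_assoc, sum_mul_sum, mul_sum, ← sum_sub_distrib]
    refine memLocalIdeal_sum fun ξ _ => ?_
    rw [mul_sum, ← sum_sub_distrib]
    refine memLocalIdeal_sum fun ξ' _ => ?_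
    have hL' : MemLocalIdeal M (L χ ξ * (L ψ ξ')⁻¹ - 1) := by
      have hLint : MemLocalRing M (L ψ ξ')⁻¹ := by
        refine memLocalRing_of_isIntegral (isIntegral_of_pow_eq_one hpk ?_)
        rw [inv_pow, hL, inv_one]
      have h2 : MemLocalIdeal M ((L ψ ξ')⁻¹ * (L χ ξ - 1) - (L ψ ξ')⁻¹ * (L ψ ξ' - 1)) :=
        memLocalIdeal_sub (memLocalIdeal_mul_left hLint (hL1 χ ξ))
          (memLocalIdeal_mul_left hLint (hL1 ψ ξ'))
      have hLne : L ψ ξ' ≠ 0 := fun h => by
        have := hL ψ ξ'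
        rw [h, zero_pow hpk.ne'] at this
        exact zero_ne_one this
      convert h2 using 1
      field_simp
      ring
    have t1 : MemLocalIdeal M ((L χ ξ * (L ψ ξ')⁻¹ - 1) *
        ((N χ ξ : ℂ) * (N ψ ξ' : ℂ) * (redInt p b ξ.1 ξ'.1 : ℂ))) :=
      memLocalIdeal_mul_right hL' (memLocalRing_mul
        (memLocalRing_mul (natCast_mem_localRing _) (natCast_mem_localRing _))
        (intCast_mem (localRing M) _))
    have t2 := memLocalIdeal_mul_left
      (memLocalRing_mul (natCast_mem_localRing (N χ ξ)) (natCast_mem_localRing (N ψ ξ')))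
      (hcong ξ.1 ξ.2 ξ'.1 ξ'.2)
    convert memLocalIdeal_add t1 t2 using 1
    push_cast
    ring
  intro hI
  have h2 := (memLocalIdeal_iff_of_cong hgoal).1 hI
  refine not_memLocalIdeal_mul (memLocalRing_mul hcR (natCast_mem_localRing _))
    (not_memLocalIdeal_mul hcR hc (mt (memLocalIdeal_natCast_iff hM).1 hq1))
    (mt (memLocalIdeal_natCast_iff hM).1 hq2) h2

end sub

/-- With all heights zero, `k ^ 2 ≤ p ^ (2 d) * l` for a major subsection. -/
theorem card_sq_le (hM : IsPModular p M) {B : Set (IrrCharacter G)}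
    (hh : ∀ χ ∈ B, blockHeight p B (χ : G → ℂ) = 0) {y : G} {k : ℕ} (hy : orderOf y = p ^ k)
    [Fintype (Subgroup.centralizer ({y} : Set G))]
    {b : Set (IrrCharacter (Subgroup.centralizer ({y} : Set G)))}
    (hind : IsInducedBlock M (Subgroup.centralizer ({y} : Set G)) b B)
    (hbd : blockDefect p b = blockDefect p B) :
    Nat.card B ^ 2 ≤ p ^ (2 * blockDefect p B) * blockRank p b := by
  classical
  letI := irrFintype (G := G)
  set S := univ.filter (· ∈ B)
  set d := blockDefect p B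
  have hsum : ∑ q ∈ S ×ˢ S, (p : ℂ) ^ d * contrib p b y q.1 q.2 *
      conj ((p : ℂ) ^ d * contrib p b y q.1 q.2) =
      (((p : ℚ) ^ (2 * d) * blockRank p b : ℚ) : ℂ) := by
    rw [sum_product]
    simp only [map_mul, map_pow, map_natCast, conj_contrib]
    have e : ∀ χ ψ : IrrCharacter G, (p : ℂ) ^ d * contrib p b y χ ψ *
        ((p : ℂ) ^ d * contrib p b y ψ χ) =
        (p : ℂ) ^ (2 * d) * (contrib p b y χ ψ * contrib p b y ψ χ) := fun χ ψ => by ring
    simp only [e, ← mul_sum]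
    simp only [S, contrib_mul hM rfl hy hind, sum_contrib_diag hM rfl hy hind]
    push_cast
    ring
  have hprops := scaled_contrib_props hM rfl hy hind hbd
  have h := card_le_sum_normSq (pow_pos hM.1.pos k) (S ×ˢ S)
    (fun q => (p : ℂ) ^ d * contrib p b y q.1 q.2)
    (fun q _ => (hprops q.1 q.2).1) (fun q _ => (hprops q.1 q.2).2.1)
    (fun q hq => by
      have hq' := mem_product.1 hq
      have h1 := (mem_filter.1 hq'.1).2
      have h2 := (mem_filter.1 hq'.2).2
      intro h0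
      exact (hprops q.1 q.2).2.2 h1 h2 (hh _ h1) (hh _ h2)
        (show MemLocalIdeal M ((p : ℂ) ^ d * contrib p b y q.1 q.2) from h0 ▸ memLocalIdeal_zero))
    _ hsum
  have hcard : Nat.card B = S.card := by
    rw [Nat.card_eq_fintype_card, Fintype.card_subtype]
  rw [card_product] at h
  rw [hcard, sq]
  exact_mod_cast h

end CfsgLib.BlockB
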