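import Cfsg.Agent.BlocksB.PConjugate
import Cfsg.Agent.BlocksB.Cyclic.Correspondent
import Cfsg.Agent.Blocks.FirstMain
import Cfsg.Agent.Blocks.NormalSub

/-!
# The characters of degree prime to a prime dividing the order once

The blocks of positive defect correspond to the blocks of the normalizer of a Sylow subgroup with
the same inertial index, so they have the same number of members.
-/

set_option autoImplicit false
set_option linter.style.haveILetI false
set_option linter.unusedSectionVars false

namespace CfsgLib.McKayPrime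

open Cfsg Finset CfsgLib.Block CfsgLib.Block.Chr CfsgLib.BrauerPairs CfsgLib.BlockStar
  CfsgLib.BlockB CfsgLib.Cyclic
open scoped Classical

universe u

variable {M : Ideal AlgInt} [M.IsPrime] {p : ℕ} [Fact p.Prime] [CharP (Residue M) p]
  {G : Type u} [Group G] [Fintype G]

local notation "C[" Q "]" => Subgroup.centralizer (SetLike.coe Q)
local notation "N[" Q "]" => Subgroup.normalizer (SetLike.coe Q)

/-- The number of members of a block with cyclic defect group of prime order. -/
theorem card_block {B : Set (IrrCharacter G)} {P : Subgroup G} {c : Set (IrrCharacter C[P])}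
    {t : G} {n : ℕ} (S : CycData (M := M) p B P c t n) (hP : Nat.card P = p) :
    Nat.card B = n + (p - 1) / n := by
  haveI := Fintype.ofFinite P
  letI := irrFintype (G := G)
  haveI : Fintype B := Fintype.ofFinite B
  obtain ⟨m, V⟩ := S.exists_cycVals
  obtain ⟨χ, hχ, -⟩ := exists_height_zero S.hM S.hB
  obtain ⟨-, X, δ, δ₀, rep, T, -⟩ := exists_tree S V ⟨χ, hχ⟩
  have h := T.card_Y
  rw [hP] at h
  rw [Nat.card_eq_fintype_card, ← card_add_card_compl X, T.card_X, ← h, Nat.add_sub_cancel,
    Nat.mul_div_cancel_left _ S.n_pos]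

/-- The members of a block of positive defect have degree prime to `p`. -/
theorem not_dvd_degree (hM : IsPModular p M) (hN : (Nat.card G).factorization p = 1)
    {B : Set (IrrCharacter G)} (hB : IsPBlock M B) (hd : blockDefect p B = 1)
    {χ : IrrCharacter G} (hχ : χ ∈ B) : ¬ p ∣ charDegree (χ : G → ℂ) := by
  obtain ⟨P, c, t, n, -, S⟩ := PConj.exists_setup hM hB (by omega) hN
  haveI := Fintype.ofFinite P
  letI := irrFintype (G := G)
  haveI : Fintype B := Fintype.ofFinite B
  obtain ⟨m, V⟩ := S.exists_cycVals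
  obtain ⟨χ₀, hχ₀, -⟩ := exists_height_zero hM hB
  obtain ⟨-, X, δ, δ₀, rep, T, -⟩ := exists_tree S V ⟨χ₀, hχ₀⟩
  have h : blockHeight p B (χ : G → ℂ) = 0 := T.height_zero V ⟨χ, hχ⟩
  rw [blockHeight] at h
  rw [blockDefect] at hd
  intro hdvd
  have := (Fact.out : p.Prime).factorization_pos_of_dvd (irr_one χ).2.ne' hdvd
  omega

/-- A character of degree prime to `p` lies in a block of defect one. -/
theorem defect_one (hN : (Nat.card G).factorization p = 1) {B : Set (IrrCharacter G)}
    {χ : IrrCharacter G} (hχ : χ ∈ B) (h : ¬ p ∣ charDegree (χ : G → ℂ)) :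
    blockDefect p B = 1 := by
  have h0 : (charDegree (χ : G → ℂ)).factorization p = 0 := Nat.factorization_eq_zero_of_not_dvd h
  have h1 : sInf ((fun χ : IrrCharacter G => (charDegree (χ : G → ℂ)).factorization p) '' B) = 0 :=
    Nat.le_zero.1 (h0 ▸ Nat.sInf_le ⟨χ, hχ, rfl⟩)
  rw [blockDefect, h1, hN]

/-- A Sylow subgroup is a defect group of every block of positive defect. -/
theorem isDefectGroup_sylow (hM : IsPModular p M) (hN : (Nat.card G).factorization p = 1)
    {B : Set (IrrCharacter G)} (hB : IsPBlock M B) (hd : blockDefect p B = 1) (P : Sylow p G) :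
    IsDefectGroup p M B (P : Subgroup G) := by
  obtain ⟨D, hD⟩ := exists_defectGroup hB hM
  have hcard : Nat.card D = p ^ (Nat.card G).factorization p := by
    rw [card_defectGroup hM hB hD, hd, hN]
  obtain ⟨x, hx⟩ := MulAction.exists_smul_eq G (Sylow.ofCard D hcard) P
  have h := isDefectGroup_conj hM hB hD x
  rw [← hx]
  exact h

/-- The blocks of a group with a normal Sylow subgroup of order `p`. -/
theorem normal_defect (hM : IsPModular p M) (hN : (Nat.card G).factorization p = 1)
    (Q : Subgroup G) [Q.Normal] (hQ : Nat.card Q = p) {B : Set (IrrCharacter G)}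
    (hB : IsPBlock M B) : blockDefect p B = 1 ∧ IsDefectGroup p M B Q := by
  obtain ⟨D, hD⟩ := exists_defectGroup hB hM
  have hle : Q ≤ D := normal_le_defectGroup hM hB hD Q (IsPGroup.of_card (n := 1) (by rw [hQ, pow_one]))
  have h1 := Subgroup.card_le_of_le hle
  have h2 := card_defectGroup hM hB hD
  have h3 : blockDefect p B ≤ 1 := hN ▸ Nat.sub_le _ _
  have h4 : blockDefect p B = 1 := by
    rcases Nat.le_one_iff_eq_zero_or_eq_one.1 h3 with e | e
    · rw [e, pow_zero] at h2
      rw [hQ, h2] at h1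
      exact absurd h1 (not_le.2 (Fact.out : p.Prime).one_lt)
    · exact e
  refine ⟨h4, ?_⟩
  rwa [Subgroup.eq_of_le_of_card_ge hle (le_of_eq (by rw [h2, h4, pow_one, hQ]))]

/-- The characters of degree prime to `p` by their blocks. -/
noncomputable def primeDegreeEquiv (hM : IsPModular p M) (hN : (Nat.card G).factorization p = 1) :
    {χ : IrrCharacter G // ¬ p ∣ charDegree (χ : G → ℂ)} ≃
      Σ B : {B : Set (IrrCharacter G) // IsPBlock M B ∧ blockDefect p B = 1}, B.1 where
  toFun χ := ⟨⟨blockOf M (χ.1 : G → ℂ), isPBlock_blockOf χ.1,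
    defect_one hN (mem_blockOf_self χ.1) χ.2⟩, ⟨χ.1, mem_blockOf_self χ.1⟩⟩
  invFun x := ⟨x.2.1, not_dvd_degree hM hN x.1.2.1 x.1.2.2 x.2.2⟩
  left_inv χ := rfl
  right_inv x := Sigma.subtype_ext (Subtype.ext (eq_blockOf_of_mem x.1.2.1 x.2.2).symm) rfl

/-- The characters by their blocks. -/
noncomputable def blockEquiv :
    IrrCharacter G ≃ Σ B : {B : Set (IrrCharacter G) // IsPBlock M B}, B.1 where
  toFun χ := ⟨⟨blockOf M (χ : G → ℂ), isPBlock_blockOf χ⟩, ⟨χ, mem_blockOf_self χ⟩⟩
  invFun x := x.2.1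
  left_inv χ := rfl
  right_inv x := Sigma.subtype_ext (Subtype.ext (eq_blockOf_of_mem x.1.2 x.2.2).symm) rfl

/-- **The McKay count** for a prime dividing the order once. -/
theorem card_prime_degree (hM : IsPModular p M) (hN : (Nat.card G).factorization p = 1)
    (P : Sylow p G) :
    Nat.card {χ : IrrCharacter G // ¬ p ∣ charDegree (χ : G → ℂ)} =
      Nat.card (ConjClasses (N[(P : Subgroup G)] : Subgroup G)) := by
  have hp : p.Prime := Fact.out
  set Q := (P : Subgroup G)
  set H := (N[Q] : Subgroup G)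
  haveI : Fintype H := Fintype.ofFinite H
  haveI := CfsgLib.Char.finite_irrCharacter G
  haveI := CfsgLib.Char.finite_irrCharacter H
  have hQ : Nat.card Q = p := by rw [P.card_eq_multiplicity, hN, pow_one]
  have hQH : Q ≤ H := Subgroup.le_normalizer
  haveI : (Q.subgroupOf H).Normal := (Subgroup.normal_subgroupOf_iff_le_normalizer hQH).2 le_rfl
  have hQ' : Nat.card (Q.subgroupOf H) = p :=
    (Nat.card_congr (Subgroup.subgroupOfEquivOfLe hQH).toEquiv).trans hQ
  have hNH : (Nat.card H).factorization p = 1 := by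
    refine le_antisymm (hN ▸ (Nat.factorization_le_iff_dvd Nat.card_pos.ne' Nat.card_pos.ne').2
      (Subgroup.card_subgroup_dvd_card H) p) ?_
    exact (hp.dvd_iff_one_le_factorization Nat.card_pos.ne').1
      (hQ' ▸ Subgroup.card_subgroup_dvd_card _)
  have hex : ∀ b : {b : Set (IrrCharacter H) // IsPBlock M b},
      ∃ B : {B : Set (IrrCharacter G) // IsPBlock M B ∧ blockDefect p B = 1},
        IsInducedBlock M H b.1 B.1 := fun b => by
    obtain ⟨B, hB, hD, hind⟩ := first_main_exists hM b.2
      (normal_defect hM hNH (Q.subgroupOf H) hQ' b.2).2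
    refine ⟨⟨B, hB, ?_⟩, hind⟩
    have h := card_defectGroup hM hB hD
    rw [hQ] at h
    exact (Nat.pow_eq_self_iff hp.one_lt).1 h.symm
  choose F hF using hex
  have hbij : Function.Bijective F := by
    refine ⟨fun b b' h => Subtype.ext ?_, fun B => ?_⟩
    · obtain ⟨b₀, -, huniq⟩ := first_main_existsUnique hM (F b).2.1
        (isDefectGroup_sylow hM hN (F b).2.1 (F b).2.2 P)
      exact (huniq b.1 ⟨b.2, (normal_defect hM hNH (Q.subgroupOf H) hQ' b.2).2, hF b⟩).trans
        (huniq b'.1 ⟨b'.2, (normal_defect hM hNH (Q.subgroupOf H) hQ' b'.2).2, h ▸ hF b'⟩).symm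
    · obtain ⟨b, ⟨hb, -, hind⟩, -⟩ := first_main_existsUnique hM B.2.1
        (isDefectGroup_sylow hM hN B.2.1 B.2.2 P)
      exact ⟨⟨b, hb⟩, Subtype.ext (induced_unique (hF ⟨b, hb⟩) hind)⟩
  have hsize : ∀ b, Nat.card b.1 = Nat.card (F b).1 := fun b => by
    obtain ⟨c, c', n, t, t', S, S'⟩ := exists_cycData_correspondent hM
      (isDefectGroup_sylow hM hN (F b).2.1 (F b).2.2 P) (isCyclic_of_prime_card hQ)
      (fun h => by rw [show Nat.card Q = 1 from Subgroup.card_eq_one.2 h] at hQ; exact hp.one_lt.ne hQ)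
      hQH le_rfl (normal_defect hM hNH (Q.subgroupOf H) hQ' b.2).2 (hF b)
    rw [card_block S' hQ', card_block S hQ]
  rw [Nat.card_congr (primeDegreeEquiv hM hN), ← CfsgLib.Char.card_irr_eq_card_conjClasses,
    Nat.card_congr (blockEquiv (M := M) (G := H))]
  exact (Nat.card_congr (Equiv.sigmaCongr (Equiv.ofBijective F hbij) fun b =>
    (Finite.card_eq.1 (hsize b)).some)).symm

end CfsgLib.McKayPrime
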