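import Cfsg.Agent.Blocks.TraceFormula
import Cfsg.Agent.BrauerPairs.NilpotentBridge
import Cfsg.Agent.BrauerPairs.LocalBlocks
import Mathlib.LinearAlgebra.Matrix.ToLin
import Mathlib.LinearAlgebra.Matrix.NonsingularInverse

/-!
# Blocks of least possible dimension

If the squares of the degrees in a block of defect `d` sum up to `p ^ (2 a - d)`, then the block,
as a bimodule for a Sylow subgroup, is one transitive permutation module; this forces nilpotency.
-/

namespace CfsgLib.MinimalDim

open Cfsg CfsgLib.Block CfsgLib.Block.Chr CfsgLib.BrauerPairs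
open Matrix hiding mul_inv_rev
open scoped commutatorElement
open scoped ComplexConjugate

set_option linter.unusedSectionVars false
set_option maxHeartbeats 400000

/-- An invariant group of functions on a set with a transitive `p`-group contains a nonzero
constant as soon as it is nonzero. -/
theorem exists_const_mem {p : ℕ} [hp : Fact p.Prime] {k : Type*} [Field k] [CharP k p]
    {H Ω : Type*} [Group H] [Finite H] (hH : IsPGroup p H) (φ : H →* Equiv.Perm Ω)
    (htr : ∀ ω ω' : Ω, ∃ h : H, φ h ω = ω') (K : AddSubgroup (Ω → k))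
    (hinv : ∀ h : H, ∀ f ∈ K, (fun ω => f (φ h ω)) ∈ K) {f : Ω → k} (hf : f ∈ K) (hne : f ≠ 0) :
    ∃ c : k, c ≠ 0 ∧ (fun _ : Ω => c) ∈ K := by
  classical
  let A : MulAction H (Ω → k) :=
    { smul := fun h f => fun ω => f (φ h⁻¹ ω)
      one_smul := fun f => funext fun ω => show f (φ (1 : H)⁻¹ ω) = f ω by simp
      mul_smul := fun a b f => funext fun ω =>
        show f (φ (a * b)⁻¹ ω) = f (φ b⁻¹ (φ a⁻¹ ω)) by
          rw [_root_.mul_inv_rev, map_mul, Equiv.Perm.mul_apply] }
  letI := A
  set W := AddSubgroup.closure (MulAction.orbit H f) with hW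
  have hWK : W ≤ K := by
    rw [hW, AddSubgroup.closure_le]
    rintro _ ⟨h, rfl⟩
    exact hinv h⁻¹ f hf
  have hmem : ∀ (h : H), ∀ a ∈ W, h • a ∈ W := by
    intro h a ha
    induction ha using AddSubgroup.closure_induction with
    | mem a ha =>
      obtain ⟨r, rfl⟩ := ha
      exact AddSubgroup.subset_closure ⟨h * r, mul_smul h r f⟩
    | zero =>
      rw [show h • (0 : Ω → k) = 0 from funext fun ω => rfl]; exact W.zero_mem
    | add a b _ _ iha ihb =>
      rw [show h • (a + b) = h • a + h • b from funext fun ω => rfl]; exact W.add_mem iha ihb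
    | neg a _ iha =>
      rw [show h • (-a) = -(h • a) from funext fun ω => rfl]; exact W.neg_mem iha
  have hp0 : ∀ a : Ω → k, p • a = 0 := fun a => by
    rw [← Nat.cast_smul_eq_nsmul k, CharP.cast_eq_zero, zero_smul]
  haveI : AddGroup.FG W := by
    rw [AddGroup.fg_iff_addSubgroup_fg]
    exact ⟨(Set.finite_range fun q : H => q • f).toFinset, by rw [Set.Finite.coe_toFinset]; rfl⟩
  have htor : IsAddTorsion W := fun a : W =>
    isOfFinAddOrder_iff_nsmul_eq_zero.mpr ⟨p, hp.out.pos, Subtype.ext (hp0 a)⟩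
  haveI : Finite W := AddCommGroup.finite_of_fg_isAddTorsion (G := W) htor
  letI : MulAction H W :=
    { smul := fun q a => ⟨q • (a : Ω → k), hmem q a a.2⟩
      one_smul := fun a => Subtype.ext (one_smul H (a : Ω → k))
      mul_smul := fun q r a => Subtype.ext (mul_smul q r (a : Ω → k)) }
  have hfW : f ∈ W := AddSubgroup.subset_closure (MulAction.mem_orbit_self f)
  have hdvd : p ∣ Nat.card W := by
    have h1 : addOrderOf (⟨f, hfW⟩ : W) = p :=
      addOrderOf_eq_prime (Subtype.ext (hp0 f)) (fun h => hne (congrArg Subtype.val h))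
    exact h1 ▸ addOrderOf_dvd_natCard _
  obtain ⟨w, hw, hw0⟩ := hH.exists_fixed_point_of_prime_dvd_card_of_fixed_point W hdvd
    (a := (0 : W)) (fun q => Subtype.ext (by ext ω; rfl))
  obtain ⟨ω₀, hω₀⟩ : ∃ ω₀, (w : Ω → k) ω₀ ≠ 0 := by
    by_contra! h
    exact hw0 (Subtype.ext (funext h)).symm
  refine ⟨(w : Ω → k) ω₀, hω₀, ?_⟩
  have hc : (fun _ : Ω => (w : Ω → k) ω₀) = (w : Ω → k) := by
    funext ω
    obtain ⟨h, hh⟩ := htr ω₀ ω
    have h1 := congrFun (congrArg Subtype.val (hw h)) ω
    change (w : Ω → k) (φ h⁻¹ ω) = (w : Ω → k) ω at h1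
    rw [← h1, ← hh, map_inv, Equiv.Perm.inv_def, Equiv.symm_apply_apply]
  rw [hc]
  exact hWK w.2

/-- An element of order prime to `p` moving each element of a subgroup of a `p`-group only inside
its class under that `p`-group centralizes the subgroup. -/
theorem mem_centralizer_of_agree {p : ℕ} [Fact p.Prime] {G : Type*} [Group G] [Finite G]
    {S Q : Subgroup G} (hS : IsPGroup p S) (hQS : Q ≤ S) {t : G} (hreg : ¬ p ∣ orderOf t)
    (ht : ∀ v ∈ Q, t * v * t⁻¹ ∈ Q) (hag : ∀ v ∈ Q, ∃ s ∈ S, s * v * s⁻¹ = t * v * t⁻¹) :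
    t ∈ Subgroup.centralizer (Q : Set G) := by
  have hnil : Group.IsNilpotent S := hS.isNilpotent
  obtain ⟨n, hn⟩ := (Subgroup.isNilpotent_iff_lowerCentralSeries S).mp hnil
  have key : ∀ j, j ≤ n → ∀ v ∈ Q, v ∈ S.lowerCentralSeries (n - j) → t * v = v * t := by
    intro j
    induction j with
    | zero =>
      intro _ v _ hv
      rw [Nat.sub_zero, hn, Subgroup.mem_bot] at hv
      rw [hv, mul_one, one_mul]
    | succ j ih =>
      intro hj v hvQ hv
      obtain ⟨s, hs, hsv⟩ := hag v hvQ
      set w := t * v * t⁻¹ * v⁻¹ with hw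
      have hwQ : w ∈ Q := Q.mul_mem (ht v hvQ) (Q.inv_mem hvQ)
      have hwK : w ∈ S.lowerCentralSeries (n - j) := by
        have h1 : ⁅v, s⁆ ∈ S.lowerCentralSeries (n - (j + 1) + 1) := by
          rw [Subgroup.lowerCentralSeries_succ]
          exact Subgroup.commutator_mem_commutator hv hs
        rw [show n - (j + 1) + 1 = n - j by omega] at h1
        have h2 := inv_mem h1
        rw [commutatorElement_inv, commutatorElement_def, hsv] at h2
        exact h2
      have hwt := ih (Nat.le_of_succ_le hj) w hwQ hwK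
      have hiter : ∀ m : ℕ, t ^ m * v = w ^ m * v * t ^ m := by
        intro m
        induction m with
        | zero => simp
        | succ m ihm =>
          have h1 : t * v = w * v * t := by rw [hw]; group
          have hc : Commute t (w ^ m) := (show Commute t w from hwt).pow_right m
          calc t ^ (m + 1) * v = t * (t ^ m * v) := by rw [pow_succ', mul_assoc]
            _ = t * (w ^ m * v * t ^ m) := by rw [ihm]
            _ = w ^ m * (t * v) * t ^ m := by simp only [← mul_assoc, hc.eq]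
            _ = w ^ m * (w * v * t) * t ^ m := by rw [h1]
            _ = w ^ (m + 1) * v * t ^ (m + 1) := by
              rw [pow_succ, pow_succ']; simp only [mul_assoc]
      have h1 := hiter (orderOf t)
      rw [pow_orderOf_eq_one, one_mul, mul_one] at h1
      have hw1 : w ^ orderOf t = 1 := mul_eq_right.mp h1.symm
      obtain ⟨e, he⟩ := hS ⟨w, hQS hwQ⟩
      have he' : w ^ p ^ e = 1 := congrArg Subtype.val he
      have hcop : Nat.Coprime (orderOf t) (p ^ e) :=
        (((Fact.out : p.Prime).coprime_iff_not_dvd).mpr hreg).symm.pow_right e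
      have : w = 1 := by
        rw [← pow_one w, ← hcop.gcd_eq_one]
        exact pow_gcd_eq_one.mpr ⟨hw1, he'⟩
      have h2 : t * v = w * v * t := by rw [hw]; group
      rw [h2, this, one_mul]
  exact Subgroup.mem_centralizer_iff.mpr fun v hv =>
    (key n le_rfl v hv (by rw [Nat.sub_self, Subgroup.lowerCentralSeries_zero]; exact hQS hv)).symm

universe u

variable {G : Type u} [Group G] [Fintype G] {M : Ideal AlgInt} [M.IsPrime] {p : ℕ}
  [hp : Fact p.Prime]

/-- The trace of a pair of elements on a block. -/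
noncomputable def theta (B : Set (IrrCharacter G)) (x y : G) : ℂ :=
  ∑ᶠ χ ∈ B, (χ : G → ℂ) x * (χ : G → ℂ) y⁻¹

theorem conv_assoc (u v w : G → ℂ) : conv (conv u v) w = conv u (conv v w) := by
  funext x
  simp only [conv, Finset.sum_mul, Finset.mul_sum]
  rw [Finset.sum_comm]
  refine Finset.sum_congr rfl fun g _ => ?_
  rw [← Equiv.sum_comp (Equiv.mulLeft g)]
  simp [mul_assoc]

/-- A column function: the block idempotent times a conjugate of a trace representative. -/
noncomputable def cVal (B : Set (IrrCharacter G)) {D : Subgroup G} (α : G → ℂ) (q : G ⧸ D) :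
    G → ℂ :=
  conv (blockCoeff B) fun w => α (q.out⁻¹ * w * q.out)

theorem cVal_smul (B : Set (IrrCharacter G)) {D : Subgroup G} {α : G → ℂ}
    (hα : ∀ d ∈ D, ∀ w, α (d⁻¹ * w * d) = α w) (y : G) (q : G ⧸ D) (w : G) :
    cVal B α (y • q) w = cVal B α q (y⁻¹ * w * y) := by
  have hd : (y * q.out)⁻¹ * (y • q).out ∈ D := by
    rw [← QuotientGroup.eq, QuotientGroup.out_eq']
    conv_rhs => rw [← QuotientGroup.out_eq' q]
    rfl
  set d := (y * q.out)⁻¹ * (y • q).out with hd'
  have hout : (y • q).out = y * q.out * d := by rw [hd']; group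
  simp only [cVal, conv]
  refine Fintype.sum_equiv (MulAut.conj y⁻¹).toEquiv _ _ fun g => ?_
  show _ = blockCoeff B (y⁻¹ * g * (y⁻¹)⁻¹) *
    α (q.out⁻¹ * ((y⁻¹ * g * (y⁻¹)⁻¹)⁻¹ * (y⁻¹ * w * y)) * q.out)
  rw [isClassFunction_blockCoeff B, hout, ← hα d hd (q.out⁻¹ *
    ((y⁻¹ * g * (y⁻¹)⁻¹)⁻¹ * (y⁻¹ * w * y)) * q.out)]
  congr 2
  group

/-- The bimodule permutations of pairs (element of `S`, coset). -/
def pairHom (S D : Subgroup G) (q : G ⧸ D) :
    S × S →* Equiv.Perm (S × MulAction.orbit S q) where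
  toFun h :=
    { toFun := fun ω => (h.1 * ω.1 * h.2⁻¹, h.2 • ω.2)
      invFun := fun ω => (h.1⁻¹ * ω.1 * h.2, h.2⁻¹ • ω.2)
      left_inv := fun ω => by simp [mul_assoc]
      right_inv := fun ω => by simp [mul_assoc] }
  map_one' := Equiv.ext fun ω => show ((1 : S) * ω.1 * (1 : S)⁻¹, (1 : S) • ω.2) = ω by simp
  map_mul' a b := Equiv.ext fun ω => show ((a.1 * b.1) * ω.1 * (a.2 * b.2)⁻¹, (a.2 * b.2) • ω.2) =
      (a.1 * (b.1 * ω.1 * b.2⁻¹) * a.2⁻¹, a.2 • b.2 • ω.2) by
    rw [_root_.mul_inv_rev, mul_smul]; simp only [mul_assoc]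

theorem pairHom_apply (S D : Subgroup G) (q : G ⧸ D) (x y : S)
    (ω : S × MulAction.orbit S q) :
    pairHom S D q (x, y) ω = (x * ω.1 * y⁻¹, y • ω.2) := rfl

/-- A coset where the block does not vanish on a Sylow subgroup. -/
theorem exists_orbit_sum_ne_zero (hM : IsPModular p M) {B : Set (IrrCharacter G)}
    (hB : IsPBlock M B) {D : Subgroup G} (hD : IsDef p (idem M B) D) {S : Subgroup G} (hSp : IsPGroup p S) [Fintype S]
    [Fintype (G ⧸ D)] :
    ∃ a : MonoidAlgebra (Residue M) G, FixBy D a ∧ ∃ q : G ⧸ D,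
      ∀ [Fintype (MulAction.orbit S q)],
        (∑ s : S, MonoidAlgebra.single (s : G) (1 : Residue M)) *
          ∑ o : MulAction.orbit S q,
            idem M B * cj (Residue M) ((o : G ⧸ D).out) a ≠ 0 := by
  classical
  haveI := charP_residue hM
  obtain ⟨-, -, ⟨a, ha, hba⟩, -⟩ := hD
  refine ⟨a, ha.2, ?_⟩
  set b := idem M B with hb
  set Ŝ := ∑ s : S, MonoidAlgebra.single (s : G) (1 : Residue M) with hShat
  have hSb : Ŝ * b ≠ 0 := by
    intro h0
    obtain ⟨w, hw0, hwS, hwe⟩ := exists_fixed_ne_zero hSp (idem_ne_zero hB)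
    have hsb : ∀ q ∈ S, b * MonoidAlgebra.single q (1 : Residue M) =
        MonoidAlgebra.single q (1 : Residue M) * b := fun q _ =>
      (alg_commute le_rfl (suppIn_top _) (idem_mem B).2).symm
    have hbw : b * w = w := hwe b hsb (idem_idem hB)
    have hwc : ∀ s ∈ S, ∀ g, w.coeff (s * g) = w.coeff g := by
      intro s hs g
      have h1 := congrArg (fun a => a.coeff g) (hwS s⁻¹ (inv_mem hs))
      simpa using h1
    set r : G → G := fun g => (Quotient.mk (QuotientGroup.rightRel S) g).out
    have hr : ∀ g, g * (r g)⁻¹ ∈ S := fun g => by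
      have := Quotient.mk_out (s := QuotientGroup.rightRel S) g
      exact QuotientGroup.rightRel_apply.mp this
    have hr' : ∀ s ∈ S, ∀ g, r (s * g) = r g := fun s hs g => by
      simp only [r]
      congr 1
      exact Quotient.sound (QuotientGroup.rightRel_apply.mpr (by
        rw [_root_.mul_inv_rev, ← mul_assoc, mul_inv_cancel, one_mul]; exact inv_mem hs))
    set U : MonoidAlgebra (Residue M) G := ofFun fun g => if g = r g then w.coeff g else 0
    have hwU : Ŝ * U = w := by
      refine coeff_ext fun g => ?_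
      rw [hShat, Finset.sum_mul, MonoidAlgebra.coeff_sum, Finsupp.finset_sum_apply,
        Finset.sum_eq_single (⟨g * (r g)⁻¹, hr g⟩ : S)]
      · have e2 : r (r g) = r g := by
          conv_rhs => rw [← hr' _ (inv_mem (hr g)) g]
          congr 1; group
        have e1 : w.coeff (r g) = w.coeff g := by
          rw [← hwc _ (hr g) (r g)]; congr 1; group
        simp [U, e1, e2]
      · intro s _ hs
        simp only [MonoidAlgebra.coeff_single_mul_apply, one_mul, U, coeff_ofFun]
        rw [if_neg]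
        intro he
        apply hs
        rw [hr' _ (inv_mem s.2)] at he
        exact Subtype.ext (by show (s : G) = g * (r g)⁻¹; rw [← he]; group)
      · intro h; exact absurd (Finset.mem_univ _) h
    apply hw0
    have hSc : Ŝ * b = b * Ŝ := by
      rw [hShat, Finset.sum_mul, Finset.mul_sum]
      exact Finset.sum_congr rfl fun s _ => (hsb s s.2).symm
    rw [← hbw, ← hwU, ← mul_assoc, ← hSc, h0, zero_mul]
  have hsum : b = ∑ q : G ⧸ D, b * cj (Residue M) q.out a := by
    calc b = b * b := (idem_idem hB).symm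
      _ = b * tr D ⊤ a := by rw [← hba]
      _ = _ := ?_
    haveI : Fintype ((⊤ : Subgroup G) ⧸ D.subgroupOf ⊤) := Fintype.ofFinite _
    rw [tr_apply, Finset.mul_sum]
    refine Fintype.sum_bijective
      (fun q : (⊤ : Subgroup G) ⧸ D.subgroupOf ⊤ => (((q.out : (⊤ : Subgroup G)) : G) : G ⧸ D))
      ⟨fun q q' h => ?_, fun z => ?_⟩ _ _ fun q => ?_
    · rw [← QuotientGroup.out_eq' q, ← QuotientGroup.out_eq' q']
      refine QuotientGroup.eq.mpr ?_
      have h1 := QuotientGroup.eq.mp h
      rw [Subgroup.mem_subgroupOf]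
      simpa using h1
    · refine ⟨((⟨z.out, trivial⟩ : (⊤ : Subgroup G)) : _ ⧸ D.subgroupOf ⊤), ?_⟩
      conv_rhs => rw [← QuotientGroup.out_eq' z]
      refine QuotientGroup.eq.mpr ?_
      have h2 : (((⟨z.out, trivial⟩ : (⊤ : Subgroup G)) : _ ⧸ D.subgroupOf ⊤).out)⁻¹ *
          (⟨z.out, trivial⟩ : (⊤ : Subgroup G)) ∈ D.subgroupOf ⊤ := by
        rw [← QuotientGroup.eq, QuotientGroup.out_eq']
      rw [Subgroup.mem_subgroupOf] at h2
      simpa using h2
    · congr 1
      set z : G ⧸ D := (((q.out : (⊤ : Subgroup G)) : G) : G ⧸ D) with hz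
      have h2 : ((q.out : (⊤ : Subgroup G)) : G)⁻¹ * z.out ∈ D := by
        rw [← QuotientGroup.eq, QuotientGroup.out_eq']
      conv_rhs => rw [show z.out = ((q.out : (⊤ : Subgroup G)) : G) *
        (((q.out : (⊤ : Subgroup G)) : G)⁻¹ * z.out) by group, cj_mul, ha.2 _ h2]
  by_contra hno
  apply hSb
  rw [hsum, Finset.mul_sum,
    ← Finset.sum_fiberwise (g := fun q => Quotient.mk (MulAction.orbitRel S (G ⧸ D)) q)]
  refine Finset.sum_eq_zero fun o _ => ?_
  induction o using Quotient.inductionOn with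
  | h q =>
    by_contra hq
    apply hno
    refine ⟨q, @fun inst => ?_⟩
    intro h
    apply hq
    rw [Finset.mul_sum] at h
    have hmem : ∀ x : G ⧸ D, x ∈ Finset.univ.filter (fun x =>
        Quotient.mk (MulAction.orbitRel S (G ⧸ D)) x = Quotient.mk _ q) ↔
          x ∈ MulAction.orbit S q := fun x => by
      rw [Finset.mem_filter]
      exact ⟨fun hx => MulAction.orbitRel_apply.mp (Quotient.exact hx.2), fun hx =>
        ⟨Finset.mem_univ _, Quotient.sound (MulAction.orbitRel_apply.mpr hx)⟩⟩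
    exact (Finset.sum_subtype (p := fun x => x ∈ MulAction.orbit S q) (F := inst) _ hmem _).trans h

/-- **The bimodule of a block of least dimension.** -/
theorem theta_support (hM : IsPModular p M) {B : Set (IrrCharacter G)} (hB : IsPBlock M B)
    {D : Subgroup G} (hD : IsDef p (idem M B) D) {a d : ℕ}
    (ha : (Nat.card G).factorization p = a) (hd : Nat.card D = p ^ d)
    (hmin : ∑ᶠ χ ∈ B, charDegree (χ : G → ℂ) ^ 2 = p ^ (2 * a - d)) {S : Subgroup G}
    (hSp : IsPGroup p S) (hcardS : Nat.card S = p ^ a) :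
    (∀ x ∈ S, ∀ y ∈ S, theta B x y ≠ 0 →
      ∃ s ∈ S, s * y * s⁻¹ = x) ∧
    ∃ z : G, ∀ v ∈ D, z * v * z⁻¹ ∈ S ∧
      theta B (z * v * z⁻¹) (z * v * z⁻¹) ≠ 0 := by
  classical
  haveI := charP_residue hM
  letI := irrFintype (G := G)
  have hθ : ∀ x y : G, theta B x y =
      ∑ χ ∈ Finset.univ.filter (· ∈ B), (χ : G → ℂ) x * (χ : G → ℂ) y⁻¹ := fun x y => by
    rw [theta, finsum_mem_eq_sum_of_inter_support_eq]
    rw [Finset.coe_filter]; ext; simp
  haveI : Fintype (G ⧸ D) := Fintype.ofFinite _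
  haveI : Fintype S := Fintype.ofFinite _
  obtain ⟨a0, ha0, q, hq⟩ := exists_orbit_sum_ne_zero hM hB hD hSp
  haveI : Fintype (MulAction.orbit S q) := Fintype.ofFinite _
  have hne := hq
  set O := MulAction.orbit S q
  let φ : S × S →* Equiv.Perm (S × O) := pairHom S D q
  set e := blockCoeff B with he
  have heI := isIntClass_blockCoeff hB
  set α := liftFun a0 with hαdef
  have hα : ∀ d ∈ D, ∀ w, α (d⁻¹ * w * d) = α w := fun d hd w => by
    simp only [α, liftFun, ha0.coeff_eq hd]
  have hcR : ∀ (o : G ⧸ D) z, MemLocalRing M (cVal B α o z) := fun o z =>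
    memLocalRing_sum fun g _ => memLocalRing_mul (heI.2 _) (liftRes_mem _)
  set A : Matrix G (S × O) ℂ :=
    Matrix.of fun z ω => cVal B α (ω.2 : G ⧸ D) ((ω.1 : G)⁻¹ * z) with hAdef
  have hA : ∀ z ω, A z ω = cVal B α (ω.2 : G ⧸ D) ((ω.1 : G)⁻¹ * z) := fun _ _ => rfl
  -- equivariance
  have heq : ∀ (x y : S) (z : G) (ω : S × O),
      A z (φ (x, y) ω) = A ((x : G)⁻¹ * z * y) ω := by
    intro x y z ω
    rw [hA, hA]
    show cVal B α ((y : G) • (ω.2 : G ⧸ D)) (((x * ω.1 * y⁻¹ : S) : G)⁻¹ * z) = _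
    rw [cVal_smul B hα]
    congr 1
    push_cast
    group
  -- the residue matrix
  set Ab : Matrix G (S × O) (Residue M) :=
    Matrix.of fun z ω => red M (A z ω) with hAbdef
  have hAb : ∀ z ω, Ab z ω =
      (idem M B * cj (Residue M) (ω.2 : G ⧸ D).out a0).coeff ((ω.1 : G)⁻¹ * z) := by
    intro z ω
    show red M (A z ω) = _
    rw [hA, ← coeff_redFun, cVal, redFun_conv heI.2 (fun w => by exact liftRes_mem _)]
    congr 3
    refine coeff_ext fun w => ?_
    rw [coeff_redFun, coeff_cj]
    exact red_liftRes _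
  have hSH : IsPGroup p (S × S) := by
    obtain ⟨n, hn⟩ := IsPGroup.iff_card.mp hSp
    exact IsPGroup.of_card (n := n + n) (by rw [Nat.card_prod, hn, pow_add])
  have hinj : ∀ f : S × O → Residue M, Ab.mulVec f = 0 → f = 0 := by
    intro f hf
    by_contra hf0
    let K : AddSubgroup (S × O → Residue M) :=
      { carrier := {f | Ab.mulVec f = 0}
        zero_mem' := Matrix.mulVec_zero _
        add_mem' := fun {f g} hf hg => by
          show Ab.mulVec (f + g) = 0
          rw [Matrix.mulVec_add, show Ab.mulVec f = 0 from hf, show Ab.mulVec g = 0 from hg,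
            add_zero]
        neg_mem' := fun {f} hf => by
          show Ab.mulVec (-f) = 0
          rw [Matrix.mulVec_neg, show Ab.mulVec f = 0 from hf, neg_zero] }
    have htr : ∀ ω ω' : S × O, ∃ h : S × S,
        φ h ω = ω' := by
      rintro ⟨g, o⟩ ⟨g', o'⟩
      obtain ⟨y, hy⟩ := MulAction.exists_smul_eq S o o'
      refine ⟨(g' * y * g⁻¹, y), ?_⟩
      show ((g' * y * g⁻¹) * g * y⁻¹, y • o) = (g', o')
      rw [hy]; simp
    obtain ⟨c, hc0, hc⟩ := exists_const_mem hSH φ htr K (fun h f hf => by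
      funext z
      have h1 := congrFun (hf : Ab.mulVec f = 0) (((h.1)⁻¹⁻¹ : S) * z * ((h.2)⁻¹ : S))
      simp only [Matrix.mulVec, dotProduct, Pi.zero_apply] at h1 ⊢
      rw [← Equiv.sum_comp (φ h⁻¹)]
      refine Eq.trans (Finset.sum_congr rfl fun ω _ => ?_) h1
      rw [← Equiv.Perm.mul_apply, ← map_mul, mul_inv_cancel, map_one, Equiv.Perm.one_apply]
      congr 1
      show red M (A z (φ h⁻¹ ω)) = red M (A _ ω)
      rw [show h⁻¹ = ((h.1)⁻¹, (h.2)⁻¹) from rfl, heq]
      congr 3) (f := f) hf hf0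
    apply hne
    refine coeff_ext fun z => ?_
    have h1 := congrFun (hc : Ab.mulVec _ = 0) z
    simp only [Matrix.mulVec, dotProduct, Pi.zero_apply] at h1
    rw [← Finset.sum_mul, mul_eq_zero] at h1
    have h2 := h1.resolve_right hc0
    simp only [hAb] at h2
    rw [Fintype.sum_prod_type] at h2
    rw [Finset.sum_mul, MonoidAlgebra.coeff_sum, Finsupp.finset_sum_apply,
      MonoidAlgebra.coeff_zero, Finsupp.zero_apply]
    refine Eq.trans (Finset.sum_congr rfl fun s _ => ?_) h2
    rw [MonoidAlgebra.coeff_single_mul_apply, one_mul, MonoidAlgebra.coeff_sum,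
      Finsupp.finset_sum_apply]
    exact Finset.sum_congr (by ext; simp) fun i _ => rfl
  -- a left inverse over `ℂ`
  obtain ⟨C, hCA⟩ : ∃ C : Matrix (S × O) G ℂ, C * A = 1 := by
    have hker : LinearMap.ker (Matrix.toLin' Ab) = ⊥ :=
      LinearMap.ker_eq_bot'.mpr fun f hf => hinj f (by rwa [Matrix.toLin'_apply] at hf)
    obtain ⟨L, hL⟩ := LinearMap.exists_leftInverse_of_injective _ hker
    have hBb : LinearMap.toMatrix' L * Ab = 1 := by
      have h1 := congrArg LinearMap.toMatrix' hL
      rwa [LinearMap.toMatrix'_comp, LinearMap.toMatrix'_toLin', LinearMap.toMatrix'_id] at h1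
    set AR : Matrix G (S × O) (localRing M) :=
      Matrix.of fun z ω => (⟨A z ω, hcR _ _⟩ : localRing M) with hAR
    set BR : Matrix (S × O) G (localRing M) :=
      Matrix.of fun ω z => (⟨liftRes (LinearMap.toMatrix' L ω z), liftRes_mem _⟩ : localRing M)
      with hBR
    have hres : (res M).mapMatrix (BR * AR) = 1 := by
      rw [RingHom.mapMatrix_apply, Matrix.map_mul, ← hBb]
      congr 1
      · ext ω z
        exact (red_eq (liftRes_mem (LinearMap.toMatrix' L ω z))).symm.trans (red_liftRes _)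
      · ext z ω
        exact (red_eq (hcR _ _)).symm
    have hdet : (localRing M).subtype (BR * AR).det ≠ 0 := by
      intro h
      have h0 : (BR * AR).det = 0 := Subtype.ext h
      have h1 := congrArg (res M) h0
      rw [RingHom.map_det, hres, Matrix.det_one, map_zero] at h1
      exact one_ne_zero h1
    rw [RingHom.map_det, RingHom.mapMatrix_apply, Matrix.map_mul] at hdet
    have hA' : AR.map (localRing M).subtype = A := by ext; rfl
    rw [hA'] at hdet
    refine ⟨(BR.map (localRing M).subtype * A)⁻¹ * BR.map (localRing M).subtype, ?_⟩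
    rw [Matrix.mul_assoc]
    exact Matrix.nonsing_inv_mul _ (isUnit_iff_ne_zero.mpr hdet)
  -- the projection
  set E : Matrix G G ℂ := lmat e with hE
  have hEE : E * E = E := by
    rw [hE, lmat_mul_lmat]
    congr 1
    exact conv_blockCoeff_self B
  have hEA : E * A = A := by
    ext i ω
    rw [Matrix.mul_apply]
    simp only [hA, hE, lmat]
    set c := cVal B α (ω.2 : G ⧸ D) with hc
    have hec : conv e c = c := by
      rw [hc, cVal, ← he, ← conv_assoc, he, conv_blockCoeff_self]
    conv_rhs => rw [← hec, conv]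
    refine Fintype.sum_equiv ((Equiv.mulLeft (ω.1 : G)⁻¹).trans ((Equiv.inv G).trans
      (Equiv.mulLeft ((ω.1 : G)⁻¹ * i)))) _ _ fun j => ?_
    simp only [Equiv.trans_apply, Equiv.inv_apply, Equiv.coe_mulLeft]
    rw [he, ← isClassFunction_blockCoeff B (i * j⁻¹) (ω.1 : G)⁻¹]
    congr 2 <;> group
  have hEtr : ∀ x y : G, Matrix.trace (E * pmat ℂ x y⁻¹) = theta B x y := by
    intro x y
    rw [hθ, Matrix.trace]
    have h1 := trace_value B deltaOne x y 1 1
    simp only [conv_deltaOne, one_mul, mul_one, sum_deltaOne_mul] at h1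
    rw [← h1]
    refine Finset.sum_congr rfl fun z _ => ?_
    rw [Matrix.diag_apply, hE, lmat_mul_pmat_apply]
  -- dimensions
  have hrank : (Module.finrank ℂ (LinearMap.range (Matrix.toLin' E)) : ℂ) =
      ((p ^ (2 * a - d) : ℕ) : ℂ) := by
    have hproj := (LinearMap.isProj_range_iff_isIdempotentElem (Matrix.toLin' E)).mpr (by
      show Matrix.toLin' E ∘ₗ Matrix.toLin' E = _
      rw [← Matrix.toLin'_mul, hEE])
    rw [← hproj.trace, Matrix.trace_toLin'_eq, ← hmin,
      show Matrix.trace E = theta B 1 1 by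
        rw [← hEtr, inv_one, pmat_one, Matrix.mul_one],
      hθ, finsum_mem_eq_sum_of_inter_support_eq (t := Finset.univ.filter (· ∈ B)) _
        (by rw [Finset.coe_filter]; ext; simp), Nat.cast_sum]
    refine Finset.sum_congr rfl fun χ _ => ?_
    obtain ⟨n, -, hn⟩ := CfsgLib.Char.IsIrrCharacter.exists_degree χ.2
    rw [inv_one, hn, show charDegree (χ : G → ℂ) = n by
      rw [charDegree, hn, Complex.natCast_re, Nat.floor_natCast]]
    push_cast
    ring
  have hrank' := Nat.cast_injective (R := ℂ) hrank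
  have hAinj : Function.Injective (Matrix.toLin' A) := by
    intro f g h
    have := congrArg (Matrix.toLin' C) h
    rwa [← Matrix.toLin'_mul_apply, ← Matrix.toLin'_mul_apply, hCA, Matrix.toLin'_one,
      LinearMap.id_apply, LinearMap.id_apply] at this
  have hle : LinearMap.range (Matrix.toLin' A) ≤ LinearMap.range (Matrix.toLin' E) := by
    rintro _ ⟨f, rfl⟩
    exact ⟨Matrix.toLin' A f, by rw [← Matrix.toLin'_mul_apply, hEA]⟩
  have hdimA : Module.finrank ℂ (LinearMap.range (Matrix.toLin' A)) =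
      Nat.card S * Nat.card O := by
    rw [LinearMap.finrank_range_of_inj hAinj, Module.finrank_fintype_fun_eq_card,
      ← Nat.card_eq_fintype_card, Nat.card_prod]
  set St := MulAction.stabilizer S q with hSt
  have horb : Nat.card O * Nat.card St = p ^ a := by
    rw [← hcardS, ← Nat.card_prod]
    exact Nat.card_congr (MulAction.orbitProdStabilizerEquivGroup S q)
  let ι : St → D := fun s => ⟨q.out⁻¹ * ((s : S) : G) * q.out, by
    have h1 : (((s : S) : G) • q) = q := s.2
    conv_lhs at h1 => rw [← QuotientGroup.out_eq' q]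
    conv_rhs at h1 => rw [← QuotientGroup.out_eq' q]
    have h2 := QuotientGroup.eq.mp (show
      (((q.out : G)) : G ⧸ D) = (((((s : S) : G)) * q.out : G) : G ⧸ D) from h1.symm)
    simpa [mul_assoc] using h2⟩
  have hιinj : Function.Injective ι := fun s s' h => by
    have h1 := congrArg Subtype.val h
    simp only [ι, mul_left_inj, mul_right_inj] at h1
    exact Subtype.ext (Subtype.ext h1)
  have hpp : 0 < p := hp.out.pos
  have hda : d ≤ a := by
    have h1 : Nat.card D ∣ Nat.card G := Subgroup.card_subgroup_dvd_card D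
    rw [hd] at h1
    rw [← ha]
    exact (hp.out.pow_dvd_iff_le_factorization Nat.card_pos.ne').mp h1
  have hbound : Nat.card St ≤ p ^ d := hd ▸ Nat.card_le_card_of_injective ι hιinj
  have hOle : p ^ a * Nat.card O ≤ p ^ (2 * a - d) := by
    rw [← hcardS, ← hdimA, ← hrank']
    exact Submodule.finrank_mono hle
  have hOge : p ^ (2 * a - d) ≤ p ^ a * Nat.card O := by
    rw [show 2 * a - d = a + (a - d) by omega, pow_add]
    refine Nat.mul_le_mul_left _ (Nat.le_of_mul_le_mul_right (c := p ^ d) ?_ (pow_pos hpp _))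
    rw [← pow_add, Nat.sub_add_cancel hda, ← horb]
    exact Nat.mul_le_mul_left _ hbound
  have hrange : LinearMap.range (Matrix.toLin' A) = LinearMap.range (Matrix.toLin' E) :=
    Submodule.eq_of_le_of_finrank_le hle (by rw [hdimA, hrank', hcardS]; exact hOge)
  have hSteq : Nat.card St = p ^ d := by
    refine le_antisymm hbound ?_
    have h1 : p ^ a * (Nat.card O * Nat.card St) = p ^ (2 * a - d) * p ^ d := by
      rw [horb, ← pow_add, ← pow_add]; congr 1; omega
    rw [← mul_assoc, le_antisymm hOle hOge] at h1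
    exact (Nat.eq_of_mul_eq_mul_left (pow_pos hpp _) h1).ge
  have hACE : A * (C * E) = E := by
    refine Matrix.toLin'.injective (LinearMap.ext fun f => ?_)
    obtain ⟨w, hw⟩ : Matrix.toLin' E f ∈ LinearMap.range (Matrix.toLin' A) :=
      hrange ▸ LinearMap.mem_range_self _ f
    rw [Matrix.toLin'_mul, LinearMap.comp_apply, Matrix.toLin'_mul, LinearMap.comp_apply, ← hw,
      ← Matrix.toLin'_mul_apply C A, hCA, Matrix.toLin'_one, LinearMap.id_apply]
  -- the trace of a pair is the number of fixed points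
  have hfix : ∀ x y : S, theta B (x : G) (y : G) =
      ((Finset.univ.filter fun ω : S × O => φ (x, y) ω = ω).card : ℂ) := by
    intro x y
    set π : Matrix (S × O) (S × O) ℂ :=
      Matrix.of fun i j => if i = φ (x, y) j then (1 : ℂ) else 0 with hπ
    have hPA : pmat ℂ (x : G) (y : G)⁻¹ * A = A * π := by
      ext i ω
      rw [Matrix.mul_apply, Matrix.mul_apply, Finset.sum_eq_single ((x : G)⁻¹ * i * y),
        Finset.sum_eq_single (φ (x, y) ω)]
      · rw [pmat, if_pos (by group), one_mul, heq]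
        simp [hπ]
      · intro j _ hj
        simp [hπ, hj]
      · intro h; exact absurd (Finset.mem_univ _) h
      · intro j _ hj
        rw [pmat, if_neg, zero_mul]
        intro h
        apply hj
        rw [h]; group
      · intro h; exact absurd (Finset.mem_univ _) h
    rw [← hEtr]
    calc Matrix.trace (E * pmat ℂ (x : G) (y : G)⁻¹)
        = Matrix.trace (A * (C * E * pmat ℂ (x : G) (y : G)⁻¹)) := by
          rw [← Matrix.mul_assoc, hACE]
      _ = Matrix.trace (C * E * pmat ℂ (x : G) (y : G)⁻¹ * A) := Matrix.trace_mul_comm _ _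
      _ = Matrix.trace (C * A * π) := by
          rw [Matrix.mul_assoc (C * E), hPA, ← Matrix.mul_assoc, Matrix.mul_assoc C E A, hEA]
      _ = _ := by
          rw [hCA, Matrix.one_mul, Matrix.trace]
          simp [hπ, Finset.sum_boole, eq_comm]
  refine ⟨fun x hx y hy hne' => ?_, q.out, fun v hv => ?_⟩
  · rw [hfix ⟨x, hx⟩ ⟨y, hy⟩, Nat.cast_ne_zero, Finset.card_ne_zero] at hne'
    obtain ⟨ω, hω⟩ := hne'
    have h0 := (Finset.mem_filter.mp hω).2
    change ((⟨x, hx⟩ : S) * ω.1 * (⟨y, hy⟩ : S)⁻¹, (⟨y, hy⟩ : S) • ω.2) = ω at h0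
    have h1 : (⟨x, hx⟩ : S) * ω.1 * (⟨y, hy⟩ : S)⁻¹ = ω.1 := congrArg Prod.fst h0
    refine ⟨(ω.1 : G), ω.1.2, ?_⟩
    have h2 : x * (ω.1 : G) * y⁻¹ = (ω.1 : G) := congrArg Subtype.val h1
    calc (ω.1 : G) * y * (ω.1 : G)⁻¹ = x * (ω.1 : G) * y⁻¹ * y * (ω.1 : G)⁻¹ := by rw [h2]
      _ = x := by group
  · have hbij : Function.Bijective ι := by
      refine (Nat.bijective_iff_injective_and_card ι).mpr ⟨hιinj, ?_⟩
      rw [hSteq, hd]
    obtain ⟨s, hs⟩ := hbij.2 ⟨v, hv⟩
    have hs' : q.out * v * q.out⁻¹ = ((s : S) : G) := by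
      rw [← show q.out⁻¹ * ((s : S) : G) * q.out = v from congrArg Subtype.val hs]
      group
    refine ⟨hs' ▸ (s : S).2, ?_⟩
    rw [hs', hfix (s : S) (s : S), Nat.cast_ne_zero,
      Finset.card_ne_zero]
    refine ⟨(1, ⟨q, MulAction.mem_orbit_self q⟩), Finset.mem_filter.mpr ⟨Finset.mem_univ _, ?_⟩⟩
    show ((s : S) * 1 * (s : S)⁻¹,
      (s : S) • (⟨q, MulAction.mem_orbit_self q⟩ : O)) = _
    rw [mul_one, mul_inv_cancel]
    exact congrArg (Prod.mk _) (Subtype.ext s.2)

/-- **A block of least possible dimension is nilpotent.** -/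
theorem isNilpotentBlock_of_min (hM : IsPModular p M) {B : Set (IrrCharacter G)}
    (hB : IsPBlock M B) {D : Subgroup G} (hD : IsDefectGroup p M B D) {a d : ℕ}
    (ha : (Nat.card G).factorization p = a) (hd : Nat.card D = p ^ d)
    (hmin : ∑ᶠ χ ∈ B, charDegree (χ : G → ℂ) ^ 2 = p ^ (2 * a - d)) :
    IsNilpotentBlock p M B := by
  classical
  haveI := charP_residue hM
  letI := irrFintype (G := G)
  rw [isNilpotentBlock_iff hM]
  refine ⟨hB, fun Q f hQ t ht hreg => ?_⟩
  have hDef : IsDef p (idem M B) D := (isDefectGroup_iff hM hB).1 hD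
  obtain ⟨S, hQS⟩ := hQ.1.1.exists_le_sylow
  obtain ⟨hconj, z, hz⟩ := theta_support hM hB hDef ha hd hmin S.isPGroup'
    (by rw [S.card_eq_multiplicity, ha])
  obtain ⟨g, -, hg⟩ := IsDefect.exists_conj_le hDef hQ.1.1 le_top hQ.br_ne_zero
  have htN : t ∈ Subgroup.normalizer (Q : Set G) := ht.1
  have htQ : ∀ v ∈ Q, t * v * t⁻¹ ∈ Q := fun v hv =>
    (Subgroup.mem_normalizer_iff.mp htN v).mp hv
  refine mem_centralizer_of_agree S.isPGroup' hQS hreg htQ fun v hv => ?_
  refine hconj _ (hQS (htQ v hv)) v (hQS hv) ?_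
  have hgv : g * v * g⁻¹ ∈ D := hg ⟨v, hv, rfl⟩
  obtain ⟨huS, hu⟩ := hz _ hgv
  set u := z * (g * v * g⁻¹) * z⁻¹ with hu'
  have hθ : ∀ x y : G, theta B x y =
      ∑ χ ∈ Finset.univ.filter (· ∈ B), (χ : G → ℂ) x * (χ : G → ℂ) y⁻¹ := fun x y => by
    rw [theta, finsum_mem_eq_sum_of_inter_support_eq]
    rw [Finset.coe_filter]; ext; simp
  have hcl : theta B (t * v * t⁻¹) v = theta B u u := by
    rw [hθ, hθ]
    refine Finset.sum_congr rfl fun χ _ => ?_
    have hcf := isClassFunction_irr χ
    rw [hcf v t, show u = (z * g) * v * (z * g)⁻¹ by rw [hu']; group, hcf v (z * g),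
      show ((z * g) * v * (z * g)⁻¹)⁻¹ = (z * g) * v⁻¹ * (z * g)⁻¹ by group, hcf v⁻¹ (z * g)]
  rw [hcl]
  exact hu

end CfsgLib.MinimalDim
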