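import Cfsg.Agent.BlocksB.NormalCoverBlocks
import Cfsg.Agent.BrauerPairs.NilpotentBridge

/-!
# Nilpotency along normal subgroups of `p`-power index
-/

namespace CfsgLib.BlockB

open CfsgLib.BrauerPairs

set_option linter.unusedSectionVars false
set_option linter.style.haveILetI false

local notation "C[" Q "]" => Subgroup.centralizer (SetLike.coe Q)
local notation "N[" Q "]" => Subgroup.normalizer (SetLike.coe Q)

variable {p : ℕ} [hp : Fact p.Prime] {k : Type*} [Field k] [hk : CharP k p]
  {G : Type*} [Group G] [Fintype G]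

/-- The stable block of `H` below a block of `H ⊓ C(Q)`. -/
theorem existsUnique_below {Q H K : Subgroup G} (hQ : IsPGroup p Q) (hQH : Q ≤ N[H])
    (hK : K = C[Q] ⊓ H) {e : MonoidAlgebra k G} (he : IsBlk k K e) :
    ∃! g, IsBlk k H g ∧ FixBy Q g ∧ br Q g * e = e := by
  classical
  have hS := alg_comm (k := k) (le_refl H)
  have hKH : K ≤ H := hK ▸ inf_le_right
  have hKN : K ≤ N[Q] := hK ▸ inf_le_left.trans (CfsgLib.BrauerPairs.centralizer_le_normalizer Q)
  have hmem : ∀ g ∈ alg k H H, br Q g ∈ alg k K K := fun g hg => by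
    refine ⟨fun x hx => ?_, fixBy_br (hg.2.mono hKH) hKN⟩
    rw [coeff_br]
    split_ifs with hxC
    · exact hg.1 x fun hxH => hx (hK ▸ ⟨hxC, hxH⟩)
    · rfl
  refine existsUnique_of_exists_of_unique ?_ fun g g' h h' => ?_
  swap
  · by_contra hne
    refine he.ne_zero ?_
    calc e = br Q g * (br Q g' * e) := by rw [h'.2.2, h.2.2]
      _ = 0 := by
        rw [← mul_assoc, ← br_mul hQ h.2.1 h'.2.1, h.1.mul_eq_zero_of_ne hS h'.1 hne, map_zero,
          zero_mul]
  set s := primFinset hS
  let _ : MulAction Q s :=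
    { smul := fun u f => ⟨cj k (u : G) f, (mem_primFinset hS).mpr
        (IsBlk.cj_of_mem ((mem_primFinset hS).mp f.2) (hQH u.2))⟩
      one_smul := fun f => Subtype.ext (by
        show cj k ((1 : Q) : G) (f : MonoidAlgebra k G) = f
        simp)
      mul_smul := fun u v f => Subtype.ext (by
        show cj k ((u * v : Q) : G) (f : MonoidAlgebra k G) = cj k (u : G) (cj k (v : G) f)
        rw [Subgroup.coe_mul, cj_mul]) }
  by_contra hno
  push Not at hno
  apply he.ne_zero
  have h0 : ∀ f : s, f ∈ (MulAction.fixedPoints Q s).toFinset →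
      br Q (f : MonoidAlgebra k G) * e = 0 := by
    intro f hf
    have hfb : IsBlk k H (f : MonoidAlgebra k G) := (mem_primFinset hS).1 f.2
    have hfix : FixBy Q (f : MonoidAlgebra k G) := fun u hu =>
      congrArg Subtype.val (Set.mem_toFinset.mp hf ⟨u, hu⟩)
    rw [alg_comm le_rfl _ (hmem _ hfb.mem) _ he.mem]
    refine (he.mul_eq_zero_or (hmem _ hfb.mem) (br_idem hQ hfb.idem hfix)).resolve_right fun h => ?_
    rw [alg_comm le_rfl _ he.mem _ (hmem _ hfb.mem)] at h
    exact hno _ hfb hfix h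
  calc e = br Q (∑ f : s, (f : MonoidAlgebra k G)) * e := by
        rw [Finset.sum_coe_sort s (fun f => f), sum_primFinset hS, br_one, one_mul]
    _ = (∑ f ∈ (MulAction.fixedPoints Q s).toFinset, br Q (f : MonoidAlgebra k G)) * e := by
        congr 1
        rw [map_sum]
        refine coeff_ext fun x => ?_
        rw [MonoidAlgebra.coeff_sum, Finsupp.finsetSum_apply, MonoidAlgebra.coeff_sum,
          Finsupp.finsetSum_apply]
        refine sum_eq_sum_fixed hQ (fun f : s => (br Q (f : MonoidAlgebra k G)).coeff x) fun u f => ?_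
        show (br Q (cj k (u : G) (f : MonoidAlgebra k G))).coeff x = _
        by_cases hx : x ∈ C[Q]
        · rw [coeff_br_of_mem _ hx, coeff_br_of_mem _ hx, coeff_cj_of_mem_centralizer u.2 hx]
        · rw [suppIn_br _ x hx, suppIn_br _ x hx]
    _ = 0 := by rw [Finset.sum_mul]; exact Finset.sum_eq_zero h0

/-- Every idempotent of `Z(kL)` lives on `L ⊓ N`. -/
def IdemSupp (k : Type*) [Field k] {G : Type*} [Group G] [Fintype G] (N : Subgroup G) : Prop :=
  ∀ (L : Subgroup G) (f : MonoidAlgebra k G), f ∈ alg k L L → f * f = f → SuppIn (L ⊓ N) f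

variable {N : Subgroup G} [N.Normal]

theorem inf_le_normalizer (L : Subgroup G) : L ≤ N[L ⊓ N] := fun l hl => by
  rw [Subgroup.mem_normalizer_iff]
  intro z
  refine ⟨fun h => ⟨mul_mem (mul_mem hl h.1) (L.inv_mem hl),
    Subgroup.Normal.conj_mem ‹_› _ h.2 l⟩, fun h => ?_⟩
  have h1 : l⁻¹ * (l * z * l⁻¹) * l ∈ L := mul_mem (mul_mem (L.inv_mem hl) h.1) hl
  have h2 := Subgroup.Normal.conj_mem (H := N) ‹_› _ h.2 l⁻¹
  refine ⟨?_, ?_⟩
  · simpa [mul_assoc] using h1
  · simpa [mul_assoc] using h2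

/-- Above a block of `L ⊓ N` lies a block of `L` with the same stabilisers. -/
theorem exists_blk_above (hs : IdemSupp k N) {L : Subgroup G} {e : MonoidAlgebra k G}
    (he : IsBlk k (L ⊓ N) e) : ∃ s, IsBlk k L s ∧ s * e = e ∧
      ∀ x ∈ N[L], cj k x e = e → cj k x s = s := by
  have hS := alg_comm (k := k) (le_refl L)
  obtain ⟨s, hsb, hne⟩ := exists_prim_mul_ne_zero hS he.ne_zero
  have hsmem : s ∈ alg k (L ⊓ N) (L ⊓ N) :=
    ⟨hs L s hsb.mem hsb.idem, hsb.mem.2.mono inf_le_left⟩
  have hse : s * e = e := by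
    have hc := alg_comm le_rfl _ hsmem _ he.mem
    rw [hc] at hne ⊢
    exact he.mul_eq_self hsmem hsb.idem hne
  refine ⟨s, hsb, hse, fun x hx hxe => ?_⟩
  have hsb' : IsBlk k L (cj k x s) := (show IsBlk k L s from hsb).cj_of_mem hx
  by_contra hne'
  have h1 : cj k x s * e = e := by
    have := congrArg (cj k x) hse
    rwa [map_mul, hxe] at this
  refine he.ne_zero ?_
  rw [← h1, ← hse, ← mul_assoc, hsb'.mul_eq_zero_of_ne hS hsb hne', zero_mul]

/-- Blocks of `L ⊓ N` below one block of `L` are conjugate under `L`. -/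
theorem exists_conj_of_below (hs : IdemSupp k N) {L : Subgroup G} {f e e' : MonoidAlgebra k G}
    (hf : IsBlk k L f) (he : IsBlk k (L ⊓ N) e) (he' : IsBlk k (L ⊓ N) e')
    (hfe : f * e = e) (hfe' : f * e' = e') : ∃ y ∈ L, e' = cj k y e := by
  classical
  have hS := alg_comm (k := k) (le_refl (L ⊓ N))
  set O := (Finset.univ : Finset L).image fun l : L => cj k (l : G) e with hO
  have hOblk : ∀ c ∈ O, IsBlk k (L ⊓ N) c := fun c hc => by
    obtain ⟨l, -, rfl⟩ := Finset.mem_image.1 hc
    exact he.cj_of_mem (inf_le_normalizer L l.2)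
  have hsmul : ∀ c ∈ O, (∑ x ∈ O, x) * c = c := fun c hc => by
    rw [Finset.sum_mul, Finset.sum_eq_single_of_mem c hc fun c' hc' hne =>
      (hOblk c' hc').mul_eq_zero_of_ne hS (hOblk c hc) hne, (hOblk c hc).idem]
  have hfO : ∀ c ∈ O, f * c = c := fun c hc => by
    obtain ⟨l, -, rfl⟩ := Finset.mem_image.1 hc
    conv_lhs => rw [← hf.fixBy (l : G) l.2, ← map_mul, hfe]
  have hsmem : (∑ x ∈ O, x) ∈ alg k L L := by
    refine ⟨CfsgLib.BrauerPairs.suppIn_sum _ _ fun c hc => (hOblk c hc).suppIn.mono inf_le_left, ?_⟩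
    intro t ht
    rw [map_sum]
    refine Finset.sum_bij' (fun c _ => cj k t c) (fun c _ => cj k t⁻¹ c) ?_ ?_
      (fun c _ => cj_inv_cj t c) (fun c _ => cj_cj_inv t c) (fun c _ => rfl)
    · intro c hc
      obtain ⟨l, -, rfl⟩ := Finset.mem_image.1 hc
      exact Finset.mem_image.2 ⟨⟨t, ht⟩ * l, Finset.mem_univ _, by rw [← cj_mul]; rfl⟩
    · intro c hc
      obtain ⟨l, -, rfl⟩ := Finset.mem_image.1 hc
      exact Finset.mem_image.2 ⟨⟨t, ht⟩⁻¹ * l, Finset.mem_univ _, by rw [← cj_mul]; rfl⟩
  have hss : (∑ x ∈ O, x) * (∑ x ∈ O, x) = ∑ x ∈ O, x := by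
    rw [Finset.mul_sum]; exact Finset.sum_congr rfl hsmul
  have heO : e ∈ O := Finset.mem_image.2 ⟨1, Finset.mem_univ _, by simp⟩
  have hfs : f * (∑ x ∈ O, x) = f := by
    refine (hf.mul_eq_zero_or hsmem hss).resolve_left fun h => he.ne_zero ?_
    rw [← hfe, ← hsmul e heO, ← mul_assoc, h, zero_mul]
  by_contra hno
  push Not at hno
  refine he'.ne_zero ?_
  calc e' = f * (∑ x ∈ O, x) * e' := by rw [hfs, hfe']
    _ = 0 := by
      rw [mul_assoc, Finset.sum_mul, Finset.sum_eq_zero fun c hc => ?_, mul_zero]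
      obtain ⟨l, -, rfl⟩ := Finset.mem_image.1 hc
      exact (hOblk _ hc).mul_eq_zero_of_ne hS he' fun h => hno l l.2 h.symm

theorem mem_of_regular {j : ℕ} (hN : N.index = p ^ j) {z : G} (hz : ¬ p ∣ orderOf z) : z ∈ N :=
  (QuotientGroup.eq_one_iff z).1 (orderOf_eq_one_iff.1 (Nat.eq_one_of_dvd_coprimes
    (((Nat.Prime.coprime_iff_not_dvd hp.out).2 hz).pow_left j)
    (by rw [← hN, Subgroup.index]; exact orderOf_dvd_natCard _)
    (orderOf_map_dvd (QuotientGroup.mk' N) z)))

theorem comm_of_pow {q z r : G} (hr : z * q * z⁻¹ = q * r) (hzr : z * r * z⁻¹ = r) :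
    ∀ n : ℕ, z ^ n * q * (z ^ n)⁻¹ = q * r ^ n := by
  intro n
  induction n with
  | zero => simp
  | succ n ih =>
    have hc : Commute z r := by
      show z * r = r * z
      conv_rhs => rw [← hzr]
      group
    calc z ^ (n + 1) * q * (z ^ (n + 1))⁻¹ = z * (z ^ n * q * (z ^ n)⁻¹) * z⁻¹ := by
          rw [pow_succ']; group
      _ = z * (q * r ^ n) * z⁻¹ := by rw [ih]
      _ = z * q * z⁻¹ * (z * r ^ n * z⁻¹) := by group
      _ = q * r * r ^ n := by rw [hr, (hc.pow_right n).eq, mul_inv_cancel_right]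
      _ = q * r ^ (n + 1) := by rw [pow_succ', mul_assoc]

variable [Fintype N]

/-- A block fixed by `G` supported on `N` is nilpotent in `G` iff it is in `N`. -/
theorem isNil_iff_restr (hs : IdemSupp k N) {j : ℕ} (hN : N.index = p ^ j)
    {b : MonoidAlgebra k G} (hb : IsBlk k ⊤ b) (hbN : SuppIn N b) :
    IsNil p (restr N b) ↔ IsNil p b := by
  classical
  constructor
  · intro hnil Q f hQf x hx hreg
    obtain ⟨hxQ, hxf⟩ := mem_stab.1 hx
    have hQ : IsPGroup p Q := hQf.1.1
    set L := C[Q]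
    set K := L ⊓ N
    have hfK : f ∈ alg k K K := ⟨hs L f hQf.1.2.mem hQf.1.2.idem, hQf.1.2.fixBy.mono inf_le_left⟩
    obtain ⟨e, he, hne⟩ := exists_prim_mul_ne_zero (alg_comm (k := k) (le_refl K)) hQf.1.2.ne_zero
    have hfe : f * e = e := by
      have hc := alg_comm le_rfl _ hfK _ he.mem
      rw [hc]
      exact he.mul_eq_self hfK hQf.1.2.idem hne
    have hxL : x ∈ N[L] := map_normalizer_centralizer hxQ
    have hxK : x ∈ N[K] := by
      rw [Subgroup.mem_normalizer_iff]
      intro w
      have h1 := Subgroup.mem_normalizer_iff.1 hxL w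
      have h2 : w ∈ N ↔ x * w * x⁻¹ ∈ N :=
        ⟨fun h => Subgroup.Normal.conj_mem ‹_› _ h x,
          fun h => by simpa [mul_assoc] using Subgroup.Normal.conj_mem ‹_› _ h x⁻¹⟩
      simp only [K, Subgroup.mem_inf, h1, h2]
    obtain ⟨y, hy, hye⟩ := exists_conj_of_below hs (show IsBlk k L f from hQf.1.2) he
      ((show IsBlk k K e from he).cj_of_mem hxK) hfe
      (by have := congrArg (cj k x) hfe; rwa [map_mul, hxf] at this)
    set w := y⁻¹ * x with hw
    have hwQ : w ∈ N[Q] := mul_mem (inv_mem (CfsgLib.BrauerPairs.centralizer_le_normalizer Q hy)) hxQ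
    have hwe : cj k w e = e := by rw [hw, cj_mul, hye, cj_inv_cj]
    -- the regular part of `w`
    obtain ⟨a, m, hpm, hwm⟩ := Nat.exists_eq_pow_mul_and_not_dvd (orderOf_pos w).ne' p hp.out.ne_one
    have hcop : (p ^ a).Coprime (orderOf x) :=
      ((Nat.Prime.coprime_iff_not_dvd hp.out).2 hreg).pow_left a
    obtain ⟨t, ht⟩ := exists_pow_eq_self_of_coprime hcop
    rw [← pow_mul] at ht
    set z := w ^ (p ^ a * t) with hz
    have hzreg : ¬ p ∣ orderOf z := fun hd => hpm (hd.trans (orderOf_dvd_of_pow_eq_one (by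
      rw [hz, ← pow_mul, show p ^ a * t * m = p ^ a * m * t by ring, ← hwm, pow_mul,
        pow_orderOf_eq_one, one_pow])))
    have hzQ : z ∈ N[Q] := pow_mem hwQ _
    have hze : cj k z e = e := by
      have : ∀ n : ℕ, cj k (w ^ n) e = e := fun n => by
        induction n with
        | zero => simp
        | succ n ih => rw [pow_succ, cj_mul, hwe, ih]
      exact this _
    have hzx : z * x⁻¹ ∈ L := by
      have hwL : ∀ n : ℕ, w ^ n * (x ^ n)⁻¹ ∈ L := fun n => by
        induction n with
        | zero => simp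
        | succ n ih =>
          have h1 := (Subgroup.mem_normalizer_iff.1 (map_normalizer_centralizer hwQ) _).1 ih
          have h2 : w * x⁻¹ ∈ L := by simpa [hw] using L.inv_mem hy
          have := L.mul_mem h1 h2
          convert this using 1
          rw [pow_succ', pow_succ']
          group
      have := hwL (p ^ a * t)
      rwa [ht] at this
    suffices z ∈ L by
      have := L.mul_mem (L.inv_mem hzx) this
      simpa using this
    -- the pair on `Q ⊓ N`
    set R := Q ⊓ N
    set H := C[R] ⊓ N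
    have hKH : K = L ⊓ H := by
      refine le_antisymm (fun c hc => ⟨hc.1, ?_, hc.2⟩) fun c hc => ⟨hc.1, hc.2.2⟩
      exact Subgroup.centralizer_le (SetLike.coe_subset_coe.mpr inf_le_left) hc.1
    have hNR : N[Q] ≤ N[R] := fun u hu => by
      rw [Subgroup.mem_normalizer_iff]
      intro c
      have h1 := Subgroup.mem_normalizer_iff.1 hu c
      have h2 : c ∈ N ↔ u * c * u⁻¹ ∈ N :=
        ⟨fun h => Subgroup.Normal.conj_mem ‹_› _ h u,
          fun h => by simpa [mul_assoc] using Subgroup.Normal.conj_mem ‹_› _ h u⁻¹⟩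
      simp only [R, Subgroup.mem_inf, h1, h2]
    have hNH : N[Q] ≤ N[H] := fun u hu => by
      rw [Subgroup.mem_normalizer_iff]
      intro c
      have h1 := Subgroup.mem_normalizer_iff.1 (map_normalizer_centralizer (hNR hu)) c
      have h2 : c ∈ N ↔ u * c * u⁻¹ ∈ N :=
        ⟨fun h => Subgroup.Normal.conj_mem ‹_› _ h u,
          fun h => by simpa [mul_assoc] using Subgroup.Normal.conj_mem ‹_› _ h u⁻¹⟩
      simp only [H, Subgroup.mem_inf, h1, h2]
    obtain ⟨g, ⟨hg, hgfix, hge⟩, huniq⟩ :=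
      existsUnique_below (H := H) hQ (Subgroup.le_normalizer.trans hNH) hKH he
    have hzg : cj k z g = g := by
      refine huniq _ ⟨hg.cj_of_mem (hNH hzQ), fun u hu => ?_, ?_⟩
      · have hu' : z⁻¹ * u * z ∈ Q := (Subgroup.mem_normalizer_iff''.1 hzQ u).1 hu
        rw [← cj_mul, show u * z = z * (z⁻¹ * u * z) by group, cj_mul, hgfix _ hu']
      · have h := congrArg (cj k z) hge
        rwa [map_mul, cj_br_of_mem hzQ, hze] at h
    have hbrB : br R b * g = g := by
      have hmem : br R b ∈ alg k H H := by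
        refine ⟨fun c hc => ?_, fixBy_br (hb.fixBy.mono le_top)
          (inf_le_left.trans (CfsgLib.BrauerPairs.centralizer_le_normalizer R))⟩
        rw [coeff_br]
        split_ifs with h
        · exact hbN c fun h' => hc ⟨h, h'⟩
        · rfl
      rw [alg_comm le_rfl _ hmem _ hg.mem]
      refine (hg.mul_eq_zero_or hmem
        (br_idem (hQ.to_le inf_le_left) hb.idem (hb.fixBy.mono le_top))).resolve_left fun h => ?_
      refine he.ne_zero ?_
      have h1 : br Q b * e = e := by
        have h2 : br Q b * f = f := hQf.2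
        calc br Q b * e = br Q b * (f * e) := by rw [hfe]
          _ = e := by rw [← mul_assoc, h2, hfe]
      rw [← h1, ← hge, ← mul_assoc,
        ← br_br_of_le (inf_le_left : R ≤ Q) b, ← br_mul hQ
          (fixBy_br (hb.fixBy.mono le_top) (Subgroup.le_normalizer.trans hNR)) hgfix,
        alg_comm le_rfl _ hmem _ hg.mem, h, map_zero, zero_mul]
    set R' := R.subgroupOf N with hR'
    have hmap : R'.map N.subtype = R := Subgroup.map_subgroupOf_eq_of_le inf_le_right
    have hblk' : IsBlk k (Subgroup.centralizer (R' : Set N)) (restr N g) := by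
      refine isBlk_restr_sub N ?_
      rw [map_centralizer_inf, hmap, inf_comm]
      exact hg
    have hpair : IsPairOf p (restr N b) (R', restr N g) := by
      refine ⟨⟨(hQ.to_le inf_le_left).of_equiv
        (Subgroup.subgroupOfEquivOfLe inf_le_right).symm, hblk'⟩, emb_injective N ?_⟩
      show emb N (br R' (restr N b) * restr N g) = emb N (restr N g)
      rw [map_mul, ← br_emb_eq, hmap, emb_restr N hbN, emb_restr N (hg.suppIn.mono inf_le_right)]
      exact hbrB
    have hzN : z ∈ N := mem_of_regular hN hzreg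
    have hzstab : (⟨z, hzN⟩ : N) ∈ stab R' (restr N g) := by
      refine mem_stab.2 ⟨?_, emb_injective N ?_⟩
      · rw [Subgroup.mem_normalizer_iff]
        intro c
        simp only [hR', Subgroup.mem_subgroupOf, Subgroup.coe_mul, Subgroup.coe_inv]
        exact Subgroup.mem_normalizer_iff.1 (hNR hzQ) c
      · rw [← cj_emb, emb_restr N (hg.suppIn.mono inf_le_right)]
        exact hzg
    have hzR := hnil R' _ hpair _ hzstab (by rwa [Subgroup.orderOf_mk])
    rw [Subgroup.mem_centralizer_iff]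
    intro q hq
    set r := q⁻¹ * z * q * z⁻¹ with hrdef
    have hrQ : r ∈ Q := by
      have := Q.mul_mem (Q.inv_mem hq) ((Subgroup.mem_normalizer_iff.1 hzQ q).1 hq)
      rwa [← mul_assoc, ← mul_assoc] at this
    have hrN : r ∈ N := by
      have := N.mul_mem (Subgroup.Normal.conj_mem ‹_› z hzN q⁻¹) (N.inv_mem hzN)
      simpa [hrdef, mul_assoc] using this
    have hzr : z * r * z⁻¹ = r := by
      have h1 := congrArg Subtype.val
        (Subgroup.mem_centralizer_iff.1 hzR ⟨r, hrN⟩ (show (⟨r, hrN⟩ : N) ∈ R' from ⟨hrQ, hrN⟩))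
      simp only [Subgroup.coe_mul] at h1
      rw [← h1, mul_inv_cancel_right]
    have hr : z * q * z⁻¹ = q * r := by rw [hrdef]; group
    have h1 := comm_of_pow hr hzr (orderOf z)
    rw [pow_orderOf_eq_one, one_mul, inv_one, mul_one, eq_comm, mul_eq_left] at h1
    have hd := orderOf_dvd_of_pow_eq_one h1
    obtain ⟨i, hi⟩ := IsPGroup.iff_orderOf.1 hQ ⟨r, hrQ⟩
    rw [Subgroup.orderOf_mk] at hi
    rcases i with _ | i
    · rw [pow_zero, orderOf_eq_one_iff] at hi
      rw [hi, mul_one, mul_inv_eq_iff_eq_mul] at hr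
      exact hr.symm
    · exact absurd ((dvd_pow_self p i.succ_ne_zero).trans (hi ▸ hd)) hzreg
  · intro hnil R' g' hpair t ht hreg
    obtain ⟨htR, htg⟩ := mem_stab.1 ht
    set R := R'.map N.subtype with hR
    set g := emb N g'
    have hgblk : IsBlk k (C[R] ⊓ N) g := by
      rw [inf_comm, hR, ← map_centralizer_inf]
      exact isBlk_emb_sub N hpair.1.2
    have hRp : IsPGroup p R := hpair.1.1.map _
    have hbg : br R b * g = g := by
      have h := congrArg (emb N) hpair.2
      rwa [map_mul, ← br_emb_eq, emb_restr N hbN] at h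
    obtain ⟨s, hsb, hsg, hsx⟩ := exists_blk_above hs hgblk
    have hmem : br R b ∈ alg k C[R] C[R] := ⟨suppIn_br _,
      fixBy_br (hb.fixBy.mono le_top) (CfsgLib.BrauerPairs.centralizer_le_normalizer R)⟩
    have hbs : br R b * s = s := by
      rw [alg_comm le_rfl _ hmem _ hsb.mem]
      refine (hsb.mul_eq_zero_or hmem (br_idem hRp hb.idem (hb.fixBy.mono le_top))).resolve_left
        fun h => hgblk.ne_zero ?_
      calc g = br R b * (s * g) := by rw [hsg, hbg]
        _ = 0 := by rw [← mul_assoc, alg_comm le_rfl _ hmem _ hsb.mem, h, zero_mul]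
    have htR' : (t : G) ∈ N[R] := Subgroup.le_normalizer_map _ (Subgroup.mem_map_of_mem _ htR)
    have htg' : cj k (t : G) g = g := by
      show cj k (t : G) (emb N g') = emb N g'
      rw [cj_emb, htg]
    have hst := hsx (t : G) (map_normalizer_centralizer htR') htg'
    have := hnil R s ⟨⟨hRp, hsb⟩, hbs⟩ (t : G) (mem_stab.2 ⟨htR', hst⟩)
      (by rwa [Subgroup.orderOf_coe])
    rw [Subgroup.mem_centralizer_iff]
    exact fun r hr => Subtype.ext
      (Subgroup.mem_centralizer_iff.1 this _ (Subgroup.mem_map_of_mem _ hr))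

end CfsgLib.BlockB
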