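import Cfsg.Agent.BlocksB.PiKernel
import Cfsg.Agent.BrauerPairs.BlockSaturation
import Mathlib.RingTheory.Artinian.Algebra

/-!
# Truncations of idempotents under blocks of normal subgroups
-/

namespace CfsgLib.BlockB

open CfsgLib.BrauerPairs

set_option linter.unusedSectionVars false
set_option linter.style.haveILetI false

local notation "C[" Q "]" => Subgroup.centralizer (SetLike.coe Q)
local notation "N[" Q "]" => Subgroup.normalizer (SetLike.coe Q)

variable {p : ℕ} [hp : Fact p.Prime] {k : Type*} [Field k] [hk : CharP k p]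
  {G : Type*} [Group G] [Fintype G] {N : Subgroup G} [N.Normal]

/-- Supported on one coset. -/
def OnCoset (N : Subgroup G) [N.Normal] (q : G ⧸ N) (a : MonoidAlgebra k G) : Prop :=
  ∀ g : G, (g : G ⧸ N) ≠ q → a.coeff g = 0

theorem OnCoset.mul {q r : G ⧸ N} {a b : MonoidAlgebra k G} (ha : OnCoset N q a)
    (hb : OnCoset N r b) : OnCoset N (q * r) (a * b) := by
  intro g hg
  rw [coeff_mul]
  refine Finset.sum_eq_zero fun x _ => ?_
  by_cases hx : (x : G ⧸ N) = q
  · rw [hb _ fun h => hg ?_, mul_zero]
    rw [QuotientGroup.mk_mul, QuotientGroup.mk_inv, hx, inv_mul_eq_iff_eq_mul] at h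
    exact h
  · rw [ha x hx, zero_mul]

theorem onCoset_one : OnCoset N (1 : G ⧸ N) (1 : MonoidAlgebra k G) := fun g hg => by
  have : g ≠ 1 := fun h => hg (by rw [h]; rfl)
  simp [MonoidAlgebra.one_def, this.symm]

theorem OnCoset.suppIn {a : MonoidAlgebra k G} (ha : OnCoset N (1 : G ⧸ N) a) : SuppIn N a :=
  fun g hg => ha g fun h => hg ((QuotientGroup.eq_one_iff g).1 h)

open scoped Classical in
/-- The component on a coset. -/
noncomputable def cosetPart (N : Subgroup G) [N.Normal] (q : G ⧸ N) (a : MonoidAlgebra k G) :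
    MonoidAlgebra k G := ofFun fun g => if (g : G ⧸ N) = q then a.coeff g else 0

theorem onCoset_cosetPart (q : G ⧸ N) (a : MonoidAlgebra k G) :
    OnCoset N q (cosetPart N q a) := fun g hg => by
  classical
  rw [cosetPart, coeff_ofFun, if_neg hg]

theorem sum_cosetPart [Fintype (G ⧸ N)] (a : MonoidAlgebra k G) :
    ∑ q : G ⧸ N, cosetPart N q a = a := by
  classical
  refine coeff_ext fun g => ?_
  rw [MonoidAlgebra.coeff_sum, Finsupp.finsetSum_apply]
  simp [cosetPart]

theorem fixBy_cosetPart {a : MonoidAlgebra k G} (ha : FixBy N a) (q : G ⧸ N) :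
    FixBy N (cosetPart N q a) := by
  classical
  refine fixBy_of_coeff fun t ht g => ?_
  rw [cosetPart, coeff_ofFun, coeff_ofFun, ha.coeff_eq ht g]
  have h1 : ((t⁻¹ * g * t : G) : G ⧸ N) = (g : G ⧸ N) := by
    simp [(QuotientGroup.eq_one_iff t).2 ht]
  rw [h1]

theorem br_cosetPart (P : Subgroup G) (q : G ⧸ N) (a : MonoidAlgebra k G) :
    br P (cosetPart N q a) = cosetPart N q (br P a) := by
  classical
  refine coeff_ext fun g => ?_
  simp only [cosetPart, coeff_br, coeff_ofFun]
  split_ifs <;> rfl

theorem cosetPart_mul_of_suppIn {a e : MonoidAlgebra k G} (he : SuppIn N e) (q : G ⧸ N) :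
    cosetPart N q (a * e) = cosetPart N q a * e := by
  classical
  refine coeff_ext fun g => ?_
  simp only [cosetPart, coeff_ofFun, coeff_mul]
  split_ifs with hg
  · refine Finset.sum_congr rfl fun x _ => ?_
    by_cases hx : x⁻¹ * g ∈ N
    · rw [if_pos]
      rw [← hg, ← QuotientGroup.eq.2 hx]
    · rw [he _ hx, mul_zero, mul_zero]
  · refine (Finset.sum_eq_zero fun x _ => ?_).symm
    by_cases hx : x⁻¹ * g ∈ N
    · rw [if_neg fun h => hg (by rw [← h, ← QuotientGroup.eq.2 hx]), zero_mul]
    · rw [he _ hx, mul_zero]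

/-- **Truncation of covering idempotents.**  An idempotent fixed by `N` below a block idempotent of
`N` survives the truncation wherever the block does. -/
theorem br_ne_zero_of_covered {Q : Subgroup G} (hQ : IsPGroup p Q) (hQN : Q ≤ N)
    {e : MonoidAlgebra k G} (he : IsBlk k N e) (hbe : br Q e ≠ 0) {x : MonoidAlgebra k G}
    (hx : FixBy N x) (hxx : x * x = x) (hxe : x * e = x) (h0 : x ≠ 0) : br Q x ≠ 0 := by
  classical
  intro hbx
  haveI : Fintype (G ⧸ N) := Fintype.ofFinite _
  set X : G ⧸ N → MonoidAlgebra k G := fun q => cosetPart N q x with hX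
  have hXmem : ∀ q, X q ∈ alg k ⊤ N := fun q => ⟨suppIn_top _, fixBy_cosetPart hx q⟩
  have hXbr : ∀ q, br Q (X q) = 0 := fun q => by
    rw [hX, br_cosetPart, hbx]
    exact coeff_ext fun g => by simp [cosetPart]
  have hXe : ∀ q, X q * e = X q := fun q => by
    rw [hX, ← cosetPart_mul_of_suppIn he.suppIn, hxe]
  set S := alg k N N with hS
  letI : CommRing S :=
    { (inferInstance : Ring S) with
      mul_comm := fun a b => Subtype.ext (alg_comm le_rfl _ a.2 _ b.2) }
  haveI : IsArtinianRing S := IsArtinianRing.of_finite k S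
  obtain ⟨m, hm⟩ := IsArtinianRing.isNilpotent_nilradical (R := S)
  -- products of consecutive components
  let seg : (ℕ → G ⧸ N) → ℕ → ℕ → MonoidAlgebra k G := fun f i d =>
    Nat.rec 1 (fun j w => w * X (f (i + j))) d
  let deg : (ℕ → G ⧸ N) → ℕ → G ⧸ N := fun f n => Nat.rec 1 (fun j w => w * f j) n
  have hsegmem : ∀ f i d, seg f i d ∈ alg k ⊤ N := fun f i d => by
    induction d with
    | zero => exact one_mem _
    | succ d ih => exact mul_mem ih (hXmem _)
  have hsplit : ∀ f i d, seg f 0 (i + d) = seg f 0 i * seg f i d := fun f i d => by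
    induction d with
    | zero => exact (mul_one _).symm
    | succ d ih =>
      show seg f 0 (i + d) * X (f (0 + (i + d))) = _ * (seg f i d * X (f (i + d)))
      rw [ih, zero_add, mul_assoc]
  have hcoset : ∀ f i d, OnCoset N ((deg f i)⁻¹ * deg f (i + d)) (seg f i d) := fun f i d => by
    induction d with
    | zero =>
      rw [Nat.add_zero, inv_mul_cancel]
      exact onCoset_one
    | succ d ih =>
      have h := ih.mul (onCoset_cosetPart (f (i + d)) x)
      rw [mul_assoc] at h
      exact h
  have hnil : ∀ f i d, deg f i = deg f (i + (d + 1)) →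
      ∃ hy : seg f i (d + 1) ∈ S, (⟨_, hy⟩ : S) ∈ nilradical S := by
    intro f i d hdeg
    have hc := hcoset f i (d + 1)
    rw [← hdeg, inv_mul_cancel] at hc
    have hy : seg f i (d + 1) ∈ S := ⟨hc.suppIn, (hsegmem f i (d + 1)).2⟩
    refine ⟨hy, mem_nilradical.2 ?_⟩
    have hye : e * seg f i (d + 1) = seg f i (d + 1) := by
      rw [← alg_comm le_rfl _ hy _ he.mem]
      show seg f i d * X (f (i + d)) * e = _
      rw [mul_assoc, hXe]

    have hybr : br Q (seg f i (d + 1)) = 0 := by
      show br Q (seg f i d * X (f (i + d))) = 0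
      rw [br_mul hQ ((hsegmem f i d).2.mono hQN) ((hXmem _).2.mono hQN), hXbr, mul_zero]
    rcases he.nilpotent_or_inv (alg_comm le_rfl) hy hye with ⟨n, hn⟩ | ⟨w, hw, hwe⟩
    · exact ⟨n, Subtype.ext hn⟩
    · exact absurd (by rw [← hwe, br_mul hQ (hy.2.mono hQN) (hw.2.mono hQN), hybr, zero_mul]) hbe
  set L := Fintype.card (G ⧸ N) * m with hL
  have hword : ∀ f, seg f 0 L = 0 := by
    intro f
    obtain ⟨q, -, hq⟩ := Finset.exists_lt_card_fiber_of_mul_lt_card_of_maps_to
      (s := Finset.range (L + 1)) (t := (Finset.univ : Finset (G ⧸ N))) (f := deg f) (n := m)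
      (fun a _ => Finset.mem_univ _) (by rw [Finset.card_range, Finset.card_univ, hL]; omega)
    set F := @Finset.filter ℕ (fun a => deg f a = q) (Classical.decPred _) (Finset.range (L + 1))
      with hF
    obtain ⟨T, hTF, hTc⟩ := Finset.exists_subset_card_eq (s := F) (n := m + 1) (by
      refine Nat.succ_le_of_lt (lt_of_lt_of_le hq (le_of_eq ?_))
      rw [hF]
      congr 1
      ext a
      simp)
    let ι := T.orderEmbOfFin hTc
    have hι : ∀ j, ι j ≤ L ∧ deg f (ι j) = q := fun j => by
      have := hTF (show ι j ∈ T from T.orderEmbOfFin_mem hTc j)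
      simp only [hF, Finset.mem_filter, Finset.mem_range] at this
      exact ⟨by omega, this.2⟩
    have key : ∀ (j : ℕ) (hj : j < m + 1), ∃ u : S, u ∈ nilradical S ^ j ∧
        seg f 0 (ι ⟨j, hj⟩) = seg f 0 (ι ⟨0, Nat.succ_pos m⟩) * (u : MonoidAlgebra k G) := by
      intro j
      induction j with
      | zero => exact fun _ => ⟨1, by simp, (mul_one _).symm⟩
      | succ j ih =>
        intro hj
        obtain ⟨u, hu, he'⟩ := ih (by omega)
        have hlt : ι ⟨j, by omega⟩ < ι ⟨j + 1, hj⟩ :=
          ι.strictMono (by simp)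
        obtain ⟨d, hd⟩ := Nat.exists_eq_add_of_lt hlt
        rw [add_assoc] at hd
        obtain ⟨hy, hyn⟩ := hnil f (ι ⟨j, by omega⟩) d (by rw [(hι _).2, ← hd, (hι _).2])
        refine ⟨u * ⟨_, hy⟩, by rw [pow_succ]; exact Ideal.mul_mem_mul hu hyn, ?_⟩
        rw [hd, hsplit, he', mul_assoc]
        rfl
    obtain ⟨u, hu, he'⟩ := key m (Nat.lt_succ_self m)
    rw [hm] at hu
    obtain ⟨d, hd⟩ := Nat.exists_eq_add_of_le (hι ⟨m, Nat.lt_succ_self m⟩).1
    rw [hd, hsplit, he', show u = 0 from hu, ZeroMemClass.coe_zero, mul_zero, zero_mul]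
  have hdown : ∀ r f n, n + r = L → seg f 0 n * x ^ r = 0 := by
    intro r
    induction r with
    | zero => intro f n hn; rw [pow_zero, mul_one, show n = L by omega, hword]
    | succ r ih =>
      intro f n hn
      rw [pow_succ', ← mul_assoc]
      conv_lhs => arg 1; arg 2; rw [← sum_cosetPart (N := N) x]
      rw [Finset.mul_sum, Finset.sum_mul]
      refine Finset.sum_eq_zero fun q _ => ?_
      have hsame : ∀ j ≤ n, seg (Function.update f n q) 0 j = seg f 0 j := fun j hj => by
        induction j with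
        | zero => rfl
        | succ j ihj =>
          show seg _ 0 j * X (Function.update f n q (0 + j)) = seg f 0 j * X (f (0 + j))
          rw [ihj (by omega), Function.update_of_ne (by omega)]
      have h1 := ih (Function.update f n q) (n + 1) (by omega)
      have h2 : seg (Function.update f n q) 0 (n + 1) = seg f 0 n * X q := by
        show seg _ 0 n * X (Function.update f n q (0 + n)) = _
        rw [hsame n le_rfl, zero_add, Function.update_self]
      rwa [h2] at h1
  have hpow : ∀ r, x ^ (r + 1) = x := fun r => by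
    induction r with
    | zero => rw [zero_add, pow_one]
    | succ r ih => rw [pow_succ, ih, hxx]
  have hfin := hdown L (fun _ => 1) 0 (zero_add L)
  refine h0 ?_
  have h1 : x ^ L = 0 := by rw [← hfin]; exact (one_mul _).symm
  calc x = x ^ (L + 1) := (hpow L).symm
    _ = 0 := by rw [pow_succ, h1, zero_mul]

end CfsgLib.BlockB
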