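import Cfsg.Agent.BlocksB.NormalCover
import Cfsg.Agent.BrauerPairs.FusionBridge
import Cfsg.Agent.Blocks.Cover
import Cfsg.Agent.BrauerPairs.Covering

/-!
# Covered blocks of normal subgroups and their defect groups
-/

namespace CfsgLib.BlockB

open Cfsg CfsgLib.Block CfsgLib.Block.Chr CfsgLib.BrauerPairs CfsgLib.Char

set_option linter.unusedSectionVars false
set_option linter.style.haveILetI false

universe u

local notation "C[" Q "]" => Subgroup.centralizer (SetLike.coe Q)
local notation "N[" Q "]" => Subgroup.normalizer (SetLike.coe Q)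

variable {G : Type u} [Group G] [Fintype G] {M : Ideal AlgInt} [M.IsPrime] {p : ℕ}
  [hp : Fact p.Prime]

/-- Idempotents of `Z(kL)` live on a normal subgroup of `p`-power index. -/
theorem suppIn_of_idem_ppower (hM : IsPModular p M) {N L : Subgroup G}
    [(N.subgroupOf L).Normal] {j : ℕ} (hj : (N.subgroupOf L).index = p ^ j)
    {f : MonoidAlgebra (Residue M) G} (hf : f ∈ alg (Residue M) L L) (hff : f * f = f) :
    SuppIn N f := by
  classical
  haveI := Fintype.ofFinite L
  intro g hgN
  by_cases hgL : g ∈ L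
  swap
  · exact hf.1 g hgL
  set g' : L := ⟨g, hgL⟩
  set f' := restr L f with hf'def
  have hf' : f' ∈ alg (Residue M) (⊤ : Subgroup L) ⊤ := restr_mem L hf
  have hff' : f' * f' = f' := emb_injective L (by rw [map_mul, hf'def, emb_restr L hf.1, hff])
  have hsing : p ∣ orderOf g' := by
    by_contra hns
    refine hgN ((Subgroup.mem_subgroupOf).1 ((QuotientGroup.eq_one_iff g').1
      (orderOf_eq_one_iff.1 (Nat.eq_one_of_dvd_coprimes
        (((Nat.Prime.coprime_iff_not_dvd hp.out).2 hns).pow_left j) ?_ ?_))))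
    · rw [← hj, Subgroup.index]; exact orderOf_dvd_natCard _
    · exact orderOf_map_dvd (QuotientGroup.mk' (N.subgroupOf L)) g'
  have hS := alg_comm (k := Residue M) (le_refl (⊤ : Subgroup L))
  have hsum : f' = ∑ e' ∈ primFinset hS, e' * f' := by
    rw [← Finset.sum_mul, sum_primFinset hS, one_mul]
  have : f.coeff g = f'.coeff g' := by simp [hf'def, restr, g']
  rw [this, hsum, MonoidAlgebra.coeff_sum, Finsupp.finsetSum_apply]
  refine Finset.sum_eq_zero fun e' he' => ?_
  have hblk : IsBlk (Residue M) ⊤ e' := (mem_primFinset hS).1 he'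
  rcases hblk.mul_eq_zero_or hf' hff' with h | h
  · rw [h]; rfl
  · rw [h]
    obtain ⟨B', hB', rfl⟩ := exists_idem_eq hM hblk
    rw [idem, coeff_redFun, blockCoeff_eq_zero_of_singular hM hB' hsing, red_zero]

variable {N : Subgroup G} [N.Normal] [Fintype N]

theorem idemIn_eq_cj_of_conjIrr {c d : Set (IrrCharacter N)}
    (hc : IsPBlock M c) (hd : IsPBlock M d) {g : G} {θ : IrrCharacter N} (hθ : θ ∈ c)
    (h : conjIrr g θ ∈ d) : idemIn M N d = cj (Residue M) g⁻¹ (idemIn M N c) := by
  classical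
  have hH : ∀ n, n ∈ N ↔ g⁻¹ * n * g⁻¹⁻¹ ∈ N := fun n =>
    ⟨fun hn => Subgroup.Normal.conj_mem ‹_› n hn _, fun hn => by
      simpa [mul_assoc] using Subgroup.Normal.conj_mem ‹_› _ hn g⟩
  have he : mapChar (conjEquiv hH) θ = conjIrr g θ := Subtype.ext (funext fun n => by
    rw [mapChar_apply, conjIrr_coe, conjOn_apply]
    exact congrArg _ (Subtype.ext (by simp [coe_conjEquiv_symm])))
  rw [← idemIn_conj hH]
  exact congrArg _ (block_eq_of_common hd (isPBlock_mapSet _ hc) h ⟨θ, hθ, he⟩)

/-- The blocks of `N` meeting a covering block are conjugate to a covered one. -/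
theorem exists_conj_of_mul_ne_zero (hM : IsPModular p M) {B : Set (IrrCharacter G)}
    (hB : IsPBlock M B) {c d : Set (IrrCharacter N)} (hc : IsPBlock M c) (hd : IsPBlock M d)
    {χ : IrrCharacter G} (hχ : χ ∈ B) {θ : IrrCharacter N} (hθ : θ ∈ c)
    (hcov : classInner (fun n : N => (χ : G → ℂ) n) (θ : N → ℂ) ≠ 0)
    (hne : idem M B * idemIn M N d ≠ 0) :
    ∃ g : G, (∃ ψ ∈ c, conjIrr g ψ ∈ d) ∧ idemIn M N d = cj (Residue M) g⁻¹ (idemIn M N c) := by
  classical
  obtain ⟨ψ₀, hψ₀⟩ := exists_mem_block hd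
  by_cases hmem : ψ₀ ∈ orbitUnion (G := G) c
  · obtain ⟨g, ψ, hψ, rfl⟩ := hmem
    exact ⟨g, ⟨ψ, hψ, hψ₀⟩, idemIn_eq_cj_of_conjIrr hc hd hψ hψ₀⟩
  exfalso
  have hI := isIntClass_coverFun (G := G) hc
  set a := redFun M (coverFun (G := G) c) with ha_def
  have ha : a ∈ alg (Residue M) (⊤ : Subgroup G) ⊤ := redFun_mem hI.1
  set U := orbitUnion (G := G) c
  have hU : IsIntClass M (blockCoeff U) := isIntClass_blockCoeff_union (orbitUnion_closed hc)
  set aU := redFun M (blockCoeff U)
  have haU : aU ∈ alg (Residue M) (⊤ : Subgroup N) ⊤ := redFun_mem hU.1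
  have haUU : aU * aU = aU := by rw [← redFun_conv hU.2 hU.2, conv_blockCoeff_self]
  have hae : a = emb N aU := coeff_ext fun x => by
    by_cases hx : x ∈ N
    · rw [show x = ((⟨x, hx⟩ : N) : G) from rfl, coeff_emb_coe, ha_def, coeff_redFun, coeff_redFun]
      exact congrArg (red M) (congrFun (resFun_coverFun c) ⟨x, hx⟩)
    · rw [coeff_emb_not_mem N _ hx, ha_def, coeff_redFun, coverFun_not_mem c hx, red_zero]
  have haa : a * a = a := by rw [hae, ← map_mul, haUU]
  have haB : a * idem M B = idem M B := by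
    refine (mul_idem_eq_iff hM hB ha haa).2 fun χ' hχ' => ?_
    rw [lam_eq_of_sameBlock hB hχ' hχ ha, ha_def, lam_redFun χ hI, omega_coverFun hcov hc,
      if_pos (self_mem_orbitUnion hθ), red_one]
  have hd0 : aU * idem M d = 0 := by
    rw [alg_comm le_rfl _ haU _ (idem_mem d)]
    refine ((isBlk_idem hM hd).mul_eq_zero_or haU haUU).resolve_right fun h => ?_
    rw [alg_comm le_rfl _ (idem_mem d) _ haU] at h
    have h1 := (mul_idem_eq_iff hM hd haU haUU).1 h ψ₀ hψ₀
    rw [lam_redFun_blockCoeff hU.2, if_neg hmem] at h1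
    exact zero_ne_one h1
  refine hne ?_
  rw [← haB, alg_commute le_rfl ha.1 (idem_mem B).2, mul_assoc, hae, idemIn_eq, ← map_mul, hd0,
    map_zero, mul_zero]

/-- Covering implies a nonzero product of idempotents. -/
theorem mul_idemIn_ne_zero_of_covered (hM : IsPModular p M) {B : Set (IrrCharacter G)}
    (hB : IsPBlock M B) {c : Set (IrrCharacter N)} (hc : IsPBlock M c)
    {χ : IrrCharacter G} (hχ : χ ∈ B) {θ : IrrCharacter N} (hθ : θ ∈ c)
    (hcov : classInner (fun n : N => (χ : G → ℂ) n) (θ : N → ℂ) ≠ 0) :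
    idem M B * idemIn M N c ≠ 0 := by
  classical
  intro h0
  have hS := alg_comm (k := Residue M) (le_refl N)
  refine idem_ne_zero hB ?_
  rw [← mul_one (idem M B), ← sum_primFinset hS, Finset.mul_sum]
  refine Finset.sum_eq_zero fun e he => ?_
  by_contra hne
  obtain ⟨d, hd, rfl⟩ := exists_idemIn_eq hM ((mem_primFinset hS).1 he)
  obtain ⟨g, -, hg⟩ := exists_conj_of_mul_ne_zero hM hB hc hd hχ hθ hcov hne
  refine hne ?_
  rw [hg]
  have h1 := congrArg (cj (Residue M) g⁻¹) h0
  rwa [map_mul, (idem_mem B).2 _ trivial, map_zero] at h1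

/-- A nonzero product of idempotents gives covering. -/
theorem covered_of_mul_ne_zero (hM : IsPModular p M) {B : Set (IrrCharacter G)}
    (hB : IsPBlock M B) {d : Set (IrrCharacter N)} (hd : IsPBlock M d)
    (hne : idem M B * idemIn M N d ≠ 0) :
    ∃ χ ∈ B, ∃ θ ∈ d, classInner (fun n : N => (χ : G → ℂ) n) (θ : N → ℂ) ≠ 0 := by
  classical
  obtain ⟨χ, hχ⟩ := exists_mem_block hB
  obtain ⟨ψ, hψ, hψc⟩ := exists_constituent_restrict (N := N) χ.2
  obtain ⟨g, ⟨ψ', hψ', hmem⟩, -⟩ := exists_conj_of_mul_ne_zero hM hB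
    (isPBlock_blockOf (M := M) (⟨ψ, hψ⟩ : IrrCharacter N)) hd hχ (mem_blockOf_self _) hψc hne
  refine ⟨χ, hχ, conjIrr g ⟨ψ, hψ⟩, (sameBlock_iff_mem hd hmem).2
    (sameBlock_conjIrr g (sameBlock_of_mem (isPBlock_blockOf (M := M) (⟨ψ, hψ⟩ : IrrCharacter N))
      hψ' (mem_blockOf_self _))), ?_⟩
  rw [conjIrr_coe, classInner_restrict_conjOn (isClassFunction_irr χ)]
  exact hψc

/-- A block of `G` meets a `P`-stable block of `N` surviving at `P`. -/
theorem exists_fixed_covered (hM : IsPModular p M) {B : Set (IrrCharacter G)} (hB : IsPBlock M B)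
    {P : Subgroup G} (hP : IsPGroup p P) (hbr : br P (idem M B) ≠ 0) :
    ∃ d, IsPBlock M d ∧ FixBy P (idemIn M N d) ∧ idem M B * idemIn M N d ≠ 0 ∧
      br P (idemIn M N d) ≠ 0 := by
  classical
  haveI := charP_residue hM
  have hS := alg_comm (k := Residue M) (le_refl N)
  set s := primFinset hS
  have hPN : P ≤ N[N] := by rw [Subgroup.normalizer_eq_top]; exact le_top
  let _ : MulAction P s :=
    { smul := fun u f => ⟨cj (Residue M) (u : G) f, (mem_primFinset hS).mpr
        (IsBlk.cj_of_mem ((mem_primFinset hS).mp f.2) (hPN u.2))⟩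
      one_smul := fun f => Subtype.ext (by
        show cj (Residue M) ((1 : P) : G) (f : MonoidAlgebra (Residue M) G) = f
        simp)
      mul_smul := fun u v f => Subtype.ext (by
        show cj (Residue M) ((u * v : P) : G) (f : MonoidAlgebra (Residue M) G) =
          cj (Residue M) (u : G) (cj (Residue M) (v : G) f)
        rw [Subgroup.coe_mul, cj_mul]) }
  by_contra hno
  push Not at hno
  refine hbr ?_
  have h0 : ∀ f : s, f ∈ (MulAction.fixedPoints P s).toFinset →
      br P (idem M B * (f : MonoidAlgebra (Residue M) G)) = 0 := by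
    intro f hf
    obtain ⟨d, hd, hde⟩ := exists_idemIn_eq hM ((mem_primFinset hS).1 f.2)
    have hfix : FixBy P (idemIn M N d) := fun u hu => by
      rw [hde]; exact congrArg Subtype.val (Set.mem_toFinset.mp hf ⟨u, hu⟩)
    rw [← hde]
    by_cases h : idem M B * idemIn M N d = 0
    · rw [h, map_zero]
    · rw [br_mul hP ((idem_mem B).2.mono le_top) hfix, hno d hd hfix h, mul_zero]
  have hsum : idem M B = ∑ f : s, idem M B * (f : MonoidAlgebra (Residue M) G) := by
    conv_lhs => rw [← mul_one (idem M B), ← sum_primFinset hS, Finset.mul_sum]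
    exact (Finset.sum_coe_sort s fun f => idem M B * f).symm
  rw [hsum, map_sum]
  refine Eq.trans ?_ (Finset.sum_eq_zero h0)
  refine coeff_ext fun g => ?_
  rw [MonoidAlgebra.coeff_sum, Finsupp.finsetSum_apply, MonoidAlgebra.coeff_sum,
    Finsupp.finsetSum_apply]
  refine sum_eq_sum_fixed hP (fun f : s =>
    (br P (idem M B * (f : MonoidAlgebra (Residue M) G))).coeff g) fun u f => ?_
  show (br P (idem M B * cj (Residue M) (u : G) (f : MonoidAlgebra (Residue M) G))).coeff g = _
  conv_lhs => rw [← (idem_mem B).2 (u : G) trivial, ← map_mul]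
  by_cases hg : g ∈ C[P]
  · rw [coeff_br_of_mem _ hg, coeff_br_of_mem _ hg, coeff_cj_of_mem_centralizer u.2 hg]
  · rw [suppIn_br _ g hg, suppIn_br _ g hg]

/-- A covered block survives only where the covering block does. -/
theorem br_idem_ne_zero_of_covered (hM : IsPModular p M) {B : Set (IrrCharacter G)}
    (hB : IsPBlock M B) {e : MonoidAlgebra (Residue M) G} (he : IsBlk (Residue M) N e)
    (hne : idem M B * e ≠ 0) {Q : Subgroup G} (hQ : IsPGroup p Q) (hQN : Q ≤ N)
    (hbr : br Q e ≠ 0) : br Q (idem M B) ≠ 0 := by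
  haveI := charP_residue hM
  intro h0
  have hfB : FixBy N (idem M B) := (idem_mem B).2.mono le_top
  have hcomm : idem M B * e = e * idem M B := (alg_commute le_rfl he.suppIn hfB).symm
  refine br_ne_zero_of_covered hQ hQN he hbr (x := idem M B * e)
    (fun t ht => by rw [map_mul, hfB t ht, he.fixBy t ht]) ?_ (by rw [mul_assoc, he.idem]) hne ?_
  · calc idem M B * e * (idem M B * e) = idem M B * (e * idem M B) * e := by noncomm_ring
      _ = idem M B * (idem M B * e) * e := by rw [hcomm]
      _ = idem M B * e := by rw [← mul_assoc, idem_idem hB, mul_assoc, he.idem]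
  · rw [br_mul hQ (hfB.mono hQN) (he.fixBy.mono hQN), h0, zero_mul]

end CfsgLib.BlockB
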