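import Cfsg.Agent.S4738
import Cfsg.Agent.S0205
import Cfsg.Agent.Invol.IsolatedApps
import Cfsg.Agent.Fusion.PSolvableExt
import Cfsg.Agent.Solvable.Fitting
import Cfsg.Agent.Solvable.CoprimeAct

/-!
# Transitive groups of prime power degree with odd centralisers of nontrivial p-elements
-/

set_option autoImplicit false
set_option linter.style.haveILetI false

namespace CfsgLib.BlocksB.OddDegree

open Subgroup CfsgLib.Char

variable {G : Type*} [Group G]

section Count

open Classical in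
/-- No p-defect zero: the number of factorisations of an element as a product of given
conjugates is divisible by p. -/
theorem dvd_card_pairs_of_no_dz [Finite G] [Fintype G] (p : ℕ) [hp : Fact p.Prime]
    (hno : ¬ ∃ χ : Cfsg.IrrCharacter G,
      (Cfsg.charDegree (χ : G → ℂ)).factorization p = (Nat.card G).factorization p)
    (x y w : G) :
    p ∣ (Finset.univ.filter fun gh : G × G =>
      gh.1 * x * gh.1⁻¹ * (gh.2 * y * gh.2⁻¹) = w).card := by
  refine dvd_of_isIntegral_div hp.out.ne_zero ?_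
  rw [card_pairs, Finset.mul_sum, Finset.sum_div]
  refine IsIntegral.sum _ fun χ hχ => ?_
  have hχ := mem_irrFinset.mp hχ
  obtain ⟨hd, hpos⟩ := charDegree_spec hχ
  have hdvd : p * Cfsg.charDegree χ ∣ Nat.card G := by
    obtain ⟨m, hm⟩ := charDegree_dvd hχ
    rw [hm, mul_comm p]
    refine Nat.mul_dvd_mul_left _ ?_
    by_contra hpm
    refine hno ⟨⟨χ, hχ⟩, ?_⟩
    have hm0 : m ≠ 0 := by
      rintro rfl; exact (Nat.card_pos (α := G)).ne' (by simpa using hm)
    show (Cfsg.charDegree χ).factorization p = _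
    rw [hm, Nat.factorization_mul hpos.ne' hm0, Finsupp.add_apply,
      Nat.factorization_eq_zero_of_not_dvd hpm, add_zero]
  obtain ⟨e, he⟩ := hdvd
  have hpne : (p : ℂ) ≠ 0 := Nat.cast_ne_zero.mpr hp.out.ne_zero
  have hdne : (Cfsg.charDegree χ : ℂ) ≠ 0 := Nat.cast_ne_zero.mpr hpos.ne'
  have he' : (Nat.card G : ℂ) = (p : ℂ) * (Cfsg.charDegree χ : ℂ) * (e : ℂ) := by exact_mod_cast he
  have : (Nat.card G : ℂ) * (χ x * χ y * χ w⁻¹ / χ 1) / (p : ℂ)
      = χ x * χ y * χ w⁻¹ * (e : ℂ) := by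
    rw [hd, he']; field_simp
  rw [this]
  have hχc := IsIrrCharacter.isCharacter hχ
  have hnat : IsIntegral ℤ (e : ℂ) := by
    simpa using isIntegral_algebraMap (R := ℤ) (A := ℂ) (x := (e : ℤ))
  exact (((IsCharacter.isIntegral hχc x).mul (IsCharacter.isIntegral hχc y)).mul
    (IsCharacter.isIntegral hχc w⁻¹)).mul hnat

end Count

theorem involution_mul_self {t : G} (ht : orderOf t = 2) : t * t = 1 := by
  rw [← pow_two, ← ht]; exact pow_orderOf_eq_one t

theorem involution_inv {t : G} (ht : orderOf t = 2) : t⁻¹ = t :=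
  inv_eq_of_mul_eq_one_right (involution_mul_self ht)

theorem involution_conj {t : G} (ht : orderOf t = 2) (g : G) : orderOf (g * t * g⁻¹) = 2 := by
  rw [show g * t * g⁻¹ = MulAut.conj g t from rfl, MulEquiv.orderOf_eq, ht]

/-- A product of two involutions is inverted by both. -/
theorem inverts_mul {u v : G} (hu : orderOf u = 2) (hv : orderOf v = 2) :
    u * (u * v) * u⁻¹ = (u * v)⁻¹ ∧ v * (u * v) * v⁻¹ = (u * v)⁻¹ := by
  rw [mul_inv_rev, involution_inv hu, involution_inv hv]
  constructor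
  · rw [← mul_assoc u u v, involution_mul_self hu, one_mul]
  · rw [show v * (u * v) * v = v * u * (v * v) by group, involution_mul_self hv, mul_one]

theorem conj_pow_eq {u x : G} (h : u * x * u⁻¹ = x⁻¹) (n : ℕ) :
    u * x ^ n * u⁻¹ = (x ^ n)⁻¹ := by
  rw [← conj_pow, h, inv_pow]

/-- With odd centraliser of the product, no p-defect zero forces p to divide its order. -/
theorem dvd_card_centralizer_of_no_dz [Finite G] (p : ℕ) [hp : Fact p.Prime]
    (hno : ¬ ∃ χ : Cfsg.IrrCharacter G,
      (Cfsg.charDegree (χ : G → ℂ)).factorization p = (Nat.card G).factorization p)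
    {u v : G} (hu : orderOf u = 2) (hv : orderOf v = 2) (huv : IsConj u v)
    (hCu : ¬ p ∣ Nat.card (centralizer ({u} : Set G)))
    (hodd : Odd (Nat.card (centralizer ({u * v} : Set G)))) :
    p ∣ Nat.card (centralizer ({u * v} : Set G)) := by
  classical
  haveI := Fintype.ofFinite G
  obtain ⟨h0, hh0⟩ := isConj_iff.mp huv
  set x := u * v with hx
  set C := centralizer ({x} : Set G) with hC
  set K := centralizer ({u} : Set G) with hK
  let act : MulAction (C × K × K) (G × G) :=
    { smul := fun q gh => ((q.1 : G) * gh.1 * (q.2.1 : G)⁻¹, (q.1 : G) * gh.2 * (q.2.2 : G)⁻¹)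
      one_smul := fun gh => by
        show ((1 : G) * gh.1 * (1 : G)⁻¹, (1 : G) * gh.2 * (1 : G)⁻¹) = gh
        simp
      mul_smul := fun q q' gh => by
        show (((q.1 * q'.1 : C) : G) * gh.1 * ((q.2.1 * q'.2.1 : K) : G)⁻¹,
            ((q.1 * q'.1 : C) : G) * gh.2 * ((q.2.2 * q'.2.2 : K) : G)⁻¹)
          = ((q.1 : G) * ((q'.1 : G) * gh.1 * (q'.2.1 : G)⁻¹) * (q.2.1 : G)⁻¹,
            (q.1 : G) * ((q'.1 : G) * gh.2 * (q'.2.2 : G)⁻¹) * (q.2.2 : G)⁻¹)
        simp [mul_assoc] }
  have hsmul : ∀ (q : C × K × K) (gh : G × G),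
      q • gh = ((q.1 : G) * gh.1 * (q.2.1 : G)⁻¹, (q.1 : G) * gh.2 * (q.2.2 : G)⁻¹) :=
    fun _ _ => rfl
  set S := Finset.univ.filter fun gh : G × G =>
    gh.1 * u * gh.1⁻¹ * (gh.2 * u * gh.2⁻¹) = x with hS
  obtain ⟨hux, -⟩ := inverts_mul hu hv
  have horb : MulAction.orbit (C × K × K) ((1, h0) : G × G) = (S : Set (G × G)) := by
    ext ⟨g, h⟩
    rw [MulAction.mem_orbit_iff, hS, Finset.coe_filter]
    simp only [Set.mem_setOf_eq, Finset.mem_univ, true_and]
    constructor
    · rintro ⟨⟨c, a, b⟩, hq⟩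
      rw [hsmul, Prod.mk.injEq] at hq
      obtain ⟨rfl, rfl⟩ := hq
      have ha := mem_centralizer_singleton_iff.mp a.2
      have hb := mem_centralizer_singleton_iff.mp b.2
      have hc := mem_centralizer_singleton_iff.mp c.2
      have e1 : (a : G)⁻¹ * u * (a : G) = u := by rw [mul_assoc, ← ha, inv_mul_cancel_left]
      have e2 : (b : G)⁻¹ * u * (b : G) = u := by rw [mul_assoc, ← hb, inv_mul_cancel_left]
      calc (c : G) * 1 * (a : G)⁻¹ * u * ((c : G) * 1 * (a : G)⁻¹)⁻¹ *
            ((c : G) * h0 * (b : G)⁻¹ * u * ((c : G) * h0 * (b : G)⁻¹)⁻¹)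
          = (c : G) * ((a : G)⁻¹ * u * (a : G)) * (h0 * ((b : G)⁻¹ * u * (b : G)) * h0⁻¹)
              * (c : G)⁻¹ := by group
        _ = (c : G) * x * (c : G)⁻¹ := by rw [e1, e2, hh0, hx]; group
        _ = x := by rw [hc, mul_inv_cancel_right]
    · intro hgh
      set U := g * u * g⁻¹ with hU
      have hUi : orderOf U = 2 := involution_conj hu g
      have hVi : orderOf (h * u * h⁻¹) = 2 := involution_conj hu h
      have hUx : U * x * U⁻¹ = x⁻¹ := by rw [← hgh]; exact (inverts_mul hUi hVi).1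
      set k := u * U with hk
      have hkC : k ∈ C := by
        refine mem_centralizer_singleton_iff.mpr (mul_inv_eq_iff_eq_mul.mp ?_)
        calc k * x * k⁻¹ = u * (U * x * U⁻¹) * u⁻¹ := by rw [hk]; group
          _ = (u * x * u⁻¹)⁻¹ := by rw [hUx]; group
          _ = x := by rw [hux, inv_inv]
      have huk : u * k * u⁻¹ = k⁻¹ := (inverts_mul hu hUi).1
      obtain ⟨m, hm⟩ : Odd (orderOf k) :=
        hodd.of_dvd_nat (Subgroup.orderOf_dvd_natCard C hkC)
      set c := k ^ m with hc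
      have huc : u * c * u⁻¹ = c⁻¹ := conj_pow_eq huk m
      have hcU : c * u * c⁻¹ = U := by
        have hpow : k ^ (2 * m + 1) = 1 := by rw [← hm]; exact pow_orderOf_eq_one k
        have hcc : c⁻¹ * c⁻¹ = k := by
          rw [← mul_inv_rev, hc, ← pow_add, ← two_mul]
          exact (eq_inv_of_mul_eq_one_right (by rw [← pow_succ]; exact hpow)).symm
        calc c * u * c⁻¹ = u * ((u⁻¹ * c * u) * c⁻¹) := by group
          _ = u * (c⁻¹ * c⁻¹) := by
            rw [show u⁻¹ * c * u = u * c * u⁻¹ by rw [involution_inv hu], huc]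
          _ = U := by rw [hcc, hk, ← mul_assoc, involution_mul_self hu, one_mul]
      have hcx : c * x * c⁻¹ = x := by
        have := mem_centralizer_singleton_iff.mp (pow_mem hkC m)
        rw [hc, this, mul_inv_cancel_right]
      have hcV : c * v * c⁻¹ = h * u * h⁻¹ := by
        have e : h * u * h⁻¹ = U⁻¹ * x := by rw [← hgh]; group
        rw [e, ← hcU]
        calc c * v * c⁻¹ = (c * u * c⁻¹)⁻¹ * (c * (u * v) * c⁻¹) := by group
          _ = _ := by rw [← hx, hcx]
      have hcC : c ∈ C := pow_mem hkC m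
      have ha : g⁻¹ * c ∈ K := by
        refine mem_centralizer_singleton_iff.mpr ?_
        calc g⁻¹ * c * u = g⁻¹ * (c * u * c⁻¹) * c := by group
          _ = u * (g⁻¹ * c) := by rw [hcU, hU]; group
      have hb : h⁻¹ * c * h0 ∈ K := by
        refine mem_centralizer_singleton_iff.mpr ?_
        calc h⁻¹ * c * h0 * u = h⁻¹ * (c * (h0 * u * h0⁻¹) * c⁻¹) * (c * h0) := by group
          _ = u * (h⁻¹ * c * h0) := by rw [hh0, hcV]; group
      refine ⟨⟨⟨c, hcC⟩, ⟨_, ha⟩, ⟨_, hb⟩⟩, ?_⟩
      rw [hsmul]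
      simp only [Prod.mk.injEq]
      exact ⟨by group, by group⟩
  have hdvd : S.card ∣ Nat.card (C × K × K) := by
    have h1 : Nat.card (MulAction.orbit (C × K × K) ((1, h0) : G × G)) = S.card := by
      rw [horb]; simp
    rw [← h1, Nat.card_congr (MulAction.orbitEquivQuotientStabilizer (C × K × K) _)]
    exact Subgroup.card_quotient_dvd_card _
  have h2 : p ∣ S.card := dvd_card_pairs_of_no_dz p hno u u x
  have h3 := h2.trans hdvd
  rw [Nat.card_prod, Nat.card_prod] at h3
  exact (hp.out.dvd_mul.mp h3).resolve_right fun h => (hp.out.dvd_mul.mp h).elim hCu hCu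

section Action

variable {Ω : Type*} [MulAction G Ω]

/-- A transitive abelian subgroup of a faithful action is self-centralising. -/
theorem mem_of_centralizes [FaithfulSMul G Ω] {P : Subgroup G}
    (hcomm : IsMulCommutative P) (htP : ∀ a b : Ω, ∃ q ∈ P, q • a = b)
    (a : Ω) {g : G} (hg : ∀ q ∈ P, Commute g q) : g ∈ P := by
  obtain ⟨s, hs, hsa⟩ := htP a (g • a)
  suffices g = s by rw [this]; exact hs
  refine eq_of_smul_eq_smul (α := Ω) fun b => ?_
  obtain ⟨q, hq, rfl⟩ := htP a b
  have hsq : s * q = q * s :=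
    congrArg Subtype.val (hcomm.is_comm.comm (⟨s, hs⟩ : P) ⟨q, hq⟩)
  rw [smul_smul, smul_smul, (hg q hq).eq, hsq, mul_smul, mul_smul, hsa]

/-- A transitive `p`-subgroup normalises no nontrivial `p'`-subgroup, if point stabilisers are
`p'` and the action is faithful. -/
theorem eq_bot_of_normalized [Finite G] [FaithfulSMul G Ω] (p : ℕ) [hp : Fact p.Prime]
    {P N : Subgroup G} (hP : IsPGroup p P) (htP : ∀ a b : Ω, ∃ q ∈ P, q • a = b)
    (hstab : ∀ a : Ω, ¬ p ∣ Nat.card (MulAction.stabilizer G a))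
    (hN : (Nat.card N).Coprime p) (hPN : P ≤ normalizer (N : Set G)) : N = ⊥ := by
  rw [eq_bot_iff]
  intro n hn
  rw [mem_bot]
  refine eq_of_smul_eq_smul (α := Ω) fun a => ?_
  rw [one_smul]
  obtain ⟨q, hq, hqa⟩ := htP a (n • a)
  set g := q⁻¹ * n with hgdef
  have hga : g ∈ MulAction.stabilizer G a := by
    rw [MulAction.mem_stabilizer_iff, hgdef, mul_smul, ← hqa, inv_smul_smul]
  have hpk : ∀ k : ℕ, q ^ k * g ^ k ∈ N := by
    intro k
    induction k with
    | zero => simp
    | succ k ih =>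
      have e : q ^ (k + 1) * g ^ (k + 1) = q * (q ^ k * g ^ k) * q⁻¹ * n := by
        rw [pow_succ' q k, pow_succ g k, hgdef]; group
      rw [e]
      exact mul_mem ((mem_normalizer_iff.mp (hPN hq) _).mp ih) hn
  have hk := hpk (orderOf g)
  rw [pow_orderOf_eq_one, mul_one] at hk
  have hgord : ¬ p ∣ orderOf g := fun h =>
    hstab a (h.trans (Subgroup.orderOf_dvd_natCard _ hga))
  obtain ⟨i, hi⟩ := IsPGroup.iff_orderOf.mp hP ⟨q, hq⟩
  rw [← Subgroup.orderOf_coe] at hi
  have h1 : q ^ orderOf g = 1 := by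
    rw [← orderOf_eq_one_iff]
    refine Nat.eq_one_of_dvd_coprimes (Nat.Coprime.pow_right i hN) ?_ ?_
    · exact Subgroup.orderOf_dvd_natCard _ hk
    · exact hi ▸ orderOf_pow_dvd _
  have h2 : q = 1 := by
    rw [← orderOf_eq_one_iff]
    refine Nat.eq_one_of_dvd_coprimes ?_ (orderOf_dvd_of_pow_eq_one h1) hi.dvd
    exact Nat.Coprime.pow_right i ((hp.out.coprime_iff_not_dvd.mpr hgord).symm)
  rw [h2, one_smul] at hqa
  exact hqa.symm

/-- The setting: transitive, faithful, degree a power of `p`, odd centralisers of nontrivial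
`p`-elements and no `p`-defect zero. -/
structure Setting (G Ω : Type*) [Group G] [MulAction G Ω] (p : ℕ) : Prop where
  sylow_trans : ∀ (P : Sylow p G) (a b : Ω), ∃ q ∈ (P : Subgroup G), q • a = b
  stab : ∀ a : Ω, ¬ p ∣ Nat.card (MulAction.stabilizer G a)
  oddC : ∀ g : G, g ≠ 1 → (∃ k : ℕ, orderOf g = p ^ k) →
      Odd (Nat.card (centralizer ({g} : Set G)))
  noDz : ¬ ∃ χ : Cfsg.IrrCharacter G,
      (Cfsg.charDegree (χ : G → ℂ)).factorization p = (Nat.card G).factorization p
  inverter : ∀ t : G, orderOf t = 2 → ∀ P : Sylow p G, ∃ u : G, IsConj t u ∧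
      ∀ q ∈ (P : Subgroup G), u * q * u⁻¹ = q⁻¹
  abelian : ∀ P : Sylow p G, IsMulCommutative (P : Subgroup G)
  conj : ∀ s t : G, orderOf s = 2 → orderOf t = 2 → IsConj s t
  notDvdInvol : ∀ t : G, orderOf t = 2 → ¬ p ∣ Nat.card (centralizer ({t} : Set G))

theorem Setting.mk' [Finite G] [FaithfulSMul G Ω] [Fintype Ω]
    (htr : MulAction.IsPretransitive G Ω) (p : ℕ) [hp : Fact p.Prime] (hp2 : p ≠ 2)
    (hpG : p ∣ Nat.card G) (h2G : 2 ∣ Nat.card G)
    (hC : ∀ g : G, g ≠ 1 → (∃ k : ℕ, orderOf g = p ^ k) →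
      Odd (Nat.card ↥(centralizer ({g} : Set G))))
    {r : ℕ} (hΩ : Fintype.card Ω = p ^ r)
    (hno : ¬ ∃ χ : Cfsg.IrrCharacter G,
      (Cfsg.charDegree (χ : G → ℂ)).factorization p = (Nat.card G).factorization p) :
    Setting G Ω p := by
  classical
  have h2p : ∀ g : G, orderOf g ≠ 2 * p := by
    intro g hg
    have hgp : orderOf (g ^ 2) = p := by
      rw [orderOf_pow' _ two_ne_zero, hg, Nat.gcd_eq_right (dvd_mul_right 2 p),
        Nat.mul_div_cancel_left _ two_pos]
    have hg2 : orderOf (g ^ p) = 2 := by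
      rw [orderOf_pow' _ hp.out.ne_zero, hg, Nat.gcd_eq_right (dvd_mul_left p 2),
        Nat.mul_div_cancel _ hp.out.pos]
    have h1 : g ^ 2 ≠ 1 := fun h => by
      rw [h, orderOf_one] at hgp; exact hp.out.ne_one hgp.symm
    have hmem : g ^ p ∈ centralizer ({g ^ 2} : Set G) :=
      mem_centralizer_singleton_iff.mpr (Commute.pow_pow_self g p 2).eq
    have h := Subgroup.orderOf_dvd_natCard _ hmem
    rw [hg2] at h
    exact Nat.not_even_iff_odd.mpr (hC _ h1 ⟨1, by rw [hgp, pow_one]⟩) (even_iff_two_dvd.mpr h)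
  obtain ⟨hab, hconj⟩ := ((Cfsg.Agent.S4738.result p hp2 (even_iff_two_dvd.mpr h2G) h2p).resolve_left
    hno)
  have hnd : ∀ t : G, orderOf t = 2 → ¬ p ∣ Nat.card (centralizer ({t} : Set G)) := by
    intro t ht
    refine not_dvd_centralizer_symm (q := 2) (fun g h1 h2 => ?_) t
      (fun h => by rw [h, orderOf_one] at ht; omega) ⟨1, by rw [ht, pow_one]⟩
    rw [← even_iff_two_dvd, Nat.not_even_iff_odd]
    exact hC g h1 h2
  have hidx : ∀ a : Ω, Nat.card (MulAction.stabilizer G a) * p ^ r = Nat.card G := fun a => by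
    rw [← hΩ, ← Nat.card_eq_fintype_card, ← MulAction.index_stabilizer_of_transitive G a,
      Subgroup.card_mul_index]
  have htrans : ∀ (P : Sylow p G) (a b : Ω), ∃ q ∈ (P : Subgroup G), q • a = b := by
    intro P a b
    obtain ⟨i, hi⟩ := IsPGroup.iff_card.mp
      (P.isPGroup'.to_subgroup (MulAction.stabilizer (P : Subgroup G) a))
    have hle : p ^ i ∣ Nat.card (MulAction.stabilizer G a) := by
      rw [← hi, ← Subgroup.card_map_of_injective (Subgroup.subtype_injective (P : Subgroup G))]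
      refine Subgroup.card_dvd_of_le ?_
      rintro _ ⟨y, hy, rfl⟩
      exact hy
    have horb := MulAction.index_stabilizer (P : Subgroup G) a
    have hmul := Subgroup.card_mul_index (MulAction.stabilizer (P : Subgroup G) a)
    rw [horb, hi, P.card_eq_multiplicity, ← hidx a,
      Nat.factorization_mul Nat.card_pos.ne' (pow_ne_zero _ hp.out.ne_zero), Finsupp.add_apply,
      hp.out.factorization_pow, Finsupp.single_eq_same, pow_add] at hmul
    have hle' : p ^ i ≤ p ^ (Nat.card (MulAction.stabilizer G a)).factorization p :=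
      Nat.pow_le_pow_right hp.out.pos
        ((hp.out.pow_dvd_iff_le_factorization Nat.card_pos.ne').mp hle)
    have hge : p ^ r ≤ (MulAction.orbit (P : Subgroup G) a).ncard := by
      by_contra hlt
      have := Nat.mul_lt_mul_of_le_of_lt hle' (not_le.mp hlt) (pow_pos hp.out.pos _)
      omega
    have huniv : MulAction.orbit (P : Subgroup G) a = Set.univ := by
      refine Set.eq_univ_of_univ_subset ?_
      refine (Set.eq_of_subset_of_ncard_le (Set.subset_univ _) ?_).ge
      rw [Set.ncard_univ, Nat.card_eq_fintype_card, hΩ]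
      exact hge
    obtain ⟨q, hq⟩ := MulAction.mem_orbit_iff.mp (huniv ▸ Set.mem_univ b)
    exact ⟨q, q.2, hq⟩
  refine ⟨htrans, fun a => ?_, hC, hno,
    fun t ht P => exists_conj_inverts p hpG hC hno t ht P, hab, hconj, hnd⟩
  intro hdvd
  let P : Sylow p G := default
  have h1 : Nat.card (P : Subgroup G) = p ^ r := by
    rw [← hΩ, ← Nat.card_eq_fintype_card]
    refine Nat.card_eq_of_bijective (fun q : (P : Subgroup G) => (q : G) • a) ⟨?_, ?_⟩
    · intro q q' hqq
      refine Subtype.ext (eq_of_smul_eq_smul (α := Ω) fun b => ?_)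
      obtain ⟨s, hs, rfl⟩ := htrans P a b
      have e1 : (q : G) * s = s * q :=
        congrArg Subtype.val ((hab P).is_comm.comm q ⟨s, hs⟩)
      have e2 : (q' : G) * s = s * q' :=
        congrArg Subtype.val ((hab P).is_comm.comm q' ⟨s, hs⟩)
      rw [smul_smul, smul_smul, e1, e2, mul_smul, mul_smul]
      exact congrArg (s • ·) hqq
    · intro b
      obtain ⟨s, hs, hsb⟩ := htrans P a b
      exact ⟨⟨s, hs⟩, hsb⟩
  rw [P.card_eq_multiplicity] at h1
  have h2 := Nat.pow_right_injective hp.out.two_le h1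
  rw [← hidx a, Nat.factorization_mul Nat.card_pos.ne' (pow_ne_zero _ hp.out.ne_zero),
    Finsupp.add_apply, hp.out.factorization_pow, Finsupp.single_eq_same] at h2
  have := hp.out.factorization_pos_of_dvd Nat.card_pos.ne' hdvd
  omega

namespace Setting

variable [Finite G] {p : ℕ} [hp : Fact p.Prime]

theorem smul_ne (S : Setting G Ω p) {g : G} (hg1 : g ≠ 1) (hg : ∃ k : ℕ, orderOf g = p ^ k)
    (a : Ω) : g • a ≠ a := by
  intro h
  obtain ⟨k, hk⟩ := hg
  refine S.stab a (dvd_trans ?_ (Subgroup.orderOf_dvd_natCard _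
    (MulAction.mem_stabilizer_iff.mpr h)))
  rw [hk]
  refine dvd_pow_self p ?_
  rintro rfl
  exact hg1 (orderOf_eq_one_iff.mp (by simpa using hk))

/-- An involution fixes exactly one point. -/
theorem existsUnique_fixed (S : Setting G Ω p) (hp2 : p ≠ 2) [Nonempty Ω] {t : G}
    (ht : orderOf t = 2) : ∃! a : Ω, t • a = a := by
  let P : Sylow p G := default
  obtain ⟨u, hu, hinv⟩ := S.inverter t ht P
  obtain ⟨c, rfl⟩ := isConj_iff.mp hu
  set u := c * t * c⁻¹ with hudef
  suffices h : ∃! a : Ω, u • a = a by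
    obtain ⟨a, ha, huniq⟩ := h
    have key : ∀ b : Ω, t • b = b ↔ u • (c • b) = c • b := fun b => by
      rw [hudef, smul_smul, inv_mul_cancel_right, mul_smul, smul_left_cancel_iff]
    refine ⟨c⁻¹ • a, ?_, fun b hb => ?_⟩
    · show t • (c⁻¹ • a) = c⁻¹ • a
      rw [key, smul_inv_smul]; exact ha
    · rw [← huniq (c • b) ((key b).mp hb), inv_smul_smul]
  obtain ⟨a⟩ := ‹Nonempty Ω›
  obtain ⟨s, hs, hsa⟩ := S.sylow_trans P a (u • a)
  have hcm : ∀ y z : G, y ∈ (P : Subgroup G) → z ∈ (P : Subgroup G) → Commute y z :=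
    fun y z hy hz => congrArg Subtype.val ((S.abelian P).is_comm.comm
      (⟨y, hy⟩ : (P : Subgroup G)) ⟨z, hz⟩)
  have hact : ∀ q ∈ (P : Subgroup G), u • (q • a) = (q⁻¹ * s) • a := by
    intro q hq
    calc u • (q • a) = (u * q * u⁻¹) • (u • a) := by
          rw [smul_smul, smul_smul, inv_mul_cancel_right]
      _ = q⁻¹ • (s • a) := by rw [hinv q hq, hsa]
      _ = _ := (mul_smul _ _ _).symm
  have hinj : ∀ q ∈ (P : Subgroup G), q • a = a → q = 1 := fun q hq hqa => by
    by_contra h1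
    obtain ⟨k, hk⟩ := IsPGroup.iff_orderOf.mp P.isPGroup' ⟨q, hq⟩
    exact S.smul_ne h1 ⟨k, by rw [← hk, ← Subgroup.orderOf_coe]⟩ a hqa
  have hoddP : ∀ q ∈ (P : Subgroup G), Odd (orderOf q) := fun q hq => by
    obtain ⟨k, hk⟩ := IsPGroup.iff_orderOf.mp P.isPGroup' ⟨q, hq⟩
    rw [← Subgroup.orderOf_coe] at hk
    change orderOf q = p ^ k at hk
    rw [hk]
    exact (hp.out.odd_of_ne_two hp2).pow
  obtain ⟨m, hm⟩ := hoddP s hs
  have hss : s ^ (m + 1) * s ^ (m + 1) = s := by
    rw [← pow_add, show m + 1 + (m + 1) = orderOf s + 1 by omega, pow_succ,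
      pow_orderOf_eq_one, one_mul]
  refine ⟨s ^ (m + 1) • a, ?_, ?_⟩
  · show u • _ = _
    rw [hact _ (pow_mem hs _)]
    congr 1
    exact inv_mul_eq_iff_eq_mul.mpr hss.symm
  · intro b hb
    obtain ⟨q, hq, rfl⟩ := S.sylow_trans P a b
    rw [hact q hq] at hb
    set z := q⁻¹ * (q⁻¹ * s) with hz
    have h1 : z = 1 := hinj z (mul_mem (inv_mem hq) (mul_mem (inv_mem hq) hs))
      (by rw [hz, mul_smul, hb, inv_smul_smul])
    have hqq : q * q = s := by
      rw [hz] at h1
      calc q * q = q * q * 1 := (mul_one _).symm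
        _ = q * q * (q⁻¹ * (q⁻¹ * s)) := by rw [h1]
        _ = s := by group
    congr 1
    -- square roots in a group of odd order are unique
    obtain ⟨i, hi⟩ := hoddP _ (mul_mem hq (inv_mem (pow_mem hs (m + 1))))
    set y := q * (s ^ (m + 1))⁻¹ with hy
    have hy2 : y * y = 1 := by
      have hc : Commute (s ^ (m + 1))⁻¹ q := hcm _ _ (inv_mem (pow_mem hs _)) hq
      calc y * y = q * ((s ^ (m + 1))⁻¹ * q) * (s ^ (m + 1))⁻¹ := by rw [hy]; group
        _ = (q * q) * (s ^ (m + 1) * s ^ (m + 1))⁻¹ := by rw [hc.eq]; group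
        _ = 1 := by rw [hqq, hss, mul_inv_cancel]
    have : y = 1 := by
      have h := pow_orderOf_eq_one y
      rwa [hi, pow_succ, pow_mul, pow_two, hy2, one_pow, one_mul] at h
    exact mul_inv_eq_one.mp this

variable [Nonempty Ω]

/-- Elements commuting with an involution fix its fixed point. -/
theorem fix_comm (S : Setting G Ω p) (hp2 : p ≠ 2) {t g : G} (ht : orderOf t = 2)
    (hc : Commute g t) {a : Ω} (ha : t • a = a) : g • a = a :=
  (S.existsUnique_fixed hp2 ht).unique (by rw [smul_smul, ← hc.eq, mul_smul, ha]) ha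

/-- An involution centralising a nontrivial inverted element has the fixed point of the inverter. -/
theorem fix_of_commute_inverted (S : Setting G Ω p) (hp2 : p ≠ 2) {u x z : G}
    (hu : orderOf u = 2) (hux : u * x * u⁻¹ = x⁻¹) (hx : x * x ≠ 1) (hz : orderOf z = 2)
    (hzx : Commute z x) {a : Ω} (ha : u • a = a) : z • a = a := by
  obtain ⟨huw, hzw⟩ := inverts_mul hu hz
  set w := u * z with hw
  have hwx : w * x * w⁻¹ = x⁻¹ := by
    calc w * x * w⁻¹ = u * (z * x * z⁻¹) * u⁻¹ := by rw [hw]; group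
      _ = x⁻¹ := by rw [hzx.eq, mul_inv_cancel_right, hux]
  rcases Nat.even_or_odd (orderOf w) with ⟨m, hm⟩ | ⟨m, hm⟩
  · set s := w ^ m with hs
    have hm0 : m ≠ 0 := by
      rintro rfl; exact (orderOf_pos w).ne' (by simpa using hm)
    have hsord : orderOf s = 2 := by
      rw [hs, orderOf_pow' _ hm0, hm, Nat.gcd_eq_right ⟨2, by ring⟩, ← two_mul,
        Nat.mul_div_cancel _ (Nat.pos_of_ne_zero hm0)]
    have key : ∀ y : G, y * w * y⁻¹ = w⁻¹ → Commute y s := fun y hy => by
      have h := conj_pow_eq hy m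
      rw [← hs, involution_inv hsord] at h
      exact mul_inv_eq_iff_eq_mul.mp h
    have hsa : s • a = a := S.fix_comm hp2 hu (key u huw).symm ha
    exact S.fix_comm hp2 hsord (key z hzw) hsa
  · exfalso
    have h2 : Commute (w * w) x := by
      refine mul_inv_eq_iff_eq_mul.mp ?_
      calc w * w * x * (w * w)⁻¹ = w * (w * x * w⁻¹) * w⁻¹ := by group
        _ = w * x⁻¹ * w⁻¹ := by rw [hwx]
        _ = (w * x * w⁻¹)⁻¹ := by group
        _ = x := by rw [hwx, inv_inv]
    have hwinv : (w * w) ^ m = w⁻¹ := by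
      rw [← pow_two, ← pow_mul]
      refine eq_inv_of_mul_eq_one_left ?_
      rw [← pow_succ, ← hm, pow_orderOf_eq_one]
    have h3 : Commute w x := by
      have h := h2.pow_left m
      rw [hwinv] at h
      exact Commute.inv_left_iff.mp h
    rw [h3.eq, mul_inv_cancel_right] at hwx
    exact hx (mul_eq_one_iff_eq_inv.mpr hwx)

/-- Involutions with different fixed points: their product has odd centraliser. -/
theorem odd_centralizer_mul (S : Setting G Ω p) (hp2 : p ≠ 2) {u v : G} (hu : orderOf u = 2)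
    (hv : orderOf v = 2) {a b : Ω} (ha : u • a = a) (hb : v • b = b) (hab : a ≠ b) :
    Odd (orderOf (u * v)) ∧ u * v ≠ 1 ∧ Odd (Nat.card (centralizer ({u * v} : Set G))) := by
  obtain ⟨hux, hvx⟩ := inverts_mul hu hv
  set x := u * v with hx
  have hx1 : x ≠ 1 := fun h => hab (by
    rw [hx, mul_eq_one_iff_eq_inv, involution_inv hv] at h
    exact (S.existsUnique_fixed hp2 hv).unique (h ▸ ha) hb)
  have hodd : Odd (orderOf x) := by
    rw [← Nat.not_even_iff_odd]
    rintro ⟨m, hm⟩
    have hm0 : m ≠ 0 := by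
      rintro rfl; exact (orderOf_pos x).ne' (by simpa using hm)
    set s := x ^ m with hs
    have hsord : orderOf s = 2 := by
      rw [hs, orderOf_pow' _ hm0, hm, Nat.gcd_eq_right ⟨2, by ring⟩, ← two_mul,
        Nat.mul_div_cancel _ (Nat.pos_of_ne_zero hm0)]
    have key : ∀ y : G, y * x * y⁻¹ = x⁻¹ → Commute s y := fun y hy => by
      have h := conj_pow_eq hy m
      rw [← hs, involution_inv hsord] at h
      exact ((mul_inv_eq_iff_eq_mul.mp h : y * s = s * y)).symm
    exact hab ((S.existsUnique_fixed hp2 hsord).unique (S.fix_comm hp2 hu (key u hux) ha)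
      (S.fix_comm hp2 hv (key v hvx) hb))
  refine ⟨hodd, hx1, ?_⟩
  have hxx : x * x ≠ 1 := fun h => by
    have h2 : orderOf x ∣ 2 := orderOf_dvd_of_pow_eq_one (by rw [pow_two, h])
    rcases (Nat.dvd_prime Nat.prime_two).mp h2 with h' | h'
    · exact hx1 (orderOf_eq_one_iff.mp h')
    · rw [h'] at hodd; exact absurd hodd (by decide)
  rw [← Nat.not_even_iff_odd, even_iff_two_dvd]
  intro h2
  obtain ⟨z, hz⟩ := exists_prime_orderOf_dvd_card' 2 h2
  have hz' : orderOf (z : G) = 2 := by rw [Subgroup.orderOf_coe, hz]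
  have hzx : Commute (z : G) x := mem_centralizer_singleton_iff.mp z.2
  exact hab ((S.existsUnique_fixed hp2 hz').unique
    (S.fix_of_commute_inverted hp2 hu hux hxx hz' hzx ha)
    (S.fix_of_commute_inverted hp2 hv hvx hxx hz' hzx hb))

/-- An element normalising a Sylow subgroup, of order prime to `2p`, centralises an involution. -/
theorem exists_involution_commute [FaithfulSMul G Ω] (S : Setting G Ω p) (hp2 : p ≠ 2)
    (h2G : 2 ∣ Nat.card G) (P : Sylow p G) {e : G} (he : e ∈ normalizer ((P : Subgroup G) : Set G))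
    (he2 : ¬ 2 ∣ orderOf e) (hep : ¬ p ∣ orderOf e) :
    ∃ z : G, orderOf z = 2 ∧ Commute z e := by
  obtain ⟨t, ht⟩ := exists_prime_orderOf_dvd_card' 2 h2G
  obtain ⟨u, hu, hinv⟩ := S.inverter t ht P
  obtain ⟨c, rfl⟩ := isConj_iff.mp hu
  set u := c * t * c⁻¹ with hudef
  have huo : orderOf u = 2 := involution_conj ht c
  obtain ⟨a⟩ := ‹Nonempty Ω›
  have hpre : ∀ g ∈ normalizer ((P : Subgroup G) : Set G), u⁻¹ * (g * u * g⁻¹) ∈
      (P : Subgroup G) := by
    intro g hg
    refine mem_of_centralizes (S.abelian P) (S.sylow_trans P) a fun q hq => ?_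
    have hq' : g⁻¹ * q * g ∈ (P : Subgroup G) := by
      have := (mem_normalizer_iff.mp (inv_mem hg) q).mp hq
      simpa using this
    have e1 : (g * u * g⁻¹) * q * (g * u * g⁻¹)⁻¹ = q⁻¹ := by
      calc _ = g * (u * (g⁻¹ * q * g) * u⁻¹) * g⁻¹ := by group
        _ = q⁻¹ := by rw [hinv _ hq']; group
    refine mul_inv_eq_iff_eq_mul.mp ?_
    calc u⁻¹ * (g * u * g⁻¹) * q * (u⁻¹ * (g * u * g⁻¹))⁻¹
        = u⁻¹ * ((g * u * g⁻¹) * q * (g * u * g⁻¹)⁻¹) * u := by group
      _ = (u⁻¹ * q * u)⁻¹ := by rw [e1]; group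
      _ = q := by
        rw [show u⁻¹ * q * u = u * q * u⁻¹ by rw [involution_inv huo], hinv q hq, inv_inv]
  have huN : u ∈ normalizer ((P : Subgroup G) : Set G) := by
    refine mem_normalizer_iff.mpr fun q => ⟨fun hq => by rw [hinv q hq]; exact inv_mem hq,
      fun hq => ?_⟩
    have h := hinv _ hq
    have h' : u * (u * q * u⁻¹) * u⁻¹ = q := by
      rw [show u * (u * q * u⁻¹) * u⁻¹ = (u * u) * q * (u * u)⁻¹ by group,
        involution_mul_self huo]
      group
    rw [h'] at h
    rw [h]; exact inv_mem hq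
  set K := (P : Subgroup G) ⊔ zpowers u with hK
  have hPK : (P : Subgroup G) ≤ K := le_sup_left
  have huK : u ∈ K := mem_sup_right (mem_zpowers u)
  have hKmem : ∀ y ∈ K, y ∈ (P : Subgroup G) ∨ orderOf y = 2 := by
    intro y hy
    rw [hK, sup_comm] at hy
    have hle : zpowers u ≤ normalizer ((P : Subgroup G) : Set G) := by rwa [zpowers_le]
    rw [← SetLike.mem_coe, coe_mul_of_left_le_normalizer_right _ _ hle] at hy
    obtain ⟨w, hw, q, hq, hwq⟩ := Set.mem_mul.mp hy
    subst hwq
    obtain ⟨i, rfl⟩ := mem_zpowers_iff.mp hw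
    rcases Int.even_or_odd i with ⟨j, rfl⟩ | ⟨j, rfl⟩
    · left
      have : u ^ (j + j) = 1 := by
        rw [← two_mul, zpow_mul, show u ^ (2 : ℤ) = u * u from zpow_two u,
          involution_mul_self huo, one_zpow]
      rw [this, one_mul]; exact hq
    · right
      have : u ^ (2 * j + 1) = u := by
        rw [zpow_add, zpow_mul, show u ^ (2 : ℤ) = u * u from zpow_two u,
          involution_mul_self huo, one_zpow, one_mul, zpow_one]
      rw [this]
      refine orderOf_eq_prime ?_ ?_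
      · rw [pow_two]
        calc u * q * (u * q) = (u * q * u⁻¹) * (u * u) * q := by group
          _ = 1 := by rw [hinv q hq, involution_mul_self huo]; group
      · intro h
        have hu' : u ∈ (P : Subgroup G) := eq_inv_of_mul_eq_one_left h ▸ inv_mem hq
        obtain ⟨k, hk⟩ := IsPGroup.iff_orderOf.mp P.isPGroup' ⟨u, hu'⟩
        rw [← Subgroup.orderOf_coe] at hk
        exact hp2 ((Nat.prime_eq_prime_of_dvd_pow Nat.prime_two hp.out
          (show (2 : ℕ) ∣ p ^ k by rw [← hk]; exact huo ▸ dvd_rfl)).symm)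
  have hA : zpowers e ≤ normalizer (K : Set G) := by
    have hconj : ∀ g ∈ normalizer ((P : Subgroup G) : Set G), ∀ y ∈ K, g * y * g⁻¹ ∈ K := by
      intro g hg y hy
      have hle : K ≤ K.comap (MulAut.conj g).toMonoidHom := by
        refine sup_le (fun q hq => ?_) (zpowers_le.mpr ?_)
        · exact hPK ((mem_normalizer_iff.mp hg q).mp hq)
        · show g * u * g⁻¹ ∈ K
          rw [show g * u * g⁻¹ = u * (u⁻¹ * (g * u * g⁻¹)) by group]
          exact mul_mem huK (hPK (hpre g hg))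
      exact hle hy
    rw [zpowers_le, mem_normalizer_iff]
    refine fun y => ⟨hconj e he y, fun hy => ?_⟩
    have := hconj e⁻¹ (inv_mem he) _ hy
    rwa [inv_inv, show e⁻¹ * (e * y * e⁻¹) * e = y by group] at this
  have hcop : (Nat.card (zpowers e)).Coprime (Nat.card K) := by
    rw [Nat.card_zpowers]
    by_contra h
    obtain ⟨q, hq, hqe, hqK⟩ := Nat.Prime.not_coprime_iff_dvd.mp h
    haveI := Fact.mk hq
    obtain ⟨y, hy⟩ := exists_prime_orderOf_dvd_card' q hqK
    rcases hKmem y y.2 with h' | h'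
    · obtain ⟨k, hk⟩ := IsPGroup.iff_orderOf.mp P.isPGroup' ⟨(y : G), h'⟩
      rw [← Subgroup.orderOf_coe] at hk
      change orderOf (y : G) = p ^ k at hk
      rw [Subgroup.orderOf_coe, hy] at hk
      exact hep (Nat.prime_eq_prime_of_dvd_pow hq hp.out hk.dvd ▸ hqe)
    · rw [Subgroup.orderOf_coe, hy] at h'
      exact he2 (h' ▸ hqe)
  have hNA : zpowers e ≤ normalizer ((P : Subgroup G) : Set G) := by rwa [zpowers_le]
  obtain ⟨z, ⟨hzK, hzc⟩, hz⟩ := CfsgLib.CoprimeAct.exists_centralizing_mem_coset hA hcop hPK hNA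
    (Or.inl inferInstance) huK (fun g hg => hpre g (hNA hg))
  refine ⟨z, (hKmem z hzK).resolve_left fun hzP => ?_,
    (mem_centralizer_iff.mp hzc e (mem_zpowers e)).symm⟩
  have hu' : u ∈ (P : Subgroup G) := by
    have := mul_mem hzP (inv_mem hz)
    rwa [show z * (u⁻¹ * z)⁻¹ = u by group] at this
  obtain ⟨k, hk⟩ := IsPGroup.iff_orderOf.mp P.isPGroup' ⟨u, hu'⟩
  rw [← Subgroup.orderOf_coe] at hk
  exact hp2 ((Nat.prime_eq_prime_of_dvd_pow Nat.prime_two hp.out
    (show (2 : ℕ) ∣ p ^ k by rw [← hk]; exact huo ▸ dvd_rfl)).symm)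

/-- Products of involutions with different fixed points are `p`-elements. -/
theorem isPElement_mul [FaithfulSMul G Ω] (S : Setting G Ω p) (hp2 : p ≠ 2)
    (h2G : 2 ∣ Nat.card G) {u v : G} (hu : orderOf u = 2)
    (hv : orderOf v = 2) {a b : Ω} (ha : u • a = a) (hb : v • b = b) (hab : a ≠ b) :
    ∃ k : ℕ, orderOf (u * v) = p ^ k := by
  obtain ⟨hodd, -, hCodd⟩ := S.odd_centralizer_mul hp2 hu hv ha hb hab
  have hpC := dvd_card_centralizer_of_no_dz p S.noDz hu hv (S.conj u v hu hv)
    (S.notDvdInvol u hu) hCodd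
  obtain ⟨hux, -⟩ := inverts_mul hu hv
  set x := u * v with hx
  set k := (orderOf x).factorization p with hk
  set e := x ^ (p ^ k) with he
  have hx0 : orderOf x ≠ 0 := (orderOf_pos x).ne'
  have heord : orderOf e = orderOf x / p ^ k := by
    rw [he, orderOf_pow' _ (pow_ne_zero _ hp.out.ne_zero),
      Nat.gcd_eq_right (Nat.ordProj_dvd (orderOf x) p)]
  rcases eq_or_ne e 1 with he1 | he1
  · obtain ⟨j, -, hj⟩ := (Nat.dvd_prime_pow hp.out).mp (orderOf_dvd_of_pow_eq_one (he ▸ he1))
    exact ⟨j, hj⟩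
  exfalso
  have heodd : Odd (orderOf e) := hodd.of_dvd_nat (orderOf_pow_dvd _)
  have hep : ¬ p ∣ orderOf e := by rw [heord]; exact Nat.not_dvd_ordCompl hp.out hx0
  have hue : u * e * u⁻¹ = e⁻¹ := conj_pow_eq hux _
  have hee : e * e ≠ 1 := fun h => by
    have h2 : orderOf e ∣ 2 := orderOf_dvd_of_pow_eq_one (by rw [pow_two, h])
    rcases (Nat.dvd_prime Nat.prime_two).mp h2 with h' | h'
    · exact he1 (orderOf_eq_one_iff.mp h')
    · rw [h'] at heodd; exact absurd heodd (by decide)
  obtain ⟨y, hy⟩ := exists_prime_orderOf_dvd_card' p hpC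
  have hy' : orderOf (y : G) = p := by rw [Subgroup.orderOf_coe, hy]
  have hy1 : (y : G) ≠ 1 := fun h => by
    rw [h, orderOf_one] at hy'; exact hp.out.ne_one hy'.symm
  have hey : Commute e (y : G) :=
    ((mem_centralizer_singleton_iff.mp y.2 : (y : G) * x = x * y) |> Eq.symm |>
      fun h => (show Commute x (y : G) from h).pow_left _)
  have hC := S.oddC (y : G) hy1 ⟨1, by rw [hy', pow_one]⟩
  set C := centralizer ({(y : G)} : Set G) with hCdef
  haveI : Group.IsSolvable C := Cfsg.Agent.S0205.result hC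
  have hyp : IsPGroup p (zpowers (y : G)) :=
    IsPGroup.of_card (n := 1) (by rw [Nat.card_zpowers, hy', pow_one])
  obtain ⟨P, hP⟩ := hyp.exists_le_sylow
  have hPC : (P : Subgroup G) ≤ C := fun q hq => mem_centralizer_singleton_iff.mpr
    (congrArg Subtype.val ((S.abelian P).is_comm.comm (⟨q, hq⟩ : (P : Subgroup G))
      ⟨y, hP (mem_zpowers _)⟩))
  have hO : Cfsg.pPrimeCore p C = ⊥ := by
    have h := eq_bot_of_normalized p P.isPGroup' (S.sylow_trans P) S.stab
      (N := (Cfsg.pPrimeCore p C).map C.subtype)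
      (by rw [Subgroup.card_map_of_injective C.subtype_injective]
          exact CfsgLib.Solvable.coprime_card_pPrimeCore p)
      (fun q hq => by
        refine mem_normalizer_iff.mpr fun n => ⟨?_, ?_⟩
        · rintro ⟨n', hn', rfl⟩
          exact ⟨⟨q, hPC hq⟩ * n' * ⟨q, hPC hq⟩⁻¹,
            Subgroup.Normal.conj_mem inferInstance _ hn' _, by simp⟩
        · rintro ⟨n', hn', hn⟩
          refine ⟨⟨q, hPC hq⟩⁻¹ * n' * ⟨q, hPC hq⟩, ?_, ?_⟩
          · have := Subgroup.Normal.conj_mem (H := Cfsg.pPrimeCore p C) inferInstance _ hn'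
              (⟨q, hPC hq⟩⁻¹ : C)
            simpa using this
          · simp only [Subgroup.coe_subtype] at hn
            simp [hn]; group)
    exact (Subgroup.map_eq_bot_iff_of_injective _ C.subtype_injective).mp h
  let P' : Sylow p C := P.subtype hPC
  have hP' : (P' : Subgroup C) = Cfsg.pCore p C := CfsgLib.Fitting.abelian_sylow_eq_pCore hO P'
    (fun q hq => mem_centralizer_iff.mpr fun q' hq' => Subtype.ext
      (congrArg Subtype.val ((S.abelian P).is_comm.comm (⟨(q' : G), hq'⟩ : (P : Subgroup G))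
        ⟨(q : G), hq⟩) :))
  have heC : e ∈ C := mem_centralizer_singleton_iff.mpr hey.eq
  have heN : e ∈ normalizer ((P : Subgroup G) : Set G) := by
    have hn : ∀ c : C, ∀ q ∈ (P : Subgroup G), (c : G) * q * (c : G)⁻¹ ∈ (P : Subgroup G) := by
      intro c q hq
      have h1 : (⟨q, hPC hq⟩ : C) ∈ Cfsg.pCore p C := hP' ▸ (show q ∈ (P : Subgroup G) from hq)
      have h2 := Subgroup.Normal.conj_mem inferInstance _ h1 c
      rw [← hP'] at h2
      exact h2
    refine mem_normalizer_iff.mpr fun q => ⟨hn ⟨e, heC⟩ q, fun hq => ?_⟩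
    have := hn ⟨e, heC⟩⁻¹ _ hq
    simpa [mul_assoc] using this
  obtain ⟨z, hz, hze⟩ := S.exists_involution_commute hp2 h2G P heN
    (by rw [← even_iff_two_dvd, Nat.not_even_iff_odd]; exact heodd) hep
  have hfix : ∀ g : G, Commute g e → g • a = a := by
    intro g hg
    have hza := S.fix_of_commute_inverted hp2 hu hue hee hz hze ha
    have hc : Commute (g * z * g⁻¹) e := (hg.mul_left hze).mul_left hg.inv_left
    have hgza := S.fix_of_commute_inverted hp2 hu hue hee (involution_conj hz g) hc ha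
    refine (S.existsUnique_fixed hp2 (involution_conj hz g)).unique ?_ hgza
    rw [smul_smul, inv_mul_cancel_right, mul_smul, hza]
  exact S.smul_ne hy1 ⟨1, by rw [hy', pow_one]⟩ a (hfix y hey.symm)

/-- Every point is fixed by at most one involution. -/
theorem eq_of_fixed [FaithfulSMul G Ω] (S : Setting G Ω p) (hp2 : p ≠ 2)
    (htr : MulAction.IsPretransitive G Ω) (h2G : 2 ∣ Nat.card G) [Fintype Ω] {u v : G}
    (hu : orderOf u = 2) (hv : orderOf v = 2) {c : Ω} (hcu : u • c = c) (hcv : v • c = c) :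
    u = v := by
  classical
  haveI := Fintype.ofFinite G
  set I : Ω → Finset G := fun d =>
    Finset.univ.filter fun t : G => orderOf t = 2 ∧ t • d = d with hI
  have hmemI : ∀ d t, t ∈ I d ↔ orderOf t = 2 ∧ t • d = d := fun d t => by simp [hI]
  have hk : ∀ d d', (I d).card = (I d').card := by
    intro d d'
    obtain ⟨g, hg⟩ := htr.exists_smul_eq d d'
    refine Finset.card_bij' (fun t _ => g * t * g⁻¹) (fun t _ => g⁻¹ * t * g) ?_ ?_ ?_ ?_
    · intro t ht
      rw [hmemI] at ht ⊢
      refine ⟨involution_conj ht.1 g, ?_⟩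
      rw [← hg, smul_smul, inv_mul_cancel_right, mul_smul, ht.2]
    · intro t ht
      rw [hmemI] at ht ⊢
      refine ⟨by simpa using involution_conj ht.1 g⁻¹, ?_⟩
      rw [mul_smul, mul_smul, hg, ht.2, ← hg, inv_smul_smul]
    · intro t _; group
    · intro t _; group
  refine eq_of_smul_eq_smul (α := Ω) fun a => ?_
  rcases eq_or_ne a c with rfl | hac
  · rw [hcu, hcv]
  set J := Finset.univ.filter fun t : G => orderOf t = 2 ∧ t • a ≠ a with hJ
  set B := Finset.univ.filter fun b : Ω => b ≠ a with hB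
  set F : Ω → Finset G := fun b => J.filter fun t => t • a = b with hF
  have hsame : ∀ b, ∀ t ∈ F b, ∀ t' ∈ F b, ∀ d : Ω, t • d = d → t' • d = d := by
    intro b t ht t' ht' d hd
    simp only [hF, hJ, Finset.mem_filter, Finset.mem_univ, true_and] at ht ht'
    obtain ⟨d', hd', -⟩ := S.existsUnique_fixed hp2 ht'.1.1
    by_contra hne
    have hdd : d ≠ d' := fun h => hne (h ▸ hd')
    obtain ⟨j, hj⟩ := S.isPElement_mul hp2 h2G ht.1.1 ht'.1.1 hd hd' hdd
    obtain ⟨-, h1, -⟩ := S.odd_centralizer_mul hp2 ht.1.1 ht'.1.1 hd hd' hdd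
    refine S.smul_ne h1 ⟨j, hj⟩ a ?_
    rw [mul_smul, ht'.2, ← ht.2, smul_smul, involution_mul_self ht.1.1, one_smul]
  have hsub : ∀ b, ∀ t ∈ F b, ∀ d, t • d = d → F b ⊆ I d := by
    intro b t ht d hd t' ht'
    rw [hmemI]
    refine ⟨?_, hsame b t ht t' ht' d hd⟩
    simp only [hF, hJ, Finset.mem_filter, Finset.mem_univ, true_and] at ht'
    exact ht'.1.1
  have hle : ∀ b ∈ B, (F b).card ≤ (I c).card := by
    intro b _
    rcases (F b).eq_empty_or_nonempty with h | ⟨t, ht⟩
    · simp [h]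
    · have hto : orderOf t = 2 := by
        simp only [hF, hJ, Finset.mem_filter, Finset.mem_univ, true_and] at ht
        exact ht.1.1
      obtain ⟨d, hd, -⟩ := S.existsUnique_fixed hp2 hto
      exact (Finset.card_le_card (hsub b t ht d hd)).trans (hk d c).le
  have hsum : ∑ b ∈ B, (F b).card = ∑ b ∈ B, (I c).card := by
    have h1 : J.card = ∑ b ∈ B, (F b).card :=
      Finset.card_eq_sum_card_fiberwise fun t ht => by
        simp only [hJ, hB, Finset.coe_filter, Finset.mem_coe, Finset.mem_filter,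
          Finset.mem_univ, true_and, Set.mem_setOf_eq] at ht ⊢
        exact ht.2
    have h2 : J = B.biUnion I := by
      ext t
      simp only [hJ, hB, Finset.mem_biUnion, Finset.mem_filter, Finset.mem_univ, true_and, hmemI]
      constructor
      · rintro ⟨ht, hta⟩
        obtain ⟨d, hd, -⟩ := S.existsUnique_fixed hp2 ht
        exact ⟨d, fun h => hta (h ▸ hd), ht, hd⟩
      · rintro ⟨d, hd, ht, htd⟩
        exact ⟨ht, fun h => hd ((S.existsUnique_fixed hp2 ht).unique htd h)⟩
    have h3 : (B : Set Ω).PairwiseDisjoint I := by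
      intro d _ d' _ hdd
      refine Finset.disjoint_left.mpr fun t ht ht' => hdd ?_
      rw [hmemI] at ht ht'
      exact (S.existsUnique_fixed hp2 ht.1).unique ht.2 ht'.2
    rw [← h1, h2, Finset.card_biUnion h3]
    exact Finset.sum_congr rfl fun d _ => hk d c
  have heq := (Finset.sum_eq_sum_iff_of_le hle).mp hsum
  have hua : u • a ≠ a := fun h => hac ((S.existsUnique_fixed hp2 hu).unique h hcu)
  have huF : u ∈ F (u • a) := by simp [hF, hJ, hu, hua]
  have hFc : F (u • a) = I c := Finset.eq_of_subset_of_card_le (hsub _ u huF c hcu)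
    (heq (u • a) (by simp [hB, hua])).ge
  have hvF : v ∈ F (u • a) := by rw [hFc, hmemI]; exact ⟨hv, hcv⟩
  simp only [hF, Finset.mem_filter] at hvF
  exact hvF.2.symm

/-- A Sylow `p`-subgroup is normal. -/
theorem exists_normal_sylow [FaithfulSMul G Ω] (S : Setting G Ω p) (hp2 : p ≠ 2)
    (htr : MulAction.IsPretransitive G Ω) (h2G : 2 ∣ Nat.card G) [Fintype Ω] :
    ∃ P : Sylow p G, (P : Subgroup G).Normal := by
  obtain ⟨t, ht⟩ := exists_prime_orderOf_dvd_card' 2 h2G
  obtain ⟨a, ha, -⟩ := S.existsUnique_fixed hp2 ht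
  have hiso : Cfsg.IsIsolatedInvolution t := by
    refine ⟨ht, fun g hg => ?_⟩
    exact S.eq_of_fixed hp2 htr h2G (involution_conj ht g) ht
      (S.fix_comm hp2 ht hg.symm ha) ha
  set O := Cfsg.oddCore G with hO
  have hOodd : Odd (Nat.card O) := CfsgLib.IsoApps.odd_oddCore
  haveI : Group.IsSolvable O := Cfsg.Agent.S0205.result hOodd
  have hOtr : ∀ g : G, ∃ o ∈ O, o • a = g • a := by
    intro g
    obtain ⟨o, ho, c, hc, rfl⟩ := CfsgLib.IsoApps.exists_mul hiso g
    exact ⟨o, ho, by rw [mul_smul, S.fix_comm hp2 ht (mem_centralizer_singleton_iff.mp hc) ha]⟩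
  let P : Sylow p G := default
  have hPO : Nat.card (P : Subgroup G) ∣ Nat.card O := by
    have huniv : MulAction.orbit O a = Set.univ := by
      refine Set.eq_univ_of_forall fun b => ?_
      obtain ⟨g, rfl⟩ := htr.exists_smul_eq a b
      obtain ⟨o, ho, hoa⟩ := hOtr g
      exact ⟨⟨o, ho⟩, hoa⟩
    have hcard : Nat.card (P : Subgroup G) = Nat.card Ω := by
      refine Nat.card_eq_of_bijective (fun q : (P : Subgroup G) => (q : G) • a) ⟨?_, ?_⟩
      · intro q q' hqq
        by_contra hne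
        obtain ⟨j, hj⟩ := IsPGroup.iff_orderOf.mp P.isPGroup' (q⁻¹ * q')
        refine S.smul_ne (g := ((q⁻¹ * q' : (P : Subgroup G)) : G))
          (fun h => hne (inv_mul_eq_one.mp (Subtype.ext h)))
          ⟨j, by rw [← hj, ← Subgroup.orderOf_coe]⟩ a ?_
        push_cast
        rw [mul_smul]
        exact (congrArg ((q : G)⁻¹ • ·) hqq.symm).trans (inv_smul_smul _ _)
      · intro b
        obtain ⟨s, hs, hsb⟩ := S.sylow_trans P a b
        exact ⟨⟨s, hs⟩, hsb⟩
    rw [hcard, ← Set.ncard_univ, ← huniv, ← MulAction.index_stabilizer O a]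
    exact Subgroup.index_dvd_card _
  let Q : Sylow p O := default
  have hQcard : Nat.card ((Q : Subgroup O).map O.subtype) = p ^ (Nat.card G).factorization p := by
    rw [Subgroup.card_map_of_injective O.subtype_injective, Q.card_eq_multiplicity]
    congr 1
    refine le_antisymm ((Nat.factorization_le_iff_dvd Nat.card_pos.ne' Nat.card_pos.ne').mpr
      (Subgroup.card_subgroup_dvd_card O) p) ?_
    rw [P.card_eq_multiplicity] at hPO
    exact (hp.out.pow_dvd_iff_le_factorization Nat.card_pos.ne').mp hPO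
  let R : Sylow p G := Sylow.ofCard ((Q : Subgroup O).map O.subtype) hQcard
  have hR : (R : Subgroup G) = (Q : Subgroup O).map O.subtype := rfl
  have hRO : (R : Subgroup G) ≤ O := hR ▸ Subgroup.map_subtype_le _
  have hOb : Cfsg.pPrimeCore p O = ⊥ := by
    haveI : (Cfsg.pPrimeCore p O).Characteristic :=
      characteristic_iff_map_le.mpr fun φ =>
        CfsgLib.Solvable.le_pPrimeCore p (Subgroup.Normal.map inferInstance _ φ.surjective)
          ((CfsgLib.Solvable.coprime_card_pPrimeCore p).coprime_dvd_left (card_map_dvd _ _))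
    have h := eq_bot_of_normalized p R.isPGroup' (S.sylow_trans R) S.stab
      (N := (Cfsg.pPrimeCore p O).map O.subtype)
      (by rw [Subgroup.card_map_of_injective O.subtype_injective]
          exact CfsgLib.Solvable.coprime_card_pPrimeCore p)
      (by rw [Subgroup.normalizer_eq_top_iff.mpr inferInstance]; exact le_top)
    exact (Subgroup.map_eq_bot_iff_of_injective _ O.subtype_injective).mp h
  have hQ : (Q : Subgroup O) = Cfsg.pCore p O := CfsgLib.Fitting.abelian_sylow_eq_pCore hOb Q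
    (fun q hq => mem_centralizer_iff.mpr fun q' hq' => Subtype.ext
      (congrArg Subtype.val ((S.abelian R).is_comm.comm
        (⟨(q' : G), q', hq', rfl⟩ : (R : Subgroup G)) ⟨(q : G), q, hq, rfl⟩) :))
  haveI : (Q : Subgroup O).Normal := hQ ▸ inferInstance
  haveI : (Q : Subgroup O).Characteristic := Sylow.characteristic_of_normal Q inferInstance
  exact ⟨R, hR ▸ inferInstance⟩

end Setting

/-- The theorem. -/
theorem dz_or_pSolvable [Finite G] [FaithfulSMul G Ω] [Fintype Ω]
    (htr : MulAction.IsPretransitive G Ω) (p : ℕ) [hp : Fact p.Prime] (hp2 : p ≠ 2)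
    (hpG : p ∣ Nat.card G) (h2G : 2 ∣ Nat.card G)
    (hC : ∀ g : G, g ≠ 1 → (∃ k : ℕ, orderOf g = p ^ k) →
      Odd (Nat.card ↥(centralizer ({g} : Set G))))
    {r : ℕ} (hΩ : Fintype.card Ω = p ^ r) :
    (∃ χ : Cfsg.IrrCharacter G,
      (Cfsg.charDegree (χ : G → ℂ)).factorization p = (Nat.card G).factorization p) ∨
    (Cfsg.IsPSolvable p G ∧ ∃ χ : Cfsg.IrrCharacter G,
      (Cfsg.charDegree (χ : G → ℂ)).factorization 2 = (Nat.card G).factorization 2) := by
  refine or_iff_not_imp_left.mpr fun hno => ?_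
  haveI : Nonempty Ω :=
    Fintype.card_pos_iff.mp (by rw [hΩ]; exact pow_pos hp.out.pos r)
  have S := Setting.mk' htr p hp2 hpG h2G hC hΩ hno
  obtain ⟨P, hPn⟩ := S.exists_normal_sylow hp2 htr h2G
  haveI := hPn
  refine ⟨?_, ?_⟩
  · refine CfsgLib.PSolvableExt.isPSolvable_of_kernel_step (QuotientGroup.mk' (P : Subgroup G))
      (QuotientGroup.mk'_surjective _) (Or.inl ?_)
      (CfsgLib.PSolvableExt.isPSolvable_of_card (Or.inr ?_))
    · rw [QuotientGroup.ker_mk']; exact ⟨_, P.card_eq_multiplicity⟩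
    · rw [← Subgroup.index_eq_card]
      exact ((hp.out.coprime_iff_not_dvd).mpr P.not_dvd_index).symm
  · obtain ⟨y, hy⟩ := exists_prime_orderOf_dvd_card' p
      (show p ∣ Nat.card (P : Subgroup G) by
        rw [P.card_eq_multiplicity]
        exact dvd_pow_self p (hp.out.factorization_pos_of_dvd Nat.card_pos.ne' hpG).ne')
    have hy' : orderOf (y : G) = p := by rw [Subgroup.orderOf_coe, hy]
    have hy1 : (y : G) ≠ 1 := fun h => by
      rw [h, orderOf_one] at hy'; exact hp.out.ne_one hy'.symm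
    let T : Sylow 2 G := default
    have hind : ∀ u v : G, IsConj (y : G) u → IsConj (y : G) v →
        u * v⁻¹ ∈ (T : Subgroup G) → u = v := by
      intro u v hu hv huv
      obtain ⟨g, rfl⟩ := isConj_iff.mp hu
      obtain ⟨g', rfl⟩ := isConj_iff.mp hv
      have hmem : g * (y : G) * g⁻¹ * (g' * (y : G) * g'⁻¹)⁻¹ ∈ (P : Subgroup G) :=
        mul_mem (hPn.conj_mem _ y.2 g) (inv_mem (hPn.conj_mem _ y.2 g'))
      have hdisj := IsPGroup.disjoint_of_ne p 2 hp2 (P : Subgroup G) T P.isPGroup' T.isPGroup'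
      exact mul_inv_eq_one.mp (Subgroup.disjoint_def.mp hdisj hmem huv)
    obtain ⟨χ, hχ⟩ := exists_pow_dvd_charDegree 2 (y : G) T _ T.card_eq_multiplicity hind
    have hodd := hC y hy1 ⟨1, by rw [hy', pow_one]⟩
    have h0 : ¬ 2 ∣ Nat.card (centralizer ({(y : G)} : Set G)) := by
      rw [← even_iff_two_dvd, Nat.not_even_iff_odd]; exact hodd
    rw [Nat.factorization_eq_zero_of_not_dvd h0, Nat.sub_zero] at hχ
    haveI := Fintype.ofFinite G
    have hpos := (charDegree_spec χ.2).2
    exact ⟨χ, le_antisymm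
      ((Nat.factorization_le_iff_dvd hpos.ne' Nat.card_pos.ne').mpr (charDegree_dvd χ.2) 2)
      ((Nat.prime_two.pow_dvd_iff_le_factorization hpos.ne').mp hχ)⟩

end Action

end CfsgLib.BlocksB.OddDegree
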