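import Cfsg.Agent.BlocksB.ClassSum
import Cfsg.Agent.Char.AlgInt
import Mathlib.LinearAlgebra.Matrix.Rank
import Mathlib.Algebra.CharP.Two

/-!
# Strongly real-free classes of elements of order three give 2-blocks of defect zero
-/

namespace CfsgLib.BlocksB

open CfsgLib.Char

variable {G : Type*} [Group G]

theorem eq_one_of_mul_inv_of_fourGroup {g s : G}
    (hg : ∀ Q : Subgroup G, IsPGroup 2 Q → g ∈ Subgroup.normalizer (Q : Set G) → Q = ⊥)
    (hg3 : g * g * g = 1) (hs : s * s = 1) (hsg : (s * g) * (s * g) * (s * g) = 1) : s = 1 := by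
  set a := g * s * g⁻¹ with ha
  set b := g * a * g⁻¹ with hb
  have hga : g * b * g⁻¹ = s := by
    rw [hb, ha]
    calc g * (g * (g * s * g⁻¹) * g⁻¹) * g⁻¹ = (g * g * g) * s * (g * g * g)⁻¹ := by group
      _ = s := by rw [hg3, one_mul, inv_one, mul_one]
  have haa : a * a = 1 := by
    rw [ha]
    calc g * s * g⁻¹ * (g * s * g⁻¹) = g * (s * s) * g⁻¹ := by group
      _ = 1 := by rw [hs]; group
  have hbb : b * b = 1 := by
    rw [hb]
    calc g * a * g⁻¹ * (g * a * g⁻¹) = g * (a * a) * g⁻¹ := by group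
      _ = 1 := by rw [haa]; group
  have hsab : s * a * b = 1 := by
    calc s * a * b = s * g * s * g * s * g⁻¹ * g⁻¹ := by rw [hb, ha]; group
      _ = s * g * (s * g) * (s * g) * (g * g * g)⁻¹ := by group
      _ = 1 := by rw [hsg, hg3]; group
  have hb' : b = s * a := by
    have : s * a = b⁻¹ := mul_eq_one_iff_eq_inv.mp hsab
    rw [this]; exact (inv_eq_of_mul_eq_one_right hbb).symm
  have hcomm : a * s = s * a := by
    have h : (s * a) * (s * a) = 1 := by rw [← hb']; exact hbb
    calc a * s = s * (s * a * (s * a)) * a := by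
          calc a * s = (s * s) * (a * s) * (a * a) := by rw [hs, haa, one_mul, mul_one]
            _ = s * (s * a * (s * a)) * a := by group
      _ = s * a := by rw [h, mul_one]
  let Q : Subgroup G :=
    { carrier := {x | x = 1 ∨ x = s ∨ x = a ∨ x = s * a}
      one_mem' := Or.inl rfl
      mul_mem' := by
        have e1 : s * (s * a) = a := by rw [← mul_assoc, hs, one_mul]
        have e2 : s * a * s = a := by rw [mul_assoc, hcomm, e1]
        have e3 : a * (s * a) = s := by rw [← hcomm, ← mul_assoc, haa, one_mul]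
        have e4 : s * a * a = s := by rw [mul_assoc, haa, mul_one]
        have e5 : s * a * (s * a) = 1 := by rw [← hb']; exact hbb
        intro x y hx hy
        rcases hx with hx | hx | hx | hx <;> rcases hy with hy | hy | hy | hy <;>
          simp [hx, hy, hs, haa, hcomm, e1, e2, e3, e4, e5]
      inv_mem' := by
        intro x hx
        rcases hx with hx | hx | hx | hx
        · simp [hx]
        · exact Or.inr (Or.inl (by rw [hx]; exact inv_eq_of_mul_eq_one_right hs))
        · exact Or.inr (Or.inr (Or.inl (by rw [hx]; exact inv_eq_of_mul_eq_one_right haa)))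
        · exact Or.inr (Or.inr (Or.inr (by
            rw [hx, mul_inv_rev, inv_eq_of_mul_eq_one_right hs, inv_eq_of_mul_eq_one_right haa,
              hcomm]))) }
  have hQ : Q = ⊥ := by
    refine hg Q (fun x => ⟨1, ?_⟩) ?_
    · refine Subtype.ext ?_
      rw [pow_one, pow_two, Subgroup.coe_mul, Subgroup.coe_one]
      rcases x.2 with h | h | h | h <;> rw [h]
      · exact one_mul 1
      · exact hs
      · exact haa
      · rw [← hb']; exact hbb
    · rw [Subgroup.mem_normalizer_iff]
      have hmap : ∀ x ∈ Q, g * x * g⁻¹ ∈ Q := by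
        intro x hx
        rcases hx with hx | hx | hx | hx <;> rw [hx]
        · exact Or.inl (by group)
        · exact Or.inr (Or.inr (Or.inl ha.symm))
        · exact Or.inr (Or.inr (Or.inr hb'))
        · exact Or.inr (Or.inl (by rw [← hb']; exact hga))
      refine fun x => ⟨hmap x, fun hx => ?_⟩
      have := hmap _ (hmap _ hx)
      rwa [show g * (g * (g * x * g⁻¹) * g⁻¹) * g⁻¹ = (g * g * g) * x * (g * g * g)⁻¹ by group,
        hg3, one_mul, inv_one, mul_one] at this
  have : s ∈ Q := Or.inr (Or.inl rfl)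
  rw [hQ] at this
  exact Subgroup.mem_bot.mp this

open Classical in
theorem card_conj_fiber [Fintype G] (z u : G) (hu : IsConj z u) :
    (Finset.univ.filter fun g => g * z * g⁻¹ = u).card =
      Nat.card (Subgroup.centralizer ({z} : Set G)) := by
  obtain ⟨c, rfl⟩ := isConj_iff.mp hu
  rw [Nat.card_eq_fintype_card, ← Finset.card_univ]
  refine Finset.card_bij' (fun g hg => ⟨c⁻¹ * g, ?_⟩) (fun k _ => c * k)
    (fun _ _ => Finset.mem_univ _) ?_ (fun g _ => by simp) (fun k _ => by ext; simp)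
  · rw [Subgroup.mem_centralizer_singleton_iff]
    have h := (Finset.mem_filter.mp hg).2
    calc c⁻¹ * g * z = c⁻¹ * (g * z * g⁻¹) * g := by group
      _ = z * (c⁻¹ * g) := by rw [h]; group
  · intro k _
    refine Finset.mem_filter.mpr ⟨Finset.mem_univ _, ?_⟩
    have hk := Subgroup.mem_centralizer_singleton_iff.mp k.2
    calc c * (k : G) * z * (c * (k : G))⁻¹ = c * ((k : G) * z) * (k : G)⁻¹ * c⁻¹ := by group
      _ = c * z * c⁻¹ := by rw [hk]; group

open Classical in
theorem card_pairs_eq_mul [Fintype G] (z w : G) :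
    (Finset.univ.filter fun gh : G × G => gh.1 * z * gh.1⁻¹ * (gh.2 * z * gh.2⁻¹) = w).card =
      (Finset.univ.filter fun u : G => IsConj z u ∧ IsConj z (u⁻¹ * w)).card *
        (Nat.card (Subgroup.centralizer ({z} : Set G)) *
          Nat.card (Subgroup.centralizer ({z} : Set G))) := by
  rw [Finset.card_eq_sum_card_fiberwise (f := fun gh : G × G => gh.1 * z * gh.1⁻¹)
    (t := Finset.univ.filter fun u : G => IsConj z u ∧ IsConj z (u⁻¹ * w))
    (fun gh hgh => by
      simp only [Finset.coe_filter, Finset.mem_univ, true_and, Set.mem_ofPred_eq] at hgh ⊢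
      refine ⟨isConj_iff.mpr ⟨gh.1, rfl⟩, isConj_iff.mpr ⟨gh.2, ?_⟩⟩
      rw [← hgh, inv_mul_cancel_left])]
  rw [Finset.sum_congr rfl fun u hu => ?_, Finset.sum_const, smul_eq_mul]
  obtain ⟨-, hu1, hu2⟩ := Finset.mem_filter.mp hu
  rw [← card_conj_fiber z u hu1]
  conv_rhs => arg 2; rw [card_conj_fiber z u hu1, ← card_conj_fiber z _ hu2]
  rw [← Finset.card_product]
  congr 1
  ext ⟨g, h⟩
  simp only [Finset.mem_filter, Finset.mem_univ, true_and, Finset.mem_product]
  constructor
  · rintro ⟨h1, h2⟩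
    exact ⟨h2, by rw [← h1, h2, inv_mul_cancel_left]⟩
  · rintro ⟨h1, h2⟩
    exact ⟨by rw [h1, h2, mul_inv_cancel_left], h1⟩

open Classical in
theorem card_fixed_parity [Fintype G] (z g : G) (hz : z * z * z = 1) (hg3 : g * g * g = 1)
    (hg : ∀ Q : Subgroup G, IsPGroup 2 Q → g ∈ Subgroup.normalizer (Q : Set G) → Q = ⊥) :
    ((Finset.univ.filter fun u : G => IsConj z u ∧ IsConj z (u⁻¹ * g⁻¹)).card : ZMod 2) =
      if IsConj z g then 1 else 0 := by
  set Ω := Finset.univ.filter fun u : G => IsConj z u ∧ IsConj z (u⁻¹ * g⁻¹) with hΩ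
  have hginv : g⁻¹ = g * g := inv_eq_of_mul_eq_one_right (by rw [← mul_assoc]; exact hg3)
  let φ : G → G := fun u => g * (u⁻¹ * g⁻¹) * g⁻¹
  have hφφ : ∀ u, φ (φ u) = u := fun u => by
    simp only [φ]
    calc g * ((g * (u⁻¹ * g⁻¹) * g⁻¹)⁻¹ * g⁻¹) * g⁻¹
        = (g * g * g) * u * (g * g * g)⁻¹ := by simp only [mul_inv_rev, inv_inv, mul_assoc]
      _ = u := by rw [hg3, one_mul, inv_one, mul_one]
  have hφmem : ∀ u ∈ Ω, φ u ∈ Ω := by
    intro u hu
    obtain ⟨-, h1, h2⟩ := Finset.mem_filter.mp hu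
    refine Finset.mem_filter.mpr ⟨Finset.mem_univ _, h2.trans (isConj_iff.mpr ⟨g, rfl⟩),
      h1.trans (isConj_iff.mpr ⟨g * g, ?_⟩)⟩
    simp only [φ, mul_inv_rev, inv_inv, mul_assoc]
  have hfix : ∀ u ∈ Ω, φ u = u → u = g := by
    intro u hu hfix
    obtain ⟨-, h1, -⟩ := Finset.mem_filter.mp hu
    have hu3 : u * u * u = 1 := by
      obtain ⟨c, rfl⟩ := isConj_iff.mp h1
      calc c * z * c⁻¹ * (c * z * c⁻¹) * (c * z * c⁻¹) = c * (z * z * z) * c⁻¹ := by group
        _ = 1 := by rw [hz]; group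
    have hs : u * g⁻¹ * (u * g⁻¹) = 1 := by
      simp only [φ] at hfix
      calc u * g⁻¹ * (u * g⁻¹) = u * g⁻¹ * ((g * (u⁻¹ * g⁻¹) * g⁻¹) * g⁻¹) := by rw [hfix]
        _ = (g * g * g)⁻¹ := by group
        _ = 1 := by rw [hg3, inv_one]
    refine mul_inv_eq_one.mp (eq_one_of_mul_inv_of_fourGroup hg hg3 hs ?_)
    rwa [inv_mul_cancel_right]
  have hsplit := Finset.card_filter_add_card_filter_not (s := Ω) (fun u => φ u = u)
  have heven : ((Ω.filter fun u => ¬ φ u = u).card : ZMod 2) = 0 := by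
    rw [Finset.card_eq_sum_ones, Nat.cast_sum]
    refine Finset.sum_involution (fun u _ => φ u) (fun u _ => by simp [CharTwo.add_self_eq_zero])
      (fun u hu _ => (Finset.mem_filter.mp hu).2) (fun u hu => ?_) (fun u _ => hφφ u)
    obtain ⟨h1, h2⟩ := Finset.mem_filter.mp hu
    exact Finset.mem_filter.mpr ⟨hφmem u h1, by rw [hφφ]; exact fun h => h2 h.symm⟩
  rw [← hsplit, Nat.cast_add, heven, add_zero]
  by_cases hc : IsConj z g
  · rw [if_pos hc]
    have hgg : g⁻¹ * g⁻¹ = g := by
      calc g⁻¹ * g⁻¹ = (g * g * g) * (g⁻¹ * g⁻¹) := by rw [hg3, one_mul]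
        _ = g := by group
    have : Ω.filter (fun u => φ u = u) = {g} := by
      refine Finset.eq_singleton_iff_unique_mem.mpr ⟨?_, fun u hu => ?_⟩
      · refine Finset.mem_filter.mpr ⟨Finset.mem_filter.mpr ⟨Finset.mem_univ _, hc, ?_⟩, ?_⟩
        · rw [hgg]; exact hc
        · simp only [φ]; rw [hgg]; group
      · exact hfix u (Finset.mem_filter.mp hu).1 (Finset.mem_filter.mp hu).2
    rw [this, Finset.card_singleton, Nat.cast_one]
  · rw [if_neg hc]
    have : Ω.filter (fun u => φ u = u) = ∅ := by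
      rw [Finset.filter_eq_empty_iff]
      intro u hu h
      have := hfix u hu h
      exact hc (this ▸ (Finset.mem_filter.mp hu).2.1)
    rw [this, Finset.card_empty, Nat.cast_zero]

theorem exists_maximal_two : ∃ M : Ideal Cfsg.AlgInt, M.IsMaximal ∧ (2 : Cfsg.AlgInt) ∈ M := by
  have hne : Ideal.span {(2 : Cfsg.AlgInt)} ≠ ⊤ := by
    rw [Ne, Ideal.span_singleton_eq_top]
    intro hu
    obtain ⟨b, hb⟩ := isUnit_iff_exists_inv.mp hu
    have h : (2 : ℂ) * (b : ℂ) = 1 := congrArg Subtype.val hb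
    have hb : (b : ℂ) = (((1 : ℚ) / 2 : ℚ) : ℂ) := by
      push_cast
      rw [eq_div_iff two_ne_zero, mul_comm]
      exact h
    obtain ⟨n, -, hn⟩ := exists_int_of_isIntegral_rat _ b.2 hb
    have : (1 : ℤ) = 2 * n := by
      have h2 : ((1 : ℤ) : ℚ) = ((2 * n : ℤ) : ℚ) := by push_cast; linarith
      exact_mod_cast h2
    omega
  obtain ⟨M, hM, hle⟩ := Ideal.exists_le_maximal _ hne
  exact ⟨M, hM, hle (Ideal.subset_span rfl)⟩

theorem card_class_le_card_defectZero [Finite G] {ι : Type*} [Fintype ι] (z : ι → G)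
    (hinj : ∀ i j, IsConj (z i) (z j) → i = j) (hz3 : ∀ i, z i * z i * z i = 1)
    (hz : ∀ i, ∀ Q : Subgroup G, IsPGroup 2 Q → z i ∈ Subgroup.normalizer (Q : Set G) → Q = ⊥)
    (hz1 : ∀ i, z i ≠ 1) :
    Fintype.card ι ≤ Nat.card {χ : Cfsg.IrrCharacter G //
      (Cfsg.charDegree (χ : G → ℂ)).factorization 2 = (Nat.card G).factorization 2} := by
  classical
  haveI := Fintype.ofFinite G
  haveI : Fact (Nat.Prime 2) := ⟨Nat.prime_two⟩
  obtain ⟨M, hM, h2M⟩ := exists_maximal_two
  letI := Ideal.Quotient.field M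
  let red : Cfsg.AlgInt →+* Cfsg.AlgInt ⧸ M := Ideal.Quotient.mk M
  have h2 : (2 : Cfsg.AlgInt ⧸ M) = 0 := by
    rw [← map_ofNat red 2]
    exact Ideal.Quotient.eq_zero_iff_mem.mpr h2M
  haveI : CharP (Cfsg.AlgInt ⧸ M) 2 := CharTwo.of_one_ne_zero_of_two_eq_zero one_ne_zero h2
  let C : ι → ℕ := fun i => Nat.card (Subgroup.centralizer ({z i} : Set G))
  have hodd : ∀ i, Odd (C i) := by
    intro i
    rw [← Nat.not_even_iff_odd, even_iff_two_dvd]
    intro hd
    obtain ⟨t, ht⟩ := exists_prime_orderOf_dvd_card' 2 hd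
    have ht' : orderOf (t : G) = 2 := by rw [Subgroup.orderOf_coe, ht]
    have hQ := hz i (Subgroup.zpowers (t : G))
      (IsPGroup.of_card (n := 1) (by rw [Nat.card_zpowers, ht', pow_one])) (by
        have hcomm : Commute (t : G) (z i) := Subgroup.mem_centralizer_singleton_iff.mp t.2
        rw [Subgroup.mem_normalizer_iff]
        intro x
        constructor
        · intro hx
          obtain ⟨n, rfl⟩ := Subgroup.mem_zpowers_iff.mp hx
          rw [← (hcomm.zpow_left n).eq, mul_inv_cancel_right]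
          exact hx
        · intro hx
          obtain ⟨n, hn⟩ := Subgroup.mem_zpowers_iff.mp hx
          have : x = (t : G) ^ n := by
            have e : (z i)⁻¹ * ((t : G) ^ n) * z i = x := by rw [hn]; group
            rw [← e, mul_assoc, (hcomm.zpow_left n).eq, inv_mul_cancel_left]
          rw [this]; exact zpow_mem (Subgroup.mem_zpowers _) n)
    rw [Subgroup.zpowers_eq_bot] at hQ
    rw [hQ, orderOf_one] at ht'; omega
  have hint : ∀ (χ : Cfsg.IrrCharacter G) (g : G), IsIntegral ℤ ((χ : G → ℂ) g) := fun χ g =>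
    IsCharacter.isIntegral (IsIrrCharacter.isCharacter χ.2) g
  let val : Cfsg.IrrCharacter G → G → Cfsg.AlgInt := fun χ g => ⟨(χ : G → ℂ) g, hint χ g⟩
  let om : Cfsg.IrrCharacter G → G → Cfsg.AlgInt := fun χ g =>
    ⟨Cfsg.centralChar (χ : G → ℂ) g, isIntegral_centralChar χ.2 g⟩
  haveI : Fintype (Cfsg.IrrCharacter G) :=
    Fintype.ofFinset (p := fun χ => Cfsg.IsIrrCharacter G χ) (irrFinset G) (fun _ => mem_irrFinset)
  -- the identity
  have hid : ∀ i j, (∑ χ, red (om χ (z i) * val χ (z i)) * red (val χ (z j))) =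
      if i = j then (1 : Cfsg.AlgInt ⧸ M) else 0 := by
    intro i j
    set N := (Finset.univ.filter fun u : G =>
      IsConj (z i) u ∧ IsConj (z i) (u⁻¹ * (z j)⁻¹)).card with hN
    have heq : ((C i * N : ℕ) : Cfsg.AlgInt) =
        ∑ χ, om χ (z i) * val χ (z i) * val χ (z j) := by
      apply Subtype.ext
      push_cast
      have h := card_pairs (z i) (z i) (z j)⁻¹
      rw [card_pairs_eq_mul, inv_inv] at h
      push_cast at h
      have hsum : ∑ χ : Cfsg.IrrCharacter G, Cfsg.centralChar (χ : G → ℂ) (z i) *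
          (χ : G → ℂ) (z i) * (χ : G → ℂ) (z j) = ∑ χ ∈ irrFinset G,
          Cfsg.centralChar χ (z i) * χ (z i) * χ (z j) :=
        Finset.sum_subtype (irrFinset G) (fun _ => mem_irrFinset)
          (fun χ => Cfsg.centralChar χ (z i) * χ (z i) * χ (z j)) |>.symm
      rw [hsum]
      have hCne : (C i : ℂ) ≠ 0 := Nat.cast_ne_zero.mpr Nat.card_pos.ne'
      have hidx : ((Subgroup.centralizer ({z i} : Set G)).index : ℂ) * (C i : ℂ) =
          (Nat.card G : ℂ) := by exact_mod_cast Subgroup.index_mul_card _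
      apply mul_left_cancel₀ hCne
      rw [Finset.mul_sum]
      rw [Finset.mul_sum] at h
      calc (C i : ℂ) * ((C i : ℂ) * (N : ℂ)) = (N : ℂ) * ((C i : ℂ) * (C i : ℂ)) := by ring
        _ = _ := by
          rw [h]
          refine Finset.sum_congr rfl fun χ _ => ?_
          rw [Cfsg.centralChar, ← hidx]; ring
    have hred := congrArg red heq
    rw [map_sum] at hred
    simp_rw [map_mul red] at hred ⊢
    rw [← hred, map_natCast, Nat.cast_mul]
    have hC1 : ((C i : ℕ) : Cfsg.AlgInt ⧸ M) = 1 := by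
      obtain ⟨m, hm⟩ := hodd i
      rw [hm, Nat.cast_add, Nat.cast_mul, Nat.cast_ofNat, h2, zero_mul, zero_add, Nat.cast_one]
    rw [hC1, one_mul, ← ZMod.cast_natCast (R := Cfsg.AlgInt ⧸ M) (n := 2) dvd_rfl N,
      card_fixed_parity (z i) (z j) (hz3 i) (hz3 j) (hz j)]
    by_cases hij : i = j
    · subst hij; rw [if_pos (IsConj.refl _), if_pos rfl, ZMod.cast_one dvd_rfl]
    · rw [if_neg fun h => hij (hinj i j h), if_neg hij, ZMod.cast_zero]
  -- only defect zero characters contribute
  have hzero : ∀ χ : Cfsg.IrrCharacter G, (Cfsg.charDegree (χ : G → ℂ)).factorization 2 ≠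
      (Nat.card G).factorization 2 → ∀ i, red (om χ (z i)) = 0 := by
    intro χ hχ i
    obtain ⟨hd, hpos⟩ := charDegree_spec χ.2
    set d := Cfsg.charDegree (χ : G → ℂ)
    have hlt : d.factorization 2 < (Nat.card G).factorization 2 := lt_of_le_of_ne
      ((Nat.factorization_le_iff_dvd hpos.ne' Nat.card_pos.ne').mpr (charDegree_dvd χ.2) 2) hχ
    have hI : (Subgroup.centralizer ({z i} : Set G)).index.factorization 2 = (Nat.card G).factorization 2 := by
      rw [← Subgroup.index_mul_card (Subgroup.centralizer ({z i} : Set G)),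
        Nat.factorization_mul Subgroup.index_ne_zero_of_finite Nat.card_pos.ne',
        Finsupp.add_apply, Nat.factorization_eq_zero_of_not_dvd
          (n := Nat.card (Subgroup.centralizer ({z i} : Set G)))
          (by rw [← even_iff_two_dvd, Nat.not_even_iff_odd]; exact hodd i), add_zero]
    have h1 : 2 ^ (d.factorization 2) * (ordCompl[2] d) = d :=
      Nat.ordProj_mul_ordCompl_eq_self d 2
    obtain ⟨e, he⟩ : 2 ^ (d.factorization 2 + 1) ∣ (Subgroup.centralizer ({z i} : Set G)).index :=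
      (Nat.prime_two.pow_dvd_iff_le_factorization Subgroup.index_ne_zero_of_finite).mpr (by omega)
    set d' := ordCompl[2] d
    have hd' : Odd d' := by
      rw [← Nat.not_even_iff_odd, even_iff_two_dvd]
      exact Nat.not_dvd_ordCompl Nat.prime_two hpos.ne'
    have heq : ((d' : ℕ) : Cfsg.AlgInt) * om χ (z i) =
        2 * (((e : ℕ) : Cfsg.AlgInt) * val χ (z i)) := by
      apply Subtype.ext
      push_cast
      simp only [om, val, Cfsg.centralChar]
      rw [hd, he]
      have hdc : (d : ℂ) = 2 ^ (d.factorization 2) * (d' : ℂ) := by exact_mod_cast h1.symm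
      rw [hdc]
      have : (d' : ℂ) ≠ 0 := Nat.cast_ne_zero.mpr (fun h => by simp [h] at hd')
      push_cast
      rw [show ((2 : Cfsg.AlgInt) : ℂ) = 2 from rfl]
      field_simp
      ring
    have := congrArg red heq
    rw [map_mul red, map_mul red 2, map_natCast, map_ofNat, h2, zero_mul] at this
    obtain ⟨m, hm⟩ := hd'
    rwa [hm, Nat.cast_add, Nat.cast_mul, Nat.cast_ofNat, h2, zero_mul, zero_add, Nat.cast_one,
      one_mul] at this
  let S := {χ : Cfsg.IrrCharacter G //
      (Cfsg.charDegree (χ : G → ℂ)).factorization 2 = (Nat.card G).factorization 2}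
  let X : Matrix ι S (Cfsg.AlgInt ⧸ M) :=
    Matrix.of fun i χ => red (om χ.1 (z i) * val χ.1 (z i))
  let Y : Matrix S ι (Cfsg.AlgInt ⧸ M) := Matrix.of fun χ j => red (val χ.1 (z j))
  have hXY : X * Y = 1 := by
    ext i j
    rw [Matrix.mul_apply, Matrix.one_apply, ← hid i j]
    simp only [X, Y, Matrix.of_apply]
    rw [← Finset.sum_filter_of_ne (s := Finset.univ)
      (f := fun χ : Cfsg.IrrCharacter G => red (om χ (z i) * val χ (z i)) * red (val χ (z j)))
      (p := fun χ : Cfsg.IrrCharacter G => (Cfsg.charDegree (χ : G → ℂ)).factorization 2 =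
        (Nat.card G).factorization 2) fun χ _ hne => ?_]
    · exact (Finset.sum_subtype _ (fun χ => by simp)
        (fun χ : Cfsg.IrrCharacter G => red (om χ (z i) * val χ (z i)) * red (val χ (z j)))).symm
    · by_contra hcon
      rw [map_mul red, hzero χ hcon i, zero_mul, zero_mul] at hne
      exact hne rfl
  have hr := (Matrix.rank_mul_le_left X Y).trans X.rank_le_card_width
  rw [hXY, Matrix.rank_one] at hr
  rwa [Nat.card_eq_fintype_card]

end CfsgLib.BlocksB
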