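import Cfsg.Agent.BlocksB.Cyclic.DefectOne
import Cfsg.Agent.Char.PowTwist
import Cfsg.Agent.Char.GaloisTwist
import Cfsg.Agent.Blocks.Correspond

/-!
# The exceptional family of a block of defect one

For a prime dividing the order of the group once, the characters of a block of positive defect
are permuted by the automorphisms fixing the roots of unity of order prime to `p`. One orbit is
the exceptional family and the other members are fixed.
-/

set_option autoImplicit false
set_option linter.style.haveILetI false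
set_option linter.unusedSectionVars false

namespace CfsgLib.PConj

/-- The group of linear characters, ahead of the pointwise operations. -/
noncomputable local instance (priority := 5000) dualGroup {H : Type*} [Group H] : CommGroup (H →* ℂˣ) :=
  MonoidHom.instCommGroup

open Cfsg Finset CfsgLib.Block CfsgLib.Block.Chr CfsgLib.BrauerPairs CfsgLib.BlockStar
  CfsgLib.BlockB CfsgLib.Cyclic CfsgLib.SL2C
open scoped ComplexConjugate
open scoped Classical

universe u

section arith

variable {p : ℕ} [Fact p.Prime]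

/-- A generator of the automorphisms fixing the roots of unity of order prime to `p`. -/
theorem exists_gen {g' : ℕ} (hcop : g'.Coprime p) :
    ∃ r : ℕ, r ≡ 1 [MOD g'] ∧ r.Coprime (g' * p) ∧
      ∀ k : ℕ, k.Coprime p → ∃ j : ℕ, r ^ j ≡ k [MOD p] := by
  obtain ⟨a, ha⟩ := IsCyclic.exists_generator (α := (ZMod p)ˣ)
  obtain ⟨r, hr1, hr2⟩ := Nat.chineseRemainder hcop 1 (a : ZMod p).val
  have hra : (r : ZMod p) = (a : ZMod p) := by
    rw [(ZMod.natCast_eq_natCast_iff r _ p).2 hr2, ZMod.natCast_zmod_val]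
  refine ⟨r, hr1, Nat.Coprime.mul_right ?_ ?_, fun k hk => ?_⟩
  · have := hr1.gcd_eq
    rw [Nat.gcd_one_left] at this
    exact this
  · rw [Nat.coprime_comm, (Fact.out : p.Prime).coprime_iff_not_dvd,
      ← ZMod.natCast_eq_zero_iff, hra]
    exact a.ne_zero
  · obtain ⟨j, hj⟩ := (isOfFinOrder_of_finite a).mem_powers_iff_mem_zpowers.2
      (ha (ZMod.unitOfCoprime k hk))
    refine ⟨j, (ZMod.natCast_eq_natCast_iff _ _ p).1 ?_⟩
    have h := congrArg (Units.val) hj
    simp only [Units.val_pow_eq_pow_val, ZMod.coe_unitOfCoprime] at h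
    rw [Nat.cast_pow, hra]
    exact h

theorem modEq_of_both {g' : ℕ} (hcop : g'.Coprime p) {a b : ℕ} (h1 : a ≡ b [MOD g'])
    (h2 : a ≡ b [MOD p]) : a ≡ b [MOD g' * p] := (Nat.modEq_and_modEq_iff_modEq_mul hcop).1 ⟨h1, h2⟩

end arith

variable {M : Ideal AlgInt} [M.IsPrime] {p : ℕ} [Fact p.Prime] [CharP (Residue M) p]
  {G : Type u} [Group G] [Fintype G]

local notation "Z[" x "]" => Subgroup.zpowers x
local notation "C[" Q "]" => Subgroup.centralizer (SetLike.coe Q)

/-- The character composed with a power map. -/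
noncomputable def powIrr {k : ℕ} (hk : k.Coprime (Nat.card G)) (χ : IrrCharacter G) :
    IrrCharacter G := ⟨fun g => (χ : G → ℂ) (g ^ k), CfsgLib.Char.PowTwist.isIrrCharacter_pow hk χ.2⟩

theorem powIrr_apply {k : ℕ} (hk : k.Coprime (Nat.card G)) (χ : IrrCharacter G) (g : G) :
    (powIrr hk χ : G → ℂ) g = (χ : G → ℂ) (g ^ k) := rfl

variable {B : Set (IrrCharacter G)}

theorem mem_of_powIrr (hM : IsPModular p M) (hB : IsPBlock M B) {k : ℕ}
    (hk : k.Coprime (Nat.card G)) (hreg : ∀ g : G, ¬ p ∣ orderOf g → g ^ k = g)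
    {χ : IrrCharacter G} (hχ : χ ∈ B) : powIrr hk χ ∈ B := by
  have h : SameBlock M (χ : G → ℂ) (powIrr hk χ : G → ℂ) :=
    sameBlock_of_regular hM χ (powIrr hk χ) fun g hg => by
      simp only [centralChar, powIrr_apply, hreg g hg, one_pow, sub_self]
      exact memLocalIdeal_zero
  rw [eq_blockOf_of_mem hB hχ]
  exact h

/-- The value at a block of the centralizer, in terms of that subgroup. -/
theorem val_eq_subPart (hM : IsPModular p M) (χ : IrrCharacter G) {x s : G} (h : PElt p x s)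
    {H : Subgroup G} [Fintype H] (hH : (C[Z[x]] : Subgroup G) = H) {b : Set (IrrCharacter H)}
    (hb : IsPBlock M b) (hs : s ∈ H) :
    val χ x s (idemIn M H b) = subPart p b x χ ⟨s, hs⟩ := by
  subst hH
  exact val_idemIn hM χ h hb

/-- The parts of a power twist are those at the power. -/
theorem subPart_powIrr {k : ℕ} (hk : k.Coprime (Nat.card G))
    (hreg : ∀ g : G, ¬ p ∣ orderOf g → g ^ k = g) {H : Subgroup G} [Fintype H]
    (b : Set (IrrCharacter H)) {y : G} (hH : H = Subgroup.centralizer ({y} : Set G))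
    (hH' : H = Subgroup.centralizer ({y ^ k} : Set G)) (χ : IrrCharacter G) (s : H) :
    subPart p b y (powIrr hk χ) s = subPart p b (y ^ k) χ s := by
  rw [subPart_eq_conv hH, subPart_eq_conv hH']
  refine sum_congr rfl fun h _ => ?_
  congr 1
  by_cases hd : p ∣ orderOf (h * s)
  · rw [regPart_of_dvd hd, regPart_of_dvd hd]
  · rw [regPart_of_not_dvd hd, regPart_of_not_dvd hd, secFun, secFun, powIrr_apply]
    have hc : Commute y ((h * s : H) : G) := ((mem_H_iff hH).1 (h * s).2).symm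
    rw [hc.mul_pow, hreg ((h * s : H) : G) (by rwa [Subgroup.orderOf_coe])]

variable {P : Subgroup G} [Fintype P] {c : Set (IrrCharacter C[P])} {t : G} {n : ℕ}
  {m : IrrCharacter G → (P →* ℂˣ) → ℕ}

/-- The ratios of the values of two members move with the power map. -/
theorem aval_powIrr (S : CycData (M := M) p B P c t n) (V : CycVals (M := M) p P c t m)
    (hP : Nat.card P = p) {k : ℕ} (hk : k.Coprime (Nat.card G))
    (hreg : ∀ g : G, ¬ p ∣ orderOf g → g ^ k = g) (χ ψ : B) {u : P} (hu : u ≠ 1) :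
    aval (m (powIrr hk χ.1)) u * aval (m ψ.1) (u ^ k) =
      aval (m (powIrr hk ψ.1)) u * aval (m χ.1) (u ^ k) := by
  haveI : Fintype B := Fintype.ofFinite B
  have hM := S.hM
  have hp : p.Prime := Fact.out
  set e := idemIn M C[P] c
  have hgen : ∀ w : P, w ≠ 1 → Z[(w : G)] = P := fun w hw => by
    refine Subgroup.eq_of_le_of_card_ge (Subgroup.zpowers_le.2 w.2) (le_of_eq ?_)
    rw [Nat.card_zpowers, Subgroup.orderOf_coe, hP]
    refine ((hp.eq_one_or_self_of_dvd _ ?_).resolve_left fun h =>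
      hw (orderOf_eq_one_iff.1 h)).symm
    exact hP ▸ orderOf_dvd_natCard w
  have hsub : ∀ w : P, w ≠ 1 → subBlk p P e (w : G) = e := fun w hw =>
    congrArg Prod.snd (PLE.eq_of_eq (subBlk_ple S.pair w.2) (hgen w hw))
  have hkp : ¬ p ∣ k := fun h => by
    have h1 : p ∣ Nat.card G := hP ▸ Subgroup.card_subgroup_dvd_card P
    exact hp.not_dvd_one (hk.gcd_eq_one ▸ Nat.dvd_gcd h h1)
  have hv : u ^ k ≠ 1 := fun h => by
    rw [← orderOf_dvd_iff_pow_eq_one, (hp.eq_one_or_self_of_dvd _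
      (hP ▸ orderOf_dvd_natCard u)).resolve_left fun h => hu (orderOf_eq_one_iff.1 h)] at h
    exact hkp h
  set v := u ^ k with hvdef
  have ha : aval (m ψ.1) v ≠ 0 := CycVals.aval_ne_zero S V ψ hv
  set ψ' : B := ⟨_, mem_of_powIrr hM S.hB hk hreg ψ.2⟩
  have ha' : aval (m ψ'.1) u ≠ 0 := CycVals.aval_ne_zero S V ψ' hu
  -- a regular element with a nonzero value
  obtain ⟨s, hs, hsC, hne⟩ : ∃ s : G, PElt p (v : G) s ∧ s ∈ C[P] ∧
      val ψ.1 (v : G) s e ≠ 0 := by
    by_contra hall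
    have h := V.contrib ψ.1 ψ.1 v hv
    rw [hsub v hv, contribR, sum_eq_zero, mul_zero] at h
    · exact mul_ne_zero (mul_ne_zero ha ((map_ne_zero _).2 ha))
        (inv_ne_zero (Nat.cast_ne_zero.2 Nat.card_pos.ne')) h.symm
    · intro s hs
      obtain ⟨-, h1, h2⟩ := mem_filter.1 hs
      have hs' : PElt p (v : G) s :=
        ⟨mem_pSet.1 (mem_pSet_of_mem S.pair v.2), h2, (mem_cz.1 h1).symm⟩
      rw [not_not.1 fun hh => hall ⟨s, hs', by rw [← hgen v hv]; exact h1, hh⟩, zero_mul]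
  have hPu : PElt p (u : G) s :=
    ⟨mem_pSet.1 (mem_pSet_of_mem S.pair u.2), hs.reg, Subgroup.mem_centralizer_iff.1 hsC u u.2⟩
  haveI : Fintype C[P] := Fintype.ofFinite _
  have hH : ∀ w : P, w ≠ 1 → (C[P] : Subgroup G) = Subgroup.centralizer ({(w : G)} : Set G) :=
    fun w hw => by rw [← centralizer_zpowers_eq, hgen w hw]
  have hcoe : ((v : P) : G) = (u : G) ^ k := SubmonoidClass.coe_pow _ _
  have hval : ∀ φ : IrrCharacter G, val (powIrr hk φ) (u : G) s e = val φ (v : G) s e := fun φ => by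
    rw [val_eq_subPart hM _ hPu (by rw [hgen u hu]) S.hc.1 hsC,
      val_eq_subPart hM _ hs (by rw [hgen v hv]) S.hc.1 hsC,
      subPart_powIrr hk hreg c (hH u hu) (hcoe ▸ hH v hv) φ, ← hcoe]
  have h1 := val_prop V (powIrr hk χ.1) ψ'.1 hu (κ := aval (m (powIrr hk χ.1)) u / aval (m ψ'.1) u)
    (div_mul_cancel₀ _ ha').symm hPu
  have h2 := val_prop V χ.1 ψ.1 hv (κ := aval (m χ.1) v / aval (m ψ.1) v)
    (div_mul_cancel₀ _ ha).symm hs
  rw [hsub u hu] at h1
  rw [hsub v hv] at h2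
  change val (powIrr hk χ.1) (u : G) s e = _ * val (powIrr hk ψ.1) (u : G) s e at h1
  rw [hval, hval, h2] at h1
  have h3 := (div_eq_div_iff ha ha').1 (mul_right_cancel₀ hne h1)
  linear_combination -h3

/-- Sums of a linear character. -/
theorem sum_char (μ : P →* ℂˣ) : ∑ w : P, (μ w : ℂ) = if μ = 1 then (Nat.card P : ℂ) else 0 := by
  split_ifs with h
  · subst h
    simp [Nat.card_eq_fintype_card]
  · refine sum_hom_units_eq_zero ((Units.coeHom ℂ).comp μ) fun h' => h (MonoidHom.ext fun w => ?_)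
    exact Units.ext (DFunLike.congr_fun h' w)

/-- Orbit sums determine their orbits. -/
theorem exists_orbit_eq (S : CycData (M := M) p B P c t n) {ν μ : P →* ℂˣ}
    (h : ∀ w : P, w ≠ 1 → ∑ l ∈ range n, (ν (S.act l w) : ℂ) = ∑ l ∈ range n, (μ (S.act l w) : ℂ)) :
    ∃ l < n, μ = ν.comp (S.actHom l) := by
  by_contra hall
  simp only [not_exists, not_and] at hall
  have he : ∀ w : P, ∑ l ∈ range n, (ν (S.act l w) : ℂ) * (μ⁻¹ w : ℂˣ) =
      ∑ l ∈ range n, (μ (S.act l w) : ℂ) * (μ⁻¹ w : ℂˣ) := fun w => by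
    rw [← sum_mul, ← sum_mul]
    congr 1
    by_cases hw : w = 1
    · subst hw
      have h1 : ∀ l, S.act l 1 = 1 := fun l => (S.actHom l).map_one
      simp [h1]
    · exact h w hw
  have h2 := sum_congr rfl fun w (_ : w ∈ (univ : Finset P)) => he w
  rw [sum_comm, sum_comm (s := univ) (t := range n)] at h2
  have hterm : ∀ ρ : P →* ℂˣ, ∀ l : ℕ, ∑ w : P, (ρ (S.act l w) : ℂ) * (μ⁻¹ w : ℂˣ) =
      if ρ.comp (S.actHom l) = μ then (Nat.card P : ℂ) else 0 := fun ρ l => by
    rw [sum_congr rfl fun w _ => show (ρ (S.act l w) : ℂ) * (μ⁻¹ w : ℂˣ) =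
      (((ρ.comp (S.actHom l) * μ⁻¹) w : ℂˣ) : ℂ) by
        rw [MonoidHom.mul_apply, Units.val_mul]; rfl, sum_char]
    exact if_congr (mul_inv_eq_one (G := P →* ℂˣ)) rfl rfl
  simp only [hterm] at h2
  rw [sum_eq_zero fun l hl => if_neg fun e => hall l (mem_range.1 hl) e.symm, eq_comm,
    ← sum_filter, sum_const, nsmul_eq_mul, mul_eq_zero] at h2
  rcases h2 with h2 | h2
  · rw [Nat.cast_eq_zero, card_eq_zero] at h2
    have : (0 : ℕ) ∈ (range n).filter fun l => μ.comp (S.actHom l) = μ :=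
      mem_filter.2 ⟨mem_range.2 S.n_pos, MonoidHom.ext fun w => by
        show μ (S.act 0 w) = μ w
        rw [show S.act 0 w = w from Subtype.ext (by simp [CycData.act])]⟩
    rw [h2] at this
    exact notMem_empty _ this
  · exact Nat.card_pos.ne' (Nat.cast_eq_zero.1 h2)

/-- The power map on the members of a block. -/
noncomputable def powB (S : CycData (M := M) p B P c t n) {r : ℕ} (hr : r.Coprime (Nat.card G))
    (hreg : ∀ g : G, ¬ p ∣ orderOf g → g ^ r = g) : B → B :=
  fun z => ⟨powIrr hr z.1, mem_of_powIrr S.hM S.hB hr hreg z.2⟩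

theorem powB_reg (S : CycData (M := M) p B P c t n) {r : ℕ} (hr : r.Coprime (Nat.card G))
    (hreg : ∀ g : G, ¬ p ∣ orderOf g → g ^ r = g) (z : B) (g : G) (hg : ¬ p ∣ orderOf g) :
    ((powB S hr hreg z : IrrCharacter G) : G → ℂ) g = ((z : IrrCharacter G) : G → ℂ) g := by
  show ((z : IrrCharacter G) : G → ℂ) (g ^ r) = _
  rw [hreg g hg]

/-- The powers `r ^ j` move every nontrivial linear character of the defect group to every other. -/
theorem exists_pow_eq (S : CycData (M := M) p B P c t n) (hP : Nat.card P = p) {r : ℕ}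
    (hgen : ∀ k : ℕ, k.Coprime p → ∃ j : ℕ, r ^ j ≡ k [MOD p]) :
    ∀ μ ν : P →* ℂˣ, μ ≠ 1 → ν ≠ 1 → ∃ j : ℕ, ν = μ ^ r ^ j := by
  have hp : p.Prime := Fact.out
  intro μ ν hμ hν
  haveI : Finite (P →* ℂˣ) := finite_dual
  have hcomm : ∀ a b : P, a * b = b * a := fun a b =>
    Subtype.ext (commute_of_cyclic S.hcyc _ a.2 _ b.2)
  have hcard : Nat.card (P →* ℂˣ) = p := by
    rw [CfsgLib.Char.card_hom_eq_index_commutator, ← hP]
    rw [show commutator P = ⊥ by
      rw [commutator_def, eq_bot_iff, Subgroup.commutator_le]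
      intro a _ b _
      rw [Subgroup.mem_bot, commutatorElement_def, hcomm a b, mul_inv_cancel_right,
        mul_inv_cancel], Subgroup.index_bot]
  have hz : ν ∈ Subgroup.zpowers μ := by
    rw [zpowers_eq_top_of_prime_card hcard hμ]
    trivial
  have hord : orderOf μ = p := by
    have h : orderOf μ ∣ Nat.card (P →* ℂˣ) := orderOf_dvd_natCard μ
    rw [hcard] at h
    exact (hp.eq_one_or_self_of_dvd _ h).resolve_left fun h => hμ (orderOf_eq_one_iff.1 h)
  have hfin : IsOfFinOrder μ := orderOf_pos_iff.1 (hord.symm ▸ hp.pos)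
  obtain ⟨k, hk⟩ := hfin.mem_powers_iff_mem_zpowers.2 hz
  have hk' : μ ^ k = ν := hk
  obtain ⟨j, hj⟩ := hgen k (Nat.coprime_comm.1 ((hp.coprime_iff_not_dvd).2 fun h => hν (by
    rw [← hk']
    refine orderOf_dvd_iff_pow_eq_one.1 ?_
    rw [hord]
    exact h)))
  refine ⟨j, hk'.symm.trans (pow_eq_pow_iff_modEq.2 ?_).symm⟩
  rw [hord]
  exact hj

set_option maxHeartbeats 1000000 in
/-- The case of inertial index at least two. -/
theorem family_of_one_lt [Fintype B] {X : Finset B} {δ : B → ℤ} {δ₀ : ℤ} {rep : B → (P →* ℂˣ)}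
    (S : CycData (M := M) p B P c t n) (V : CycVals (M := M) p P c t m)
    (T : Tree S m X δ δ₀ rep) (hP : Nat.card P = p) {r : ℕ} (hr : r.Coprime (Nat.card G))
    (hreg : ∀ g : G, ¬ p ∣ orderOf g → g ^ r = g)
    (hgen : ∀ k : ℕ, k.Coprime p → ∃ j : ℕ, r ^ j ≡ k [MOD p]) (hn2 : 1 < n) (hrank : blockRank p B = n) :
    ∃ (F : Finset B) (σ : B → ℤ), F.card = n ∧ (∀ z ∈ F, powB S hr hreg z = z) ∧
      (∀ z, z ∉ F → powB S hr hreg z ∉ F) ∧ (∀ z, z ∉ F → ∀ z', z' ∉ F → ∃ j, (powB S hr hreg)^[j] z = z') ∧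
      (∀ z, σ z = 1 ∨ σ z = -1) ∧ ∀ z, z ∉ F → ∀ g : G, ¬ p ∣ orderOf g →
        (σ z : ℂ) * ((z : IrrCharacter G) : G → ℂ) g +
          ∑ x ∈ F, (σ x : ℂ) * ((x : IrrCharacter G) : G → ℂ) g = 0 := by
  have hM := S.hM
  have hp : p.Prime := Fact.out
  set φ := powB S hr hreg with hφdef
  have hφreg := powB_reg S hr hreg
  have hgenP := exists_pow_eq S hP hgen
  have hδ₀ : (δ₀ : ℂ) ≠ 0 := by rcases T.sign₀ with e | e <;> simp [e]
  obtain ⟨x₁, hx₁⟩ := card_pos.1 (T.card_X ▸ S.n_pos : 0 < X.card)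
  set v : X → (G → ℂ) := fun x => pRegularPart p ((x.1 : IrrCharacter G) : G → ℂ)
  have hspan : Submodule.span ℂ ((fun χ : IrrCharacter G => pRegularPart p (χ : G → ℂ)) '' B) ≤
      Submodule.span ℂ (Set.range v) := by
    refine Submodule.span_le.2 ?_
    rintro _ ⟨χ, hχ, rfl⟩
    by_cases hX : (⟨χ, hχ⟩ : B) ∈ X
    · exact Submodule.subset_span ⟨⟨_, hX⟩, rfl⟩
    · have he : pRegularPart p (χ : G → ℂ) =
          ∑ x : X, (-(δ₀ : ℂ) * (δ x.1 : ℂ)) • v x := by
        funext g
        rw [Finset.sum_apply]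
        by_cases hg : p ∣ orderOf g
        · simp [v, pRegularPart, IsPRegular, hg]
        · simp only [v, Pi.smul_apply, smul_eq_mul, pRegularPart, IsPRegular, hg, not_false_eq_true,
            if_true, mul_assoc]
          have h := T.reg _ hX g hg
          rw [← mul_sum, sum_coe_sort X fun x : B => (δ x : ℂ) * ((x : IrrCharacter G) : G → ℂ) g]
          have e : (δ₀ : ℂ) * δ₀ = 1 := by rcases T.sign₀ with e | e <;> simp [e]
          linear_combination (δ₀ : ℂ) * h - (χ : G → ℂ) g * e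
      show pRegularPart p (χ : G → ℂ) ∈ _
      rw [he]
      exact Submodule.sum_mem _ fun x _ => Submodule.smul_mem _ _ (Submodule.subset_span ⟨x, rfl⟩)
  have hli : LinearIndependent ℂ v := by
    refine linearIndependent_iff_card_le_finrank_span.2 ?_
    rw [Fintype.card_coe, T.card_X]
    exact hrank.symm.le.trans (Submodule.finrank_mono hspan)
  have hXreg : ∀ z : B, ∀ x ∈ X,
      (∀ g : G, ¬ p ∣ orderOf g → ((z : IrrCharacter G) : G → ℂ) g =
        ((x : IrrCharacter G) : G → ℂ) g) → z = x := by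
    intro z x hx h
    have hv : pRegularPart p ((z : IrrCharacter G) : G → ℂ) = v ⟨x, hx⟩ := by
      funext g
      by_cases hg : p ∣ orderOf g
      · simp [v, pRegularPart, IsPRegular, hg]
      · simp [v, pRegularPart, IsPRegular, hg, h g hg]
    by_cases hz : z ∈ X
    · exact congrArg Subtype.val (hli.injective (show v ⟨z, hz⟩ = v ⟨x, hx⟩ from hv))
    · exfalso
      -- two relations with different supports
      have he : ∑ x' : X, ((δ x'.1 : ℂ) + if x' = ⟨x, hx⟩ then (δ₀ : ℂ) else 0) • v x' = 0 := by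
        funext g
        rw [Finset.sum_apply]
        by_cases hg : p ∣ orderOf g
        · simp [v, pRegularPart, IsPRegular, hg]
        · simp only [v, Pi.smul_apply, smul_eq_mul, pRegularPart, IsPRegular, hg, not_false_eq_true,
            if_true, add_mul, ite_mul, zero_mul, sum_add_distrib, sum_ite_eq', mem_univ,
            Pi.zero_apply]
          rw [sum_coe_sort X fun x : B => (δ x : ℂ) * ((x : IrrCharacter G) : G → ℂ) g,
            ← h g hg, add_comm]
          exact T.reg z hz g hg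
      obtain ⟨x', hx', hne⟩ : ∃ x' ∈ X, x' ≠ x :=
        exists_mem_ne (by rw [T.card_X]; omega) x
      have h0 := Fintype.linearIndependent_iff.1 hli _ he ⟨x', hx'⟩
      rw [if_neg (fun e => hne (congrArg Subtype.val e)), add_zero, Int.cast_eq_zero] at h0
      have h0' : δ x' = 0 := h0
      rcases T.sign x' hx' with e | e <;> rw [h0'] at e <;> simp at e
  have hfix : ∀ x ∈ X, φ x = x := fun x hx => hXreg _ x hx (hφreg x)
  refine ⟨X, fun z => if z ∈ X then δ z else δ₀, T.card_X, hfix, fun z hz hφz => hz ?_, ?_,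
    fun z => ?_, fun z hz g hg => ?_⟩
  · rwa [hXreg z (φ z) hφz fun g hg => (hφreg z g hg).symm]
  · -- transitivity
    intro z hz z' hz'
    have hstab : ∀ w, w ∉ X → φ w ∉ X := fun w hw hφw => hw (by
      rwa [hXreg w (φ w) hφw fun g hg => (hφreg w g hg).symm])
    have hstep : ∀ j : ℕ, φ^[j] z ∉ X ∧ ∀ u : P, u ≠ 1 →
        ∑ l ∈ range n, (rep (φ^[j] z) (S.act l u) : ℂ) =
          ∑ l ∈ range n, (((rep z ^ r ^ j) (S.act l u) : ℂˣ) : ℂ) := by
      intro j
      induction j with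
      | zero => exact ⟨hz, fun u _ => by simp⟩
      | succ j ih =>
        rw [Function.iterate_succ_apply']
        refine ⟨hstab _ ih.1, fun u hu => ?_⟩
        have hkp : ¬ p ∣ r := fun h => by
          have h1 : p ∣ Nat.card G := hP ▸ Subgroup.card_subgroup_dvd_card P
          exact hp.not_dvd_one (hr.gcd_eq_one ▸ Nat.dvd_gcd h h1)
        have hu' : u ^ r ≠ 1 := fun h => by
          rw [← orderOf_dvd_iff_pow_eq_one, (hp.eq_one_or_self_of_dvd _
            (hP ▸ orderOf_dvd_natCard u)).resolve_left fun h => hu (orderOf_eq_one_iff.1 h)] at h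
          exact hkp h
        have h := aval_powIrr S V hP hr hreg (φ^[j] z) x₁ hu
        rw [show powIrr hr x₁.1 = x₁.1 from congrArg Subtype.val (hfix x₁ hx₁),
          T.val_X x₁ hx₁ u hu, T.val_X x₁ hx₁ _ hu',
          (T.val_Y _ ih.1).2 _ hu', mul_comm, ih.2 _ hu',
          show powIrr hr (φ^[j] z).1 = (φ (φ^[j] z)).1 from rfl,
          (T.val_Y _ (hstab _ ih.1)).2 u hu] at h
        have hδ1 : -(δ x₁ : ℂ) ≠ 0 := by rcases T.sign x₁ hx₁ with e | e <;> simp [e]
        rw [mul_left_cancel₀ hδ₀ (mul_left_cancel₀ hδ1 h)]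
        refine sum_congr rfl fun l _ => ?_
        rw [← CycData.actHom_apply, map_pow, ← CycData.actHom_apply, map_pow, pow_succ,
          pow_mul, MonoidHom.pow_apply, MonoidHom.pow_apply]
        rfl
    obtain ⟨j, hj⟩ := hgenP _ _ (T.val_Y z hz).1 (T.val_Y z' hz').1
    obtain ⟨hjX, hjv⟩ := hstep j
    obtain ⟨l, hl, hl'⟩ := exists_orbit_eq S (ν := rep (φ^[j] z)) (μ := rep z') fun w hw => by
      rw [hjv w hw, hj]
    exact ⟨j, (T.orbit _ (T.val_Y z' hz').1).unique ⟨hjX, l, hl, hl'⟩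
      ⟨hz', 0, S.n_pos, MonoidHom.ext fun w => by
        show rep z' w = rep z' (S.act 0 w)
        rw [show S.act 0 w = w from Subtype.ext (by simp [CycData.act])]⟩⟩
  · by_cases hz : z ∈ X
    · simp only [hz, if_true]; exact T.sign z hz
    · simp only [hz, if_false]; exact T.sign₀
  · simp only [hz, if_false]
    rw [sum_congr rfl fun x hx => by rw [if_pos hx]]
    exact T.reg z hz g hg

set_option maxHeartbeats 1000000 in
/-- The case of inertial index one. -/
theorem family_of_eq_one [Fintype B] {X : Finset B} {δ : B → ℤ} {δ₀ : ℤ} {rep : B → (P →* ℂˣ)}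
    (S : CycData (M := M) p B P c t n) (V : CycVals (M := M) p P c t m)
    (T : Tree S m X δ δ₀ rep) (hP : Nat.card P = p) {r : ℕ} (hr : r.Coprime (Nat.card G))
    (hreg : ∀ g : G, ¬ p ∣ orderOf g → g ^ r = g)
    (hgen : ∀ k : ℕ, k.Coprime p → ∃ j : ℕ, r ^ j ≡ k [MOD p]) (hG : (Nat.card G).factorization p = 1) (hn1 : n = 1) :
    ∃ (F : Finset B) (σ : B → ℤ), F.card = n ∧ (∀ z ∈ F, powB S hr hreg z = z) ∧
      (∀ z, z ∉ F → powB S hr hreg z ∉ F) ∧ (∀ z, z ∉ F → ∀ z', z' ∉ F → ∃ j, (powB S hr hreg)^[j] z = z') ∧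
      (∀ z, σ z = 1 ∨ σ z = -1) ∧ ∀ z, z ∉ F → ∀ g : G, ¬ p ∣ orderOf g →
        (σ z : ℂ) * ((z : IrrCharacter G) : G → ℂ) g +
          ∑ x ∈ F, (σ x : ℂ) * ((x : IrrCharacter G) : G → ℂ) g = 0 := by
  subst hn1
  have hM := S.hM
  have hp : p.Prime := Fact.out
  set φ := powB S hr hreg with hφdef
  have hgenP := exists_pow_eq S hP hgen
  have hδ₀ : (δ₀ : ℂ) ≠ 0 := by rcases T.sign₀ with e | e <;> simp [e]
  obtain ⟨x₁, hx₁⟩ := card_pos.1 (T.card_X ▸ S.n_pos : 0 < X.card)
  have hX1 : X = {x₁} := by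
    obtain ⟨a, ha⟩ := card_eq_one.1 T.card_X
    rw [ha, mem_singleton] at hx₁
    rw [ha, hx₁]
  set lab : B → (P →* ℂˣ) := fun z => if z ∈ X then 1 else rep z
  set sgn : B → ℤ := fun z => if z ∈ X then -δ z else δ₀
  have hsgn : ∀ z, sgn z = 1 ∨ sgn z = -1 := fun z => by
    by_cases hz : z ∈ X
    · simp only [sgn, hz, if_true]; rcases T.sign z hz with e | e <;> simp [e]
    · simp only [sgn, hz, if_false]; exact T.sign₀
  have hact : ∀ w : P, S.act 0 w = w := fun w => Subtype.ext (by simp [CycData.act])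
  have haval : ∀ (z : B) (u : P), u ≠ 1 → aval (m z.1) u = (sgn z : ℂ) * (lab z u : ℂ) := by
    intro z u hu
    by_cases hz : z ∈ X
    · rw [T.val_X z hz u hu]; simp [sgn, lab, hz]
    · rw [(T.val_Y z hz).2 u hu]; simp [sgn, lab, hz, hact]
  have hlab : ∀ z w : B, lab z = lab w → z = w := by
    intro z w h
    by_cases hz : z ∈ X <;> by_cases hw : w ∈ X <;> simp only [lab, hz, hw, if_true, if_false] at h
    · rw [hX1, mem_singleton] at hz hw; rw [hz, hw]
    · exact absurd h.symm (T.val_Y w hw).1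
    · exact absurd h (T.val_Y z hz).1
    · exact (T.orbit _ (T.val_Y z hz).1).unique
        ⟨hz, 0, one_pos, MonoidHom.ext fun u => by show _ = rep z (S.act 0 u); rw [hact]⟩
        ⟨hw, 0, one_pos, MonoidHom.ext fun u => by show _ = rep w (S.act 0 u); rw [hact, h]⟩
  have hsurj : ∀ μ : P →* ℂˣ, ∃ z, lab z = μ := fun μ => by
    by_cases hμ : μ = 1
    · exact ⟨x₁, by simp [lab, hx₁, hμ]⟩
    · obtain ⟨y, ⟨hy, l, hl, he⟩, -⟩ := T.orbit μ hμ
      refine ⟨y, ?_⟩
      obtain rfl : l = 0 := by omega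
      rw [he]
      simp only [lab, hy, if_false]
      exact MonoidHom.ext fun u => by show _ = rep y (S.act 0 u); rw [hact]
  -- nothing moves for the prime two
  have hl1 : lab x₁ = 1 := by simp [lab, hx₁]
  have htwo : p = 2 → (∀ w : B, φ w = w) ∧ ∀ μ : P →* ℂˣ, μ ^ r = μ := by
    intro h2
    have hr1 : ∀ g : G, g ^ r = g := by
      intro g
      obtain ⟨x, s, h, rfl⟩ := exists_pElt p g
      have hx2 : x ^ r = x := by
        obtain ⟨i, hi⟩ := orderOf_eq_pow h
        have h1 : i ≤ 1 := by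
          rw [← hG]
          exact (Nat.Prime.pow_dvd_iff_le_factorization hp Nat.card_pos.ne').1
            (hi ▸ orderOf_dvd_natCard x)
        have h3 : r % 2 = 1 := by
          have hd : 2 ∣ Nat.card G := h2 ▸ hP ▸ Subgroup.card_subgroup_dvd_card P
          exact Nat.odd_iff.1 (Nat.Coprime.odd_of_right (hr.coprime_dvd_right hd))
        conv_rhs => rw [← pow_one x]
        rw [pow_eq_pow_iff_modEq, hi, h2]
        rcases Nat.le_one_iff_eq_zero_or_eq_one.1 h1 with rfl | rfl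
        · exact Nat.modEq_one
        · exact h3
      rw [h.comm.mul_pow, hx2, hreg s h.reg]
    refine ⟨fun w => Subtype.ext (Subtype.ext (funext fun g => ?_)), fun μ => ?_⟩
    · show ((w : IrrCharacter G) : G → ℂ) (g ^ r) = _
      rw [hr1]
    · refine MonoidHom.ext fun u => ?_
      show μ u ^ r = μ u
      rw [← map_pow]
      congr 1
      exact Subtype.ext (by rw [SubmonoidClass.coe_pow, hr1])
  -- the power map is affine on the labels
  set η := lab (φ x₁) with hηdef
  have hlabφ : ∀ z, lab (φ z) = lab z ^ r * η := by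
    intro z
    rcases hp.eq_two_or_odd with h2 | hodd
    · obtain ⟨hid, hμr⟩ := htwo h2
      rw [hηdef, hid, hid, hl1, hμr, mul_one]
    · set ρ := lab (φ z) * (lab z ^ r * η)⁻¹
      obtain ⟨ε, hε, hρ⟩ : ∃ ε : ℂ, (ε = 1 ∨ ε = -1) ∧ ∀ u : P, u ≠ 1 → (ρ u : ℂ) = ε := by
        refine ⟨(sgn (φ z) * sgn x₁ * sgn (φ x₁) * sgn z : ℤ), ?_, fun u hu => ?_⟩
        · rcases hsgn (φ z) with a | a <;> rcases hsgn x₁ with b | b <;>
            rcases hsgn (φ x₁) with d | d <;> rcases hsgn z with f | f <;> simp [a, b, d, f]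
        have hu' : u ^ r ≠ 1 := fun h => by
          rw [← orderOf_dvd_iff_pow_eq_one, (hp.eq_one_or_self_of_dvd _
            (hP ▸ orderOf_dvd_natCard u)).resolve_left fun h => hu (orderOf_eq_one_iff.1 h)] at h
          have h1 : p ∣ Nat.card G := hP ▸ Subgroup.card_subgroup_dvd_card P
          exact hp.not_dvd_one (hr.gcd_eq_one ▸ Nat.dvd_gcd h h1)
        have h := aval_powIrr S V hP hr hreg z x₁ hu
        rw [show powIrr hr z.1 = (φ z).1 from rfl, show powIrr hr x₁.1 = (φ x₁).1 from rfl,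
          haval _ u hu, haval _ _ hu', haval _ u hu, haval _ _ hu'] at h
        rw [hl1, MonoidHom.one_apply, Units.val_one, mul_one, map_pow] at h
        simp only [ρ, MonoidHom.mul_apply, MonoidHom.inv_apply, MonoidHom.pow_apply, Units.val_mul,
          Units.val_inv_eq_inv_val]
        rw [mul_inv_eq_iff_eq_mul₀ (mul_ne_zero (Units.ne_zero _) (Units.ne_zero _))]
        simp only [Units.val_pow_eq_pow_val] at h ⊢
        have e1 : (sgn x₁ : ℂ) * sgn x₁ = 1 := by rcases hsgn x₁ with a | a <;> simp [a]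
        have e2 : (sgn (φ z) : ℂ) * sgn (φ z) = 1 := by rcases hsgn (φ z) with a | a <;> simp [a]
        push_cast
        linear_combination (sgn (φ z) : ℂ) * sgn x₁ * h -
          (lab (φ z) u : ℂ) * sgn x₁ * sgn x₁ * e2 - (lab (φ z) u : ℂ) * e1
      have h1 : ρ = 1 := by
        refine MonoidHom.ext fun u => ?_
        by_cases hu : u = 1
        · rw [hu, map_one, map_one]
        have hu2 : u ^ 2 ≠ 1 := fun h => by
          rw [← orderOf_dvd_iff_pow_eq_one, (hp.eq_one_or_self_of_dvd _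
            (hP ▸ orderOf_dvd_natCard u)).resolve_left fun h => hu (orderOf_eq_one_iff.1 h)] at h
          have := Nat.le_of_dvd two_pos h
          have := hp.two_le
          omega
        have h4 := hρ _ hu2
        rw [map_pow, Units.val_pow_eq_pow_val, hρ u hu] at h4
        refine Units.ext ?_
        rw [hρ u hu, MonoidHom.one_apply, Units.val_one]
        rcases hε with rfl | rfl
        · rfl
        · norm_num at h4
      exact mul_inv_eq_one.1 h1
  -- a fixed member
  obtain ⟨x₂, hx₂⟩ : ∃ x₂, φ x₂ = x₂ := by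
    rcases hp.eq_two_or_odd with h2 | hodd
    · exact ⟨x₁, (htwo h2).1 x₁⟩
    · have hinj : Function.Injective fun μ : P →* ℂˣ => μ * (μ ^ r)⁻¹ := by
        intro μ ν h
        simp only [← div_eq_mul_inv, div_eq_div_iff_mul_eq_mul] at h
        obtain ⟨j, hj⟩ : ∃ j, r ^ j ≡ 2 [MOD p] := hgen 2 (by
          rw [Nat.coprime_primes Nat.prime_two hp]; omega)
        have h1 : (μ * ν⁻¹) ^ r = μ * ν⁻¹ := by
          rw [mul_pow, inv_pow, ← div_eq_mul_inv, ← div_eq_mul_inv, div_eq_div_iff_mul_eq_mul,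
            mul_comm, ← h, mul_comm]
        have h2' : ∀ i : ℕ, (μ * ν⁻¹) ^ r ^ i = μ * ν⁻¹ := fun i => by
          induction i with
          | zero => simp
          | succ i ih => rw [pow_succ, pow_mul, ih, h1]
        have hpow : orderOf (μ * ν⁻¹) ∣ p := by
          refine orderOf_dvd_of_pow_eq_one (MonoidHom.ext fun u => ?_)
          show (μ * ν⁻¹) u ^ p = 1
          rw [← map_pow, ← hP, pow_card_eq_one', map_one]
        have h3 : (μ * ν⁻¹) ^ 2 = μ * ν⁻¹ :=
          (pow_eq_pow_iff_modEq.2 (Nat.ModEq.of_dvd hpow hj.symm)).trans (h2' j)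
        rw [pow_two, mul_eq_left] at h3
        exact mul_inv_eq_one.1 h3
      haveI : Finite (P →* ℂˣ) := finite_dual
      obtain ⟨μ, hμ⟩ := Finite.injective_iff_surjective.1 hinj η
      obtain ⟨z, hz⟩ := hsurj μ
      refine ⟨z, hlab _ _ ?_⟩
      rw [hlabφ, hz, ← hμ]
      show μ ^ r * (μ * (μ ^ r)⁻¹) = μ
      rw [mul_comm μ, mul_inv_cancel_left]
  set q : B → (P →* ℂˣ) := fun z => lab z * (lab x₂)⁻¹
  have hq : ∀ z, q (φ z) = q z ^ r := fun z => by
    have h := hlabφ x₂
    rw [hx₂] at h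
    simp only [q, hlabφ, mul_pow, inv_pow]
    conv_lhs => rw [h]
    rw [mul_inv_rev, ← mul_assoc, mul_assoc (lab z ^ r) η, mul_inv_cancel, mul_one]
  have hqinj : ∀ z w, q z = q w → z = w := fun z w h => hlab _ _ (mul_right_cancel h)
  refine ⟨{x₂}, fun z => if z = x₂ then 1 else -1, by simp, fun z hz => ?_, fun z hz hφz => hz ?_,
    fun z hz z' hz' => ?_, fun z => ?_, fun z hz g hg => ?_⟩
  · rw [mem_singleton.1 hz, hx₂]
  · rw [mem_singleton] at hφz ⊢
    refine hqinj _ _ ?_
    have h := hq z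
    rw [hφz, show q x₂ = 1 from mul_inv_cancel _] at h
    rw [show q x₂ = 1 from mul_inv_cancel _]
    have hpow : q z ^ p = 1 := MonoidHom.ext fun u => by
      rw [MonoidHom.pow_apply, ← map_pow, ← hP, pow_card_eq_one', map_one, MonoidHom.one_apply]
    have h1 : p.Coprime r := (hp.coprime_iff_not_dvd).2 fun h => by
      have h1 : p ∣ Nat.card G := hP ▸ Subgroup.card_subgroup_dvd_card P
      exact hp.not_dvd_one (hr.gcd_eq_one ▸ Nat.dvd_gcd h h1)
    have := pow_gcd_eq_one.2 ⟨hpow, h.symm⟩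
    rwa [h1.gcd_eq_one, pow_one] at this
  · have h1 : ∀ w, w ∉ ({x₂} : Finset B) → q w ≠ 1 := fun w hw h =>
      hw (mem_singleton.2 (hqinj _ _ (h.trans (mul_inv_cancel _).symm)))
    obtain ⟨j, hj⟩ := hgenP _ _ (h1 z hz) (h1 z' hz')
    refine ⟨j, hqinj _ _ ?_⟩
    rw [hj]
    clear hj
    induction j with
    | zero => simp
    | succ j ih => rw [Function.iterate_succ_apply', hq, ih, ← pow_mul, pow_succ]
  · by_cases h : z = x₂ <;> simp [h]
  · rw [mem_singleton] at hz
    simp only [sum_singleton, if_true, hz, if_false]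
    -- all members agree on the regular elements
    have hall : ∀ w : B, ((w : IrrCharacter G) : G → ℂ) g =
        ((x₁ : IrrCharacter G) : G → ℂ) g := by
      intro w
      by_cases hw : w ∈ X
      · rw [hX1, mem_singleton] at hw; rw [hw]
      have h1 := T.reg w hw 1 (by rw [orderOf_one]; exact hp.not_dvd_one)
      have hg' := T.reg w hw g hg
      rw [hX1, sum_singleton] at h1 hg'
      have hs : (δ x₁ : ℂ) = -δ₀ := by
        simp only [(irr_one _).1] at h1
        have a1 := (irr_one w.1).2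
        have a2 := (irr_one x₁.1).2
        rcases T.sign x₁ hx₁ with e | e <;> rcases T.sign₀ with e' | e' <;>
          rw [e, e'] at h1 ⊢ <;> push_cast at h1 ⊢ <;> norm_num at h1 ⊢ <;>
          · exfalso
            have h1' : (charDegree ((w : IrrCharacter G) : G → ℂ) : ℤ) +
                charDegree ((x₁ : IrrCharacter G) : G → ℂ) = 0 := by
              have : ((charDegree ((w : IrrCharacter G) : G → ℂ) : ℤ) : ℂ) +
                  ((charDegree ((x₁ : IrrCharacter G) : G → ℂ) : ℤ) : ℂ) = 0 := by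
                push_cast
                first | linear_combination h1 | linear_combination -h1
              exact_mod_cast this
            omega
      rw [hs] at hg'
      exact mul_left_cancel₀ hδ₀ (by linear_combination hg')
    rw [hall z, hall x₂]
    push_cast
    ring

/-- **The exceptional family.** -/
theorem exists_family (S : CycData (M := M) p B P c t n) (hP : Nat.card P = p)
    (hG : (Nat.card G).factorization p = 1) {r : ℕ} (hr : r.Coprime (Nat.card G))
    (hreg : ∀ g : G, ¬ p ∣ orderOf g → g ^ r = g)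
    (hgen : ∀ k : ℕ, k.Coprime p → ∃ j : ℕ, r ^ j ≡ k [MOD p]) :
    ∃ (Y : Set (IrrCharacter G)) (δ : IrrCharacter G → ℤ), Y ⊆ B ∧
      n * Nat.card Y = p - 1 ∧ Nat.card B = Nat.card Y + n ∧
      (∀ y ∈ Y, powIrr hr y ∈ Y) ∧ (∀ χ ∈ B, χ ∉ Y → powIrr hr χ = χ) ∧
      (∀ y ∈ Y, ∀ y' ∈ Y, ∃ j, (powIrr hr)^[j] y = y') ∧
      (∀ χ ∈ B, δ χ = 1 ∨ δ χ = -1) ∧
      ∀ x : G, ¬ p ∣ orderOf x → ∀ θ ∈ Y,
        (∑ᶠ χ ∈ B \ Y, (δ χ : ℂ) * (χ : G → ℂ) x) + (δ θ : ℂ) * (θ : G → ℂ) x = 0 := by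
  letI := irrFintype (G := G)
  haveI : Fintype B := Fintype.ofFinite B
  have hM := S.hM
  have hp : p.Prime := Fact.out
  obtain ⟨m, V⟩ := S.exists_cycVals
  obtain ⟨χ₀, hχ₀, -⟩ := exists_height_zero hM S.hB
  obtain ⟨hrank, X, δ, δ₀, rep, T, -⟩ := exists_tree S V ⟨χ₀, hχ₀⟩
  have hδ₀ : (δ₀ : ℂ) ≠ 0 := by rcases T.sign₀ with e | e <;> simp [e]
  set φ : B → B := powB S hr hreg with hφdef
  have hφreg : ∀ (z : B) (g : G), ¬ p ∣ orderOf g →
      ((φ z : IrrCharacter G) : G → ℂ) g = ((z : IrrCharacter G) : G → ℂ) g := fun z g hg => by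
    show ((z : IrrCharacter G) : G → ℂ) (g ^ r) = _
    rw [hreg g hg]
  have hiter : ∀ (j : ℕ) (z : B), ((φ^[j] z : B) : IrrCharacter G) = (powIrr hr)^[j] z.1 := by
    intro j
    induction j with
    | zero => intro z; rfl
    | succ j ih => intro z; rw [Function.iterate_succ_apply', Function.iterate_succ_apply', ← ih]; rfl
  have hY : n * (Xᶜ).card = p - 1 := by
    have := T.card_Y
    rw [hP] at this
    omega
  -- it is enough to find a fixed set and a transitive complement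
  suffices h : ∃ (F : Finset B) (σ : B → ℤ), F.card = n ∧ (∀ z ∈ F, φ z = z) ∧
      (∀ z, z ∉ F → φ z ∉ F) ∧ (∀ z, z ∉ F → ∀ z', z' ∉ F → ∃ j, φ^[j] z = z') ∧
      (∀ z, σ z = 1 ∨ σ z = -1) ∧ ∀ z, z ∉ F → ∀ g : G, ¬ p ∣ orderOf g →
        (σ z : ℂ) * ((z : IrrCharacter G) : G → ℂ) g +
          ∑ x ∈ F, (σ x : ℂ) * ((x : IrrCharacter G) : G → ℂ) g = 0 by
    obtain ⟨F, σ, h1, h2, h3, h4, h5, h6⟩ := h
    set Y : Set (IrrCharacter G) := Subtype.val '' ((Fᶜ : Finset B) : Set B)
    have hYmem : ∀ z : B, (z : IrrCharacter G) ∈ Y ↔ z ∉ F := fun z => by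
      constructor
      · rintro ⟨w, hw, he⟩
        rw [← Subtype.ext he]
        exact mem_compl.1 hw
      · exact fun hz => ⟨z, mem_compl.2 hz, rfl⟩
    have hcY : Nat.card Y = (Fᶜ).card := by
      rw [Nat.card_image_of_injective Subtype.val_injective, Nat.card_coe_set_eq,
        Set.ncard_coe_finset]
    have hcB : Fintype.card B = F.card + (Fᶜ).card := (card_add_card_compl F).symm
    have hcX : Fintype.card B = X.card + (Xᶜ).card := (card_add_card_compl X).symm
    set δ' : IrrCharacter G → ℤ := fun χ => if hχ : χ ∈ B then σ ⟨χ, hχ⟩ else 1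
    have hδ' : ∀ z : B, δ' z.1 = σ z := fun z => dif_pos z.2
    refine ⟨Y, δ', ?_, ?_, ?_, ?_, ?_, ?_, fun χ hχ => hδ' ⟨χ, hχ⟩ ▸ h5 _, fun g hg θ hθ => ?_⟩
    · rintro _ ⟨z, -, rfl⟩; exact z.2
    · rw [hcY, show (Fᶜ).card = (Xᶜ).card by rw [h1, ← T.card_X] at hcB; omega, hY]
    · rw [Nat.card_eq_fintype_card, hcY, hcB, h1, add_comm]
    · rintro _ ⟨z, hz, rfl⟩
      exact (hYmem (φ z)).2 (h3 z (mem_compl.1 hz))
    · intro χ hχ hn
      exact congrArg Subtype.val (h2 ⟨χ, hχ⟩ (not_not.1 fun hF => hn ((hYmem ⟨χ, hχ⟩).2 hF)))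
    · rintro _ ⟨z, hz, rfl⟩ _ ⟨z', hz', rfl⟩
      obtain ⟨j, hj⟩ := h4 z (mem_compl.1 hz) z' (mem_compl.1 hz')
      exact ⟨j, by rw [← hiter, hj]⟩
    · obtain ⟨z, hz, rfl⟩ := hθ
      rw [hδ', add_comm, finsum_mem_eq_sum_of_inter_support_eq (t := F.map (Function.Embedding.subtype _)) _ ?_,
        sum_map]
      · simp only [Function.Embedding.coe_subtype, hδ']
        exact h6 z (mem_compl.1 hz) g hg
      · congr 1
        ext χ
        simp only [Set.mem_diff, coe_map, Function.Embedding.coe_subtype, Set.mem_image, mem_coe]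
        constructor
        · rintro ⟨hχ, hn⟩
          exact ⟨⟨χ, hχ⟩, not_not.1 fun hF => hn ((hYmem _).2 hF), rfl⟩
        · rintro ⟨w, hw, rfl⟩
          exact ⟨w.2, fun h => (hYmem w).1 h hw⟩
  by_cases hn1 : n = 1
  · exact family_of_eq_one S V T hP hr hreg hgen hG hn1
  · exact family_of_one_lt S V T hP hr hreg hgen (by have := S.n_pos; omega) hrank

/-- A block of positive defect when `p` divides the order once. -/
theorem exists_setup (hM : IsPModular p M) (hB : IsPBlock M B) (hd : 0 < blockDefect p B)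
    (hN : (Nat.card G).factorization p = 1) :
    ∃ (P : Subgroup G) (c : Set (IrrCharacter C[P])) (t : G) (n : ℕ),
      Nat.card P = p ∧ CycData (M := M) p B P c t n := by
  obtain ⟨D, hD⟩ := exists_defectGroup hB hM
  have h1 : blockDefect p B = 1 := by
    have h2 : blockDefect p B ≤ (Nat.card G).factorization p := Nat.sub_le _ _
    omega
  have hcard : Nat.card D = p := by
    rw [card_defectGroup hM hB hD, h1, pow_one]
  have hcyc : IsCyclic D := isCyclic_of_prime_card hcard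
  have hD1 : D ≠ ⊥ := fun h => by
    rw [h, Subgroup.card_bot] at hcard
    exact (Fact.out : p.Prime).one_lt.ne hcard
  obtain ⟨c, hc⟩ := exists_inducing (H := C[D]) hM (IsPGroup.of_card (n := 1) (by rw [hcard, pow_one]))
    (fun x hx => Subgroup.mem_centralizer_iff.2 fun y hy => commute_of_cyclic hcyc y hy x hx)
    le_rfl (Subgroup.centralizer_le_normalizer _) hB hD (x := 1)
    (by rintro _ ⟨y, hy, rfl⟩; simpa using hy)
  obtain ⟨t, n, S⟩ := exists_cycData hM hB hD hcyc hD1 hc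
  exact ⟨D, c, t, n, hcard, S⟩

/-- The exponents of the automorphisms fixing the roots of unity of order prime to `p`. -/
theorem exists_exponent {g' : ℕ} (hg : g' ≠ 0) (σ : ℂ ≃+* ℂ)
    (hσ : σ (Complex.exp (2 * Real.pi * Complex.I / g')) =
      Complex.exp (2 * Real.pi * Complex.I / g')) :
    ∃ k : ℕ, k ≡ 1 [MOD g'] ∧ k.Coprime (g' * p) ∧ ∀ z : ℂ, z ^ (g' * p) = 1 → σ z = z ^ k := by
  have hp : p.Prime := Fact.out
  have hne : g' * p ≠ 0 := mul_ne_zero hg hp.ne_zero
  haveI : NeZero (g' * p) := ⟨hne⟩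
  have hζ := Complex.isPrimitiveRoot_exp (g' * p) hne
  set ζ := Complex.exp (2 * Real.pi * Complex.I / (g' * p : ℕ)) with hζdef
  obtain ⟨k, -, hk⟩ := hζ.eq_pow_of_pow_eq_one
    (show σ ζ ^ (g' * p) = 1 by rw [← map_pow, hζ.pow_eq_one, map_one])
  have hco : k.Coprime (g' * p) :=
    (hζ.pow_iff_coprime (Nat.pos_of_ne_zero hne) k).1 (hk ▸ hζ.map_of_injective σ.injective)
  have hroot : ζ ^ p = Complex.exp (2 * Real.pi * Complex.I / g') := by
    rw [hζdef, ← Complex.exp_nat_mul, Nat.cast_mul]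
    congr 1
    have hp0 : (p : ℂ) ≠ 0 := Nat.cast_ne_zero.2 hp.ne_zero
    field_simp
  refine ⟨k, ?_, hco, fun z hz => ?_⟩
  · have h1 : ζ ^ (k * p) = ζ ^ (1 * p) := by
      rw [pow_mul, hk, ← map_pow, hroot, hσ, one_mul, hroot]
    have h2 := ((isOfFinOrder_iff_pow_eq_one.2 ⟨_, Nat.pos_of_ne_zero hne, hζ.pow_eq_one⟩).pow_eq_pow_iff_modEq).1 h1
    rw [← hζ.eq_orderOf] at h2
    exact Nat.ModEq.mul_right_cancel' hp.ne_zero h2
  · obtain ⟨i, -, rfl⟩ := hζ.eq_pow_of_pow_eq_one hz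
    rw [map_pow, ← hk, ← pow_mul, ← pow_mul, mul_comm]

end CfsgLib.PConj
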