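import Mathlib.GroupTheory.PGroup
import Mathlib.GroupTheory.SpecificGroups.Cyclic
import Mathlib.GroupTheory.Nilpotent
import Mathlib.GroupTheory.Abelianization.Defs
import Mathlib.GroupTheory.Commutator.Basic

/-!
# Groups of order p⁴
-/

namespace CfsgLib.PFour

open scoped commutatorElement

variable {P : Type*} [Group P] {p : ℕ} [hp : Fact p.Prime]

/-- In a group of prime power order, a strict inclusion multiplies the order by at least `p`. -/
theorem card_mul_le_of_lt [Finite P] (hP : IsPGroup p P) {H K : Subgroup P} (h : H < K) :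
    p * Nat.card H ≤ Nat.card K := by
  obtain ⟨a, ha⟩ := IsPGroup.iff_card.mp (hP.to_subgroup H)
  obtain ⟨b, hb⟩ := IsPGroup.iff_card.mp (hP.to_subgroup K)
  have hlt : Nat.card H < Nat.card K := by
    by_contra hle
    exact h.ne (Subgroup.eq_of_le_of_card_ge h.le (not_lt.mp hle))
  rw [ha, hb] at hlt ⊢
  rw [← pow_succ']
  exact Nat.pow_le_pow_right hp.out.pos
    ((Nat.pow_lt_pow_iff_right hp.out.one_lt).mp hlt)

theorem center_index_ne_prime : (Subgroup.center P).index ≠ p := by
  intro h
  have hc : Nat.card (P ⧸ Subgroup.center P) = p := h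
  haveI : IsCyclic (P ⧸ Subgroup.center P) := isCyclic_of_prime_card hc
  have hcomm : ∀ a b : P, a * b = b * a :=
    commutative_of_cyclic_center_quotient (QuotientGroup.mk' (Subgroup.center P))
      (by rw [QuotientGroup.ker_mk'])
  have htop : Subgroup.center P = ⊤ := by
    ext g
    simp [Subgroup.mem_center_iff, hcomm]
  rw [htop, Subgroup.index_top] at h
  exact hp.out.one_lt.ne h

theorem card_commutator_of_center_index_sq [Finite P] (hP : IsPGroup p P)
    (h : (Subgroup.center P).index = p ^ 2) : Nat.card (commutator P) = p := by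
  have hp1 := hp.out.one_lt
  have hZtop : Subgroup.center P ≠ ⊤ := fun e => by
    rw [e, Subgroup.index_top] at h; exact (Nat.one_lt_pow two_ne_zero hp1).ne h
  obtain ⟨x, -, hx⟩ := SetLike.exists_of_lt hZtop.lt_top
  obtain ⟨y, hy⟩ : ∃ y : P, y * x ≠ x * y := by
    by_contra hne
    exact hx (Subgroup.mem_center_iff.mpr (by simpa using hne))
  have hab : IsMulCommutative (P ⧸ Subgroup.center P) :=
    IsPGroup.isMulCommutative_of_card_eq_prime_sq (p := p) h
  have hcen : ∀ a b : P, ⁅a, b⁆ ∈ Subgroup.center P := by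
    intro a b
    rw [← QuotientGroup.eq_one_iff]
    have := hab.is_comm.comm (a : P ⧸ Subgroup.center P) (b : P ⧸ Subgroup.center P)
    rw [commutatorElement_def, QuotientGroup.mk_mul, QuotientGroup.mk_mul, QuotientGroup.mk_mul,
      QuotientGroup.mk_inv, QuotientGroup.mk_inv, this]
    simp
  -- the centralizer of `x` contains `y ^ p`
  have hxC : Subgroup.center P < Subgroup.centralizer {x} := by
    refine lt_of_le_of_ne (fun z hz => Subgroup.mem_centralizer_singleton_iff.mpr
      ((Subgroup.mem_center_iff.mp hz x).symm)) fun e => hx ?_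
    rw [e]; exact Subgroup.mem_centralizer_singleton_iff.mpr rfl
  have hCtop : Subgroup.centralizer {x} < (⊤ : Subgroup P) := lt_top_iff_ne_top.mpr fun e => hy
    (Subgroup.mem_centralizer_singleton_iff.mp (e ▸ Subgroup.mem_top y))
  set c := ⁅x, y⁆ with hc
  have hcc : c ∈ Subgroup.center P := hcen x y
  let N := Subgroup.zpowers c
  haveI hN : N.Normal := ⟨fun n hn g => by
    obtain ⟨k, rfl⟩ := hn
    have := Subgroup.mem_center_iff.mp (Subgroup.zpow_mem _ hcc k) g
    simp only [this, mul_inv_cancel_right]
    exact ⟨k, rfl⟩⟩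
  let T : Subgroup P := (Subgroup.center (P ⧸ N)).comap (QuotientGroup.mk' N)
  have hT : ∀ g : P, g ∈ T ↔ ∀ a : P, ⁅g, a⁆ ∈ N := by
    intro g
    simp only [T, Subgroup.mem_comap, Subgroup.mem_center_iff]
    constructor
    · intro hg a
      rw [← QuotientGroup.eq_one_iff]
      have := hg (a : P ⧸ N)
      simp only [QuotientGroup.mk'_apply] at this
      rw [commutatorElement_def, QuotientGroup.mk_mul, QuotientGroup.mk_mul,
        QuotientGroup.mk_mul, QuotientGroup.mk_inv, QuotientGroup.mk_inv, ← this]
      simp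
    · intro hg q
      induction q using QuotientGroup.induction_on with
      | _ a =>
        have := (QuotientGroup.eq_one_iff _).mpr (hg a)
        rw [commutatorElement_def] at this
        simp only [QuotientGroup.mk_mul, QuotientGroup.mk_inv] at this
        simp only [QuotientGroup.mk'_apply]
        exact (commutatorElement_eq_one_iff_mul_comm.mp this).symm
  have hxy_only : ∀ a b : P, b * a ≠ a * b → ⁅a, b⁆ ∈ N → a ∈ T := by
    intro a b hab' habN
    rw [hT]
    have hZS : Subgroup.center P < Subgroup.centralizer {a} := by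
      refine lt_of_le_of_ne (fun z hz => Subgroup.mem_centralizer_singleton_iff.mpr
        ((Subgroup.mem_center_iff.mp hz a).symm)) fun e => ?_
      have ha : a ∈ Subgroup.center P := e ▸ Subgroup.mem_centralizer_singleton_iff.mpr rfl
      exact hab' (Subgroup.mem_center_iff.mp ha b)
    let U : Subgroup P :=
      { carrier := {g | ⁅a, g⁆ ∈ N}
        one_mem' := by simp [one_mem]
        mul_mem' := by
          intro u v hu hv
          have hv' : ⁅a, v⁆ ∈ Subgroup.center P := hcen a v
          have : ⁅a, u * v⁆ = ⁅a, u⁆ * ⁅a, v⁆ := by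
            have h1 := Subgroup.mem_center_iff.mp hv' u
            calc ⁅a, u * v⁆ = ⁅a, u⁆ * (u * ⁅a, v⁆ * u⁻¹) := by
                  simp only [commutatorElement_def, mul_inv_rev]; group
              _ = ⁅a, u⁆ * ⁅a, v⁆ := by rw [h1, mul_inv_cancel_right]
          show ⁅a, u * v⁆ ∈ N
          rw [this]
          exact mul_mem hu hv
        inv_mem' := by
          intro u hu
          have hu' : ⁅a, u⁆ ∈ Subgroup.center P := hcen a u
          have h1 := Subgroup.mem_center_iff.mp hu' u⁻¹
          have : ⁅a, u⁻¹⁆ = ⁅a, u⁆⁻¹ := by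
            apply eq_inv_of_mul_eq_one_left
            calc ⁅a, u⁻¹⁆ * ⁅a, u⁆ = ⁅a, u⁻¹⁆ * (u⁻¹ * ⁅a, u⁆ * u) := by
                  rw [h1, inv_mul_cancel_right]
              _ = 1 := by simp only [commutatorElement_def]; group
          show ⁅a, u⁻¹⁆ ∈ N
          rw [this]
          exact inv_mem hu }
    have hCU : Subgroup.centralizer {a} < U := by
      refine lt_of_le_of_ne (fun g hg => ?_) fun e => hab' ?_
      · show ⁅a, g⁆ ∈ N
        rw [commutatorElement_eq_one_iff_mul_comm.mpr
          (Subgroup.mem_centralizer_singleton_iff.mp hg).symm]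
        exact one_mem N
      · exact Subgroup.mem_centralizer_singleton_iff.mp (e ▸ (show b ∈ U from habN))
    have hle1 := card_mul_le_of_lt hP hZS
    have hle2 := card_mul_le_of_lt hP hCU
    have hcardP : Nat.card P = p ^ 2 * Nat.card (Subgroup.center P) := by
      rw [← h, mul_comm, Subgroup.card_mul_index]
    have hU : U = ⊤ := by
      apply Subgroup.eq_top_of_le_card
      rw [hcardP, sq, mul_assoc]
      exact (Nat.mul_le_mul_left p hle1).trans hle2
    exact fun g => (hU ▸ Subgroup.mem_top g : g ∈ U)
  have hxT : x ∈ T := hxy_only x y hy (Subgroup.mem_zpowers c)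
  have hyT : y ∈ T := by
    refine hxy_only y x (Ne.symm hy) ?_
    rw [show ⁅y, x⁆ = c⁻¹ from (commutatorElement_inv x y).symm]
    exact inv_mem (Subgroup.mem_zpowers c)
  have hTtop : T = ⊤ := by
    have hZT : Subgroup.center P ≤ T := fun z hz => by
      rw [hT]; intro a
      rw [commutatorElement_eq_one_iff_mul_comm.mpr (Subgroup.mem_center_iff.mp hz a).symm]
      exact one_mem N
    let S := Subgroup.zpowers x ⊔ Subgroup.center P
    have hZS : Subgroup.center P < S := lt_of_le_of_ne le_sup_right fun e =>
      hx (e ▸ (le_sup_left : _ ≤ S) (Subgroup.mem_zpowers x))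
    have hS : S ≤ Subgroup.centralizer {x} :=
      sup_le (Subgroup.zpowers_le.mpr (Subgroup.mem_centralizer_singleton_iff.mpr rfl)) hxC.le
    have hST : S < T := lt_of_le_of_ne
      (sup_le (Subgroup.zpowers_le.mpr hxT) hZT) fun e =>
        hy (Subgroup.mem_centralizer_singleton_iff.mp (hS (e ▸ hyT)))
    have hle1 := card_mul_le_of_lt hP hZS
    have hle2 := card_mul_le_of_lt hP hST
    apply Subgroup.eq_top_of_le_card
    rw [← Subgroup.card_mul_index (Subgroup.center P), h, mul_comm, sq, mul_assoc]
    exact (Nat.mul_le_mul_left p hle1).trans hle2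
  have hle : commutator P ≤ N := by
    rw [commutator_def, Subgroup.commutator_le]
    exact fun a _ b _ => (hT a).mp (hTtop ▸ Subgroup.mem_top a) b
  -- `c` has order `p`
  have hyp : y ^ p ∈ Subgroup.centralizer {x} := by
    let C := Subgroup.centralizer {x}
    have hle1 := card_mul_le_of_lt hP hxC
    have hle2 := card_mul_le_of_lt hP hCtop
    have hP4 : Nat.card P = p ^ 2 * Nat.card (Subgroup.center P) := by
      rw [← h, mul_comm, Subgroup.card_mul_index]
    rw [Subgroup.card_top, hP4, sq, mul_assoc] at hle2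
    have hCcard : Nat.card C = p * Nat.card (Subgroup.center P) :=
      le_antisymm (Nat.le_of_mul_le_mul_left hle2 hp.out.pos) hle1
    have hCi : C.index = p := by
      have := Subgroup.card_mul_index C
      rw [hCcard, hP4] at this
      refine Nat.eq_of_mul_eq_mul_left (mul_pos hp.out.pos (Nat.card_pos (α := Subgroup.center P))) ?_
      rw [this]; ring
    haveI : C.Normal := ⟨fun n hn g => by
      have h1 : ⁅g, n⁆ ∈ C := hxC.le (hcen g n)
      have := mul_mem h1 hn
      simpa [commutatorElement_def] using this⟩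
    simpa [← hCi] using Subgroup.pow_index_mem C y
  have hcp : c ^ p = 1 := by
    have key : ∀ n : ℕ, ⁅x, y ^ n⁆ = c ^ n := by
      intro n
      induction n with
      | zero => simp
      | succ n ih =>
        rw [pow_succ', pow_succ', ← ih]
        have h1 := Subgroup.mem_center_iff.mp (hcen x (y ^ n)) y
        calc ⁅x, y * y ^ n⁆ = ⁅x, y⁆ * (y * ⁅x, y ^ n⁆ * y⁻¹) := by
              simp only [commutatorElement_def, mul_inv_rev]; group
          _ = c * ⁅x, y ^ n⁆ := by rw [h1, mul_inv_cancel_right]
    rw [← key]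
    exact commutatorElement_eq_one_iff_mul_comm.mpr
      (Subgroup.mem_centralizer_singleton_iff.mp hyp).symm
  have hcne : c ≠ 1 := fun e => hy (commutatorElement_eq_one_iff_mul_comm.mp e).symm
  have heq : commutator P = N := le_antisymm hle (Subgroup.zpowers_le.mpr
    (Subgroup.commutator_mem_commutator (Subgroup.mem_top x) (Subgroup.mem_top y)))
  rw [heq, Nat.card_zpowers, orderOf_eq_prime hcp hcne]

theorem center_index_sq_of_card_commutator [Finite P] (hP : Nat.card P = p ^ 4)
    (h : Nat.card (commutator P) = p) : (Subgroup.center P).index = p ^ 2 := by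
  have hPg : IsPGroup p P := IsPGroup.of_card hP
  have hp1 := hp.out.one_lt
  -- the derived subgroup is central
  have hD : commutator P ≤ Subgroup.center P := by
    haveI : Nontrivial (commutator P) := by
      rw [← Finite.one_lt_card_iff_nontrivial, h]; exact hp1
    intro d hd
    obtain ⟨z, hzD, hz1⟩ : ∃ z ∈ commutator P ⊓ Subgroup.center P, z ≠ 1 := by
      by_contra hne
      simp only [not_exists, not_and, not_not] at hne
      haveI : Fintype P := Fintype.ofFinite P
      -- `P` fixes a nontrivial element of the normal subgroup of order `p`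
      have hfix : ∃ a : commutator P, a ≠ 1 ∧ ∀ g : P, g * a * g⁻¹ = a := by
        let _ : MulAction P (commutator P) :=
          { smul := fun g a => ⟨g * a * g⁻¹, Subgroup.Normal.conj_mem inferInstance _ a.2 g⟩
            one_smul := fun a => Subtype.ext (by show 1 * (a : P) * 1⁻¹ = a; simp)
            mul_smul := fun g g' a => Subtype.ext (by
              show g * g' * (a : P) * (g * g')⁻¹ = g * (g' * a * g'⁻¹) * g⁻¹; group) }
        have hone : (1 : commutator P) ∈ MulAction.fixedPoints P (commutator P) := fun g =>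
          Subtype.ext (by show g * ((1 : commutator P) : P) * g⁻¹ = (1 : commutator P); simp)
        obtain ⟨a, ha, hne1⟩ := hPg.exists_fixed_point_of_prime_dvd_card_of_fixed_point
          (commutator P) (h ▸ dvd_rfl) hone
        exact ⟨a, fun e => hne1 e.symm, fun g => congrArg Subtype.val (ha g)⟩
      obtain ⟨a, ha1, ha⟩ := hfix
      exact ha1 (Subtype.ext (hne a ⟨a.2, Subgroup.mem_center_iff.mpr fun g => by
        have := ha g
        rw [mul_inv_eq_iff_eq_mul] at this
        exact this⟩))
    have hle : Subgroup.zpowers z = commutator P := by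
      apply Subgroup.eq_of_le_of_card_ge (Subgroup.zpowers_le.mpr hzD.1)
      rw [h, Nat.card_zpowers]
      have := orderOf_dvd_natCard (⟨z, hzD.1⟩ : commutator P)
      rw [h, Subgroup.orderOf_mk] at this
      rcases (Nat.dvd_prime hp.out).mp this with h1 | h1
      · exact absurd (orderOf_eq_one_iff.mp h1) hz1
      · exact h1.ge
    rw [← hle] at hd
    exact Subgroup.zpowers_le.mpr hzD.2 hd
  have hne : commutator P ≠ ⊥ := fun e => by rw [e] at h; simp at h; exact hp1.ne h
  obtain ⟨x, y, hxy⟩ : ∃ x y : P, x * y ≠ y * x := by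
    by_contra hne'
    simp only [not_exists, not_not] at hne'
    apply hne
    rw [commutator_eq_bot_iff]
    exact ⟨⟨hne'⟩⟩
  have hcen : ∀ a b : P, ⁅a, b⁆ ∈ commutator P := fun a b =>
    Subgroup.commutator_mem_commutator (Subgroup.mem_top a) (Subgroup.mem_top b)
  let ψ : P → (P →* commutator P) := fun a =>
    MonoidHom.mk' (fun g => ⟨⁅a, g⁆, hcen a g⟩) fun u v => Subtype.ext (by
      have h1 := Subgroup.mem_center_iff.mp (hD (hcen a v)) u
      show ⁅a, u * v⁆ = ⁅a, u⁆ * ⁅a, v⁆
      calc ⁅a, u * v⁆ = ⁅a, u⁆ * (u * ⁅a, v⁆ * u⁻¹) := by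
            simp only [commutatorElement_def, mul_inv_rev]; group
        _ = ⁅a, u⁆ * ⁅a, v⁆ := by rw [h1, mul_inv_cancel_right])
  have hψ : ∀ a g : P, ψ a g = 1 ↔ a * g = g * a := fun a g => by
    rw [← commutatorElement_eq_one_iff_mul_comm, Subtype.ext_iff]; rfl
  let Φ : P →* commutator P × commutator P := (ψ x).prod (ψ y)
  set C := Φ.ker
  have hmem : ∀ g, g ∈ C ↔ x * g = g * x ∧ y * g = g * y := fun g => by
    rw [MonoidHom.mem_ker, MonoidHom.prod_apply, Prod.mk_eq_one, hψ, hψ]
  -- the kernel has order at least `p²`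
  have hCge : p ^ 2 ≤ Nat.card C := by
    have hidx : C.index ≤ p * p := by
      rw [Subgroup.index_ker]
      calc Nat.card Φ.range ≤ Nat.card (commutator P × commutator P) :=
            Nat.card_le_card_of_injective _ Subtype.val_injective
        _ = p * p := by rw [Nat.card_prod, h]
    have := Subgroup.card_mul_index C
    rw [hP] at this
    by_contra hlt
    have hlt := not_le.mp hlt
    have : p ^ 4 < p ^ 2 * (p * p) := by
      rw [← this]
      calc Nat.card C * C.index ≤ Nat.card C * (p * p) := Nat.mul_le_mul_left _ hidx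
        _ < p ^ 2 * (p * p) := Nat.mul_lt_mul_of_pos_right hlt (mul_pos hp.out.pos hp.out.pos)
    exact absurd this (by rw [show p ^ 4 = p ^ 2 * (p * p) by ring]; exact lt_irrefl _)
  let Cx : Subgroup P := C ⊔ Subgroup.zpowers x
  have hCx : C < Cx := lt_of_le_of_ne le_sup_left fun e => hxy
    ((hmem x).mp (e ▸ (le_sup_right : _ ≤ Cx) (Subgroup.mem_zpowers x))).2.symm
  have hyCx : y ∉ Cx := fun hy => hxy <| by
    have : Cx ≤ Subgroup.centralizer {x} :=
      sup_le (fun g hg => Subgroup.mem_centralizer_singleton_iff.mpr ((hmem g).mp hg).1.symm)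
        (Subgroup.zpowers_le.mpr (Subgroup.mem_centralizer_singleton_iff.mpr rfl))
    exact (Subgroup.mem_centralizer_singleton_iff.mp (this hy)).symm
  let Cxy : Subgroup P := Cx ⊔ Subgroup.zpowers y
  have hCxy : Cx < Cxy := lt_of_le_of_ne le_sup_left fun e =>
    hyCx (e ▸ (le_sup_right : _ ≤ Cxy) (Subgroup.mem_zpowers y))
  have hl1 := card_mul_le_of_lt hPg hCx
  have hl2 := card_mul_le_of_lt hPg hCxy
  have htop : Cxy = ⊤ := by
    apply Subgroup.eq_top_of_le_card
    calc Nat.card P = p * (p * p ^ 2) := by rw [hP]; ring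
      _ ≤ p * (p * Nat.card C) := Nat.mul_le_mul_left _ (Nat.mul_le_mul_left _ hCge)
      _ ≤ p * Nat.card Cx := Nat.mul_le_mul_left _ hl1
      _ ≤ Nat.card Cxy := hl2
  have hCcard : Nat.card C = p ^ 2 := by
    apply le_antisymm _ hCge
    have h3 : p * (p * Nat.card C) ≤ p * (p * p ^ 2) := by
      calc p * (p * Nat.card C) ≤ p * Nat.card Cx := Nat.mul_le_mul_left _ hl1
        _ ≤ Nat.card Cxy := hl2
        _ = p * (p * p ^ 2) := by rw [htop, Subgroup.card_top, hP]; ring
    exact Nat.le_of_mul_le_mul_left (Nat.le_of_mul_le_mul_left h3 hp.out.pos) hp.out.pos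
  have hCab : IsMulCommutative C := IsPGroup.isMulCommutative_of_card_eq_prime_sq hCcard
  have hCZ : C ≤ Subgroup.center P := by
    intro c hc
    have hle : Cxy ≤ Subgroup.centralizer {c} := by
      refine sup_le (sup_le ?_ ?_) ?_
      · intro g hg
        exact Subgroup.mem_centralizer_singleton_iff.mpr
          (congrArg Subtype.val (hCab.is_comm.comm (⟨g, hg⟩ : C) ⟨c, hc⟩))
      · exact Subgroup.zpowers_le.mpr
          (Subgroup.mem_centralizer_singleton_iff.mpr ((hmem c).mp hc).1)
      · exact Subgroup.zpowers_le.mpr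
          (Subgroup.mem_centralizer_singleton_iff.mpr ((hmem c).mp hc).2)
    exact Subgroup.mem_center_iff.mpr fun g =>
      Subgroup.mem_centralizer_singleton_iff.mp (hle (htop ▸ Subgroup.mem_top g))
  have hdvd : (Subgroup.center P).index ∣ p ^ 2 := by
    have h1 := Subgroup.index_dvd_of_le hCZ
    have h2 : C.index = p ^ 2 := by
      have := Subgroup.card_mul_index C
      rw [hP, hCcard, show p ^ 4 = p ^ 2 * p ^ 2 by ring] at this
      exact Nat.eq_of_mul_eq_mul_left (pow_pos hp.out.pos 2) this
    rwa [h2] at h1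
  obtain ⟨k, hk, hk'⟩ := (Nat.dvd_prime_pow hp.out).mp hdvd
  rcases Nat.lt_or_ge k 2 with hk2 | hk2
  · interval_cases k
    · exfalso
      rw [pow_zero, Subgroup.index_eq_one] at hk'
      exact hxy (Subgroup.mem_center_iff.mp (hk' ▸ Subgroup.mem_top y) x)
    · exact absurd (by simpa using hk') center_index_ne_prime
  · rw [hk', le_antisymm hk hk2]

end CfsgLib.PFour
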