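import Cfsg.Agent.Blocks.InvariantCover
import Cfsg.Agent.Blocks.Regular
import Cfsg.Agent.BlocksB.MajorValuation
import Cfsg.Agent.BlocksB.InducedDefect
import Cfsg.Agent.BlocksB.RegRank
import Cfsg.Agent.BrauerPairs.CoveredBlock
import Cfsg.Agent.Char.LinearTwist
import Cfsg.Agent.Char.CyclicW
import Cfsg.Prelude.Def_BlockLocal

/-!
# Blocks with abelian defect group over a normal subgroup of `p`-power index

Every character of the block restricts irreducibly: a linear character of the quotient fixing a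
member is trivial on the defect group, as no member vanishes on a section of a major subsection.
-/

set_option autoImplicit false
set_option linter.unusedSectionVars false
set_option linter.style.haveILetI false

namespace CfsgLib.PPowerIndex

open Finset Cfsg CfsgLib.Block CfsgLib.Block.Chr CfsgLib.Char CfsgLib.BlockB
open scoped ComplexConjugate

universe u

variable {G : Type u} [Group G] [Fintype G] {N : Subgroup G} [hN : N.Normal] [Fintype N]
  {M : Ideal AlgInt} [M.IsPrime] {p : ℕ} [hp : Fact p.Prime]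

theorem regular_mem (hNi : ∃ k : ℕ, N.index = p ^ k) {g : G} (hg : ¬ p ∣ orderOf g) : g ∈ N := by
  obtain ⟨k, hk⟩ := hNi
  rw [← QuotientGroup.eq_one_iff, ← orderOf_eq_one_iff]
  refine Nat.eq_one_of_dvd_coprimes ((hp.out.coprime_iff_not_dvd.2 hg).pow_left k) ?_
    (orderOf_map_dvd (QuotientGroup.mk' N) g)
  rw [← hk, Subgroup.index_eq_card]
  exact orderOf_dvd_natCard _

variable {b : Set (IrrCharacter N)} {B : Set (IrrCharacter G)}

/-- Any character over the block of `N` lies in the covering block. -/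
theorem mem_of_over (hM : IsPModular p M) (hNi : ∃ k : ℕ, N.index = p ^ k) (hb : IsPBlock M b)
    (hB : IsPBlock M B) (hcov : Covers B b) {χ : IrrCharacter G} {θ : IrrCharacter N} (hθ : θ ∈ b)
    (hc : classInner (fun n : N => (χ : G → ℂ) n) (θ : N → ℂ) ≠ 0) : χ ∈ B := by
  obtain ⟨χ₀, hχ₀, θ₀, hθ₀, hc₀⟩ := hcov
  refine (sameBlock_iff_mem hB hχ₀).2 (sameBlock_of_regular hM χ₀ χ fun g hg => ?_)
  have hgN := regular_mem hNi hg
  have h := covering_cong hB hb hχ₀ hθ₀ hc₀ hχ₀ hθ ⟨g, hgN⟩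
  rwa [← centralChar_eq_of_constituent hc ⟨g, hgN⟩] at h

theorem conjIrr_mem (hstab : ∀ g : G, StabilizesBlock N b g) (g : G) {θ : IrrCharacter N}
    (hθ : θ ∈ b) : conjIrr g θ ∈ b := by
  obtain ⟨θ', hθ', hc⟩ := (hstab g⁻¹).2 θ hθ
  have : conjIrr g θ = θ' := by
    refine Subtype.ext (funext fun n => ?_)
    rw [conjIrr_coe, conjOn_apply]
    exact (hc ⟨g * n * g⁻¹, hN.conj_mem n n.2 g⟩ n (by simp [mul_assoc])).symm
  exact this ▸ hθ'

/-- The value of the central character at a defect class: one orbit sum per coset of `N C(y)`. -/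
theorem centralChar_split {χ : IrrCharacter G} {θ : IrrCharacter N}
    (hc : classInner (fun n : N => (χ : G → ℂ) n) (θ : N → ℂ) ≠ 0) (y : N)
    [Fintype (G ⧸ (N ⊔ Subgroup.centralizer ({(y : G)} : Set G)))] :
    centralChar (χ : G → ℂ) (y : G) =
      ∑ q : G ⧸ (N ⊔ Subgroup.centralizer ({(y : G)} : Set G)),
        centralChar (conjIrr q.out θ : N → ℂ) y := by
  classical
  let F : G → ℂ := fun g => centralChar (conjIrr g θ : N → ℂ) y
  let Sub : Subgroup G :=
    { carrier := {t | ∀ g, F (g * t) = F g}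
      one_mem' := fun g => by simp
      mul_mem' := fun {a c} ha hc' g => by rw [← mul_assoc, hc', ha]
      inv_mem' := fun {a} ha g => by
        conv_rhs => rw [show g = g * a⁻¹ * a by group]
        exact (ha _).symm }
  have hTS : (N ⊔ (Subgroup.centralizer ({(y : G)} : Set G))) ≤ Sub := by
    refine sup_le (fun n hn g => ?_) (fun c hc' g => ?_)
    · show centralChar (conjIrr (g * n) θ : N → ℂ) y = centralChar (conjIrr g θ : N → ℂ) y
      rw [show g * n = g * n * g⁻¹ * g by group, conjIrr_coe, conjIrr_coe,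
        conjOn_mul_of_mem (le_inertia (IsIrrCharacter.isClassFunction θ.2) (hN.conj_mem n hn g))]
    · show centralChar (conjIrr (g * c) θ : N → ℂ) y = centralChar (conjIrr g θ : N → ℂ) y
      rw [centralChar, centralChar, conjIrr_coe, conjIrr_coe, ← conjOn_conjOn, conjOn_apply c,
        conjOn_apply_one]
      congr 3
      exact Subtype.ext (show c * (y : G) * c⁻¹ = y by
        rw [Subgroup.mem_centralizer_singleton_iff.1 hc', mul_inv_cancel_right])
  -- the two counts of the sum over the group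
  set Z := Subgroup.centralizer ({y} : Set N) with hZ
  have h1 : ∑ g : G, (conjIrr g θ : N → ℂ) y =
      (Nat.card (Subgroup.centralizer ({(y : G)} : Set G)) : ℂ) * ∑ n : N, classInd (y : G) (n : G) * (θ : N → ℂ) n := by
    rw [mul_sum, ← sum_fiberwise_of_maps_to (t := (univ : Finset N))
      (g := fun g : G => (⟨g * y * g⁻¹, hN.conj_mem y y.2 g⟩ : N)) (fun g _ => mem_univ _)]
    refine sum_congr rfl fun n _ => ?_
    by_cases h : IsConj (y : G) (n : G)
    · obtain ⟨a, ha⟩ := isConj_iff.1 h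
      rw [classInd_of_isConj h, one_mul, sum_congr rfl fun g hg => by
        rw [conjIrr_coe, conjOn_apply, (mem_filter.1 hg).2], sum_const, nsmul_eq_mul,
        ← Nat.card_eq_finsetCard]
      congr 2
      refine Nat.card_congr ((Equiv.mulLeft a⁻¹).subtypeEquiv fun g => ?_)
      simp only [mem_filter, mem_univ, true_and, Equiv.coe_mulLeft,
        Subgroup.mem_centralizer_singleton_iff, Subtype.ext_iff]
      rw [← ha]
      constructor
      · intro hg
        calc a⁻¹ * g * y = a⁻¹ * (g * y * g⁻¹) * g := by group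
          _ = y * (a⁻¹ * g) := by rw [hg]; group
      · intro hg
        calc g * y * g⁻¹ = a * (a⁻¹ * g * y) * g⁻¹ := by group
          _ = a * y * a⁻¹ := by rw [hg]; group
    · rw [classInd_of_not_isConj h, zero_mul, mul_zero]
      refine sum_eq_zero fun g hg => absurd (isConj_iff.2 ⟨g, ?_⟩) h
      exact congrArg Subtype.val (mem_filter.1 hg).2
  have h2 : ∑ g : G, F g = (Nat.card ↥(N ⊔ (Subgroup.centralizer ({(y : G)} : Set G))) : ℂ) * ∑ q : G ⧸ (N ⊔ (Subgroup.centralizer ({(y : G)} : Set G))), F q.out := by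
    rw [mul_sum, ← sum_fiberwise (s := (univ : Finset G)) (g := fun g : G => (g : G ⧸ (N ⊔ (Subgroup.centralizer ({(y : G)} : Set G)))))]
    refine sum_congr rfl fun q _ => ?_
    have hF : ∀ g : G, (g : G ⧸ (N ⊔ (Subgroup.centralizer ({(y : G)} : Set G)))) = q → F g = F q.out := fun g hg => by
      have hm : q.out⁻¹ * g ∈ (N ⊔ (Subgroup.centralizer ({(y : G)} : Set G))) := QuotientGroup.eq.1 (by rw [QuotientGroup.out_eq', hg])
      conv_lhs => rw [show g = q.out * (q.out⁻¹ * g) by group]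
      exact hTS hm _
    rw [sum_congr rfl fun g hg => hF g (mem_filter.1 hg).2, sum_const, nsmul_eq_mul,
      ← Nat.card_eq_finsetCard]
    congr 2
    refine Nat.card_congr ((Equiv.mulLeft q.out⁻¹).subtypeEquiv fun g => ?_)
    simp only [mem_filter, mem_univ, true_and, Equiv.coe_mulLeft]
    rw [← QuotientGroup.eq (s := (N ⊔ (Subgroup.centralizer ({(y : G)} : Set G)))), QuotientGroup.out_eq']
    exact eq_comm
  have hcard : (Nat.card ↥(N ⊔ (Subgroup.centralizer ({(y : G)} : Set G))) : ℂ) = (Z.index : ℂ) * (Nat.card (Subgroup.centralizer ({(y : G)} : Set G)) : ℂ) := by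
    have e1 : Nat.card (N ⊓ (Subgroup.centralizer ({(y : G)} : Set G)) : Subgroup G) = Nat.card Z := by
      refine Nat.card_congr
        { toFun := fun x => ⟨⟨x, x.2.1⟩, Subgroup.mem_centralizer_singleton_iff.2
            (Subtype.ext (Subgroup.mem_centralizer_singleton_iff.1 x.2.2))⟩
          invFun := fun z => ⟨((z : N) : G), (z : N).2, Subgroup.mem_centralizer_singleton_iff.2
            (congrArg Subtype.val (Subgroup.mem_centralizer_singleton_iff.1 z.2))⟩
          left_inv := fun x => rfl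
          right_inv := fun z => rfl }
    have e2 : Nat.card ↥(N ⊔ (Subgroup.centralizer ({(y : G)} : Set G))) * Nat.card (N ⊓ (Subgroup.centralizer ({(y : G)} : Set G)) : Subgroup G) = Nat.card N * Nat.card (Subgroup.centralizer ({(y : G)} : Set G)) := by
      have a1 := Subgroup.card_mul_index (N.subgroupOf (Subgroup.centralizer ({(y : G)} : Set G)))
      have a2 := Subgroup.card_mul_index (N.subgroupOf (N ⊔ (Subgroup.centralizer ({(y : G)} : Set G))))
      have a3 : N.relIndex (N ⊔ (Subgroup.centralizer ({(y : G)} : Set G))) = N.relIndex (Subgroup.centralizer ({(y : G)} : Set G)) := by rw [sup_comm]; exact Subgroup.relIndex_sup_right ..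
      rw [Nat.card_congr (Subgroup.subgroupOfEquivOfLe (le_sup_left : N ≤ (N ⊔ (Subgroup.centralizer ({(y : G)} : Set G))))).toEquiv] at a2
      rw [← Nat.card_congr (Subgroup.subgroupOfEquivOfLe (inf_le_right : N ⊓ (Subgroup.centralizer ({(y : G)} : Set G)) ≤ (Subgroup.centralizer ({(y : G)} : Set G)))).toEquiv,
        Subgroup.inf_subgroupOf_right, ← a1, ← a2]
      unfold Subgroup.relIndex at a3
      rw [a3]; ring
    have e3 := Subgroup.card_mul_index Z
    rw [e1, ← e3] at e2
    have h0 : (Nat.card Z : ℂ) ≠ 0 := Nat.cast_ne_zero.2 Nat.card_pos.ne'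
    refine mul_right_cancel₀ h0 ?_
    exact_mod_cast e2.trans (by ring)
  have h3 : ∑ g : G, F g = (Z.index : ℂ) * (∑ g : G, (conjIrr g θ : N → ℂ) y) / (θ : N → ℂ) 1 := by
    rw [mul_sum, sum_div]
    refine sum_congr rfl fun g _ => ?_
    show centralChar (conjIrr g θ : N → ℂ) y = _
    rw [centralChar, conjIrr_coe, conjOn_apply_one]
  have h4 : centralChar (χ : G → ℂ) (y : G) =
      (∑ n : N, classInd (y : G) (n : G) * (θ : N → ℂ) n) / (θ : N → ℂ) 1 := by
    rw [centralChar_eq_of_constituent hc, inducedCentralChar_eq]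
    rfl
  refine mul_left_cancel₀ (show (Nat.card ↥(N ⊔ (Subgroup.centralizer ({(y : G)} : Set G))) : ℂ) ≠ 0 from Nat.cast_ne_zero.2 Nat.card_pos.ne') ?_
  show _ = (Nat.card ↥(N ⊔ (Subgroup.centralizer ({(y : G)} : Set G))) : ℂ) * ∑ q : G ⧸ (N ⊔ (Subgroup.centralizer ({(y : G)} : Set G))), F q.out
  rw [← h2, h3, h1, h4, hcard]
  ring

/-- The defect group supplements `N`, and the central characters at a defect class restrict. -/
theorem sup_eq_top (hM : IsPModular p M) (hNi : ∃ k : ℕ, N.index = p ^ k) (hb : IsPBlock M b)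
    (hstab : ∀ g : G, StabilizesBlock N b g) (hB : IsPBlock M B) (hcov : Covers B b) {y : N}
    (hy : IsDefectClass M B (y : G))
    (S : Sylow p (Subgroup.centralizer ({(y : G)} : Set G))) :
    N ⊔ (S : Subgroup (Subgroup.centralizer ({(y : G)} : Set G))).map
        (Subgroup.centralizer ({(y : G)} : Set G)).subtype = ⊤ ∧
      ∀ θ ∈ b, ¬ MemLocalIdeal M (centralChar (θ : N → ℂ) y) := by
  classical
  haveI : Fintype (G ⧸ (N ⊔ (Subgroup.centralizer ({(y : G)} : Set G)))) := Fintype.ofFinite _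
  obtain ⟨χ, hχ, θ₀, hθ₀, hc⟩ := hcov
  have hsum : ∀ θ ∈ b, MemLocalIdeal M (centralChar (χ : G → ℂ) (y : G) -
      ((N ⊔ (Subgroup.centralizer ({(y : G)} : Set G))).index : ℂ) * centralChar (θ : N → ℂ) y) := by
    intro θ hθ
    rw [centralChar_split hc y, Subgroup.index_eq_card, Nat.card_eq_fintype_card, ← card_univ,
      ← nsmul_eq_mul, ← sum_const, ← sum_sub_distrib]
    exact memLocalIdeal_sum fun q _ =>
      sameBlock_of_mem hb (conjIrr_mem hstab _ hθ₀) hθ y
  have hidx : (N ⊔ (Subgroup.centralizer ({(y : G)} : Set G))).index = 1 := by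
    obtain ⟨k, hk⟩ := hNi
    obtain ⟨j, -, hj⟩ := (Nat.dvd_prime_pow hp.out).1
      (hk ▸ Subgroup.index_dvd_of_le (le_sup_left : N ≤ N ⊔ (Subgroup.centralizer ({(y : G)} : Set G))))
    rcases j with _ | j
    · exact hj
    exfalso
    refine hy.2.2 χ hχ ?_
    have h := memLocalIdeal_add (hsum θ₀ hθ₀)
      (memLocalIdeal_mul_right (x := ((N ⊔ (Subgroup.centralizer ({(y : G)} : Set G))).index : ℂ)) (by
        rw [hj, pow_succ, Nat.cast_mul]
        exact memLocalIdeal_mul_left (natCast_mem_localRing _) ((memLocalIdeal_natCast_iff hM).2 dvd_rfl))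
        (centralChar_mem θ₀ y))
    simpa using h
  refine ⟨?_, fun θ hθ h => hy.2.2 χ hχ ?_⟩
  · have hNC : N ⊔ (Subgroup.centralizer ({(y : G)} : Set G)) = ⊤ := Subgroup.index_eq_one.1 hidx
    set π : (Subgroup.centralizer ({(y : G)} : Set G)) →* G ⧸ N := (QuotientGroup.mk' N).comp (Subgroup.centralizer ({(y : G)} : Set G)).subtype with hπ
    have hsurj : Function.Surjective π := by
      intro q
      obtain ⟨g, rfl⟩ := QuotientGroup.mk'_surjective N q
      obtain ⟨n, hn, c, hc', rfl⟩ := Subgroup.mem_sup_of_normal_left.1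
        (show g ∈ N ⊔ (Subgroup.centralizer ({(y : G)} : Set G)) by rw [hNC]; exact Subgroup.mem_top g)
      refine ⟨⟨c, hc'⟩, ?_⟩
      simp [π, (QuotientGroup.eq_one_iff n).2 hn]
    have h1 : ((S : Subgroup (Subgroup.centralizer ({(y : G)} : Set G))).map π).index = 1 := by
      obtain ⟨k, hk⟩ := hNi
      refine Nat.eq_one_of_dvd_coprimes
        ((hp.out.coprime_iff_not_dvd.2 S.not_dvd_index).pow_left k) ?_
        (Subgroup.index_map_dvd _ hsurj)
      rw [← hk]
      exact Subgroup.index_dvd_card _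
    refine eq_top_iff.2 fun g _ => ?_
    obtain ⟨c, hc', hcg⟩ : (g : G ⧸ N) ∈ (S : Subgroup (Subgroup.centralizer ({(y : G)} : Set G))).map π := by
      rw [Subgroup.index_eq_one.1 h1]; exact Subgroup.mem_top _
    have hn : (c : G)⁻¹ * g ∈ N := QuotientGroup.eq.1 hcg
    rw [show g = (c : G) * ((c : G)⁻¹ * g) by group]
    exact Subgroup.mul_mem _ (Subgroup.mem_sup_right ⟨c, hc', rfl⟩) (Subgroup.mem_sup_left hn)
  · have h' := hsum θ hθ
    rw [hidx, Nat.cast_one, one_mul] at h'
    simpa using memLocalIdeal_add h' h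

variable {P : Subgroup G}

/-- No member of the block vanishes on a whole section of an element of the defect group. -/
theorem exists_apply_ne_zero (hM : IsPModular p M) (hB : IsPBlock M B)
    (hP : IsDefectGroup p M B P) (hab : ∀ x ∈ P, ∀ z ∈ P, x * z = z * x) {u : G} (hu : u ∈ P)
    {χ : IrrCharacter G} (hχ : χ ∈ B) :
    ∃ s : G, ¬ p ∣ orderOf s ∧ (χ : G → ℂ) (u * s) ≠ 0 := by
  classical
  have hPp : IsPGroup p P := by
    obtain ⟨g, -, S, rfl⟩ := hP
    exact S.isPGroup'.map _
  obtain ⟨k, hk⟩ := IsPGroup.iff_orderOf.1 hPp ⟨u, hu⟩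
  rw [← Subgroup.orderOf_coe] at hk
  haveI := Fintype.ofFinite (Subgroup.centralizer (Subgroup.zpowers u : Set G))
  obtain ⟨c, hind, hbd⟩ := exists_induced_of_central hM hB hP (Q := Subgroup.zpowers u)
    (Subgroup.zpowers_le.2 hu) (fun w hw => Subgroup.mem_centralizer_iff.2 fun v hv => by
      exact hab v (Subgroup.zpowers_le.2 hu hv) w hw)
  obtain ⟨ψ, hψ, hψ0⟩ := exists_height_zero hM hB
  have hne := contrib_ne_zero hM (centralizer_zpowers_eq u) hk hind hbd hχ hψ hψ0
  by_contra hall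
  push Not at hall
  apply hne
  letI := irrFintype (G := Subgroup.centralizer (Subgroup.zpowers u : Set G))
  have hz : regPart p (secFun (Subgroup.centralizer (Subgroup.zpowers u : Set G)) u χ) = 0 := funext fun s => by
    by_cases hs : p ∣ orderOf s
    · exact regPart_of_dvd hs
    · rw [regPart_of_not_dvd hs]
      exact hall (s : G) (by rwa [Subgroup.orderOf_coe])
  simp [contrib, subPart, hz, blockPart_eq_sum_inner, classInner]

/-! ### Twisting by the linear characters of the quotient -/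

/-- Twist by a linear character of the quotient. -/
noncomputable def twist (μ : (G ⧸ N) →* ℂˣ) (χ : IrrCharacter G) : IrrCharacter G :=
  ⟨fun g => ((μ (g : G ⧸ N) : ℂˣ) : ℂ) * (χ : G → ℂ) g, by
    have h := IsIrrCharacter.mul_hom χ.2 (μ.comp (QuotientGroup.mk' N))
    rw [mul_comm] at h
    exact h⟩

theorem twist_apply (μ : (G ⧸ N) →* ℂˣ) (χ : IrrCharacter G) (g : G) :
    (twist μ χ : G → ℂ) g = ((μ (g : G ⧸ N) : ℂˣ) : ℂ) * (χ : G → ℂ) g := rfl

theorem twist_res (μ : (G ⧸ N) →* ℂˣ) (χ : IrrCharacter G) (n : N) :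
    (twist μ χ : G → ℂ) n = (χ : G → ℂ) n := by
  rw [twist_apply, (QuotientGroup.eq_one_iff (n : G)).2 n.2, map_one, Units.val_one, one_mul]

set_option maxHeartbeats 800000 in
/-- The members of the block restrict irreducibly, freely and transitively permuted by the linear
characters of the quotient. -/
theorem restrict_data (hM : IsPModular p M) (hNi : ∃ k : ℕ, N.index = p ^ k) (hb : IsPBlock M b)
    (hstab : ∀ g : G, StabilizesBlock N b g) (hB : IsPBlock M B) (hcov : Covers B b)
    (hP : IsDefectGroup p M B P) (hab : ∀ x ∈ P, ∀ z ∈ P, x * z = z * x) (hNP : N ⊔ P = ⊤) :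
    (∀ χ ∈ B, ∃ θ ∈ b, ∀ n : N, (χ : G → ℂ) n = (θ : N → ℂ) n) ∧
      ∀ θ ∈ b, Nat.card {χ : IrrCharacter G //
        χ ∈ B ∧ ∀ n : N, (χ : G → ℂ) n = (θ : N → ℂ) n} = N.index := by
  classical
  have hcomm : ∀ q r : G ⧸ N, q * r = r * q := by
    have key : ∀ q : G ⧸ N, ∃ x ∈ P, (x : G ⧸ N) = q := by
      intro q
      obtain ⟨g, rfl⟩ := QuotientGroup.mk'_surjective N q
      obtain ⟨n, hn, x, hx, rfl⟩ := Subgroup.mem_sup_of_normal_left.1
        (show g ∈ N ⊔ P by rw [hNP]; exact Subgroup.mem_top g)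
      exact ⟨x, hx, by simp [(QuotientGroup.eq_one_iff n).2 hn]⟩
    intro q r
    obtain ⟨x, hx, rfl⟩ := key q
    obtain ⟨z, hz, rfl⟩ := key r
    rw [← QuotientGroup.mk_mul, ← QuotientGroup.mk_mul, hab x hx z hz]
  haveI : Fintype ((G ⧸ N) →* ℂˣ) := Fintype.ofFinite _
  have hcardhom : Fintype.card ((G ⧸ N) →* ℂˣ) = N.index := by
    rw [← Nat.card_eq_fintype_card, card_hom_eq_index_commutator,
      show commutator (G ⧸ N) = ⊥ from (commutator_eq_bot_iff_center_eq_top _).2
        (eq_top_iff.2 fun q _ => Subgroup.mem_center_iff.2 fun r => hcomm r q),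
      Subgroup.index_bot]
    rfl
  -- the sum over the twists
  have hkey : ∀ χ χ' : IrrCharacter G,
      ∑ μ : (G ⧸ N) →* ℂˣ, classInner (twist μ χ : G → ℂ) (χ' : G → ℂ) =
        classInner (fun n : N => (χ : G → ℂ) n) (fun n : N => (χ' : G → ℂ) n) := by
    intro χ χ'
    simp only [classInner_def, twist_apply]
    rw [← mul_sum, sum_comm]
    have hμ : ∀ g : G, ∑ μ : (G ⧸ N) →* ℂˣ, ((μ (g : G ⧸ N) : ℂˣ) : ℂ) =
        if g ∈ N then (N.index : ℂ) else 0 := by
      intro g
      have h := sum_hom_conj_mul hcomm (1 : G ⧸ N) (g : G ⧸ N)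
      simp only [map_one, Units.val_one, one_mul] at h
      rw [h, hcardhom]
      exact if_congr (eq_comm.trans (QuotientGroup.eq_one_iff g)) rfl rfl
    rw [show ∑ g : G, ∑ μ : (G ⧸ N) →* ℂˣ, ((μ (g : G ⧸ N) : ℂˣ) : ℂ) * (χ : G → ℂ) g *
        conj ((χ' : G → ℂ) g) = ∑ g : G, (if g ∈ N then (N.index : ℂ) else 0) *
          ((χ : G → ℂ) g * conj ((χ' : G → ℂ) g)) from sum_congr rfl fun g _ => by
      rw [← hμ g, sum_mul]; exact sum_congr rfl fun μ _ => by ring,
      sum_eq_sum_subgroup N _ fun g hg => by rw [if_neg hg, zero_mul],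
      sum_congr rfl fun (n : N) _ => by rw [if_pos n.2], ← mul_sum, ← mul_assoc]
    congr 1
    rw [← Subgroup.card_mul_index N, Nat.cast_mul, mul_inv, mul_assoc,
      inv_mul_cancel₀ (Nat.cast_ne_zero.2 Subgroup.index_ne_zero_of_finite), mul_one]
  have hfree : ∀ χ ∈ B, ∀ μ : (G ⧸ N) →* ℂˣ, twist μ χ = χ → μ = 1 := by
    intro χ hχ μ hμ
    refine MonoidHom.ext fun q => ?_
    obtain ⟨g, rfl⟩ := QuotientGroup.mk'_surjective N q
    obtain ⟨n, hn, x, hx, rfl⟩ := Subgroup.mem_sup_of_normal_left.1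
      (show g ∈ N ⊔ P by rw [hNP]; exact Subgroup.mem_top g)
    obtain ⟨s, hs, hne⟩ := exists_apply_ne_zero hM hB hP hab hx hχ
    have h := congrFun (congrArg Subtype.val hμ) (x * s)
    rw [twist_apply, QuotientGroup.mk_mul, (QuotientGroup.eq_one_iff s).2 (regular_mem hNi hs),
      mul_one] at h
    have h1 : μ (x : G ⧸ N) = 1 := Units.ext ((mul_eq_right₀ hne).1 h)
    show μ ((n * x : G) : G ⧸ N) = 1
    rw [QuotientGroup.mk_mul, (QuotientGroup.eq_one_iff n).2 hn, one_mul, h1]
  have horth : ∀ χ χ' : IrrCharacter G, classInner (χ : G → ℂ) (χ' : G → ℂ) =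
      if χ = χ' then 1 else 0 := by
    intro χ χ'
    split_ifs with h
    · subst h; exact IsIrrCharacter.classInner_self χ.2
    · exact IsIrrCharacter.classInner_of_ne χ.2 χ'.2 fun he => h (Subtype.ext he)
  have hirr : ∀ χ ∈ B, IsIrrCharacter N (fun n : N => (χ : G → ℂ) n) := by
    intro χ hχ
    refine IsCharacter.isIrrCharacter_of_classInner_self
      (IsCharacter.restrict (isCharacter_irr χ) N) ?_
    rw [← hkey, sum_eq_single (1 : (G ⧸ N) →* ℂˣ)]
    · rw [show twist (1 : (G ⧸ N) →* ℂˣ) χ = χ from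
        Subtype.ext (funext fun g => by simp [twist_apply]), horth, if_pos rfl]
    · intro μ _ hμ
      rw [horth, if_neg fun h => hμ (hfree χ hχ μ h)]
    · simp
  obtain ⟨χ₀, hχ₀, θ₀, hθ₀, hc₀⟩ := hcov
  have hcov : Covers B b := ⟨χ₀, hχ₀, θ₀, hθ₀, hc₀⟩
  refine ⟨fun χ hχ => ?_, fun θ hθ => ?_⟩
  · obtain ⟨θ, hθ, hc⟩ := exists_constituent_of_cong (χ := χ) hb hθ₀ fun n =>
      covering_cong hB hb hχ₀ hθ₀ hc₀ hχ hθ₀ n
    have hh : (fun n : N => (χ : G → ℂ) n) = (θ : N → ℂ) := by
      by_contra hne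
      exact hc (IsIrrCharacter.classInner_of_ne (hirr χ hχ) θ.2 hne)
    exact ⟨θ, hθ, fun n => congrFun hh n⟩
  · obtain ⟨χ₁, hχ₁, hc₁⟩ := CfsgLib.BrauerPairs.exists_over_of_covers hM hB hb hχ₀ hθ₀ hc₀ hθ
    have hres : (fun n : N => (χ₁ : G → ℂ) n) = (θ : N → ℂ) := by
      by_contra hne
      exact hc₁ (IsIrrCharacter.classInner_of_ne (hirr χ₁ hχ₁) θ.2 hne)
    have hresμ : ∀ μ, (fun n : N => (twist μ χ₁ : G → ℂ) n) = (θ : N → ℂ) := fun μ => by
      rw [← hres]; exact funext fun n => twist_res μ χ₁ n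
    have hmem : ∀ μ, twist μ χ₁ ∈ B := fun μ => mem_of_over hM hNi hb hB hcov hθ (by
      rw [hresμ, IsIrrCharacter.classInner_self θ.2]; exact one_ne_zero)
    rw [← hcardhom, ← Nat.card_eq_fintype_card]
    refine (Nat.card_eq_of_bijective (fun μ => (⟨twist μ χ₁, hmem μ,
      fun n => congrFun (hresμ μ) n⟩ : {χ : IrrCharacter G //
        χ ∈ B ∧ ∀ n : N, (χ : G → ℂ) n = (θ : N → ℂ) n})) ⟨fun μ ν h => ?_, ?_⟩).symm
    · have h' : twist μ χ₁ = twist ν χ₁ := congrArg Subtype.val h
      have h1 := hfree χ₁ hχ₁ (μ * ν⁻¹) (Subtype.ext (funext fun g => by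
        have h2 := congrFun (congrArg Subtype.val h') g
        rw [twist_apply, twist_apply] at h2
        rw [twist_apply, MonoidHom.mul_apply, MonoidHom.inv_apply, Units.val_mul,
          mul_comm (μ _ : ℂ), mul_assoc, h2, ← mul_assoc, ← Units.val_mul, inv_mul_cancel,
          Units.val_one, one_mul]))
      exact mul_inv_eq_one.1 h1
    · rintro ⟨χ', hχ', hres'⟩
      obtain ⟨μ, -, hμ⟩ : ∃ μ ∈ (univ : Finset ((G ⧸ N) →* ℂˣ)),
          classInner (twist μ χ₁ : G → ℂ) (χ' : G → ℂ) ≠ 0 := by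
        refine exists_ne_zero_of_sum_ne_zero ?_
        rw [hkey, hres, show (fun n : N => (χ' : G → ℂ) n) = (θ : N → ℂ) from funext hres',
          IsIrrCharacter.classInner_self θ.2]
        exact one_ne_zero
      rw [horth] at hμ
      exact ⟨μ, Subtype.ext (by by_contra hne; rw [if_neg hne] at hμ; exact hμ rfl)⟩

/-- **The block of a normal subgroup of `p`-power index under an abelian defect group.** -/
theorem main (hM : IsPModular p M) (hNi : ∃ k : ℕ, N.index = p ^ k) (hb : IsPBlock M b)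
    (hstab : ∀ g : G, StabilizesBlock N b g) (hB : IsPBlock M B) (hcov : Covers B b)
    (hP : IsDefectGroup p M B P) (hab : ∀ x ∈ P, ∀ z ∈ P, x * z = z * x) :
    N ⊔ P = ⊤ ∧ IsDefectGroup p M b ((P ⊓ N).subgroupOf N) ∧
      (∀ χ ∈ B, ∃ θ ∈ b, ∀ n : N, (χ : G → ℂ) n = (θ : N → ℂ) n) ∧
      (∀ θ ∈ b, Nat.card {χ : IrrCharacter G //
        χ ∈ B ∧ ∀ n : N, (χ : G → ℂ) n = (θ : N → ℂ) n} = N.index) ∧
      Nat.card B = N.index * Nat.card b ∧ blockRank p B = blockRank p b := by
  classical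
  obtain ⟨g, hg, S, hS⟩ := id hP
  have hgN : g ∈ N := regular_mem hNi (defectClass_regular hM hB hg)
  set y : N := ⟨g, hgN⟩ with hy
  obtain ⟨htop, hθy⟩ := sup_eq_top hM hNi hb hstab hB hcov (y := y) hg S
  have hNP : N ⊔ P = ⊤ := by rw [hS]; exact htop
  obtain ⟨hres, hcnt⟩ := restrict_data hM hNi hb hstab hB hcov hP hab hNP
  letI := irrFintype (G := G)
  letI := irrFintype (G := N)
  haveI : Nonempty (IrrCharacter N) := ⟨hcov.choose_spec.2.choose⟩
  choose! r hr hr' using hres
  -- every fibre of the restriction has `[G : N]` members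
  have hfib : ∀ θ ∈ b, ((univ.filter (· ∈ B)).filter fun χ => r χ = θ).card = N.index := by
    intro θ hθ
    rw [← Nat.card_eq_finsetCard, ← hcnt θ hθ]
    refine Nat.card_congr (Equiv.subtypeEquivRight fun χ => ?_)
    simp only [mem_filter, mem_univ, true_and]
    refine and_congr_right fun hχ => ⟨fun h n => h ▸ hr' χ hχ n, fun h => Subtype.ext ?_⟩
    exact funext fun n => (hr' χ hχ n).symm.trans (h n)
  have hmaps : ∀ χ ∈ univ.filter (· ∈ B), r χ ∈ univ.filter (· ∈ b) := fun χ hχ =>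
    mem_filter.2 ⟨mem_univ _, hr χ (mem_filter.1 hχ).2⟩
  have hcoeff : blockCoeff b y = blockCoeff B g := by
    rw [blockCoeff_eq_sum, blockCoeff_eq_sum,
      ← sum_fiberwise_of_maps_to hmaps (fun χ => (χ : G → ℂ) 1 * conj ((χ : G → ℂ) g)),
      mul_sum, mul_sum]
    refine sum_congr rfl fun θ hθ => ?_
    refine Eq.trans ?_ (congrArg ((Nat.card G : ℂ)⁻¹ * ·) (Eq.symm (sum_eq_card_nsmul
      (b := (θ : N → ℂ) 1 * conj ((θ : N → ℂ) y)) fun χ hχ => ?_)))
    · have hcard : (Nat.card G : ℂ) = (Nat.card N : ℂ) * (N.index : ℂ) := by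
        rw [← Nat.cast_mul, Subgroup.card_mul_index]
      have hi : (N.index : ℂ) ≠ 0 := Nat.cast_ne_zero.2 Subgroup.index_ne_zero_of_finite
      have hn : (Nat.card N : ℂ) ≠ 0 := Nat.cast_ne_zero.2 Nat.card_pos.ne'
      simp only [hfib θ (mem_filter.1 hθ).2, nsmul_eq_mul, hcard]
      field_simp
    · obtain ⟨hχB, hrχ⟩ := mem_filter.1 hχ
      have h1 := hr' χ (mem_filter.1 hχB).2
      rw [hrχ] at h1
      rw [← h1 y, ← h1 1]
      rfl
  refine ⟨hNP, ⟨y, ⟨hcoeff ▸ hg.1, hcoeff ▸ hg.2.1, hθy⟩, ?_⟩, fun χ hχ => ⟨r χ, hr χ hχ, hr' χ hχ⟩,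
    hcnt, ?_, ?_⟩
  · -- the defect group of `b`
    set Z := Subgroup.centralizer ({y} : Set N)
    have hPC : P ≤ Subgroup.centralizer ({g} : Set G) := hS ▸ Subgroup.map_subtype_le _
    set D : Subgroup N := (P ⊓ N).subgroupOf N
    have hDZ : D ≤ Z := fun d hd => Subgroup.mem_centralizer_singleton_iff.2
      (Subtype.ext (Subgroup.mem_centralizer_singleton_iff.1 (hPC hd.1)))
    have hPp : IsPGroup p P := by rw [hS]; exact IsPGroup.map S.isPGroup' _
    have hDp : IsPGroup p D :=
      (hPp.to_le inf_le_left).of_equiv (Subgroup.subgroupOfEquivOfLe inf_le_right).symm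
    obtain ⟨S', hS'⟩ := (hDp.of_equiv (Subgroup.subgroupOfEquivOfLe hDZ).symm).exists_le_sylow
    refine ⟨S', Subgroup.eq_of_le_of_card_ge ?_ ?_⟩
    · intro d hd
      exact ⟨⟨d, hDZ hd⟩, hS' hd, rfl⟩
    · let f : Z →* Subgroup.centralizer ({g} : Set G) :=
        { toFun := fun z => ⟨((z : N) : G), Subgroup.mem_centralizer_singleton_iff.2
            (congrArg Subtype.val (Subgroup.mem_centralizer_singleton_iff.1 z.2))⟩
          map_one' := rfl
          map_mul' := fun _ _ => rfl }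
      obtain ⟨S₁, hS₁⟩ := (IsPGroup.map S'.isPGroup' f).exists_le_sylow
      obtain ⟨c, hc⟩ := MulAction.exists_smul_eq (Subgroup.centralizer ({g} : Set G)) S₁ S
      rw [Subgroup.card_map_of_injective (Subgroup.subtype_injective _)]
      refine Nat.card_le_card_of_injective (fun z : (S' : Subgroup Z) =>
        (⟨⟨(c : G) * ((z : Z) : N) * (c : G)⁻¹, hN.conj_mem _ ((z : Z) : N).2 _⟩, ?_, ?_⟩ : D))
        fun z z' h => ?_
      · have hmem : c * f z * c⁻¹ ∈ (S : Subgroup (Subgroup.centralizer ({g} : Set G))) := by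
          rw [← hc, Sylow.coe_subgroup_smul]
          exact ⟨f z, hS₁ ⟨z, z.2, rfl⟩, rfl⟩
        rw [hS]
        exact ⟨_, hmem, rfl⟩
      · exact hN.conj_mem _ ((z : Z) : N).2 _
      · have h1 := congrArg (fun d : D => ((d : N) : G)) h
        exact Subtype.ext (Subtype.ext (Subtype.ext (mul_left_cancel (mul_right_cancel h1))))
  · have h1 : (univ.filter (· ∈ B)).card = N.index * (univ.filter (· ∈ b)).card := by
      rw [card_eq_sum_card_fiberwise hmaps, sum_congr rfl fun θ hθ => hfib θ (mem_filter.1 hθ).2,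
        sum_const, smul_eq_mul, mul_comm]
    simpa [Nat.card_eq_fintype_card, Fintype.card_subtype] using h1
  · -- the rank
    let E : (N → ℂ) →ₗ[ℂ] (G → ℂ) :=
      { toFun := fun f g => if h : g ∈ N then f ⟨g, h⟩ else 0
        map_add' := fun f f' => funext fun g => by
          by_cases h : g ∈ N <;> simp [h]
        map_smul' := fun a f => funext fun g => by
          by_cases h : g ∈ N <;> simp [h] }
    have hE : Function.Injective E := fun f f' h => funext fun n => by
      have := congrFun h (n : G)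
      simpa [E] using this
    have hEr : ∀ χ ∈ B, E (pRegularPart p (r χ : N → ℂ)) = pRegularPart p (χ : G → ℂ) := by
      intro χ hχ
      funext w
      show (if h : w ∈ N then pRegularPart p (r χ : N → ℂ) ⟨w, h⟩ else 0) = _
      rw [pRegularPart_eq, pRegularPart_eq]
      by_cases hw : p ∣ orderOf w
      · rw [regPart_of_dvd hw]
        split_ifs with h
        · exact regPart_of_dvd (by rwa [Subgroup.orderOf_mk])
        · rfl
      · rw [dif_pos (regular_mem hNi hw), regPart_of_not_dvd hw,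
          regPart_of_not_dvd (by rwa [Subgroup.orderOf_mk]), ← hr' χ hχ]
    have himg : (fun χ : IrrCharacter G => pRegularPart p (χ : G → ℂ)) '' B =
        E '' ((fun θ : IrrCharacter N => pRegularPart p (θ : N → ℂ)) '' b) := by
      ext f
      constructor
      · rintro ⟨χ, hχ, rfl⟩
        exact ⟨_, ⟨r χ, hr χ hχ, rfl⟩, hEr χ hχ⟩
      · rintro ⟨_, ⟨θ, hθ, rfl⟩, rfl⟩
        obtain ⟨χ, hχ⟩ : ((univ.filter (· ∈ B)).filter fun χ => r χ = θ).Nonempty := by
          rw [← card_pos, hfib θ hθ]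
          exact Nat.pos_of_ne_zero Subgroup.index_ne_zero_of_finite
        obtain ⟨hχB, hrχ⟩ := mem_filter.1 hχ
        exact ⟨χ, (mem_filter.1 hχB).2, by rw [← hrχ]; exact (hEr χ (mem_filter.1 hχB).2).symm⟩
    rw [blockRank, blockRank, himg, Submodule.span_image]
    exact (Submodule.equivMapOfInjective E hE _).finrank_eq.symm

end CfsgLib.PPowerIndex
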