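import Cfsg.Agent.BlocksB.IdempotentSupport
import Cfsg.Agent.PLocal.PConstrained
import Cfsg.Agent.Blocks.Regular
import Cfsg.Agent.S0867

/-!
# Idempotents of `p`-soluble groups vanishing on singular elements

In a finite `p`-soluble group an idempotent class function which vanishes at the `p`-singular
elements takes its values in the local ring.  Induction through inertia subgroups of characters of
the `p'`-core reduces this to the invariant case, where the support lemma and self-centralisation
of the `p`-core of the quotient confine the idempotent to the `p'`-core.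
-/

set_option autoImplicit false
set_option linter.unusedSectionVars false
set_option linter.style.haveILetI false

namespace CfsgLib.Block.CentralIdem

open Cfsg Finset CfsgLib.Block CfsgLib.Block.Chr
open scoped ComplexConjugate

universe u

variable {p : ℕ} [Fact p.Prime] {G : Type u} [Group G] [Fintype G]

/-- The canonical extension of an invariant character of a normal `p'`-subgroup is invariant. -/
theorem exists_invariant_extension {N L : Subgroup G} [N.Normal] [L.Normal] (hNL : N ≤ L)
    (hN : ¬ p ∣ Nat.card N) {a : ℕ} (ha : N.relIndex L = p ^ a) {θ : N → ℂ}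
    (hθ : IsIrrCharacter N θ) (hinv : ∀ g : G, CfsgLib.Char.conjOn g θ = θ) :
    ∃ η : L → ℂ, IsIrrCharacter L η ∧ (∀ n : N, η (Subgroup.inclusion hNL n) = θ n) ∧
      ∀ (g : G) (v : L), η (MulAut.conjNormal g v) = η v := by
  classical
  have hp : p.Prime := Fact.out
  set j := Subgroup.subgroupOfEquivOfLe hNL with hj
  set θ' : N.subgroupOf L → ℂ := fun x => θ (j x) with hθ'
  have hθ'i : IsIrrCharacter (N.subgroupOf L) θ' :=
    CfsgLib.Char.IsIrrCharacter.comp_surjective hθ j.toMonoidHom j.surjective
  obtain ⟨d, -, hd⟩ := CfsgLib.Char.IsIrrCharacter.exists_degree hθ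
  have hd' : θ' 1 = d := by rw [hθ']; simp [hd]
  have hcard : Nat.card (N.subgroupOf L) = Nat.card N := Nat.card_congr j.toEquiv
  obtain ⟨f, hf, -⟩ :=
    CfsgLib.Char.exists_detHom (CfsgLib.Char.IsIrrCharacter.isCharacter hθ'i) hd'
  have hdet : detOrder θ' ∣ Nat.card N := by
    rw [detOrder, funext hf, CfsgLib.Char.orderOf_coe_hom, ← hcard]
    exact orderOf_dvd_of_pow_eq_one (MonoidHom.ext fun x => by
      rw [MonoidHom.pow_apply, ← map_pow, pow_card_eq_one', map_one, MonoidHom.one_apply])
  have hpa : ∀ {k : ℕ}, k ∣ Nat.card N → Nat.Coprime (p ^ a) k := fun hk =>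
    (hp.coprime_iff_not_dvd.2 fun h => hN (h.trans hk)).pow_left a
  have hidx : (N.subgroupOf L).index = p ^ a := ha
  have hcop : Nat.Coprime (N.subgroupOf L).index (detOrder θ' * d) := by
    rw [hidx]
    exact (hpa hdet).mul_right (hpa (CfsgLib.Char.IsIrrCharacter.degree_dvd_card hθ hd))
  have hinv' : ∀ (x : L) (y : N.subgroupOf L),
      θ' ⟨x * y * x⁻¹, (inferInstance : (N.subgroupOf L).Normal).conj_mem _ y.2 x⟩ = θ' y :=
    fun x y => congrFun (hinv (x : G)) (j y)
  obtain ⟨η, ⟨hη, hηN, hηd⟩, huniq⟩ :=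
    Cfsg.Agent.S0867.result (N.subgroupOf L) θ' hθ'i hinv' d hd' hcop
  have hres : ∀ n : N, η (Subgroup.inclusion hNL n) = θ n := fun n => by
    have := hηN (j.symm n)
    simp only [hθ', MulEquiv.apply_symm_apply] at this
    exact this
  refine ⟨η, hη, hres, fun g v => congrFun (huniq (fun x => η (MulAut.conjNormal g x))
    (CfsgLib.Char.IsIrrCharacter.comp_surjective hη (MulAut.conjNormal g).toMonoidHom
      (MulAut.conjNormal g).surjective) (fun y => ?_) ?_) v⟩
  · have hmem : g * ((y : L) : G) * g⁻¹ ∈ N :=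
      Subgroup.Normal.conj_mem inferInstance _ (Subgroup.mem_subgroupOf.1 y.2) g
    have h2 : MulAut.conjNormal g (y : L) = Subgroup.inclusion hNL ⟨_, hmem⟩ := Subtype.ext (by
      simp)
    rw [h2, hres]
    exact congrFun (hinv g) (j y)
  · obtain ⟨m, R, -, rfl⟩ := hη
    let c : L →* L := (MulAut.conjNormal g : MulAut L).toMonoidHom
    obtain ⟨D, hD, -⟩ := CfsgLib.Char.exists_detHom (χ := R.character) ⟨m, R, rfl⟩
      (d := m) (char_one_eq R)
    have hDc : ∀ x : L, detChar (fun x : L => R.character (MulAut.conjNormal g x)) x =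
        ((D.comp c) x : ℂˣ) := fun x => by
      rw [show (fun x : L => R.character (MulAut.conjNormal g x)) =
        Representation.character (R.comp c : Representation ℂ L (Fin m → ℂ)) from rfl,
        CfsgLib.Char.detChar_eq, MonoidHom.comp_apply D, ← hD, CfsgLib.Char.detChar_eq]
      rfl
    suffices h : detOrder (fun x : L => R.character (MulAut.conjNormal g x)) ∣ detOrder θ' from
      (Nat.Coprime.coprime_dvd_right (dvd_mul_right _ _) hcop).coprime_dvd_right h
    rw [← hηd, detOrder, detOrder, funext hD, funext hDc, CfsgLib.Char.orderOf_coe_hom,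
        CfsgLib.Char.orderOf_coe_hom]
    exact orderOf_dvd_of_pow_eq_one (MonoidHom.ext fun x => by
      rw [MonoidHom.pow_apply, MonoidHom.comp_apply, ← MonoidHom.pow_apply, pow_orderOf_eq_one,
        MonoidHom.one_apply, MonoidHom.one_apply])

variable (N : Subgroup G) [hNn : N.Normal] [Fintype N]

/-- The component of a function at an irreducible character of a normal subgroup. -/
noncomputable def part (e : G → ℂ) (θ : IrrCharacter N) : G → ℂ :=
  conv e (ext0 N (blockCoeff ({θ} : Set (IrrCharacter N))))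

theorem sum_part [Fintype (IrrCharacter N)] {e : G → ℂ} (he : IsClassFunction G e) (x : G) :
    ∑ θ : IrrCharacter N, part N e θ x = e x := by
  classical
  simp only [part, conv_ext0_right he]
  rw [sum_comm]
  simp only [← mul_sum, sum_blockCoeff_singleton]
  rw [sum_eq_single (1 : N) (fun n _ hn => by rw [deltaOne_of_ne hn, mul_zero]) (by simp)]
  simp [deltaOne_one]

theorem conv_part_self {e : G → ℂ} (he : IsClassFunction G e) (hee : conv e e = e)
    (θ : IrrCharacter N) : conv (part N e θ) (part N e θ) = part N e θ := by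
  classical
  unfold part
  set w := ext0 N (blockCoeff ({θ} : Set (IrrCharacter N))) with hw
  rw [conv_assoc e w, ← conv_assoc w e w, ← conv_comm he w, conv_assoc e w w, ← conv_assoc e e,
    hee, hw, conv_ext0_ext0, conv_blockCoeff_self]

theorem part_eq_zero_of_dvd (hN : ¬ p ∣ Nat.card N) {e : G → ℂ} (he : IsClassFunction G e)
    (hreg : ∀ x, p ∣ orderOf x → e x = 0) (θ : IrrCharacter N) {x : G} (hx : p ∣ orderOf x) :
    part N e θ x = 0 := by
  rw [part, conv_ext0_right he]
  refine sum_eq_zero fun n _ => ?_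
  rw [hreg _ ((dvd_orderOf_mul_mem hN x (N.inv_mem n.2)).2 hx), zero_mul]

theorem blockCoeff_conj_mem_inertia {θ : IrrCharacter N} {t : G}
    (ht : t ∈ CfsgLib.Char.inertia (θ : N → ℂ)) (n : N) :
    blockCoeff ({θ} : Set (IrrCharacter N)) (MulAut.conjNormal t n) =
      blockCoeff ({θ} : Set (IrrCharacter N)) n := by
  rw [blockCoeff_singleton, blockCoeff_singleton]
  congr 3
  rw [← congrFun (CfsgLib.Char.conjOn_eq_comp t (θ : N → ℂ)) n,
    (CfsgLib.Char.mem_inertia _ t).1 ht]

theorem part_conj {e : G → ℂ} (he : IsClassFunction G e) (θ : IrrCharacter N) {t : G}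
    (ht : t ∈ CfsgLib.Char.inertia (θ : N → ℂ)) (x : G) :
    part N e θ (t * x * t⁻¹) = part N e θ x := by
  simp only [part, conv_ext0_right he]
  refine (Fintype.sum_equiv (MulAut.conjNormal t : MulAut N).toEquiv _ _ fun n => ?_).symm
  show _ = e (t * x * t⁻¹ * ((MulAut.conjNormal t n : N) : G)⁻¹) * _
  simp only [MulEquiv.toEquiv_eq_coe, EquivLike.coe_coe]
  rw [MulAut.conjNormal_apply, blockCoeff_conj_mem_inertia N ht,
    show t * x * t⁻¹ * (t * (n : G) * t⁻¹)⁻¹ = t * (x * (n : G)⁻¹) * t⁻¹ by group,
    he (x * (n : G)⁻¹) t]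

theorem part_supported {e : G → ℂ} (he : IsClassFunction G e) (θ : IrrCharacter N) (x : G)
    (hx : part N e θ x ≠ 0) : x ∈ CfsgLib.Char.inertia (θ : N → ℂ) := by
  classical
  by_contra hxT
  apply hx
  set ε := blockCoeff ({θ} : Set (IrrCharacter N)) with hε
  let θx : IrrCharacter N :=
    ⟨CfsgLib.Char.conjOn x (θ : N → ℂ), CfsgLib.Char.isIrrCharacter_conjOn θ.2 x⟩
  have hne : θ ≠ θx := fun h => hxT ((CfsgLib.Char.mem_inertia _ x).2 (congrArg Subtype.val h).symm)
  have hεx : ∀ n : N, blockCoeff ({θx} : Set (IrrCharacter N)) n = ε (MulAut.conjNormal x n) :=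
    fun n => by
    rw [hε, blockCoeff_singleton, blockCoeff_singleton]
    show _ * (CfsgLib.Char.conjOn x _ 1 * conj (CfsgLib.Char.conjOn x _ n)) = _
    rw [CfsgLib.Char.conjOn_apply_one, CfsgLib.Char.conjOn_eq_comp]
  -- the component is idempotent at the level of the subgroup
  have hdef : part N e θ = conv e (ext0 N ε) := rfl
  have hww : part N e θ = conv (ext0 N ε) (part N e θ) := by
    rw [hdef, conv_comm he, ← conv_assoc, conv_ext0_ext0, hε, conv_blockCoeff_self]
  rw [hww, conv_ext0_left]
  simp only [hdef, conv_ext0_right he, mul_sum]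
  calc ∑ n : N, ∑ k : N, ε n * (e ((n : G)⁻¹ * x * (k : G)⁻¹) * ε k)
      = ∑ n : N, ∑ k : N, e (x * (k : G)⁻¹) *
          (ε (MulAut.conjNormal x n) * ε (n⁻¹ * k)) := by
        refine Fintype.sum_equiv (MulAut.conjNormal x⁻¹ : MulAut N).toEquiv _ _ fun n => ?_
        refine Fintype.sum_equiv (Equiv.mulRight ((MulAut.conjNormal x⁻¹ : MulAut N) n)) _ _
          fun k => ?_
        have h1 : (MulAut.conjNormal x) ((MulAut.conjNormal x⁻¹ : MulAut N) n) = n :=
          Subtype.ext (by simp)
        have h2 : ε (((MulAut.conjNormal x⁻¹ : MulAut N) n)⁻¹ *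
            (k * (MulAut.conjNormal x⁻¹ : MulAut N) n)) = ε k := by
          rw [hε, classFun_mul_comm (isClassFunction_blockCoeff _), mul_inv_cancel_right]
        simp only [Equiv.coe_mulRight, MulEquiv.toEquiv_eq_coe, EquivLike.coe_coe, h1, h2]
        have h3 : x * ((k * (MulAut.conjNormal x⁻¹ : MulAut N) n : N) : G)⁻¹ =
            (n : G)⁻¹ * x * (k : G)⁻¹ := by
          simp only [Subgroup.coe_mul, MulAut.conjNormal_apply]
          group
        rw [h3]
        ring
    _ = 0 := by
      rw [sum_comm]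
      refine sum_eq_zero fun k _ => ?_
      rw [← mul_sum]
      refine mul_eq_zero_of_right _ ?_
      have h := congrFun (conv_singleton_of_ne (Ne.symm hne)) k
      simp only [conv, hεx, Pi.zero_apply, ← hε] at h
      exact h

/-- **Idempotent class functions vanishing on singular elements are integral.** -/
theorem idem_mem_local {M : Ideal AlgInt} [M.IsPrime] (hM : IsPModular p M) (k : ℕ) :
    ∀ (G : Type u) [Group G] [Fintype G], Nat.card G = k → IsPSolvable p G → ∀ e : G → ℂ,
      IsClassFunction G e → conv e e = e → (∀ x, p ∣ orderOf x → e x = 0) →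
      ∀ g, MemLocalRing M (e g) := by
  induction k using Nat.strong_induction_on with
  | _ k ih =>
  intro G _ _ hk hs e he hee hreg g
  classical
  have hp : p.Prime := Fact.out
  set N := pPrimeCore p G with hNdef
  haveI : N.Normal := CfsgLib.Solvable.pPrimeCore_normal p
  have hN : ¬ p ∣ Nat.card N := fun h =>
    (hp.coprime_iff_not_dvd.1 (CfsgLib.Solvable.coprime_card_pPrimeCore p).symm) h
  letI := irrFintype (G := N)
  rw [← sum_part N he g]
  refine memLocalRing_sum fun θ _ => ?_
  set T := CfsgLib.Char.inertia (θ : N → ℂ) with hT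
  set a := part N e θ with ha
  have haa : conv a a = a := conv_part_self N he hee θ
  have has : ∀ x, a x ≠ 0 → x ∈ T := part_supported N he θ
  have har : ∀ x, p ∣ orderOf x → a x = 0 := fun x => part_eq_zero_of_dvd N hN he hreg θ
  rcases eq_or_ne T ⊤ with hTtop | hTne
  swap
  · by_cases hg : g ∈ T
    · have hlt : Nat.card T < k := by
        rw [← hk]
        refine lt_of_le_of_ne (Nat.le_of_dvd Nat.card_pos (Subgroup.card_subgroup_dvd_card T))
          fun h => hTne (Subgroup.eq_top_of_card_eq T h)
      exact ih _ hlt T rfl (CfsgLib.PConstrained.isPSolvable_comap T.subtype T.subtype_injective hs)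
        (fun x : T => a x) (fun x t => part_conj N he θ t.2 x) (conv_restrict_self has haa)
        (fun x hx => har x (by rwa [Subgroup.orderOf_coe])) ⟨g, hg⟩
    · rw [show a g = 0 from not_not.1 fun h => hg (has g h)]
      exact memLocalRing_zero
  have hinv : ∀ x : G, CfsgLib.Char.conjOn x (θ : N → ℂ) = θ := fun x => by
    rw [← CfsgLib.Char.mem_inertia, ← hT, hTtop]; exact Subgroup.mem_top x
  have hac : IsClassFunction G a := fun x t => part_conj N he θ ((CfsgLib.Char.mem_inertia _ t).2
    (hinv t)) x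
  -- the section
  set π := QuotientGroup.mk' N with hπ
  set L := (pCore p (G ⧸ N)).comap π with hL
  haveI : L.Normal := (CfsgLib.Solvable.pCore_normal p).comap π
  have hNL : N ≤ L := fun x hx => by
    rw [hL, Subgroup.mem_comap, hπ, (QuotientGroup.eq_one_iff x).2 hx |>
      fun h : (QuotientGroup.mk' N) x = 1 => h]
    exact one_mem _
  obtain ⟨b, hb⟩ := IsPGroup.iff_card.1 (CfsgLib.Solvable.isPGroup_pCore p (G := G ⧸ N))
  have hidx : N.relIndex L = p ^ b := by
    rw [← hb, ← Subgroup.map_comap_eq_self_of_surjective (QuotientGroup.mk'_surjective N)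
      (pCore p (G ⧸ N)), ← Subgroup.relIndex_ker, QuotientGroup.ker_mk']
  obtain ⟨η, hη, hηN, hηinv⟩ := exists_invariant_extension hNL hN hidx θ.2 hinv
  have hres : (fun n : N => η (Subgroup.inclusion hNL n)) = (θ : N → ℂ) := funext hηN
  have hθ1 := irr_one_ne_zero θ
  have hcardN : (Nat.card N : ℂ) ≠ 0 := Nat.cast_ne_zero.2 Nat.card_pos.ne'
  have hθsum : ∀ x, ∑ n : N, a (x * (n : G)) * η (Subgroup.inclusion hNL n) =
      (Nat.card N : ℂ) / (θ : N → ℂ) 1 * a x := by
    intro x
    have h1 : conv a (ext0 N (blockCoeff ({θ} : Set (IrrCharacter N)))) = a := by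
      rw [ha, part, conv_assoc, conv_ext0_ext0, conv_blockCoeff_self]
    conv_rhs => rw [← h1, conv_ext0_right hac, mul_sum]
    refine Fintype.sum_equiv (Equiv.inv N) _ _ fun n => ?_
    rw [hηN, Equiv.inv_apply, blockCoeff_singleton, conj_irr, inv_inv, Subgroup.coe_inv, inv_inv]
    field_simp
  have hsupp := support_centralizes hNL hN hidx hη (hres ▸ θ.2) hηinv hac haa har
    (div_ne_zero hcardN hθ1) hθsum
  have hsc : CfsgLib.PConstrained.SelfCent p (G ⧸ N) :=
    CfsgLib.PConstrained.selfCent_of_pSolvable (CfsgLib.Fitting.pPrimeCore_quotient_eq_bot p)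
      (CfsgLib.PConstrained.isPSolvable_comap _ (Subgroup.subtype_injective _)
        (CfsgLib.PConstrained.isPSolvable_map π (QuotientGroup.mk'_surjective N) hs))
  have hsN : ∀ x, a x ≠ 0 → x ∈ N := by
    intro x hx
    refine mem_of_mem_pQuotient hidx ?_ fun h => hx (har x h)
    refine hsc (Subgroup.mem_centralizer_iff.2 fun r hr => ?_)
    obtain ⟨v, rfl⟩ := QuotientGroup.mk'_surjective N r
    have h1 : π (x⁻¹ * v * x * v⁻¹) = 1 :=
      (QuotientGroup.eq_one_iff _).2 (hsupp x hx v hr)
    rw [map_mul, map_mul, map_mul, map_inv, map_inv] at h1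
    rw [mul_inv_eq_one] at h1
    calc π v * π x = π x * ((π x)⁻¹ * π v * π x) := by group
      _ = π x * π v := by rw [h1]
  by_cases hg : g ∈ N
  · exact mem_local_of_not_dvd_card hM hN (e := fun x : N => a x) (fun x t => hac x t)
      (conv_restrict_self hsN haa) ⟨g, hg⟩
  · rw [show a g = 0 from not_not.1 fun h => hg (hsN g h)]
    exact memLocalRing_zero

end CfsgLib.Block.CentralIdem
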