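import Cfsg.Agent.BlocksB.InducedDefect
import Cfsg.Agent.BrauerPairs.LocalBridge
import Cfsg.Agent.Blocks.Correspond
import Cfsg.Agent.Blocks.Principal
import Cfsg.Agent.S3743
import Cfsg.Prelude.Def_OddOrderLocal

/-!
# Normal subgroups of order prime to `p` in the kernels along Brauer pairs
-/

namespace CfsgLib.BlockB

open Cfsg CfsgLib.Block CfsgLib.Block.Chr CfsgLib.BrauerPairs

set_option linter.unusedSectionVars false
set_option linter.style.haveILetI false

universe u

local notation "C[" Q "]" => Subgroup.centralizer (SetLike.coe Q)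
local notation "N[" Q "]" => Subgroup.normalizer (SetLike.coe Q)

/-! ### Averaging idempotents -/

section Avg

variable {k : Type*} [Field k] {G : Type*} [Group G] [Fintype G]

open scoped Classical in
/-- The average of the elements of a subgroup. -/
noncomputable def avg (k : Type*) [Field k] (N : Subgroup G) : MonoidAlgebra k G :=
  ofFun fun g => if g ∈ N then (Nat.card N : k)⁻¹ else 0

open scoped Classical in
theorem coeff_avg (N : Subgroup G) (g : G) :
    (avg k N).coeff g = if g ∈ N then (Nat.card N : k)⁻¹ else 0 := coeff_ofFun _ g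

theorem suppIn_avg (N : Subgroup G) : SuppIn N (avg k N) := fun g hg => by
  classical
  rw [coeff_avg, if_neg hg]

theorem fixBy_avg {N T : Subgroup G} (hT : T ≤ N[N]) : FixBy T (avg k N) := by
  classical
  refine fixBy_of_coeff fun t ht g => ?_
  rw [coeff_avg, coeff_avg]
  have h : t⁻¹ * g * t ∈ N ↔ g ∈ N := (Subgroup.mem_normalizer_iff''.1 (hT ht) g).symm
  simp only [h]

theorem avg_mem_alg {N C : Subgroup G} (hNC : N ≤ C) (hC : C ≤ N[N]) :
    avg k N ∈ alg k C C := ⟨(suppIn_avg N).mono hNC, fixBy_avg hC⟩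

theorem avg_mul_avg_of_le {N' N : Subgroup G} (h : N' ≤ N) (h0 : (Nat.card N' : k) ≠ 0) :
    avg k N' * avg k N = avg k N := by
  classical
  refine coeff_ext fun g => ?_
  rw [coeff_mul, coeff_avg]
  have hx : ∀ x : G, (avg k N').coeff x * (avg k N).coeff (x⁻¹ * g) =
      if x ∈ N' then (Nat.card N' : k)⁻¹ * (if g ∈ N then (Nat.card N : k)⁻¹ else 0) else 0 := by
    intro x
    rw [coeff_avg, coeff_avg]
    by_cases hx : x ∈ N'
    · have e : x⁻¹ * g ∈ N ↔ g ∈ N := N.mul_mem_cancel_left (N.inv_mem (h hx))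
      simp only [hx, if_true, e]
    · simp [hx]
  rw [Finset.sum_congr rfl fun x _ => hx x, ← Finset.sum_filter, Finset.sum_const, nsmul_eq_mul,
    show (Finset.univ.filter fun x => x ∈ N').card = Nat.card N' by
      rw [Nat.card_eq_fintype_card, Fintype.card_subtype],
    mul_inv_cancel_left₀ h0]

theorem mul_self_avg {N : Subgroup G} (h0 : (Nat.card N : k) ≠ 0) :
    avg k N * avg k N = avg k N := avg_mul_avg_of_le le_rfl h0

theorem br_avg {p : ℕ} [Fact p.Prime] [CharP k p] {P N : Subgroup G} (hP : IsPGroup p P)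
    (hN : P ≤ N[N]) (h0 : (Nat.card N : k) ≠ 0) :
    br P (avg k N) = avg k (N ⊓ C[P]) := by
  classical
  have hid : br P (avg k N) * br P (avg k N) = br P (avg k N) :=
    br_idem hP (mul_self_avg h0) (fixBy_avg hN)
  set K := N ⊓ C[P]
  set c : k := (Nat.card N : k)⁻¹
  have hc : ∀ g, (br P (avg k N)).coeff g = if g ∈ K then c else 0 := by
    intro g
    rw [coeff_br, coeff_avg]
    by_cases h1 : g ∈ C[P] <;> by_cases h2 : g ∈ N <;> simp [K, Subgroup.mem_inf, h1, h2, c]
  have hsq : (Nat.card K : k) * (c * c) = c := by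
    have h := congrArg (fun a : MonoidAlgebra k G => a.coeff 1) hid
    simp only [coeff_mul, hc, mul_one, K.one_mem, if_true] at h
    have hx : ∀ x : G, (if x ∈ K then c else 0) * (if x⁻¹ ∈ K then c else 0) =
        if x ∈ K then c * c else 0 := by
      intro x
      by_cases hx : x ∈ K
      · simp [hx]
      · simp [hx, mt K.inv_mem_iff.1 hx]
    rw [Finset.sum_congr rfl fun x _ => hx x, ← Finset.sum_filter, Finset.sum_const, nsmul_eq_mul,
      show (Finset.univ.filter fun x => x ∈ K).card = Nat.card K by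
        rw [Nat.card_eq_fintype_card, Fintype.card_subtype]] at h
    exact h
  have hcK : (Nat.card K : k)⁻¹ = c := by
    refine inv_eq_of_mul_eq_one_right (mul_right_cancel₀ (inv_ne_zero h0) ?_)
    rw [mul_assoc, one_mul]
    exact hsq
  refine coeff_ext fun g => ?_
  rw [hc, coeff_avg, hcK]

theorem cj_avg (x : G) (N : Subgroup G) :
    cj k x (avg k N) = avg k (N.map (MulAut.conj x).toMonoidHom) := by
  classical
  refine coeff_ext fun g => ?_
  rw [coeff_cj, coeff_avg, coeff_avg,
    Subgroup.card_map_of_injective (f := (MulAut.conj x).toMonoidHom) (MulAut.conj x).injective]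
  have h : x⁻¹ * g * x ∈ N ↔ g ∈ N.map (MulAut.conj x).toMonoidHom := by
    rw [Subgroup.mem_map_equiv, MulAut.conj_symm_apply]
  simp only [h]

end Avg

/-! ### The core of a set of primes inside a subgroup -/

section Core

variable {G : Type*} [Group G] [Finite G] {σ : Set ℕ}

theorem le_piCoreOf {X N : Subgroup G} (hNX : N ≤ X) (hX : X ≤ N[N])
    (hσ : ∀ q : ℕ, q.Prime → q ∣ Nat.card N → q ∈ σ) : N ≤ piCoreOf σ X := by
  rw [piCoreOf, ← Subgroup.map_subgroupOf_eq_of_le hNX]
  refine Subgroup.map_mono (le_sSup ⟨(Subgroup.normal_subgroupOf_iff_le_normalizer hNX).2 hX, ?_⟩)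
  intro q hq hd
  rw [Nat.card_congr (Subgroup.subgroupOfEquivOfLe hNX).toEquiv] at hd
  exact hσ q hq hd

theorem piCoreOf_le (X : Subgroup G) : piCoreOf σ X ≤ X := Subgroup.map_subtype_le _

theorem prime_dvd_piCoreOf (X : Subgroup G) :
    ∀ q : ℕ, q.Prime → q ∣ Nat.card (piCoreOf σ X) → q ∈ σ := by
  intro q hq hd
  rw [piCoreOf, Subgroup.card_map_of_injective X.subtype_injective] at hd
  exact Cfsg.Agent.S3743.isPi_of_sup _ (fun N hN => hN.1) (fun N hN => hN.2) q hq hd

theorem le_normalizer_piCoreOf (X : Subgroup G) : X ≤ N[piCoreOf σ X] := by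
  rw [← Subgroup.normal_subgroupOf_iff_le_normalizer (piCoreOf_le X), piCoreOf,
    ← Subgroup.comap_subtype, Subgroup.comap_map_eq_self_of_injective X.subtype_injective]
  exact Cfsg.piCore_normal σ X

theorem map_conj_piCoreOf_le (X : Subgroup G) (x : G) :
    (piCoreOf σ X).map (MulAut.conj x).toMonoidHom ≤
      piCoreOf σ (X.map (MulAut.conj x).toMonoidHom) := by
  refine le_piCoreOf (Subgroup.map_mono (piCoreOf_le X))
    ((Subgroup.map_mono (le_normalizer_piCoreOf X)).trans (Subgroup.le_normalizer_map _)) ?_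
  intro q hq hd
  rw [Subgroup.card_map_of_injective (f := (MulAut.conj x).toMonoidHom) (MulAut.conj x).injective]
    at hd
  exact prime_dvd_piCoreOf X q hq hd

theorem map_conj_piCoreOf (X : Subgroup G) (x : G) :
    (piCoreOf σ X).map (MulAut.conj x).toMonoidHom =
      piCoreOf σ (X.map (MulAut.conj x).toMonoidHom) := by
  refine le_antisymm (map_conj_piCoreOf_le X x) ?_
  have h := map_conj_piCoreOf_le (σ := σ) (X.map (MulAut.conj x).toMonoidHom) x⁻¹
  rw [CfsgLib.BrauerPairs.map_conj_map_conj, inv_mul_cancel, CfsgLib.BrauerPairs.map_conj_one] at h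
  have h2 := Subgroup.map_mono (f := (MulAut.conj x).toMonoidHom) h
  rwa [CfsgLib.BrauerPairs.map_conj_map_conj, mul_inv_cancel,
    CfsgLib.BrauerPairs.map_conj_one] at h2

theorem normalizer_le_normalizer_piCoreOf {X U : Subgroup G} (hU : U ≤ N[X]) :
    U ≤ N[piCoreOf σ X] := by
  intro u hu
  have h1 : ∀ v ∈ U, (piCoreOf σ X).map (MulAut.conj v).toMonoidHom = piCoreOf σ X := by
    intro v hv
    rw [map_conj_piCoreOf, CfsgLib.BrauerPairs.map_conj_eq_self (hU hv)]
  rw [Subgroup.mem_normalizer_iff]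
  intro w
  constructor
  · intro hw
    rw [← h1 u hu]
    exact ⟨w, hw, rfl⟩
  · intro hw
    rw [← h1 u⁻¹ (U.inv_mem hu)]
    refine ⟨_, hw, ?_⟩
    simp [mul_assoc]

theorem natCard_piCoreOf_ne_zero {k : Type*} [Field k] {p : ℕ} [Fact p.Prime] [CharP k p]
    (hσ : p ∉ σ) {X N : Subgroup G} (hN : N ≤ piCoreOf σ X) : (Nat.card N : k) ≠ 0 := fun h =>
  hσ (prime_dvd_piCoreOf X p Fact.out
    (((CharP.cast_eq_zero_iff k p _).1 h).trans (Subgroup.card_dvd_of_le hN)))

theorem mem_of_orderOf {X : Subgroup G} {c : G} (hc : c ∈ piCoreOf σ X) :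
    ∀ q : ℕ, q.Prime → q ∣ orderOf c → q ∈ σ := fun q hq hd =>
  prime_dvd_piCoreOf X q hq (hd.trans (Subgroup.orderOf_dvd_natCard _ hc))

end Core

/-! ### The kernel property along pairs -/

section Chain

variable {p : ℕ} [hp : Fact p.Prime] {k : Type*} [Field k] [hk : CharP k p]
  {G : Type*} [Group G] [Fintype G] {σ : Set ℕ}

/-- The core of `C(Q)` fixes the idempotent of the pair. -/
def Kills (σ : Set ℕ) (x : Subgroup G × MonoidAlgebra k G) : Prop :=
  avg k (piCoreOf σ C[x.1]) * x.2 = x.2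

/-- The core of `C(Q)` contains every element of `C(Q)` whose order has all primes in `σ`. -/
def HallCore (σ : Set ℕ) (Q : Subgroup G) : Prop :=
  ∀ c ∈ C[Q], (∀ q : ℕ, q.Prime → q ∣ orderOf c → q ∈ σ) → c ∈ piCoreOf σ C[Q]

/-- A normal subgroup of order prime to `p` fixes a pair exactly when its fixed points fix the
pair above. -/
theorem fix_step_iff {x y : Subgroup G × MonoidAlgebra k G} (h : NStep p x y) {N : Subgroup G}
    (hN : N ≤ C[x.1]) (hC : C[x.1] ≤ N[N]) (hy : y.1 ≤ N[N]) (h0 : (Nat.card N : k) ≠ 0) :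
    avg k N * x.2 = x.2 ↔ avg k (N ⊓ C[y.1]) * y.2 = y.2 := by
  obtain ⟨hx, hy', hle, hyN, hfix, hbr⟩ := h
  have hP := hy'.1
  have hbN := br_avg (k := k) hP hy h0
  have hmul : br y.1 (avg k N * x.2) * y.2 = avg k (N ⊓ C[y.1]) * y.2 := by
    rw [br_mul hP (fixBy_avg hy) hfix, mul_assoc, hbr, hbN]
  constructor
  · intro hk
    rw [← hmul, hk, hbr]
  · intro hk
    have hS := alg_comm (k := k) (le_refl C[x.1])
    have hmem := avg_mem_alg (k := k) hN hC
    rcases hx.2.mul_eq_zero_or hmem (mul_self_avg h0) with h | h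
    · exfalso
      refine hy'.2.ne_zero ?_
      rw [← hk, ← hmul, hS _ hmem _ hx.2.mem, h, map_zero, zero_mul]
    · rw [hS _ hmem _ hx.2.mem]
      exact h

theorem Kills.mono {x : Subgroup G × MonoidAlgebra k G} (h : Kills σ x) (hσ : p ∉ σ)
    {N : Subgroup G} (hN : N ≤ piCoreOf σ C[x.1]) : avg k N * x.2 = x.2 := by
  rw [Kills] at h
  rw [← h, ← mul_assoc, avg_mul_avg_of_le hN (natCard_piCoreOf_ne_zero hσ hN)]

theorem step_normalizes {x y : Subgroup G × MonoidAlgebra k G} (h : NStep p x y) :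
    y.1 ≤ N[piCoreOf σ C[x.1]] :=
  normalizer_le_normalizer_piCoreOf (h.2.2.2.1.trans map_normalizer_centralizer)

theorem inf_le_piCoreOf {x y : Subgroup G × MonoidAlgebra k G} (h : NStep p x y) :
    piCoreOf σ C[x.1] ⊓ C[y.1] ≤ piCoreOf σ C[y.1] := by
  have hle : C[y.1] ≤ C[x.1] := Subgroup.centralizer_le (SetLike.coe_subset_coe.mpr h.2.2.1)
  refine le_piCoreOf inf_le_right ?_ fun q hq hd =>
    prime_dvd_piCoreOf _ q hq (hd.trans (Subgroup.card_dvd_of_le inf_le_left))
  intro c hc
  rw [Subgroup.mem_normalizer_iff]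
  intro z
  have h1 := Subgroup.mem_normalizer_iff.1 (le_normalizer_piCoreOf (σ := σ) C[x.1] (hle hc)) z
  simp only [Subgroup.mem_inf, h1]
  exact and_congr_right fun _ =>
    ⟨fun hz => mul_mem (mul_mem hc hz) (inv_mem hc),
      fun hz => by simpa [mul_assoc] using mul_mem (mul_mem (inv_mem hc) hz) hc⟩

theorem Kills.down {x y : Subgroup G × MonoidAlgebra k G} (h : NStep p x y) (hσ : p ∉ σ)
    (hy : Kills σ y) : Kills σ x :=
  (fix_step_iff h (piCoreOf_le _) (le_normalizer_piCoreOf _) (step_normalizes h)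
    (natCard_piCoreOf_ne_zero hσ le_rfl)).2 (hy.mono hσ (inf_le_piCoreOf h))

theorem Kills.up {x y : Subgroup G × MonoidAlgebra k G} (h : NStep p x y) (hσ : p ∉ σ)
    (hH : HallCore σ x.1) (hx : Kills σ x) : Kills σ y ∧ HallCore σ y.1 := by
  have hle : C[y.1] ≤ C[x.1] := Subgroup.centralizer_le (SetLike.coe_subset_coe.mpr h.2.2.1)
  have heq : piCoreOf σ C[x.1] ⊓ C[y.1] = piCoreOf σ C[y.1] :=
    le_antisymm (inf_le_piCoreOf h) fun c hc =>
      ⟨hH c (hle (piCoreOf_le _ hc)) (mem_of_orderOf hc), piCoreOf_le _ hc⟩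
  refine ⟨?_, fun c hc hcσ => inf_le_piCoreOf h ⟨hH c (hle hc) hcσ, hc⟩⟩
  have := (fix_step_iff h (piCoreOf_le _) (le_normalizer_piCoreOf _) (step_normalizes h)
    (natCard_piCoreOf_ne_zero hσ le_rfl)).1 hx
  rwa [heq] at this

theorem Kills.of_ple {x y : Subgroup G × MonoidAlgebra k G} (h : PLE p x y) (hσ : p ∉ σ)
    (hy : Kills σ y) : Kills σ x := by
  induction h using Relation.ReflTransGen.head_induction_on with
  | refl => exact hy
  | head hac _ ih => exact Kills.down hac hσ ih

theorem Kills.to_ple {x y : Subgroup G × MonoidAlgebra k G} (h : PLE p x y) (hσ : p ∉ σ)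
    (hH : HallCore σ x.1) (hx : Kills σ x) : Kills σ y ∧ HallCore σ y.1 := by
  induction h with
  | refl => exact ⟨hx, hH⟩
  | tail _ hbc ih => exact Kills.up hbc hσ ih.2 ih.1

theorem Kills.cj {x : Subgroup G × MonoidAlgebra k G} (h : Kills σ x) (g : G) :
    Kills σ (cjPair g x) := by
  show avg k (piCoreOf σ C[x.1.map (MulAut.conj g).toMonoidHom]) * BrauerPairs.cj k g x.2 =
    BrauerPairs.cj k g x.2
  rw [← CfsgLib.BrauerPairs.map_conj_centralizer, ← map_conj_piCoreOf, ← cj_avg, ← map_mul, h]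

theorem Kills.of_cj {x : Subgroup G × MonoidAlgebra k G} (g : G) (h : Kills σ (cjPair g x)) :
    Kills σ x := by
  have := h.cj g⁻¹
  rwa [← cjPair_mul, inv_mul_cancel, cjPair_one] at this

theorem HallCore.cj {Q : Subgroup G} (h : HallCore σ Q) (g : G) :
    HallCore σ (Q.map (MulAut.conj g).toMonoidHom) := by
  intro c hc hcσ
  rw [← CfsgLib.BrauerPairs.map_conj_centralizer] at hc ⊢
  rw [← map_conj_piCoreOf]
  obtain ⟨c', hc', rfl⟩ := hc
  refine Subgroup.mem_map_of_mem _ (h c' hc' fun q hq hd => hcσ q hq ?_)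
  rw [show orderOf ((MulAut.conj g).toMonoidHom c') = orderOf c' from
    (MulAut.conj g).orderOf_eq c']
  exact hd

/-- A maximal pair fixed by its core gives this to every pair of the block. -/
theorem kills_of_max {b : MonoidAlgebra k G} (hb : IsBlk k ⊤ b)
    {m : Subgroup G × MonoidAlgebra k G} (hm : IsMaxPair p b m) (hσ : p ∉ σ) (h : Kills σ m)
    {x : Subgroup G × MonoidAlgebra k G} (hx : IsPairOf p b x) : Kills σ x := by
  obtain ⟨g, hg⟩ := exists_conj_ple_max hb hm hx
  exact Kills.of_cj g (Kills.of_ple hg hσ h)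

/-- A pair fixed by a Hall core gives this to every maximal pair. -/
theorem kills_max_of_pair {b : MonoidAlgebra k G} (hb : IsBlk k ⊤ b)
    {m : Subgroup G × MonoidAlgebra k G} (hm : IsMaxPair p b m) (hσ : p ∉ σ)
    {x : Subgroup G × MonoidAlgebra k G} (hx : IsPairOf p b x) (hH : HallCore σ x.1)
    (h : Kills σ x) : Kills σ m := by
  obtain ⟨g, hg⟩ := exists_conj_ple_max hb hm hx
  exact (Kills.to_ple hg hσ (hH.cj g) (h.cj g)).1

end Chain

/-! ### Blocks of characters -/

section Blocks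

variable {G : Type u} [Group G] [Fintype G] {M : Ideal AlgInt} [M.IsPrime] {p : ℕ}
  [hp : Fact p.Prime] {σ : Set ℕ}

omit hp in
/-- A block of a subgroup containing the centralizer of `D` that induces `B` carries pairs of `B`
on `D`. -/
theorem isPairOf_of_induced_sub (hM : IsPModular p M) [Fact p.Prime] {D H : Subgroup G}
    (hD : IsPGroup p D) (hDH : D ≤ H) (hCH : C[D] ≤ H) {b : Set (IrrCharacter H)}
    {B : Set (IrrCharacter G)} (hind : IsInducedBlock M H b B)
    {f : MonoidAlgebra (Residue M) G} (hf : IsBlk (Residue M) C[D] f)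
    (hfu : br D (idemIn M H b) * f = f) : IsPairOf p (idem M B) (D, f) := by
  classical
  haveI := charP_residue hM
  haveI := Fintype.ofFinite H
  obtain ⟨ξ, hξ⟩ := exists_mem_block hind.1
  have hr : IsIntClass M (resFun H (blockCoeff B)) :=
    isIntClass_resFun H (isIntClass_blockCoeff hind.2.1)
  set a₀ := redFun M (resFun H (blockCoeff B)) with ha₀def
  have ha₀ : a₀ ∈ alg (Residue M) (⊤ : Subgroup H) ⊤ := redFun_mem hr.1
  have hub := isBlk_idem hM hind.1
  set a := idem M b * a₀
  have ha : a ∈ alg (Residue M) (⊤ : Subgroup H) ⊤ := mul_mem (idem_mem b) ha₀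
  have hlam : lam ξ a = 1 := by
    rw [lam_mul ξ (idem_mem b) ha₀, lam_idem hind.1, if_pos hξ, one_mul, lam_redFun ξ hr,
      red_eq_one_iff (omega_mem ξ hr)]
    have := omega_res_blockCoeff hind hξ hind.2.1
    rwa [if_pos rfl] at this
  obtain ⟨w, hw, hwe⟩ : ∃ w ∈ alg (Residue M) (⊤ : Subgroup H) ⊤, a * w = idem M b := by
    refine (hub.nilpotent_or_inv (alg_comm (k := Residue M) le_rfl) ha
      (by rw [← mul_assoc, idem_idem hind.1])).resolve_left ?_
    rintro ⟨n, hn⟩
    have hpow : ∀ m, lam ξ (a ^ (m + 1)) = 1 := by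
      intro m
      induction m with
      | zero => rw [zero_add, pow_one, hlam]
      | succ m ih => rw [pow_succ, lam_mul ξ (pow_mem ha _) ha, ih, hlam, one_mul]
    have h1 := hpow n
    rw [pow_succ, hn, zero_mul, lam_zero] at h1
    exact zero_ne_one h1
  have hbr : br D (emb H a₀) = br D (idem M B) := by
    refine coeff_ext fun g => ?_
    rw [coeff_br, coeff_br]
    by_cases hg : g ∈ C[D]
    · rw [if_pos hg, if_pos hg, show g = ((⟨g, hCH hg⟩ : H) : G) from rfl, coeff_emb_coe, ha₀def,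
        idem, coeff_redFun, coeff_redFun]
      rfl
    · rw [if_neg hg, if_neg hg]
  set e := br D (idem M B)
  set u := br D (emb H (idem M b)) with hudef
  have hfix : ∀ {c : MonoidAlgebra (Residue M) H}, c ∈ alg (Residue M) (⊤ : Subgroup H) ⊤ →
      FixBy D (emb H c) := fun hc => (emb_mem H hc).2.mono hDH
  have hub' : FixBy D (emb H (idem M b * a₀)) := hfix ha
  have hS := alg_comm (k := Residue M) (le_refl C[D])
  have hmem : ∀ {c : MonoidAlgebra (Residue M) G}, FixBy C[D] c →
      br D c ∈ alg (Residue M) C[D] C[D] := fun hc =>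
    ⟨suppIn_br _, fixBy_br hc (CfsgLib.BrauerPairs.centralizer_le_normalizer D)⟩
  have heq : u * e * br D (emb H w) = u := by
    have h := congrArg (fun c => br D (emb H c)) hwe
    simp only [a, map_mul] at h
    rwa [br_mul hD (by rw [← map_mul]; exact hub') (hfix hw),
      br_mul hD (hfix (idem_mem b)) (hfix ha₀), hbr] at h
  have hfixB : FixBy (⊤ : Subgroup G) (idem M B) := (idem_mem B).2
  have hee : e * e = e := br_idem hD (idem_idem hind.2.1) (hfixB.mono le_top)
  have heu : e * u = u := by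
    conv_lhs => rw [← heq]
    rw [← mul_assoc, ← mul_assoc,
      hS _ (hmem (hfixB.mono le_top)) _ (hmem ((emb_mem H (idem_mem b)).2.mono hCH)),
      mul_assoc u e e, hee, heq]
  refine ⟨⟨hD, hf⟩, ?_⟩
  show e * f = f
  rw [idemIn_eq, ← hudef] at hfu
  rw [← hfu, ← mul_assoc, heu]

omit hp in
open scoped Classical in
/-- A normal subgroup of order prime to `p` fixes the idempotent of a block exactly when it lies in
the kernel of the block. -/
theorem avg_mul_idemIn_iff (hM : IsPModular p M) {H K : Subgroup G} {b : Set (IrrCharacter H)}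
    (hb : IsPBlock M b) (hK : K ≤ H) (hHK : H ≤ N[K]) (h0 : (Nat.card K : Residue M) ≠ 0) :
    avg (Residue M) K * idemIn M H b = idemIn M H b ↔
      ∀ ξ ∈ b, ∀ n : H, (n : G) ∈ K → (ξ : H → ℂ) n = (ξ : H → ℂ) 1 := by
  haveI := Fintype.ofFinite H
  haveI : (K.subgroupOf H).Normal := (Subgroup.normal_subgroupOf_iff_le_normalizer hK).2 hHK
  set K' := K.subgroupOf H with hK'def
  have hcard : Nat.card K' = Nat.card K :=
    Nat.card_congr (Subgroup.subgroupOfEquivOfLe hK).toEquiv
  have hemb : avg (Residue M) K = emb H (avg (Residue M) K') := by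
    refine coeff_ext fun g => ?_
    by_cases hg : g ∈ H
    · rw [show g = ((⟨g, hg⟩ : H) : G) from rfl, coeff_emb_coe, coeff_avg, coeff_avg, hcard]
      simp only [hK'def, Subgroup.mem_subgroupOf]
    · rw [coeff_emb_not_mem H _ hg, coeff_avg, if_neg fun h => hg (hK h)]
  have hav : avg (Residue M) K' ∈ alg (Residue M) (⊤ : Subgroup H) ⊤ :=
    avg_mem_alg (N := K') le_top (by rw [Subgroup.normalizer_eq_top])
  have h0' : (Nat.card K' : Residue M) ≠ 0 := by rwa [hcard]
  rw [hemb, idemIn_eq, ← map_mul, (emb_injective H).eq_iff,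
    mul_idem_eq_iff hM hb hav (mul_self_avg h0')]
  -- the central characters at the average
  set c : ℂ := (Nat.card K' : ℂ)⁻¹ with hcdef
  haveI := charP_residue hM
  have hpn : ¬ p ∣ Nat.card K' := fun h => h0' ((CharP.cast_eq_zero_iff (Residue M) p _).2 h)
  have hc : MemLocalRing M c := memLocalRing_natCast_inv hM hpn
  have hn : MemLocalRing M (Nat.card K' : ℂ) := natCast_mem_localRing _
  have hredn : red M (Nat.card K' : ℂ) = (Nat.card K' : Residue M) := by
    rw [red_eq hn, show (⟨(Nat.card K' : ℂ), hn⟩ : localRing M) = (Nat.card K' : localRing M) from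
      Subtype.ext (by simp), map_natCast]
  have hredc : red M c = (Nat.card K' : Residue M)⁻¹ := by
    refine eq_inv_of_mul_eq_one_left ?_
    rw [← hredn, ← red_mul hc hn, hcdef, inv_mul_cancel₀ (Nat.cast_ne_zero.2 Nat.card_pos.ne'),
      red_one]
  let α : H → ℂ := fun g => if g ∈ K' then c else 0
  have hα : IsIntClass M α := by
    refine ⟨fun g x => ?_, fun g => ?_⟩
    · have hiff : x * g * x⁻¹ ∈ K' ↔ g ∈ K' :=
        ⟨fun h => by simpa [mul_assoc] using Subgroup.Normal.conj_mem ‹_› _ h x⁻¹,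
          fun h => Subgroup.Normal.conj_mem ‹_› _ h x⟩
      simp only [α, hiff]
    · show MemLocalRing M (if g ∈ K' then c else 0)
      split_ifs
      exacts [hc, memLocalRing_zero]
  have hαe : redFun M α = avg (Residue M) K' := coeff_ext fun g => by
    rw [coeff_redFun, coeff_avg, apply_ite (red M), hredc, red_zero]
  have hom : ∀ ξ : IrrCharacter H, omega (ξ : H → ℂ) α =
      c * (∑ n ∈ Finset.univ.filter (· ∈ K'), (ξ : H → ℂ) n) / (ξ : H → ℂ) 1 := by
    intro ξ
    rw [omega, Finset.mul_sum, Finset.sum_filter]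
    refine congrArg (· / _) (Finset.sum_congr rfl fun g _ => ?_)
    simp only [α, ite_mul, zero_mul]
  refine forall₂_congr fun ξ _ => ⟨fun h n hn' => ?_, fun h => ?_⟩
  · rcases sum_eq_zero_or_ker ξ K' with hs | hs
    · exfalso
      rw [← hαe, lam_redFun ξ hα, hom ξ, hs, mul_zero, zero_div, red_zero] at h
      exact zero_ne_one h
    · exact hs n hn'
  · rw [← hαe, lam_redFun ξ hα, hom ξ,
      Finset.sum_congr rfl fun n hn' => h n (Subgroup.mem_subgroupOf.1 (Finset.mem_filter.1 hn').2),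
      Finset.sum_const,
      nsmul_eq_mul, show (Finset.univ.filter fun n => n ∈ K').card = Nat.card K' by
        rw [Nat.card_eq_fintype_card, Fintype.card_subtype], hcdef, ← mul_assoc,
      inv_mul_cancel₀ (Nat.cast_ne_zero.2 Nat.card_pos.ne'), one_mul,
      div_self (irr_one_ne_zero ξ), red_one]

theorem exists_blk_below {Q : Subgroup G} {a : MonoidAlgebra (Residue M) G}
    (ha : a ∈ alg (Residue M) C[Q] C[Q]) (haa : a * a = a) (h0 : a ≠ 0) :
    ∃ f, IsBlk (Residue M) C[Q] f ∧ a * f = f := by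
  have hS := alg_comm (k := Residue M) (le_refl C[Q])
  obtain ⟨f, hf, hne⟩ := exists_prim_mul_ne_zero hS h0
  exact ⟨f, hf, by rw [hS _ ha _ hf.mem]; exact hf.mul_eq_self ha haa hne⟩

omit hp in
theorem mem_piCore_iff {X : Subgroup G} (x : X) :
    x ∈ Cfsg.piCore σ X ↔ (x : G) ∈ piCoreOf σ X := by
  rw [piCoreOf]
  exact (Subgroup.mem_map_iff_mem X.subtype_injective).symm

theorem piCoreOf_normalizer_eq {D : Subgroup G} (hD : IsPGroup p D) (hσ : p ∉ σ) :
    piCoreOf σ N[D] = piCoreOf σ C[D] := by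
  have hcop : piCoreOf σ N[D] ≤ C[D] := by
    intro n hn
    rw [Subgroup.mem_centralizer_iff]
    intro d hd
    have hdis : piCoreOf σ N[D] ⊓ D = ⊥ := by
      refine Subgroup.eq_bot_of_card_eq _ ?_
      obtain ⟨j, hj⟩ := (IsPGroup.iff_card).1
        (hD.to_le (inf_le_right : piCoreOf σ N[D] ⊓ D ≤ D))
      rw [hj]
      rcases j with _ | j
      · rfl
      · exact absurd (prime_dvd_piCoreOf _ p Fact.out ((dvd_pow_self p j.succ_ne_zero).trans
          (hj ▸ Subgroup.card_dvd_of_le inf_le_left))) hσ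
    have h1 : d * n * d⁻¹ * n⁻¹ ∈ piCoreOf σ N[D] ⊓ D := by
      refine ⟨mul_mem ((Subgroup.mem_normalizer_iff.1
        (le_normalizer_piCoreOf _ (Subgroup.le_normalizer hd)) n).1 hn) ((piCoreOf σ N[D]).inv_mem hn), ?_⟩
      have h := (Subgroup.mem_normalizer_iff.1 (piCoreOf_le _ hn) d⁻¹).1 (inv_mem hd)
      simpa [mul_assoc] using mul_mem hd h
    rw [hdis, Subgroup.mem_bot] at h1
    have h2 : d * n * d⁻¹ = n := by
      have := congrArg (· * n) h1
      simpa [mul_assoc] using this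
    calc d * n = d * n * d⁻¹ * d := by rw [inv_mul_cancel_right]
      _ = n * d := by rw [h2]
  refine le_antisymm (le_piCoreOf hcop ?_ (prime_dvd_piCoreOf _)) (le_piCoreOf ?_ ?_
    (prime_dvd_piCoreOf _))
  · exact (CfsgLib.BrauerPairs.centralizer_le_normalizer D).trans (le_normalizer_piCoreOf _)
  · exact (piCoreOf_le _).trans (CfsgLib.BrauerPairs.centralizer_le_normalizer D)
  · exact normalizer_le_normalizer_piCoreOf map_normalizer_centralizer

/-- A maximal pair is fixed by its core exactly when the core of the normalizer lies in the kernel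
of the correspondent. -/
theorem exists_maxPair_ker_iff (hM : IsPModular p M) (hσ : p ∉ σ) {B : Set (IrrCharacter G)}
    {D : Subgroup G} (hBD : IsDefectGroup p M B D) {B₁ : Set (IrrCharacter N[D])}
    (hB₁ : IsInducedBlock M N[D] B₁ B) (hB₁D : IsDefectGroup p M B₁ (D.subgroupOf N[D])) :
    ∃ f, IsMaxPair p (idem M B) (D, f) ∧ (Kills σ (D, f) ↔
      ∀ n : N[D], n ∈ Cfsg.piCore σ N[D] → n ∈ blockKer B₁) := by
  haveI := charP_residue hM
  haveI := Fintype.ofFinite N[D]
  have hdef := isDef_of_isDefectGroup hM hB₁.2.1 hBD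
  have hD : IsPGroup p D := hdef.1
  have hDN : D ≤ N[D] := Subgroup.le_normalizer
  have hCN : C[D] ≤ N[D] := CfsgLib.BrauerPairs.centralizer_le_normalizer D
  have hblk := isBlk_idemIn hM hB₁.1
  have hne := ((isDefectGroup_sub_iff_of_le hM N[D] hB₁.1 hDN).1 hB₁D).2.2.1
  have hbru := br_eq_self_of_idem hD hDN le_rfl hblk.mem hblk.idem
  set u := idemIn M N[D] B₁
  have huC : u ∈ alg (Residue M) C[D] C[D] := ⟨hbru ▸ suppIn_br u, hblk.fixBy.mono hCN⟩
  obtain ⟨f, hf, hfu⟩ := exists_blk_below huC hblk.idem hblk.ne_zero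
  have hpair := isPairOf_of_induced_sub hM hD hDN hCN hB₁ hf (by rw [hbru]; exact hfu)
  have hmax : IsMaxPair p (idem M B) (D, f) :=
    (isMaxPair_iff_card (isBlk_idem hM hB₁.2.1) hdef).2 ⟨hpair, rfl⟩
  refine ⟨f, hmax, ?_⟩
  have hK : piCoreOf σ N[D] = piCoreOf σ C[D] := piCoreOf_normalizer_eq hD hσ
  have h0 : (Nat.card (piCoreOf σ N[D]) : Residue M) ≠ 0 := natCard_piCoreOf_ne_zero hσ le_rfl
  have hker : (∀ n : N[D], n ∈ Cfsg.piCore σ N[D] → n ∈ blockKer B₁) ↔
      avg (Residue M) (piCoreOf σ N[D]) * u = u := by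
    rw [avg_mul_idemIn_iff hM hB₁.1 (piCoreOf_le _) (le_normalizer_piCoreOf _) h0]
    exact ⟨fun h ξ hξ n hn => h n ((mem_piCore_iff n).2 hn) ξ hξ,
      fun h n hn ξ hξ => h ξ hξ n ((mem_piCore_iff n).1 hn)⟩
  rw [hker, Kills, hK]
  constructor
  · intro h
    have hav : avg (Residue M) (piCoreOf σ C[D]) ∈ alg (Residue M) N[D] N[D] :=
      avg_mem_alg (hK ▸ piCoreOf_le _) (hK ▸ le_normalizer_piCoreOf _)
    have hS := alg_comm (k := Residue M) (le_refl N[D])
    rcases hblk.mul_eq_zero_or hav (mul_self_avg (by rwa [← hK])) with hz | hz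
    · refine absurd (?_ : f = 0) hf.ne_zero
      calc f = avg (Residue M) (piCoreOf σ C[D]) * f := h.symm
        _ = avg (Residue M) (piCoreOf σ C[D]) * (u * f) := by rw [hfu]
        _ = 0 := by rw [← mul_assoc, hS _ hav _ hblk.mem, hz, zero_mul]
    · rw [hS _ hav _ hblk.mem]; exact hz
  · intro h
    show avg (Residue M) (piCoreOf σ C[D]) * f = f
    conv_lhs => rw [← hfu, ← mul_assoc, h, hfu]

theorem hallCore_of_piCore {Q : Subgroup G}
    (h : ∀ x : C[Q], (∀ q : ℕ, q.Prime → q ∣ orderOf x → q ∈ σ) → x ∈ Cfsg.piCore σ C[Q]) :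
    HallCore σ Q := fun c hc hcσ =>
  (mem_piCore_iff (⟨c, hc⟩ : C[Q])).1 (h ⟨c, hc⟩ (by simpa using hcσ))

omit [Fintype G] hp in
theorem centralizer_zpowers_coe (y : G) :
    C[Subgroup.zpowers y] = Subgroup.centralizer ({y} : Set G) := by
  rw [Subgroup.zpowers_eq_closure, Subgroup.centralizer_closure]

end Blocks

end CfsgLib.BlockB
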