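import Cfsg.Agent.BlocksB.SubsectionCor
import Cfsg.Agent.Blocks.LocalPrincipal
import Cfsg.Agent.BlocksB.ClassSum
import Cfsg.Agent.Char.Generalized
import Cfsg.Agent.Char.Kernel

/-!
# Columns of the principal block at `p`-elements
-/

namespace CfsgLib.BlockB

open Finset Cfsg CfsgLib.Block CfsgLib.Block.Chr CfsgLib.Char
open scoped ComplexConjugate

set_option linter.unusedSectionVars false
set_option linter.style.haveILetI false

universe u

variable {G : Type u} [Group G] [Fintype G] {M : Ideal AlgInt} [M.IsPrime] {p : ℕ} [Fact p.Prime]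

/-- The third main theorem for centralizers of `p`-elements. -/
theorem isInduced_principal (hM : IsPModular p M) {y : G} {k : ℕ} (hy : orderOf y = p ^ k)
    [Fintype (Subgroup.centralizer ({y} : Set G))] :
    IsInducedBlock M (Subgroup.centralizer ({y} : Set G))
      (principalBlock M (Subgroup.centralizer ({y} : Set G))) (principalBlock M G) :=
  (third_main hM (centralizer_induced hM hy isPBlock_principalBlock)).2 rfl

theorem subPart_principal (hM : IsPModular p M) {y : G} {k : ℕ} (hy : orderOf y = p ^ k)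
    [Fintype (Subgroup.centralizer ({y} : Set G))] {χ : IrrCharacter G}
    (hχ : χ ∈ principalBlock M G) :
    subPart p (principalBlock M (Subgroup.centralizer ({y} : Set G))) y χ 1 = (χ : G → ℂ) y := by
  have h1 : ¬ p ∣ orderOf (1 : Subgroup.centralizer ({y} : Set G)) := by
    rw [orderOf_one]; exact hM.1.not_dvd_one
  rw [subPart_eq_regPart hM isPBlock_principalBlock, regPart_of_not_dvd h1]
  have h := principal_section hM hy hχ 1 h1
  rw [OneMemClass.coe_one, mul_one] at h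
  exact h.symm

/-- A linear relation on the whole section passes to the principal block at the `p`-element. -/
theorem sum_principal_eq_zero (hM : IsPModular p M) {y : G} {k : ℕ} (hy : orderOf y = p ^ k)
    [Fintype (IrrCharacter G)] [DecidablePred (· ∈ principalBlock M G)]
    (F : IrrCharacter G → ℂ)
    (h : ∀ s : G, Commute y s → ¬ p ∣ orderOf s → ∑ χ : IrrCharacter G, (χ : G → ℂ) (y * s) * F χ = 0) :
    ∑ χ ∈ univ.filter (· ∈ principalBlock M G), (χ : G → ℂ) y * F χ = 0 := by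
  classical
  haveI : Fintype (Subgroup.centralizer ({y} : Set G)) := Fintype.ofFinite _
  set H := Subgroup.centralizer ({y} : Set G)
  set b := principalBlock M H
  have hind := isInduced_principal (M := M) hM hy
  have h1 : ∑ χ : IrrCharacter G, subPart p b y χ 1 * F χ = 0 := by
    simp only [subPart_eq_conv (rfl : H = Subgroup.centralizer ({y} : Set G)), sum_mul]
    rw [sum_comm]
    refine sum_eq_zero fun c _ => ?_
    simp only [mul_assoc, ← mul_sum, mul_one]
    refine mul_eq_zero_of_right _ ?_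
    by_cases hc : p ∣ orderOf c
    · simp [regPart_of_dvd hc]
    · simp only [regPart_of_not_dvd hc, secFun]
      exact h c (Subgroup.mem_centralizer_singleton_iff.1 c.2).symm
        (by rwa [Subgroup.orderOf_coe])
  rw [← h1, sum_filter]
  refine sum_congr rfl fun χ _ => ?_
  split_ifs with hχ
  · rw [subPart_principal hM hy hχ]
  · rw [subPart_eq_zero_of_not_mem hM rfl hy hind hχ, Pi.zero_apply, zero_mul]

theorem sum_irr_mul_eq_zero [Fintype (IrrCharacter G)] {g h : G} (hgh : ¬ IsConj g h⁻¹) :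
    ∑ χ : IrrCharacter G, (χ : G → ℂ) g * (χ : G → ℂ) h = 0 := by
  classical
  have h1 := column_orth g h⁻¹
  rw [if_neg hgh] at h1
  simpa [conj_irr] using h1

/-- The three column relations for an involution not inverting `y`. -/
theorem column_relations (hM : IsPModular 2 M) [Fintype (IrrCharacter G)]
    [DecidablePred (· ∈ principalBlock M G)] {y t : G} {k : ℕ} (hy : orderOf y = 2 ^ k)
    (ht : orderOf t = 2) (hinv : ∀ g : G, (g * t * g⁻¹) * y * (g * t * g⁻¹)⁻¹ ≠ y⁻¹) :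
    (∑ χ ∈ univ.filter (· ∈ principalBlock M G),
        (χ : G → ℂ) y * ((χ : G → ℂ) t ^ 2 / (χ : G → ℂ) 1) = 0) ∧
      (∑ χ ∈ univ.filter (· ∈ principalBlock M G), (χ : G → ℂ) y * (χ : G → ℂ) 1 = 0) ∧
      (∑ χ ∈ univ.filter (· ∈ principalBlock M G), (χ : G → ℂ) y * (χ : G → ℂ) t = 0) := by
  classical
  have h2 : (2 : ℕ).Prime := Nat.prime_two
  have htt : t * t = 1 := by rw [← sq, ← ht, pow_orderOf_eq_one]
  have hti : t⁻¹ = t := inv_eq_of_mul_eq_one_right htt
  have hpart : ∀ s : G, Commute y s → ¬ 2 ∣ orderOf s → IsPPart 2 (y * s) y := fun s hc hs =>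
    ⟨s, rfl, hc, ⟨k, hy⟩, hs⟩
  -- the 2-part of a conjugate
  have hmap : ∀ (a s s' g : G), Commute y s → ¬ 2 ∣ orderOf s → IsPPart 2 g a →
      ¬ 2 ∣ orderOf s' → g = y * s → a = y := by
    intro a s s' g hc hs ha _ hg
    exact pPart_unique h2 ha hg.symm hc (n := k) (by rw [← hy, pow_orderOf_eq_one])
      hs (pow_orderOf_eq_one s)
  refine ⟨sum_principal_eq_zero hM hy _ fun s hc hs => ?_,
    sum_principal_eq_zero hM hy _ fun s hc hs => ?_,
    sum_principal_eq_zero hM hy _ fun s hc hs => ?_⟩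
  · have hG : (Nat.card G : ℂ) ≠ 0 := Nat.cast_ne_zero.2 Nat.card_pos.ne'
    have hF : ∀ χ : IrrCharacter G, (χ : G → ℂ) t ^ 2 / (χ : G → ℂ) 1 =
        (Nat.card G : ℂ)⁻¹ * ∑ g, (χ : G → ℂ) (g * t * g⁻¹ * t) := fun χ => by
      have h := CfsgLib.BlocksB.sum_conj_mul χ.2 t t
      have h1 := irr_one_ne_zero χ
      field_simp
      linear_combination -h
    simp only [hF, mul_sum]
    rw [sum_comm]
    refine sum_eq_zero fun g _ => ?_
    simp only [mul_left_comm _ ((Nat.card G : ℂ)⁻¹)]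
    rw [← mul_sum, sum_irr_mul_eq_zero, mul_zero]
    intro hcj
    obtain ⟨h, hh⟩ := isConj_iff.1 hcj
    set a := h⁻¹ * t * h
    set w := h⁻¹ * (g * t * g⁻¹) * h
    have hys : y * s = a * w := by
      calc y * s = h⁻¹ * (h * (y * s) * h⁻¹) * h := by group
        _ = h⁻¹ * (g * t * g⁻¹ * t)⁻¹ * h := by rw [hh]
        _ = h⁻¹ * (t⁻¹ * (g * t⁻¹ * g⁻¹)) * h := by group
        _ = a * w := by rw [hti]; simp only [a, w]; group
    have haa : a * a = 1 := by
      calc a * a = h⁻¹ * (t * t) * h := by simp only [a]; group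
        _ = 1 := by rw [htt]; group
    have hww : w * w = 1 := by
      calc w * w = h⁻¹ * g * (t * t) * g⁻¹ * h := by simp only [w]; group
        _ = 1 := by rw [htt]; group
    have hai : a⁻¹ = a := inv_eq_of_mul_eq_one_right haa
    have hkey : a * (y * s) * a⁻¹ = (y * s)⁻¹ := by
      rw [hys, hai, _root_.mul_inv_rev, hai, inv_eq_of_mul_eq_one_right hww]
      calc a * (a * w) * a = a * a * w * a := by group
        _ = w * a := by rw [haa, one_mul]
    refine hinv h⁻¹ ?_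
    rw [inv_inv, show h⁻¹ * t * h = a from rfl]
    refine (pPart_unique h2 (g := (y * s)⁻¹) (x := y⁻¹)
      ⟨s⁻¹, by rw [← _root_.mul_inv_rev, hc.eq], hc.inv_inv, ⟨k, by rwa [orderOf_inv]⟩,
        by rwa [orderOf_inv]⟩ (x' := a * y * a⁻¹) (y' := a * s * a⁻¹) (n := k) (m := orderOf s)
      ?_ ?_ ?_ hs ?_).symm
    · rw [← hkey]; group
    · show a * y * a⁻¹ * (a * s * a⁻¹) = a * s * a⁻¹ * (a * y * a⁻¹)
      calc a * y * a⁻¹ * (a * s * a⁻¹) = a * (y * s) * a⁻¹ := by group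
        _ = a * (s * y) * a⁻¹ := by rw [hc.eq]
        _ = _ := by group
    · rw [conj_pow, ← hy, pow_orderOf_eq_one, mul_one, mul_inv_cancel]
    · rw [conj_pow, pow_orderOf_eq_one, mul_one, mul_inv_cancel]
  · refine sum_irr_mul_eq_zero fun hcj => ?_
    rw [inv_one] at hcj
    have hys := isConj_one_left.1 hcj
    have hy1 : y = 1 := (hmap 1 s 1 1 hc hs ⟨1, one_mul 1, Commute.one_left 1, ⟨0, by simp⟩,
      by simp⟩ (by simp) hys.symm).symm
    exact hinv 1 (by rw [hy1]; group)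
  · refine sum_irr_mul_eq_zero fun hcj => ?_
    rw [hti] at hcj
    obtain ⟨h, hh⟩ := isConj_iff.1 hcj
    have ha : IsPPart 2 (h⁻¹ * t * h) (h⁻¹ * t * h) :=
      ⟨1, mul_one _, Commute.one_right _, ⟨1, by
        rw [pow_one, ← ht]
        have := orderOf_injective (MulAut.conj h⁻¹).toMonoidHom (MulAut.conj h⁻¹).injective t
        simpa using this⟩, by simp⟩
    have hy1 := hmap (h⁻¹ * t * h) s 1 _ hc hs ha (by simp) (by rw [← hh]; group)
    refine hinv h⁻¹ ?_
    rw [inv_inv, hy1, mul_inv_cancel_right, ← hy1]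
    conv_rhs => rw [_root_.mul_inv_rev, _root_.mul_inv_rev, inv_inv, hti, ← mul_assoc]

/-- Sign counting from three moments. -/
theorem eq_of_three_moments {ι : Type*} (s : Finset ι) (c r : ι → ℝ) (h0 : ∑ i ∈ s, c i = 0)
    (h1 : ∑ i ∈ s, c i * r i = 0) (h2 : ∑ i ∈ s, c i * r i ^ 2 = 0)
    {ψ : ι} (hpos : ∀ i ∈ s, i ≠ ψ → 0 ≤ c i) : ∀ i ∈ s, c i ≠ 0 → r i = r ψ := by
  have hsum : ∑ i ∈ s, c i * (r i - r ψ) ^ 2 = 0 := by
    have he : ∀ i ∈ s, c i * (r i - r ψ) ^ 2 =
        c i * r i ^ 2 + (c i * r i * (-2 * r ψ) + c i * r ψ ^ 2) := fun i _ => by ring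
    rw [sum_congr rfl he, sum_add_distrib, sum_add_distrib, ← sum_mul, ← sum_mul, h0, h1, h2]
    ring
  have hnn : ∀ i ∈ s, 0 ≤ c i * (r i - r ψ) ^ 2 := fun i hi => by
    rcases eq_or_ne i ψ with rfl | hne
    · simp
    · exact mul_nonneg (hpos i hi hne) (sq_nonneg _)
  intro i hi hci
  have h := (sum_eq_zero_iff_of_nonneg hnn).1 hsum i hi
  exact sub_eq_zero.1 (pow_eq_zero_iff two_ne_zero |>.1 ((mul_eq_zero.1 h).resolve_left hci))

/-- The multiplicity `a_χ`. -/
noncomputable def mult (P : Subgroup G) (θ : P → ℂ) (χ : IrrCharacter G) : ℂ :=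
  (Nat.card P : ℂ)⁻¹ * ∑ᶠ y : P, (χ : G → ℂ) (y : G) * θ y⁻¹

theorem exists_mult_eq_int (P : Subgroup G) {θ : P → ℂ} (hθ : IsGeneralizedCharacter P θ)
    (χ : IrrCharacter G) : ∃ n : ℤ, mult P θ χ = n := by
  classical
  haveI : Fintype P := Fintype.ofFinite _
  obtain ⟨n, hn⟩ := IsGeneralized.exists_classInner_eq_int
    (IsGeneralized.restrict (IsCharacter.isGeneralized (isCharacter_irr χ)) P) hθ
  refine ⟨n, ?_⟩
  rw [← hn, CfsgLib.Char.classInner_def, mult, finsum_eq_sum_of_fintype]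
  congr 1
  exact sum_congr rfl fun y _ => by rw [IsGeneralized.apply_inv hθ]

theorem finsum_mult_eq_zero (B : Set (IrrCharacter G)) [Fintype (IrrCharacter G)]
    [DecidablePred (· ∈ B)] (P : Subgroup G) {U : Set G} (θ : P → ℂ)
    (hθU : ∀ y : P, (y : G) ∉ U → θ y = 0) (F : IrrCharacter G → ℂ)
    (h : ∀ y : P, (y : G)⁻¹ ∈ U → ∑ χ ∈ univ.filter (· ∈ B), (χ : G → ℂ) (y : G) * F χ = 0) :
    ∑ᶠ χ ∈ B, mult P θ χ * F χ = 0 := by
  classical
  haveI : Fintype P := Fintype.ofFinite _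
  rw [finsum_mem_block B]
  simp only [mult, finsum_eq_sum_of_fintype, mul_sum, sum_mul]
  rw [sum_comm]
  refine sum_eq_zero fun y _ => ?_
  by_cases hy : (y : G)⁻¹ ∈ U
  · have e : ∀ χ : IrrCharacter G, (Nat.card P : ℂ)⁻¹ * ((χ : G → ℂ) (y : G) * θ y⁻¹) * F χ =
        (Nat.card P : ℂ)⁻¹ * θ y⁻¹ * ((χ : G → ℂ) (y : G) * F χ) := fun χ => by ring
    simp only [e, ← mul_sum, h y hy, mul_zero]
  · simp [hθU y⁻¹ (by simpa using hy)]

/-- The columns of the principal `2`-block vanishing at an involution. -/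
theorem columns_vanishing (hM : IsPModular 2 M) (P : Subgroup G) (hP : IsPGroup 2 P) (U : Set G)
    (t : G) (ht : orderOf t = 2)
    (hinv : ∀ u ∈ U, ∀ g : G, (g * t * g⁻¹) * u * (g * t * g⁻¹)⁻¹ ≠ u⁻¹) (θ : P → ℂ)
    (hθ : IsGeneralizedCharacter P θ) (hθU : ∀ y : P, (y : G) ∉ U → θ y = 0) :
    (∑ᶠ χ ∈ principalBlock M G, mult P θ χ * (χ : G → ℂ) t ^ 2 / (χ : G → ℂ) 1 = 0) ∧
    (∑ᶠ χ ∈ principalBlock M G, mult P θ χ * (χ : G → ℂ) 1 = 0) ∧
    (∑ᶠ χ ∈ principalBlock M G, mult P θ χ * (χ : G → ℂ) t = 0) ∧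
    ((Nat.card P : ℂ)⁻¹ * ∑ᶠ y : P, θ y ≠ 0 →
      (2 ≤ Nat.card {χ : IrrCharacter G // χ ∈ principalBlock M G ∧ 0 < (mult P θ χ).re} ∧
        2 ≤ Nat.card {χ : IrrCharacter G // χ ∈ principalBlock M G ∧ (mult P θ χ).re < 0}) ∨
      ∃ K : Subgroup G, K.Normal ∧ K ≠ ⊤ ∧ pPrimeCore 2 G ≤ K ∧ t ∈ K) := by
  classical
  haveI : Fact (Nat.Prime 2) := ⟨Nat.prime_two⟩
  letI := irrFintype (G := G)
  haveI : Fintype P := Fintype.ofFinite _
  set B := principalBlock M G
  have hrel : ∀ y : P, (y : G)⁻¹ ∈ U →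
      (∑ χ ∈ univ.filter (· ∈ B), (χ : G → ℂ) (y : G) * ((χ : G → ℂ) t ^ 2 / (χ : G → ℂ) 1) = 0) ∧
      (∑ χ ∈ univ.filter (· ∈ B), (χ : G → ℂ) (y : G) * (χ : G → ℂ) 1 = 0) ∧
      (∑ χ ∈ univ.filter (· ∈ B), (χ : G → ℂ) (y : G) * (χ : G → ℂ) t = 0) := fun y hy => by
    obtain ⟨k, hk⟩ := IsPGroup.iff_orderOf.1 hP y
    refine column_relations (M := M) hM (y := (y : G)) (t := t) (k := k)
      (by rw [Subgroup.orderOf_coe, hk]) ht fun g hg => hinv _ hy g ?_
    have := congrArg (·⁻¹) hg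
    simpa [mul_assoc] using this
  have e1 : ∑ᶠ χ ∈ B, mult P θ χ * ((χ : G → ℂ) t ^ 2 / (χ : G → ℂ) 1) = 0 :=
    finsum_mult_eq_zero B P θ hθU _ fun y hy => (hrel y hy).1
  have e2 := finsum_mult_eq_zero B P θ hθU (fun χ => (χ : G → ℂ) 1) fun y hy => (hrel y hy).2.1
  have e3 := finsum_mult_eq_zero B P θ hθU (fun χ => (χ : G → ℂ) t) fun y hy => (hrel y hy).2.2
  refine ⟨by simp only [mul_div_assoc]; exact e1, e2, e3, fun hne => ?_⟩
  by_contra hcon
  push Not at hcon
  obtain ⟨hcount, hK⟩ := hcon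
  choose a ha using exists_mult_eq_int P hθ
  -- the trivial character
  have htriv : a (oneIrr G) ≠ 0 := by
    intro h0
    have h := ha (oneIrr G)
    rw [h0, Int.cast_zero, mult, finsum_eq_sum_of_fintype] at h
    apply hne
    rw [finsum_eq_sum_of_fintype, ← h]
    congr 1
    exact Fintype.sum_equiv (Equiv.inv P) _ _ fun y => by
      show θ y = (oneIrr G : G → ℂ) ((y⁻¹ : P) : G) * θ y⁻¹⁻¹
      rw [oneIrr_apply, one_mul, inv_inv]
  have h1B : oneIrr G ∈ B := oneIrr_mem_principalBlock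
  have htt : t⁻¹ = t := inv_eq_of_mul_eq_one_right (by rw [← sq, ← ht, pow_orderOf_eq_one])
  let r : IrrCharacter G → ℝ := fun χ => ((χ : G → ℂ) t).re / (charDegree (χ : G → ℂ) : ℝ)
  let c : IrrCharacter G → ℝ := fun χ => (a χ : ℝ) * (charDegree (χ : G → ℂ) : ℝ)
  have hreal : ∀ χ : IrrCharacter G, (χ : G → ℂ) t = (((χ : G → ℂ) t).re : ℂ) := fun χ => by
    refine (Complex.conj_eq_iff_re.1 ?_).symm
    rw [conj_irr, htt]
  have hd : ∀ χ : IrrCharacter G, (charDegree (χ : G → ℂ) : ℝ) ≠ 0 := fun χ =>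
    Nat.cast_ne_zero.2 (irr_one χ).2.ne'
  have m0 : ∑ χ ∈ univ.filter (· ∈ B), c χ = 0 := by
    rw [← Complex.ofReal_eq_zero, Complex.ofReal_sum, ← e2, finsum_mem_block B]
    exact sum_congr rfl fun χ _ => by
      rw [ha, (irr_one χ).1, Complex.ofReal_mul, Complex.ofReal_intCast, Complex.ofReal_natCast]
  have m1 : ∑ χ ∈ univ.filter (· ∈ B), c χ * r χ = 0 := by
    rw [← Complex.ofReal_eq_zero, Complex.ofReal_sum, ← e3, finsum_mem_block B]
    exact sum_congr rfl fun χ _ => by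
      simp only [c, r]
      rw [mul_assoc, mul_div_cancel₀ _ (hd χ), ha, hreal χ, Complex.ofReal_mul,
        Complex.ofReal_intCast, Complex.ofReal_re]
  have m2 : ∑ χ ∈ univ.filter (· ∈ B), c χ * r χ ^ 2 = 0 := by
    rw [← Complex.ofReal_eq_zero, Complex.ofReal_sum, ← e1, finsum_mem_block B]
    refine sum_congr rfl fun χ _ => ?_
    simp only [c, r]
    rw [ha, hreal χ, (irr_one χ).1, Complex.ofReal_re,
      show (a χ : ℝ) * (charDegree (χ : G → ℂ) : ℝ) *
        (((χ : G → ℂ) t).re / (charDegree (χ : G → ℂ) : ℝ)) ^ 2 =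
        (a χ : ℝ) * (((χ : G → ℂ) t).re ^ 2 / (charDegree (χ : G → ℂ) : ℝ)) by
          field_simp [hd χ]]
    push_cast
    ring
  have hcsign : ∀ χ, (0 < c χ → 0 < (mult P θ χ).re) ∧ (c χ < 0 → (mult P θ χ).re < 0) := fun χ => by
    have hpos : (0 : ℝ) < (charDegree (χ : G → ℂ) : ℝ) := Nat.cast_pos.2 (irr_one χ).2
    rw [ha, Complex.intCast_re]
    exact ⟨fun h => pos_of_mul_pos_left h hpos.le, fun h => neg_of_mul_neg_left h hpos.le⟩
  -- some sign occurs at most once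
  have hsmall : Nat.card {χ : IrrCharacter G // χ ∈ B ∧ 0 < (mult P θ χ).re} ≤ 1 ∨
      Nat.card {χ : IrrCharacter G // χ ∈ B ∧ (mult P θ χ).re < 0} ≤ 1 := by
    by_contra h
    push Not at h
    exact absurd (hcount h.1) (not_lt.2 h.2)
  have hconst : ∀ χ ∈ univ.filter (· ∈ B), c χ ≠ 0 → r χ = 1 := by
    have hc1 : c (oneIrr G) ≠ 0 := mul_ne_zero (Int.cast_ne_zero.2 htriv) (hd _)
    have hr1 : r (oneIrr G) = 1 := by simp [r, charDegree]
    have key : ∀ (d : IrrCharacter G → ℝ), (∀ χ, d χ = c χ ∨ d χ = -c χ) →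
        (∑ χ ∈ univ.filter (· ∈ B), d χ = 0) → (∑ χ ∈ univ.filter (· ∈ B), d χ * r χ = 0) →
        (∑ χ ∈ univ.filter (· ∈ B), d χ * r χ ^ 2 = 0) →
        Nat.card {χ : IrrCharacter G // χ ∈ B ∧ d χ < 0} ≤ 1 →
        ∀ χ ∈ univ.filter (· ∈ B), c χ ≠ 0 → r χ = 1 := by
      intro d hd' d0 d1 d2 hle χ hχ hcχ
      have hd1 : d (oneIrr G) ≠ 0 := by
        rcases hd' (oneIrr G) with h | h <;> rw [h] <;> simpa using hc1
      haveI hsub := Finite.card_le_one_iff_subsingleton.1 hle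
      have hneg : ∃ ψ, ψ ∈ B ∧ d ψ < 0 := by
        by_contra h
        push Not at h
        exact hd1 ((sum_eq_zero_iff_of_nonneg fun i hi => h i (mem_filter.1 hi).2).1 d0 _
          (mem_filter.2 ⟨mem_univ _, h1B⟩))
      obtain ⟨ψ, hψ, hψd⟩ := hneg
      have hall := eq_of_three_moments _ d r d0 d1 d2 (ψ := ψ) fun i hi hne' => by
        by_contra hlt
        push Not at hlt
        exact hne' (congrArg Subtype.val
          (hsub.elim ⟨i, (mem_filter.1 hi).2, hlt⟩ ⟨ψ, hψ, hψd⟩))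
      have e : r ψ = 1 := by
        rw [← hr1]; exact (hall _ (mem_filter.2 ⟨mem_univ _, h1B⟩) hd1).symm
      rw [← e]
      exact hall χ hχ (by rcases hd' χ with h | h <;> rw [h] <;> simpa using hcχ)
    rcases hsmall with h | h
    · refine key (fun χ => -c χ) (fun χ => Or.inr rfl) (by simp [m0])
        (by simp [neg_mul, m1]) (by simp [neg_mul, m2]) (le_trans ?_ h)
      refine Nat.card_le_card_of_injective (Subtype.map id fun χ hχ => ⟨hχ.1, ?_⟩)
        (Subtype.map_injective _ Function.injective_id)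
      exact (hcsign χ).1 (neg_lt_zero.1 hχ.2)
    · refine key c (fun χ => Or.inl rfl) m0 m1 m2 (le_trans ?_ h)
      refine Nat.card_le_card_of_injective (Subtype.map id fun χ hχ => ⟨hχ.1, ?_⟩)
        (Subtype.map_injective _ Function.injective_id)
      exact (hcsign χ).2 hχ.2
  -- the common kernel
  let S : Type u := {χ : IrrCharacter G // χ ∈ B ∧ c χ ≠ 0}
  set K : Subgroup G := ⨅ χ : S, kerSubgroup (isCharacter_irr χ.1)
  have hmem : ∀ g, g ∈ K ↔ ∀ χ : S, (χ.1 : G → ℂ) g = (χ.1 : G → ℂ) 1 := fun g => by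
    simp only [K, Subgroup.mem_iInf, mem_kerSubgroup]
  refine hK K (Subgroup.normal_iInf_normal fun χ => kerSubgroup_normal _) ?_ ?_ ?_
  · intro htop
    have hall : ∀ χ ∈ univ.filter (· ∈ B), c χ ≠ 0 → χ = oneIrr G := by
      intro χ hχ hcχ
      by_contra hne'
      have h0 := classInner_irr χ (oneIrr G)
      rw [if_neg hne', classInner] at h0
      simp only [oneIrr_apply, map_one, mul_one] at h0
      rw [sum_congr rfl fun g _ => (hmem g).1 (htop ▸ Subgroup.mem_top g)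
        ⟨χ, (mem_filter.1 hχ).2, hcχ⟩] at h0
      simp [irr_one_ne_zero χ] at h0
    have : c (oneIrr G) = 0 := by
      rw [← m0]
      symm
      exact sum_eq_single _ (fun χ hχ hne' => by_contra fun h => hne' (hall χ hχ h))
        (fun h => absurd (mem_filter.2 ⟨mem_univ _, h1B⟩) h)
    exact mul_ne_zero (Int.cast_ne_zero.2 htriv) (hd _) this
  · intro g hg
    rw [hmem]
    intro χ
    haveI : (pPrimeCore 2 G).Normal := CfsgLib.Solvable.pPrimeCore_normal 2
    exact blockOf_subset_normal hM (pPrimeCore 2 G)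
      (Nat.prime_two.coprime_iff_not_dvd.1
        (CfsgLib.Solvable.coprime_card_pPrimeCore (G := G) 2).symm)
      (χ := oneIrr G) (fun _ _ => rfl) χ.2.1 g hg
  · rw [hmem]
    intro χ
    have h := hconst χ.1 (mem_filter.2 ⟨mem_univ _, χ.2.1⟩) χ.2.2
    simp only [r, div_eq_one_iff_eq (hd χ.1)] at h
    rw [hreal, h, (irr_one χ.1).1, Complex.ofReal_natCast]

end CfsgLib.BlockB
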