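import Cfsg.Agent.S4646
import Cfsg.Agent.S4691
import Cfsg.Agent.Blocks.SectionCount
import Cfsg.Agent.Blocks.LocalPrincipal
import Cfsg.Agent.Blocks.TraceFormula
import Cfsg.Agent.Char.Galois
import Cfsg.Agent.Char.FrobeniusSchur
import Cfsg.Agent.ZJ.Reduction

/-!
# Sections whose principal block has one Brauer character

If `C(x)` has a normal `p`-complement `N`, averaging a combination of irreducible characters over
`x N` retains the members of the principal block only.  When all nontrivial `p`-elements form one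
class this gives the classical relations among the values of the principal block at `x`.
-/

namespace CfsgLib.GapOne

open Cfsg Finset CfsgLib.Block CfsgLib.Block.Chr CfsgLib.Char
open scoped ComplexConjugate

universe u

variable {p : ℕ}

/-- The data of a normal `p`-complement. -/
theorem exists_complement_data {C : Type u} [Group C] [Finite C] [Fact p.Prime]
    (h : Cfsg.HasNormalPComplement p C) :
    ∃ N : Subgroup C, N.Normal ∧ ¬ p ∣ Nat.card N ∧
      N.index = p ^ (Nat.card C).factorization p := by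
  obtain ⟨P, N, hNn, hNP⟩ := h
  have hidx : N.index = Nat.card P := by
    have h1 := N.card_mul_index
    rw [← hNP.card_mul] at h1
    exact Nat.eq_of_mul_eq_mul_left Nat.card_pos h1
  refine ⟨N, hNn, fun hd => ?_, by rw [hidx]; exact P.card_eq_multiplicity⟩
  have h1 := P.not_dvd_index
  rw [hNP.index_eq_card] at h1
  exact h1 hd

/-- Elements of order prime to `p` lie in a normal `p`-complement. -/
theorem mem_of_regular {C : Type u} [Group C] [Finite C] (hp : p.Prime) (N : Subgroup C) [N.Normal]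
    {n : ℕ} (hn : N.index = p ^ n) {g : C} (hg : ¬ p ∣ orderOf g) : g ∈ N := by
  rw [← QuotientGroup.eq_one_iff (N := N), ← orderOf_eq_one_iff]
  refine Nat.eq_one_of_dvd_coprimes
    (Nat.Coprime.pow_right n (hp.coprime_iff_not_dvd.2 hg).symm)
    (orderOf_map_dvd (QuotientGroup.mk' N) g) ?_
  rw [← hn]
  exact orderOf_dvd_natCard _

variable {G : Type u} [Group G] [Fintype G] {M : Ideal AlgInt} [M.IsPrime]

theorem one_le_blockRank_principal (hM : IsPModular p M) :
    1 ≤ blockRank p (principalBlock M G) := by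
  refine Nat.one_le_iff_ne_zero.2 fun hz => ?_
  rw [Cfsg.blockRank, Submodule.finrank_eq_zero, Submodule.span_eq_bot] at hz
  have := congrFun (hz _ ⟨_, oneIrr_mem_principalBlock, rfl⟩) 1
  simp [pRegularPart_eq, regPart, hM.1.ne_one] at this

/-- Only the principal block of a centralizer induces the principal block. -/
theorem section_term (hM : IsPModular p M) {x : G} {k : ℕ} (hx : orderOf x = p ^ k) :
    (∑ᶠ b ∈ {b : Set (IrrCharacter ↥(Subgroup.centralizer ({x} : Set G))) |
        IsInducedBlock M (Subgroup.centralizer ({x} : Set G)) b (principalBlock M G)},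
      blockRank p b) =
      blockRank p (principalBlock M ↥(Subgroup.centralizer ({x} : Set G))) := by
  classical
  haveI : Fact p.Prime := ⟨hM.1⟩
  haveI : Fintype ↥(Subgroup.centralizer ({x} : Set G)) := Fintype.ofFinite _
  have hset : {b : Set (IrrCharacter ↥(Subgroup.centralizer ({x} : Set G))) |
      IsInducedBlock M (Subgroup.centralizer ({x} : Set G)) b (principalBlock M G)} =
      {principalBlock M ↥(Subgroup.centralizer ({x} : Set G))} := by
    ext b
    simp only [Set.mem_setOf_eq, Set.mem_singleton_iff]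
    constructor
    · intro h
      exact (third_main hM (centralizer_induced hM hx h.1)).1 h
    · rintro rfl
      exact (third_main hM (centralizer_induced hM hx isPBlock_principalBlock)).2 rfl
  rw [hset, finsum_mem_singleton]

/-- The count of the principal block. -/
theorem card_principal_eq (hM : IsPModular p M) (X : Finset G)
    (hX : ∀ x ∈ X, ∃ k : ℕ, orderOf x = p ^ k)
    (hXrep : ∀ g : G, (∃ k : ℕ, orderOf g = p ^ k) → ∃! x, x ∈ X ∧ IsConj g x) :
    Nat.card (principalBlock M G) =
      ∑ x ∈ X, blockRank p (principalBlock M ↥(Subgroup.centralizer ({x} : Set G))) := by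
  rw [card_block_eq_sum hM isPBlock_principalBlock X hX hXrep]
  refine sum_congr rfl fun x hx => ?_
  obtain ⟨k, hk⟩ := hX x hx
  exact section_term hM hk

theorem principal_constant (hM : IsPModular p M) {x : G} {k : ℕ} (hx : orderOf x = p ^ k)
    (N : Subgroup ↥(Subgroup.centralizer ({x} : Set G))) [N.Normal] (hN : ¬ p ∣ Nat.card N)
    (hidx : ∃ n : ℕ, N.index = p ^ n) {χ : IrrCharacter G} (hχ : χ ∈ principalBlock M G)
    {w : ↥(Subgroup.centralizer ({x} : Set G))} (hw : w ∈ N) :
    (χ : G → ℂ) (x * (w : G)) = (χ : G → ℂ) x := by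
  classical
  haveI : Fintype ↥(Subgroup.centralizer ({x} : Set G)) := Fintype.ofFinite _
  have hwreg : ¬ p ∣ orderOf w := fun h => hN (h.trans (Subgroup.orderOf_dvd_natCard N hw))
  rw [principal_section hM hx hχ w hwreg]
  conv_rhs => rw [← mul_one x, ← OneMemClass.coe_one (Subgroup.centralizer ({x} : Set G)),
    principal_section hM hx hχ 1 (by rw [orderOf_one]; exact hM.1.not_dvd_one)]
  letI := irrFintype (G := ↥(Subgroup.centralizer ({x} : Set G)))
  rw [blockPart_eq_sum_inner, blockPart_eq_sum_inner]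
  refine sum_congr rfl fun ξ hξ => ?_
  congr 1
  exact blockOf_subset_normal hM N hN (χ := oneIrr _) (fun _ _ => rfl) (mem_filter.1 hξ).2 w hw

/-- Averaging over the complement keeps only the principal block. -/
theorem sum_complement (hM : IsPModular p M) {x : G} {k : ℕ} (hx : orderOf x = p ^ k)
    (N : Subgroup ↥(Subgroup.centralizer ({x} : Set G))) [N.Normal] [Fintype N]
    (hN : ¬ p ∣ Nat.card N) (hidx : ∃ n : ℕ, N.index = p ^ n) (χ : IrrCharacter G)
    [Decidable (χ ∈ principalBlock M G)] :
    ∑ n : N, (χ : G → ℂ) (x * ((n : ↥(Subgroup.centralizer ({x} : Set G))) : G)) =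
      if χ ∈ principalBlock M G then (Nat.card N : ℂ) * (χ : G → ℂ) x else 0 := by
  classical
  haveI : Fintype ↥(Subgroup.centralizer ({x} : Set G)) := Fintype.ofFinite _
  haveI : Fact p.Prime := ⟨hM.1⟩
  by_cases hχ : χ ∈ principalBlock M G
  · rw [if_pos hχ, sum_congr rfl fun n _ => principal_constant hM hx N hN hidx hχ n.2, sum_const,
      Finset.card_univ, nsmul_eq_mul, Nat.card_eq_fintype_card]
  rw [if_neg hχ]
  letI := irrFintype (G := ↥(Subgroup.centralizer ({x} : Set G)))
  let θ : ↥(Subgroup.centralizer ({x} : Set G)) → ℂ := fun c => (χ : G → ℂ) (x * (c : G))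
  have hset := principalBlock_of_complement hM N hN hidx
  -- the projection to the principal block of the centralizer vanishes
  have h0 : blockPart (principalBlock M ↥(Subgroup.centralizer ({x} : Set G))) θ 1 = 0 := by
    refine blockPart_eq_zero_of_not_induced hM hx (isPBlock_blockOf χ) (mem_blockOf_self χ)
      isPBlock_principalBlock (fun hind => hχ ?_) 1 (by rw [orderOf_one]; exact hM.1.not_dvd_one)
    rw [induced_unique ((third_main hM (centralizer_induced hM hx isPBlock_principalBlock)).2 rfl)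
      hind]
    exact mem_blockOf_self χ
  rw [blockPart_eq_sum_inner] at h0
  have hexp : ∀ n : N, θ (n : ↥(Subgroup.centralizer ({x} : Set G))) =
      ∑ ψ : IrrCharacter ↥(Subgroup.centralizer ({x} : Set G)), classInner θ (ψ : ↥(Subgroup.centralizer ({x} : Set G)) → ℂ) * (ψ : ↥(Subgroup.centralizer ({x} : Set G)) → ℂ) (n : ↥(Subgroup.centralizer ({x} : Set G))) :=
    fun n => classFun_expand (isClassFunction_shift χ x) _
  show ∑ n : N, θ (n : ↥(Subgroup.centralizer ({x} : Set G))) = 0
  have hsumN : ∀ ψ : IrrCharacter ↥(Subgroup.centralizer ({x} : Set G)), ∑ n : N, (ψ : ↥(Subgroup.centralizer ({x} : Set G)) → ℂ) (n : ↥(Subgroup.centralizer ({x} : Set G))) =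
      if ψ ∈ principalBlock M ↥(Subgroup.centralizer ({x} : Set G)) then (Nat.card N : ℂ) * (ψ : ↥(Subgroup.centralizer ({x} : Set G)) → ℂ) 1 else 0 := by
    intro ψ
    have hfs : ∑ n : N, (ψ : ↥(Subgroup.centralizer ({x} : Set G)) → ℂ) (n : ↥(Subgroup.centralizer ({x} : Set G))) =
        ∑ c ∈ univ.filter (· ∈ N), (ψ : ↥(Subgroup.centralizer ({x} : Set G)) → ℂ) c :=
      (Finset.sum_subtype _ (fun c => by simp) _).symm
    by_cases hψ : ψ ∈ principalBlock M ↥(Subgroup.centralizer ({x} : Set G))
    · rw [if_pos hψ]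
      rw [hset] at hψ
      rw [sum_congr rfl fun (n : N) _ => hψ (n : ↥(Subgroup.centralizer ({x} : Set G))) n.2, sum_const, Finset.card_univ, nsmul_eq_mul,
        Nat.card_eq_fintype_card]
    · rw [if_neg hψ, hfs]
      exact (sum_eq_zero_or_ker ψ N).resolve_right fun h => hψ (by rw [hset]; exact h)
  rw [sum_congr rfl fun n _ => hexp n, sum_comm, sum_congr rfl fun ψ _ => by
    rw [← mul_sum, hsumN ψ]]
  simp only [mul_ite, mul_zero]
  rw [← sum_filter, sum_congr rfl fun ψ _ => mul_left_comm _ (Nat.card N : ℂ) _, ← mul_sum, h0,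
    mul_zero]

/-- Averaging a combination of irreducible characters over the complement. -/
theorem sum_comb_complement (hM : IsPModular p M) {x : G} {k : ℕ} (hx : orderOf x = p ^ k)
    (N : Subgroup ↥(Subgroup.centralizer ({x} : Set G))) [N.Normal] [Fintype N]
    (hN : ¬ p ∣ Nat.card N) (hidx : ∃ n : ℕ, N.index = p ^ n) [Fintype (IrrCharacter G)]
    [DecidablePred (· ∈ principalBlock M G)] (c : IrrCharacter G → ℂ) :
    ∑ n : N, ∑ ζ : IrrCharacter G,
        c ζ * (ζ : G → ℂ) (x * ((n : ↥(Subgroup.centralizer ({x} : Set G))) : G)) =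
      (Nat.card N : ℂ) *
        ∑ ζ ∈ univ.filter (· ∈ principalBlock M G), c ζ * (ζ : G → ℂ) x := by
  rw [sum_comm, sum_filter, mul_sum]
  refine sum_congr rfl fun ζ _ => ?_
  rw [← mul_sum, sum_complement hM hx N hN hidx ζ]
  split_ifs with h
  · ring
  · simp

omit [Fintype G] in
theorem coe_ne_of_dvd {x : G} (hxp : p ∣ orderOf x)
    {w : ↥(Subgroup.centralizer ({x} : Set G))} (hw : ¬ p ∣ orderOf w) : x * (w : G) ≠ 1 := by
  intro h
  apply hw
  rw [← Subgroup.orderOf_coe, show ((w : G)) = x⁻¹ from (inv_eq_of_mul_eq_one_right h).symm,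
    orderOf_inv]
  exact hxp

omit [Fintype G] in
theorem eq_one_of_isConj [Finite G] (hp : p.Prime) {x : G} {k : ℕ} (hx : orderOf x = p ^ k)
    {w : ↥(Subgroup.centralizer ({x} : Set G))} (hw : ¬ p ∣ orderOf w)
    (h : IsConj (x * (w : G)) x) : w = 1 := by
  have h' : IsConj (x * (w : G)) (x * ((1 : ↥(Subgroup.centralizer ({x} : Set G))) : G)) := by
    simpa using h
  haveI := Fintype.ofFinite G
  exact isConj_one_left.1
    ((isConj_section_iff hp hx hw (by rw [orderOf_one]; exact hp.not_dvd_one)).1 h')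

/-- Orthogonality of the values at `x` to the degrees. -/
theorem sum_degree_mul (hM : IsPModular p M) {x : G} {k : ℕ} (hx : orderOf x = p ^ k)
    (hxp : p ∣ orderOf x)
    (N : Subgroup ↥(Subgroup.centralizer ({x} : Set G))) [N.Normal]
    (hN : ¬ p ∣ Nat.card N) (hidx : ∃ n : ℕ, N.index = p ^ n) [Fintype (IrrCharacter G)]
    [DecidablePred (· ∈ principalBlock M G)] :
    ∑ ζ ∈ univ.filter (· ∈ principalBlock M G),
      (charDegree (ζ : G → ℂ) : ℂ) * (ζ : G → ℂ) x = 0 := by
  classical
  haveI : Fintype N := Fintype.ofFinite _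
  have h := sum_comb_complement hM hx N hN hidx fun ζ => conj ((ζ : G → ℂ) 1)
  rw [sum_eq_zero fun n _ => ?_] at h
  · rcases mul_eq_zero.1 h.symm with h | h
    · exact absurd h (Nat.cast_ne_zero.2 Nat.card_pos.ne')
    · refine Eq.trans (sum_congr rfl fun ζ _ => ?_) h
      rw [(irr_one ζ).1, Complex.conj_natCast]
  · refine ((sum_congr rfl fun ζ _ => mul_comm _ _).trans (column_orth _ _)).trans (if_neg ?_)
    rw [isConj_one_left]
    refine coe_ne_of_dvd hxp fun hd => hN ?_
    exact hd.trans (Subgroup.orderOf_dvd_natCard N n.2)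

/-- The sum of the squares of the values at `x`. -/
theorem sum_sq_value (hM : IsPModular p M) {x : G} {k : ℕ} (hx : orderOf x = p ^ k)
    (N : Subgroup ↥(Subgroup.centralizer ({x} : Set G))) [N.Normal]
    (hN : ¬ p ∣ Nat.card N) (hidx : ∃ n : ℕ, N.index = p ^ n) [Fintype (IrrCharacter G)]
    [DecidablePred (· ∈ principalBlock M G)] :
    ∑ ζ ∈ univ.filter (· ∈ principalBlock M G),
      conj ((ζ : G → ℂ) x) * (ζ : G → ℂ) x = (N.index : ℂ) := by
  classical
  haveI : Fintype N := Fintype.ofFinite _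
  have h := sum_comb_complement hM hx N hN hidx fun ζ => conj ((ζ : G → ℂ) x)
  rw [sum_eq_single (1 : N)] at h
  · simp only [OneMemClass.coe_one, mul_one] at h
    rw [(sum_congr rfl fun ζ _ => mul_comm _ _).trans (column_orth x x), if_pos] at h
    · have hN0 : (Nat.card N : ℂ) ≠ 0 := Nat.cast_ne_zero.2 Nat.card_pos.ne'
      apply mul_left_cancel₀ hN0
      rw [← h, ← Nat.cast_mul, N.card_mul_index]
    · exact IsConj.refl x
  · intro n _ hn
    refine ((sum_congr rfl fun ζ _ => mul_comm _ _).trans (column_orth _ _)).trans (if_neg ?_)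
    intro hc
    exact hn (Subtype.ext (eq_one_of_isConj hM.1 hx
      (fun hd => hN (hd.trans (Subgroup.orderOf_dvd_natCard N n.2))) hc))
  · simp

/-- The Frobenius-Schur relation at an odd prime. -/
theorem sum_indicator_value (hM : IsPModular p M) (hp2 : p ≠ 2) {x : G} {k : ℕ}
    (hx : orderOf x = p ^ k)
    (N : Subgroup ↥(Subgroup.centralizer ({x} : Set G))) [N.Normal]
    (hN : ¬ p ∣ Nat.card N) (hidx : ∃ n : ℕ, N.index = p ^ n) [Fintype (IrrCharacter G)]
    [DecidablePred (· ∈ principalBlock M G)] :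
    ∑ ζ ∈ univ.filter (· ∈ principalBlock M G),
      ((Nat.card G : ℂ)⁻¹ * ∑ g : G, conj ((ζ : G → ℂ) (g * g))) * (ζ : G → ℂ) x = 1 := by
  classical
  haveI : Fintype N := Fintype.ofFinite _
  haveI : Fintype ↥(Subgroup.centralizer ({x} : Set G)) := Fintype.ofFinite _
  let r : G → ℂ := fun g => ((univ.filter fun h : G => h * h = g).card : ℂ)
  have hr : IsClassFunction G r := by
    intro g a
    simp only [r, Nat.cast_inj]
    refine card_nbij' (fun h => a⁻¹ * h * a) (fun h => a * h * a⁻¹) ?_ ?_ ?_ ?_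
    · intro h hh
      simp only [Finset.mem_coe, mem_filter, mem_univ, true_and] at hh ⊢
      calc a⁻¹ * h * a * (a⁻¹ * h * a) = a⁻¹ * (h * h) * a := by group
        _ = g := by rw [hh]; group
    · intro h hh
      simp only [Finset.mem_coe, mem_filter, mem_univ, true_and] at hh ⊢
      calc a * h * a⁻¹ * (a * h * a⁻¹) = a * (h * h) * a⁻¹ := by group
        _ = _ := by rw [hh]
    · intro h _; group
    · intro h _; group
  have hinner : ∀ ζ : IrrCharacter G, classInner r (ζ : G → ℂ) =
      (Nat.card G : ℂ)⁻¹ * ∑ g : G, conj ((ζ : G → ℂ) (g * g)) := by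
    intro ζ
    rw [CfsgLib.Char.classInner_def]
    congr 1
    rw [← sum_fiberwise univ (fun g : G => g * g) fun g => conj ((ζ : G → ℂ) (g * g))]
    refine sum_congr rfl fun g _ => ?_
    rw [sum_congr rfl fun h hh => by rw [(mem_filter.1 hh).2], sum_const, nsmul_eq_mul]
  have hsum : ∑ n : N, r (x * ((n : ↥(Subgroup.centralizer ({x} : Set G))) : G)) = (Nat.card N : ℂ) := by
    obtain ⟨m, hm⟩ := hidx
    have hcop : (Nat.card (↥(Subgroup.centralizer ({x} : Set G)) ⧸ N)).Coprime 2 := by
      rw [← Subgroup.index_eq_card, hm]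
      exact Nat.Coprime.pow_left _ ((Nat.coprime_primes hM.1 Nat.prime_two).2 hp2)
    have hbij := (powCoprime hcop).bijective
    let xC : ↥(Subgroup.centralizer ({x} : Set G)) := ⟨x, Subgroup.mem_centralizer_singleton_iff.2 rfl⟩
    obtain ⟨q, hq⟩ := hbij.2 (QuotientGroup.mk' N xC)
    obtain ⟨h0, rfl⟩ := QuotientGroup.mk'_surjective N q
    simp only [r, ← Nat.cast_sum, Nat.cast_inj]
    rw [← card_sigma, Nat.card_eq_fintype_card, ← Finset.card_univ]
    symm
    refine card_bij
      (fun n _ => (⟨⟨xC⁻¹ * ((h0 * (n : ↥(Subgroup.centralizer ({x} : Set G)))) * (h0 * (n : ↥(Subgroup.centralizer ({x} : Set G))))), ?_⟩,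
        ((h0 * (n : ↥(Subgroup.centralizer ({x} : Set G))) : ↥(Subgroup.centralizer ({x} : Set G))) : G)⟩ : (_ : N) × G)) ?_ ?_ ?_
    · rw [← QuotientGroup.eq_one_iff (N := N), QuotientGroup.mk_mul, QuotientGroup.mk_inv,
        QuotientGroup.mk_mul, QuotientGroup.mk_mul, (QuotientGroup.eq_one_iff (n : ↥(Subgroup.centralizer ({x} : Set G)))).2 n.2,
        mul_one]
      have : ((h0 : ↥(Subgroup.centralizer ({x} : Set G))) : ↥(Subgroup.centralizer ({x} : Set G)) ⧸ N) * (h0 : ↥(Subgroup.centralizer ({x} : Set G)) ⧸ N) = (xC : ↥(Subgroup.centralizer ({x} : Set G)) ⧸ N) := by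
        rw [← pow_two]; exact hq
      rw [this, inv_mul_cancel]
    · intro n _
      simp only [mem_sigma, mem_univ, mem_filter, true_and]
      simp [xC, Subgroup.coe_mul]
    · intro n _ n' _ he
      have h2 := congrArg Sigma.snd he
      exact Subtype.ext (mul_left_cancel (Subtype.ext h2))
    · rintro ⟨n, h⟩ hh
      simp only [mem_sigma, mem_univ, mem_filter, true_and] at hh
      -- a square root of an element of `x N` centralizes `x`
      have hw : ¬ p ∣ orderOf (n : ↥(Subgroup.centralizer ({x} : Set G))) :=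
        fun hd => hN (hd.trans (Subgroup.orderOf_dvd_natCard N n.2))
      have hhC : h ∈ Subgroup.centralizer ({x} : Set G) := by
        refine (fix_of_conj_section hM.1 hx hw hw (c := h) ?_).1
        rw [← hh]
        group
      have hsq : (⟨h, hhC⟩ : ↥(Subgroup.centralizer ({x} : Set G))) * ⟨h, hhC⟩ = xC * (n : ↥(Subgroup.centralizer ({x} : Set G))) := Subtype.ext (by simpa [xC] using hh)
      have hmk : QuotientGroup.mk' N (⟨h, hhC⟩ : ↥(Subgroup.centralizer ({x} : Set G))) = QuotientGroup.mk' N h0 := by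
        refine hbij.1 ?_
        rw [hq]
        show (QuotientGroup.mk' N (⟨h, hhC⟩ : ↥(Subgroup.centralizer ({x} : Set G)))) ^ 2 = _
        rw [pow_two, ← map_mul, hsq, map_mul]
        have : QuotientGroup.mk' N (n : ↥(Subgroup.centralizer ({x} : Set G))) = 1 := (QuotientGroup.eq_one_iff _).2 n.2
        rw [this, mul_one]
      refine ⟨⟨h0⁻¹ * ⟨h, hhC⟩, ?_⟩, mem_univ _, ?_⟩
      · exact QuotientGroup.eq.1 hmk.symm
      · refine Sigma.ext (Subtype.ext ?_) (heq_of_eq ?_)
        · show xC⁻¹ * ((h0 * (h0⁻¹ * ⟨h, hhC⟩)) * (h0 * (h0⁻¹ * ⟨h, hhC⟩))) = (n : ↥(Subgroup.centralizer ({x} : Set G)))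
          rw [mul_inv_cancel_left, hsq, inv_mul_cancel_left]
        · show ((h0 * (h0⁻¹ * ⟨h, hhC⟩) : ↥(Subgroup.centralizer ({x} : Set G))) : G) = h
          rw [mul_inv_cancel_left]
  have h := sum_comb_complement hM hx N hN hidx fun ζ => classInner r (ζ : G → ℂ)
  rw [sum_congr rfl fun n _ => (classFun_expand hr _).symm, hsum] at h
  have hN0 : (Nat.card N : ℂ) ≠ 0 := Nat.cast_ne_zero.2 Nat.card_pos.ne'
  refine mul_left_cancel₀ hN0 ?_
  rw [mul_one]
  simp only [hinner] at h
  exact h.symm

end CfsgLib.GapOne
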