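import Cfsg.Agent.BlocksB.PrincipalNorm
import Cfsg.Agent.Char.DegreesPrime
import Cfsg.Agent.Blocks.Cover
import Cfsg.Agent.BlocksB.Subsection

/-!
# Principal block characters of degree prime to `p` over an extendible one

The sum of a character over the regular elements detects the principal block; inducing an
extension from a subgroup of index prime to `p` keeps that sum prime to `p`.
-/

set_option autoImplicit false
set_option linter.style.haveILetI false
set_option linter.unusedSectionVars false

namespace CfsgLib.PrincipalOver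

open Cfsg Finset CfsgLib.Block CfsgLib.Block.Chr CfsgLib.Char CfsgLib.PrincipalNorm
open scoped ComplexConjugate
open scoped Classical

universe u

variable {M : Ideal AlgInt} [M.IsPrime] {p : ℕ} [Fact p.Prime] {G : Type u} [Group G] [Fintype G]

theorem regSum_eq_mul (χ : IrrCharacter G) :
    regSum p (χ : G → ℂ) = heightForm p (oneIrr G) χ * (charDegree (χ : G → ℂ) : ℂ) := by
  rw [heightForm_one, ← (irr_one χ).1, div_mul_cancel₀ _ (irr_one_ne_zero χ)]

/-- A member of the principal block of degree prime to `p` has a regular sum prime to `p`. -/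
theorem regSum_not_mem (hM : IsPModular p M) {χ : IrrCharacter G} (hχ : χ ∈ principalBlock M G)
    (hd : ¬ p ∣ charDegree (χ : G → ℂ)) : ¬ MemLocalIdeal M (regSum p (χ : G → ℂ)) := by
  rw [regSum_eq_mul, mul_comm]
  exact not_memLocalIdeal_mul (natCast_mem_localRing _) (mt (memLocalIdeal_natCast_iff hM).1 hd)
    ((heightForm_unit_iff hM isPBlock_principalBlock (oneIrr_mem_principalBlock (G := G)) hχ).2
      oneIrr_height_zero)

/-- The regular sum is divisible by `p` off the members of degree prime to `p`. -/
theorem regSum_mem (hM : IsPModular p M) (χ : IrrCharacter G)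
    (h : χ ∉ principalBlock M G ∨ p ∣ charDegree (χ : G → ℂ)) :
    MemLocalIdeal M (regSum p (χ : G → ℂ)) := by
  rcases h with h | h
  · rw [not_ne_iff.1 (mt (mem_principal_iff hM χ).2 h)]
    exact memLocalIdeal_zero
  · rw [regSum_eq_mul, mul_comm]
    refine memLocalIdeal_mul_right ((memLocalIdeal_natCast_iff hM).2 h) ?_
    rw [heightForm, omega_eq_sum_classes χ]
    · refine memLocalRing_sum fun C _ => memLocalRing_mul ?_ (centralChar_mem χ _)
      by_cases hC : p ∣ orderOf C.out
      · rw [regPart_of_dvd hC]; exact memLocalRing_zero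
      · rw [regPart_of_not_dvd hC, oneIrr_apply, map_one]; exact memLocalRing_one
    · refine CfsgLib.BlockB.isClassFunction_regPart_self fun g y => ?_
      simp only [oneIrr_apply]

/-- A constituent of a restriction restricts into the restriction. -/
theorem classInner_ne_zero_of_sub {N H : Subgroup G} [Fintype N] [Fintype H] {hNH : N ≤ H}
    {χ : G → ℂ} (hχ : IsCharacter G χ) (η : IrrCharacter H) (θ : IrrCharacter N)
    (hη : ∀ n : N, (η : H → ℂ) (Subgroup.inclusion hNH n) = (θ : N → ℂ) n)
    (h : classInner (fun w : H => χ w) (η : H → ℂ) ≠ 0) :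
    classInner (fun n : N => χ n) (θ : N → ℂ) ≠ 0 := by
  letI := irrFintype (G := H)
  have hresχ : IsCharacter H (fun w : H => χ w) := IsCharacter.restrict hχ H
  choose a ha using fun φ : IrrCharacter H =>
    IsCharacter.exists_classInner_eq_natCast hresχ φ.2
  have hr : ∀ φ : IrrCharacter H, IsCharacter N (fun n : N => (φ : H → ℂ)
      (Subgroup.inclusion hNH n)) := fun φ =>
    IsCharacter.comp (isCharacter_irr φ) (Subgroup.inclusion hNH)
  choose b hb using fun φ : IrrCharacter H => IsCharacter.exists_classInner_eq_natCast (hr φ) θ.2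
  have he : classInner (fun n : N => χ n) (θ : N → ℂ) = ((∑ φ, a φ * b φ : ℕ) : ℂ) := by
    rw [Nat.cast_sum, show (fun n : N => χ n) = ∑ φ : IrrCharacter H, (a φ : ℂ) •
      (fun n : N => (φ : H → ℂ) (Subgroup.inclusion hNH n)) from funext fun n => by
        rw [Finset.sum_apply]
        refine (classFun_expand (IsCharacter.isClassFunction hresχ)
          (Subgroup.inclusion hNH n)).trans (sum_congr rfl fun φ _ => ?_)
        rw [ha]; rfl, classInner_sum_left]
    exact sum_congr rfl fun φ _ => by rw [classInner_smul_left, hb, Nat.cast_mul]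
  rw [he, Nat.cast_ne_zero]
  have hb1 : b η = 1 := by
    have h1 := hb η
    rw [show (fun n : N => (η : H → ℂ) (Subgroup.inclusion hNH n)) = (θ : N → ℂ) from
      funext hη, classInner_irr, if_pos rfl] at h1
    exact_mod_cast h1.symm
  have ha1 : a η ≠ 0 := fun e => h (by rw [ha, e, Nat.cast_zero])
  intro e
  have := single_le_sum (f := fun φ => a φ * b φ) (fun φ _ => Nat.zero_le _) (mem_univ η)
  simp only [e, hb1, mul_one] at this
  omega

/-- **A principal block character of degree prime to `p` over an extendible one.** -/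
theorem exists_over_principal (hM : IsPModular p M) {N : Subgroup G} [N.Normal] [Fintype N]
    (P : Sylow p G) (θ : IrrCharacter N) (hθ : θ ∈ principalBlock M N)
    (hdeg : ¬ p ∣ charDegree (θ : N → ℂ)) {H : Subgroup G} [Fintype H]
    (hH : H = N ⊔ (P : Subgroup G)) (hNH : N ≤ H) (η : IrrCharacter H)
    (hη : ∀ n : N, (η : H → ℂ) (Subgroup.inclusion hNH n) = (θ : N → ℂ) n) :
    ∃ χ : IrrCharacter G, χ ∈ principalBlock M G ∧ ¬ p ∣ charDegree (χ : G → ℂ) ∧
      classInner (fun n : N => (χ : G → ℂ) n) (θ : N → ℂ) ≠ 0 := by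
  letI := irrFintype (G := G)
  have hp : p.Prime := Fact.out
  have hidx : ¬ p ∣ H.index := fun h =>
    P.not_dvd_index (h.trans (Subgroup.index_dvd_of_le (hH ▸ le_sup_right)))
  set Φ := indFun H (η : H → ℂ)
  have hΦ : IsClassFunction G Φ := isClassFunction_indFun H _
  set c : G → ℂ := regPart p fun _ => 1
  have hc : IsClassFunction G c :=
    CfsgLib.BlockB.isClassFunction_regPart_self fun g y => rfl
  have hcreal : ∀ g, conj (c g) = c g := fun g => by
    by_cases hg : p ∣ orderOf g <;> simp [c, regPart, hg]
  -- the regular elements of `H` lie in `N`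
  have hreg : ∀ h : H, ¬ p ∣ orderOf h → (h : G) ∈ N := by
    intro h hh
    obtain ⟨n, hn, x, hx, he⟩ := Subgroup.mem_sup_of_normal_left.1 (show (h : G) ∈ N ⊔ (P : Subgroup G) by rw [← hH]; exact h.2)
    obtain ⟨k, hk⟩ := P.isPGroup' ⟨x, hx⟩
    have hxk : x ^ p ^ k = 1 := congrArg Subtype.val hk
    rw [← QuotientGroup.eq_one_iff]
    refine orderOf_eq_one_iff.1 (Nat.eq_one_of_dvd_coprimes (Nat.Coprime.pow_right k
      (Nat.Coprime.symm (hp.coprime_iff_not_dvd.2 (by rwa [Subgroup.orderOf_coe]))))
      (orderOf_map_dvd (QuotientGroup.mk' N) (h : G)) (orderOf_dvd_of_pow_eq_one ?_))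
    show (((h : G) : G ⧸ N)) ^ p ^ k = 1
    rw [← he, QuotientGroup.mk_mul, (QuotientGroup.eq_one_iff n).2 hn, one_mul,
      ← QuotientGroup.mk_pow, hxk]
    rfl
  -- the two evaluations of the regular sum of the induced character
  have h1 : ∑ χ : IrrCharacter G, classInner Φ (χ : G → ℂ) * regSum p (χ : G → ℂ) =
      ∑ g : G, Φ g * c g := by
    symm
    rw [sum_congr rfl fun g _ => by rw [classFun_expand hΦ g, sum_mul], sum_comm]
    refine sum_congr rfl fun χ _ => ?_
    rw [regSum, sum_filter, mul_sum]
    refine sum_congr rfl fun g _ => ?_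
    by_cases hg : p ∣ orderOf g <;> simp [c, regPart, hg, mul_assoc]
  have h2 : ∑ g : G, Φ g * c g = (H.index : ℂ) * regSum p (θ : N → ℂ) := by
    have e1 : ∑ g : G, Φ g * c g = (Nat.card G : ℂ) * classInner Φ c := by
      rw [classInner_def, mul_inv_cancel_left₀ (Nat.cast_ne_zero.2 Nat.card_pos.ne')]
      exact sum_congr rfl fun g _ => by rw [hcreal]
    have e2 : ∑ h : H, (η : H → ℂ) h * conj (c h) = regSum p (θ : N → ℂ) := by
      rw [regSum, sum_filter]
      refine (Finset.sum_of_injOn (fun n : N => Subgroup.inclusion hNH n)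
        (Subgroup.inclusion_injective hNH).injOn (by simp) (fun h _ hh => ?_)
        fun n _ => ?_).symm
      · rw [show c h = 0 from regPart_of_dvd (by
          by_contra hd
          exact hh ⟨⟨h, hreg h (by rwa [← Subgroup.orderOf_coe])⟩, by simp, rfl⟩), map_zero,
          mul_zero]
      · rw [hη, hcreal]
        show _ = (θ : N → ℂ) n * regPart p (fun _ => (1 : ℂ)) (n : G)
        rw [regPart, Subgroup.orderOf_coe]
        split_ifs <;> simp
    rw [e1, classInner_indFun _ hc, classInner_def, e2, ← mul_assoc, ← H.index_mul_card,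
      Nat.cast_mul, mul_assoc (H.index : ℂ), mul_inv_cancel₀
        (Nat.cast_ne_zero.2 Nat.card_pos.ne'), mul_one]
  by_contra hall
  have hmem : MemLocalIdeal M ((H.index : ℂ) * regSum p (θ : N → ℂ)) := by
    rw [← h2, ← h1]
    refine memLocalIdeal_sum fun χ _ => ?_
    obtain ⟨k, hk⟩ := IsCharacter.exists_classInner_eq_natCast
      (IsCharacter.indFun (H := H) (isCharacter_irr η)) χ.2
    rw [hk]
    by_cases h : χ ∉ principalBlock M G ∨ p ∣ charDegree (χ : G → ℂ)
    · exact memLocalIdeal_mul_left (natCast_mem_localRing _) (regSum_mem hM χ h)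
    · rw [not_or, not_not] at h
      suffices (k : ℂ) = 0 by rw [this, zero_mul]; exact memLocalIdeal_zero
      by_contra hk0
      refine hall ⟨χ, h.1, h.2, ?_⟩
      have hη1 : classInner (fun w : H => (χ : G → ℂ) w) (η : H → ℂ) ≠ 0 := by
        rw [← classInner_conj, ← classInner_indFun _ (isClassFunction_irr χ), hk,
          Complex.conj_natCast]
        exact hk0
      exact classInner_ne_zero_of_sub (isCharacter_irr χ) η θ hη hη1
  exact not_memLocalIdeal_mul (natCast_mem_localRing _) (mt (memLocalIdeal_natCast_iff hM).1 hidx)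
    (regSum_not_mem hM hθ hdeg) hmem

end CfsgLib.PrincipalOver
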