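import Cfsg.Agent.BlocksB.MajorSubsection
import Cfsg.Agent.Blocks.ThirdMain

/-!
# Contributions of height zero characters are units for every subsection

With `q` the defect of `b`, `p ^ q` times the contribution of two characters of height zero of the
induced block is not congruent to zero.
-/

namespace CfsgLib.BlockB

open Finset Cfsg CfsgLib.Block CfsgLib.Block.Chr CfsgLib.Char
open scoped ComplexConjugate

set_option linter.unusedSectionVars false
set_option linter.style.haveILetI false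

universe u

variable {G : Type u} [Group G] [Fintype G] {M : Ideal AlgInt} [M.IsPrime] {p : ℕ} [Fact p.Prime]
  {H : Subgroup G} [Fintype H] {y : G} {b : Set (IrrCharacter H)} {B : Set (IrrCharacter G)}

/-- The reduced degree of the part in `b` of the restriction of a height zero character. -/
theorem sum_mult_redDeg_not_dvd (hM : IsPModular p M) (hind : IsInducedBlock M H b B)
    {χ : IrrCharacter G} (hχ : χ ∈ B) (h0 : blockHeight p B (χ : G → ℂ) = 0) [Fintype b]
    (n : b → ℕ)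
    (hn : ∀ ξ : b, classInner (fun c : H => (χ : G → ℂ) c) ((ξ : IrrCharacter H) : H → ℂ) = n ξ) :
    ¬ p ∣ ∑ ξ : b, n ξ * redDeg p b ξ.1 := by
  classical
  letI := irrFintype (G := H)
  intro hdvd
  have hb := hind.1
  obtain ⟨η, hη, hη0⟩ := exists_height_zero hM hb
  have hu := (induced_iff_unit hM hind.2.1 hχ h0 hind hη).1 rfl
  rw [omega_resFun_regConj] at hu
  refine hu ?_
  obtain ⟨c, hcR, -, hcong⟩ := redInt_cong (p := p) hM hb
  set w := ((Nat.card H / p ^ (Nat.card H).factorization p : ℕ) : ℂ)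
  obtain ⟨hw, hw'⟩ := unit_ordCompl (G := H) hM
  have hdη : ¬ p ∣ redDeg p b η := by
    have := factorization_degree hM hb hη
    rw [hη0, add_zero] at this
    rw [redDeg, ← this]
    exact Nat.not_dvd_ordCompl hM.1 (irr_one η).2.ne'
  have hd0 : (redDeg p b η : ℂ) ≠ 0 := Nat.cast_ne_zero.2 fun h => hdη (h ▸ dvd_zero p)
  set s : ℂ := (redDeg p b η : ℂ)⁻¹ * w
  have hwR : MemLocalRing M w := natCast_mem_localRing _
  have hsR : MemLocalRing M s := memLocalRing_mul (memLocalRing_natCast_inv hM hdη) hwR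
  have key : ∀ ψ ∈ b, heightForm p ψ η = s * (redInt p b ψ η : ℂ) := by
    intro ψ _
    have h := mul_regInt (p := p) ψ η
    rw [← redInt_spec hM hb hη, ← pow_mul_redDeg hM hb hη] at h
    push_cast at h
    have h' : w * (redInt p b ψ η : ℂ) = (redDeg p b η : ℂ) * heightForm p ψ η := by
      refine mul_left_cancel₀ (pow_ne_zero ((Nat.card H).factorization p - blockDefect p b)
        (Nat.cast_ne_zero.2 hM.1.ne_zero : (p : ℂ) ≠ 0)) ?_
      linear_combination h
    rw [show s * (redInt p b ψ η : ℂ) = (redDeg p b η : ℂ)⁻¹ * (w * (redInt p b ψ η : ℂ)) from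
      mul_assoc _ _ _, h', ← mul_assoc, inv_mul_cancel₀ hd0, one_mul]
  have hsplit : ∑ ψ : IrrCharacter H,
      conj (classInner (fun c : H => (χ : G → ℂ) c) (ψ : H → ℂ)) * heightForm p ψ η =
      ∑ ξ : b, (n ξ : ℂ) * (s * (redInt p b ξ.1 η : ℂ)) := by
    rw [← sum_subset (subset_univ (univ.filter (· ∈ b))) fun ψ _ hψ => by
      rw [heightForm_eq_zero hM (isPBlock_blockOf ψ) (mem_blockOf_self ψ) fun hm =>
        hψ (mem_filter.2 ⟨mem_univ _, (sameBlock_iff_mem hb hη).2 (sameBlock_symm hm)⟩), mul_zero],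
      sum_subtype (univ.filter (· ∈ b)) (p := (· ∈ b)) (by simp)
        (fun ψ : IrrCharacter H =>
          conj (classInner (fun c : H => (χ : G → ℂ) c) (ψ : H → ℂ)) * heightForm p ψ η)]
    exact sum_congr rfl fun ξ _ => by rw [hn, map_natCast, key ξ.1 ξ.2]
  rw [hsplit]
  have hd : MemLocalIdeal M (((∑ ξ : b, n ξ * redDeg p b ξ.1 : ℕ) : ℂ) *
      (s * c * (redDeg p b η : ℂ))) :=
    memLocalIdeal_mul_right ((memLocalIdeal_natCast_iff hM).2 hdvd)
      (memLocalRing_mul (memLocalRing_mul hsR hcR) (natCast_mem_localRing _))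
  refine (memLocalIdeal_iff_of_cong ?_).2 hd
  push_cast
  rw [sum_mul, ← sum_sub_distrib]
  refine memLocalIdeal_sum fun ξ _ => ?_
  have h := memLocalIdeal_mul_left (memLocalRing_mul (natCast_mem_localRing (M := M) (n ξ)) hsR)
    (hcong ξ.1 ξ.2 η hη)
  convert h using 1
  ring

/-- The scaled contribution of two height zero characters is not congruent to zero. -/
theorem scaled_contrib_unit (hM : IsPModular p M) (hH : H = Subgroup.centralizer ({y} : Set G))
    {k : ℕ} (hy : orderOf y = p ^ k) (hind : IsInducedBlock M H b B) {χ ψ : IrrCharacter G}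
    (hχ : χ ∈ B) (hψ : ψ ∈ B) (h0 : blockHeight p B (χ : G → ℂ) = 0)
    (h0' : blockHeight p B (ψ : G → ℂ) = 0) :
    ¬ MemLocalIdeal M ((p : ℂ) ^ blockDefect p b * contrib p b y χ ψ) := by
  classical
  letI := irrFintype (G := H)
  haveI : Fintype b := Fintype.ofFinite b
  choose L N hL hL1 hN hLN using fun φ (ξ : b) => exists_section_coeff hM hH hy φ ξ.1
  have hconjL : ∀ φ ξ, conj (L φ ξ) = (L φ ξ)⁻¹ := fun φ ξ =>
    (Complex.inv_eq_conj (Complex.norm_eq_one_of_pow_eq_one (hL φ ξ) (pow_pos hM.1.pos k).ne')).symm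
  have hformula : (p : ℂ) ^ blockDefect p b * contrib p b y χ ψ =
      ∑ ξ : b, ∑ ξ' : b, L χ ξ * (N χ ξ : ℂ) * ((L ψ ξ')⁻¹ * (N ψ ξ' : ℂ)) *
        (redInt p b ξ.1 ξ'.1 : ℂ) := by
    rw [contrib_eq_sum hM hind.1, mul_sum]
    refine sum_congr rfl fun ξ _ => ?_
    rw [mul_sum]
    refine sum_congr rfl fun ξ' _ => ?_
    rw [hLN, hLN, map_mul, hconjL, map_natCast, redInt_eq_regMat hM hind.1]
    ring
  rw [hformula]
  have hpk : 0 < p ^ k := pow_pos hM.1.pos k
  obtain ⟨c, hcR, hc, hcong⟩ := redInt_cong hM hind.1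
  have hq1 := sum_mult_redDeg_not_dvd hM hind hχ h0 (N χ) (hN χ)
  have hq2 := sum_mult_redDeg_not_dvd hM hind hψ h0' (N ψ) (hN ψ)
  have hgoal : MemLocalIdeal M ((∑ ξ : b, ∑ ξ' : b, L χ ξ * (N χ ξ : ℂ) *
      ((L ψ ξ')⁻¹ * (N ψ ξ' : ℂ)) * (redInt p b ξ.1 ξ'.1 : ℂ)) -
      c * ((∑ ξ : b, N χ ξ * redDeg p b ξ.1 : ℕ) : ℂ) * ((∑ ξ : b, N ψ ξ * redDeg p b ξ.1 : ℕ) : ℂ)) := by
    push_cast
    rw [mul_assoc, sum_mul_sum, mul_sum, ← sum_sub_distrib]
    refine memLocalIdeal_sum fun ξ _ => ?_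
    rw [mul_sum, ← sum_sub_distrib]
    refine memLocalIdeal_sum fun ξ' _ => ?_
    have hLint : MemLocalRing M (L ψ ξ')⁻¹ := by
      refine memLocalRing_of_isIntegral (isIntegral_of_pow_eq_one hpk ?_)
      rw [inv_pow, hL, inv_one]
    have hLne : L ψ ξ' ≠ 0 := fun h => by
      have := hL ψ ξ'
      rw [h, zero_pow hpk.ne'] at this
      exact zero_ne_one this
    have hL' : MemLocalIdeal M (L χ ξ * (L ψ ξ')⁻¹ - 1) := by
      have h2 : MemLocalIdeal M ((L ψ ξ')⁻¹ * (L χ ξ - 1) - (L ψ ξ')⁻¹ * (L ψ ξ' - 1)) :=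
        memLocalIdeal_sub (memLocalIdeal_mul_left hLint (hL1 χ ξ))
          (memLocalIdeal_mul_left hLint (hL1 ψ ξ'))
      convert h2 using 1
      field_simp
      ring
    have t1 : MemLocalIdeal M ((L χ ξ * (L ψ ξ')⁻¹ - 1) *
        ((N χ ξ : ℂ) * (N ψ ξ' : ℂ) * (redInt p b ξ.1 ξ'.1 : ℂ))) :=
      memLocalIdeal_mul_right hL' (memLocalRing_mul
        (memLocalRing_mul (natCast_mem_localRing _) (natCast_mem_localRing _))
        (intCast_mem (localRing M) _))
    have t2 := memLocalIdeal_mul_left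
      (memLocalRing_mul (natCast_mem_localRing (N χ ξ)) (natCast_mem_localRing (N ψ ξ')))
      (hcong ξ.1 ξ.2 ξ'.1 ξ'.2)
    convert memLocalIdeal_add t1 t2 using 1
    push_cast
    ring
  intro hI
  have h2 := (memLocalIdeal_iff_of_cong hgoal).1 hI
  refine not_memLocalIdeal_mul (memLocalRing_mul hcR (natCast_mem_localRing _))
    (not_memLocalIdeal_mul hcR hc (mt (memLocalIdeal_natCast_iff hM).1 hq1))
    (mt (memLocalIdeal_natCast_iff hM).1 hq2) h2

end CfsgLib.BlockB
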