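import Cfsg.Agent.BlocksB.ChainCount
import Cfsg.Agent.BlocksB.PrincipalGapValues
import Cfsg.Agent.BlocksB.PrincipalNorm
import Cfsg.Agent.BlocksB.PrincipalRankQuotient
import Cfsg.Agent.Blocks.KleinRank
import Cfsg.Agent.Fusion.HomocyclicTwo
import Cfsg.Agent.Solvable.Basics
import Cfsg.Agent.ZStar.Final
import Mathlib.GroupTheory.SpecificGroups.Quaternion

/-!
# The principal block with a quaternion Sylow subgroup of order eight

The involution is central, the quotient by it has a Klein four Sylow subgroup, and the count by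
subsections gives `3 + 3 + 1`.
-/

set_option autoImplicit false
set_option linter.style.haveILetI false
set_option linter.unusedSectionVars false

namespace CfsgLib.QuaternionPrincipal

open Cfsg Finset CfsgLib.Block CfsgLib.Block.Chr CfsgLib.Char
open scoped Classical

universe u

variable {M : Ideal AlgInt} [M.IsPrime] {p : ℕ} [Fact p.Prime]

theorem principal_irrComp {H K : Type u} [Group H] [Group K] [Fintype H] [Fintype K]
    (hM : IsPModular p M) (e : H ≃* K) :
    irrComp e '' principalBlock M K = principalBlock M H := by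
  have key : ∀ φ : IrrCharacter K,
      irrComp e φ ∈ principalBlock M H ↔ φ ∈ principalBlock M K := by
    intro φ
    rw [PrincipalNorm.mem_principal_iff hM, PrincipalNorm.mem_principal_iff hM]
    refine Iff.not (Eq.congr_left ?_)
    rw [PrincipalNorm.regSum, PrincipalNorm.regSum, sum_filter, sum_filter]
    refine Fintype.sum_equiv e.toEquiv _ _ fun h => ?_
    show _ = if ¬ p ∣ orderOf (e h) then (φ : K → ℂ) (e h) else 0
    rw [e.orderOf_eq, irrComp_coe]
  ext χ
  refine ⟨fun ⟨φ, hφ, h⟩ => h ▸ (key φ).2 hφ, fun h => ?_⟩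
  refine ⟨irrComp e.symm χ, (key _).1 (by rwa [irrComp_symm']), irrComp_symm' e χ⟩

/-- The only block of a centralizer inducing the principal block is the principal one. -/
theorem inducing_eq {G : Type u} [Group G] [Fintype G] (hM : IsPModular p M) {x : G} {k : ℕ}
    (hx : orderOf x = p ^ k) :
    ∑ᶠ b ∈ {b : Set (IrrCharacter ↥(Subgroup.centralizer ({x} : Set G))) |
        IsInducedBlock M (Subgroup.centralizer ({x} : Set G)) b (principalBlock M G)},
      blockRank p b = blockRank p (principalBlock M (Subgroup.centralizer ({x} : Set G))) := by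
  haveI : Fintype (Subgroup.centralizer ({x} : Set G)) := Fintype.ofFinite _
  have h : {b : Set (IrrCharacter ↥(Subgroup.centralizer ({x} : Set G))) |
      IsInducedBlock M (Subgroup.centralizer ({x} : Set G)) b (principalBlock M G)} =
      {principalBlock M (Subgroup.centralizer ({x} : Set G))} := by
    ext b
    simp only [Set.mem_setOf_eq, Set.mem_singleton_iff]
    refine ⟨fun hb => (third_main hM (centralizer_induced hM hx hb.1)).1 hb,
      fun hb => hb ▸ (third_main hM (centralizer_induced hM hx isPBlock_principalBlock)).2 rfl⟩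
  rw [h, finsum_mem_singleton]

theorem quaternion_facts :
    (∀ a : QuaternionGroup 2, a * a * (a * a) = 1) ∧
      (∀ a : QuaternionGroup 2, a * a ≠ 1 → a * a = QuaternionGroup.a 2) ∧
      (∀ a : QuaternionGroup 2, a * a = 1 → a ≠ 1 → a = QuaternionGroup.a 2) ∧
      (∀ a : QuaternionGroup 2, a * a ≠ 1 → ∃ b, b * a * b⁻¹ = a⁻¹) ∧
      (∀ a b : QuaternionGroup 2, a * a ≠ 1 → b * a = a * b →
        b = 1 ∨ b = a ∨ b = a * a ∨ b = a * a * a) ∧
      (∃ a : QuaternionGroup 2, a * a ≠ 1) := by
  refine ⟨?_, ?_, ?_, ?_, ?_, ?_⟩ <;> decide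

theorem card_seven {G : Type u} [Group G] [Finite G] {M : Ideal AlgInt} (hM : IsPModular 2 M)
    (S : Sylow 2 G) (e : (S : Subgroup G) ≃* QuaternionGroup 2)
    (hO : ∀ N : Subgroup G, N.Normal → Odd (Nat.card N) → N = ⊥)
    (hG : (S : Subgroup G) ≠ ⊤) : Nat.card (principalBlock M G) = 7 := by
  haveI := hM.2.1.isPrime
  haveI : Fact (Nat.Prime 2) := ⟨Nat.prime_two⟩
  letI := Fintype.ofFinite G
  obtain ⟨q4, qsq, qinv, qconj, qcent, ⟨a₀, ha₀⟩⟩ := quaternion_facts
  set z : G := ((e.symm (QuaternionGroup.a 2)) : G)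
  have hzS : z ∈ (S : Subgroup G) := (e.symm (QuaternionGroup.a 2)).2
  have hord : ∀ y : (S : Subgroup G), orderOf (y : G) = orderOf (e y) := fun y => by
    rw [Subgroup.orderOf_coe, e.orderOf_eq]
  have hz2 : orderOf z = 2 := by
    rw [hord, e.apply_symm_apply]
    exact orderOf_eq_prime (by decide) (by decide)
  have huniq : ∀ y : (S : Subgroup G), (y : G) * y = 1 → (y : G) ≠ 1 → (y : G) = z := by
    intro y hy hy1
    have h : e y * e y = 1 := by rw [← map_mul, ← e.map_one]; exact congrArg e (Subtype.ext hy)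
    have h1 : e y ≠ 1 := fun h => hy1 (by
      have := e.injective (h.trans e.map_one.symm)
      rw [this]; rfl)
    rw [← e.symm_apply_apply y, qinv _ h h1]
  -- the involution is central
  have hcen : ∀ g : G, g * z * g⁻¹ = z := by
    obtain ⟨N, hN, hodd, hcomm⟩ := ZStar.zstar_of_sylow S hz2 fun g hg => by
      have h2 : orderOf (g * z * g⁻¹) = 2 :=
        (orderOf_injective (MulAut.conj g).toMonoidHom (MulAut.conj g).injective z).trans hz2
      refine huniq ⟨_, hg⟩ ?_ fun h => ?_
      · show g * z * g⁻¹ * (g * z * g⁻¹) = 1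
        rw [← sq, ← h2, pow_orderOf_eq_one]
      · rw [show g * z * g⁻¹ = 1 from h, orderOf_one] at h2; omega
    intro g
    have := hcomm g
    rw [hO N hN hodd, Subgroup.mem_bot, mul_inv_eq_one, mul_inv_eq_iff_eq_mul] at this
    rw [← this, mul_inv_cancel_right]
  set Q : Subgroup G := Subgroup.zpowers z
  have hQc : ∀ g : G, g * z = z * g := fun g => mul_inv_eq_iff_eq_mul.1 (hcen g)
  haveI : Q.Normal := ⟨fun x hx g => by
    obtain ⟨j, rfl⟩ := hx
    refine ⟨j, ?_⟩
    show z ^ j = g * z ^ j * g⁻¹
    rw [(Commute.zpow_right (hQc g) j).eq, mul_inv_cancel_right]⟩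
  have hQp : IsPGroup 2 Q := IsPGroup.of_card (n := 1) (by rw [Nat.card_zpowers, hz2, pow_one])
  have hsup : Q ⊔ Subgroup.centralizer (Q : Set G) = ⊤ := by
    refine eq_top_iff.2 fun g _ => Subgroup.mem_sup_right (Subgroup.mem_centralizer_iff.2 ?_)
    rintro x ⟨j, rfl⟩
    exact ((Commute.zpow_right (hQc g) j).eq).symm
  have hQS : Q ≤ (S : Subgroup G) := Subgroup.zpowers_le.2 hzS
  -- the quotient
  let Sb : Sylow 2 (G ⧸ Q) := S.mapSurjective (QuotientGroup.mk'_surjective Q)
  have hSb : (Sb : Subgroup (G ⧸ Q)) = (S : Subgroup G).map (QuotientGroup.mk' Q) := rfl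
  have hsq : ∀ y : G, y ∈ (S : Subgroup G) → y * y ∈ Q := by
    intro y hy
    by_cases h1 : y * y = 1
    · rw [h1]; exact one_mem Q
    · have h : e ⟨y, hy⟩ * e ⟨y, hy⟩ ≠ 1 := fun h => h1 (by
        rw [← map_mul, ← e.map_one] at h
        exact congrArg Subtype.val (e.injective h))
      have h2 := qsq _ h
      rw [← map_mul] at h2
      have h3 := congrArg e.symm h2
      rw [e.symm_apply_apply] at h3
      rw [show y * y = z from congrArg Subtype.val h3]
      exact Subgroup.mem_zpowers z
  have hexp : ∀ x : Sb, x * x = 1 := by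
    rintro ⟨_, y, hy, rfl⟩
    refine Subtype.ext ?_
    show (QuotientGroup.mk' Q y) * (QuotientGroup.mk' Q y) = 1
    rw [← map_mul]
    exact (QuotientGroup.eq_one_iff _).2 (hsq y hy)
  have hcard : Nat.card Sb = 4 := by
    have h8 : Nat.card (S : Subgroup G) = 8 := by
      rw [Nat.card_congr e.toEquiv, Nat.card_eq_fintype_card, QuaternionGroup.card]
    have hidx := Subgroup.card_mul_index (Q.subgroupOf (S : Subgroup G))
    rw [Nat.card_congr (Subgroup.subgroupOfEquivOfLe hQS).toEquiv, Nat.card_zpowers, hz2, h8] at hidx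
    have hker : ((QuotientGroup.mk' Q).comp (S : Subgroup G).subtype).ker =
        Q.subgroupOf (S : Subgroup G) := by
      ext y; simp [Subgroup.mem_subgroupOf]
    have hr : Nat.card ((QuotientGroup.mk' Q).comp (S : Subgroup G).subtype).range = 4 := by
      rw [← Subgroup.index_ker, hker]; omega
    rwa [MonoidHom.range_comp, Subgroup.range_subtype] at hr
  have hSetup : HomocyclicTwo.Setup Sb := by
    refine ⟨fun a ha b hb => ?_, ?_⟩
    · have h3 := congrArg Subtype.val (hexp ⟨a * b, mul_mem ha hb⟩)
      have h1 := congrArg Subtype.val (hexp ⟨a, ha⟩)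
      have h2 := congrArg Subtype.val (hexp ⟨b, hb⟩)
      simp only [Subgroup.coe_mul, OneMemClass.coe_one] at h1 h2 h3
      calc a * b = (a * b)⁻¹ := eq_inv_of_mul_eq_one_left h3
        _ = b * a := by rw [mul_inv_rev, inv_eq_of_mul_eq_one_right h1, inv_eq_of_mul_eq_one_right h2]
    · haveI : Fintype (Sb : Subgroup (G ⧸ Q)) := Fintype.ofFinite _
      have e1 : {u : G ⧸ Q // u ∈ (Sb : Subgroup (G ⧸ Q)) ∧ orderOf u = 2} ≃
          {u : (Sb : Subgroup (G ⧸ Q)) // u ≠ 1} :=
        { toFun := fun u => ⟨⟨u.1, u.2.1⟩, fun h => by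
            have := u.2.2
            rw [show u.1 = 1 from congrArg Subtype.val h, orderOf_one] at this
            omega⟩
          invFun := fun u => ⟨u.1.1, u.1.2, by
            rw [Subgroup.orderOf_coe]
            exact orderOf_eq_prime (by rw [sq]; exact hexp u.1) u.2⟩
          left_inv := fun u => rfl
          right_inv := fun u => rfl }
      rw [Nat.card_congr e1, Nat.card_eq_fintype_card, Fintype.card_subtype_compl,
        ← Nat.card_eq_fintype_card, Fintype.card_subtype_eq, show Nat.card (Sb : Subgroup (G ⧸ Q)) = 4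
          from hcard]
  have hone : ∀ s t : G ⧸ Q, orderOf s = 2 → orderOf t = 2 → IsConj s t := by
    rcases HomocyclicTwo.complement_or_conj hSetup with ⟨K, hK, hKc⟩ | h
    · exfalso
      refine hG ?_
      haveI := hK
      set L := K.comap (QuotientGroup.mk' Q)
      have hL : L.index = 4 := by
        rw [Subgroup.index_comap_of_surjective _ (QuotientGroup.mk'_surjective Q),
          hKc.symm.index_eq_card, hcard]
      have hKodd : Odd (Nat.card K) := by
        rw [← hKc.index_eq_card, Nat.odd_iff, ← Nat.two_dvd_ne_zero]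
        exact Sb.not_dvd_index
      -- the odd part of the preimage
      have hQL : Q ≤ L := fun x hx => by
        show QuotientGroup.mk' Q x ∈ K
        rw [show QuotientGroup.mk' Q x = 1 from (QuotientGroup.eq_one_iff x).2 hx]; exact one_mem K
      let T : Sylow 2 L := Sylow.ofCard (Q.subgroupOf L) (by
        rw [Nat.card_congr (Subgroup.subgroupOfEquivOfLe hQL).toEquiv, Nat.card_zpowers, hz2]
        have hcL : Nat.card L = 2 * Nat.card K := by
          have h1 := Subgroup.card_mul_index L
          have h2 := Subgroup.card_mul_index K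
          have h3 : Nat.card G = Nat.card (G ⧸ Q) * 2 := by
            rw [Subgroup.card_eq_card_quotient_mul_card_subgroup Q, Nat.card_zpowers, hz2]
          have h4 : K.index = 4 := by rw [hKc.symm.index_eq_card, hcard]
          rw [hL] at h1
          rw [h4] at h2
          omega
        rw [hcL, Nat.factorization_mul two_ne_zero Nat.card_pos.ne', Finsupp.add_apply,
          Nat.prime_two.factorization_self, Nat.factorization_eq_zero_of_not_dvd (fun h => by
            rw [Nat.odd_iff] at hKodd; omega), pow_one])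
      have hT : Subgroup.normalizer ((T : Subgroup L) : Set L) ≤
          Subgroup.centralizer ((T : Subgroup L) : Set L) := fun n _ =>
        Subgroup.mem_centralizer_iff.2 fun t ht => Subtype.ext (by
          obtain ⟨j, hj⟩ := (ht : (t : G) ∈ Q)
          show (t : G) * n = n * t
          rw [show (t : G) = z ^ j from hj.symm]
          exact ((Commute.zpow_right (hQc n) j).eq).symm)
      have hc := MonoidHom.ker_transferSylow_isComplement' T hT
      set W := (MonoidHom.transferSylow T hT).ker
      have hWodd : Odd (Nat.card W) := by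
        rw [← hc.index_eq_card, Nat.odd_iff, ← Nat.two_dvd_ne_zero]
        exact T.not_dvd_index
      haveI : (pPrimeCore 2 L).Characteristic := Subgroup.characteristic_iff_map_le.2 fun φ =>
        CfsgLib.Solvable.le_pPrimeCore _
          (Subgroup.Normal.map (CfsgLib.Solvable.pPrimeCore_normal 2) φ.toMonoidHom φ.surjective)
          (by rw [Subgroup.card_map_of_injective φ.injective]
              exact CfsgLib.Solvable.coprime_card_pPrimeCore 2)
      haveI : ((pPrimeCore 2 L).map L.subtype).Normal :=
        ConjAct.normal_of_characteristic_of_normal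
      have h0 := hO _ (inferInstance : ((pPrimeCore 2 L).map L.subtype).Normal) (by
        rw [Subgroup.card_map_of_injective L.subtype_injective]
        exact Nat.coprime_two_right.1 (CfsgLib.Solvable.coprime_card_pPrimeCore 2))
      rw [Subgroup.map_eq_bot_iff_of_injective _ L.subtype_injective] at h0
      have hW : W = ⊥ := eq_bot_iff.2 (h0 ▸
        CfsgLib.Solvable.le_pPrimeCore _ inferInstance (Nat.coprime_two_right.2 hWodd))
      have hcL2 : Nat.card L = 2 := by
        rw [← hc.card_mul, hW, Subgroup.card_bot, one_mul, show (T : Subgroup L) = Q.subgroupOf L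
          from rfl, Nat.card_congr (Subgroup.subgroupOfEquivOfLe hQL).toEquiv, Nat.card_zpowers, hz2]
      have h1 := Subgroup.card_mul_index L
      rw [hL, hcL2] at h1
      refine Subgroup.eq_top_of_card_eq _ ?_
      rw [← h1, Nat.card_congr e.toEquiv, Nat.card_eq_fintype_card, QuaternionGroup.card]
    · exact h
  have hrank : blockRank 2 (principalBlock M G) = 3 := by
    letI : Fintype (G ⧸ Q) := Fintype.ofFinite _
    rw [BlockB.blockRank_principal_quotient hM hQp hsup]
    exact klein_blockRank hM Sb hcard hexp hone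
  -- an element of order four
  set x : G := ((e.symm a₀) : G)
  have hxS : x ∈ (S : Subgroup G) := (e.symm a₀).2
  have hx4 : orderOf x = 2 ^ 2 := by
    rw [hord, e.apply_symm_apply]
    refine orderOf_eq_prime_pow (n := 1) ?_ ?_
    · rw [pow_one, sq]; exact ha₀
    · rw [show (2 : ℕ) ^ (1 + 1) = 2 + 2 from rfl, pow_add, sq]; exact q4 a₀
  have hxx : x * x = z := by
    show ((e.symm a₀ * e.symm a₀ : (S : Subgroup G)) : G) = _
    rw [← map_mul, qsq a₀ ha₀]
  set X : Finset G := {1, z, x}
  have hone' : ∀ g : G, (∃ k : ℕ, orderOf g = 2 ^ k) → ∃ w ∈ X, IsConj g w := by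
    rintro g ⟨k, hk⟩
    obtain ⟨R, hR⟩ := (IsPGroup.of_card (G := Subgroup.zpowers g) (n := k)
      (by rw [Nat.card_zpowers, hk])).exists_le_sylow
    obtain ⟨h, hh⟩ := MulAction.exists_smul_eq G R S
    set g' := h * g * h⁻¹
    have hgS : g' ∈ (S : Subgroup G) := by
      rw [← hh]; exact ⟨g, hR (Subgroup.mem_zpowers g), rfl⟩
    have hconj : IsConj g g' := isConj_iff.2 ⟨h, rfl⟩
    by_cases h1 : g' * g' = 1
    · by_cases h0 : g' = 1
      · exact ⟨1, by simp [X], h0 ▸ hconj⟩
      · exact ⟨z, by simp [X], huniq ⟨g', hgS⟩ h1 h0 ▸ hconj⟩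
    · refine ⟨x, by simp [X], hconj.trans ?_⟩
      have hbar : ∀ y : G, y ∈ (S : Subgroup G) → y * y ≠ 1 →
          orderOf (QuotientGroup.mk' Q y) = 2 := fun y hy hy2 => by
        refine orderOf_eq_prime ?_ fun h => hy2 ?_
        · rw [sq, ← map_mul]; exact (QuotientGroup.eq_one_iff _).2 (hsq y hy)
        · obtain ⟨j, hj⟩ := (QuotientGroup.eq_one_iff y).1 h
          rw [← hj, ← zpow_add, ← two_mul, zpow_mul, zpow_two,
            show z * z = 1 by rw [← sq, ← hz2, pow_orderOf_eq_one], one_zpow]
      obtain ⟨c, hc⟩ := isConj_iff.1 (hone _ _ (hbar g' hgS h1) (hbar x hxS fun h => by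
        rw [hxx] at h; rw [h, orderOf_one] at hz2; omega))
      obtain ⟨c', rfl⟩ := QuotientGroup.mk'_surjective Q c
      rw [← map_inv, ← map_mul, ← map_mul] at hc
      have hmem : x⁻¹ * (c' * g' * c'⁻¹) ∈ Q := QuotientGroup.eq.1 hc.symm
      obtain ⟨j, hj⟩ := hmem
      have hzz : z * z = 1 := by rw [← sq, ← hz2, pow_orderOf_eq_one]
      obtain ⟨i, rfl | rfl⟩ := Int.even_or_odd' j
      · refine isConj_iff.2 ⟨c', ?_⟩
        have : x⁻¹ * (c' * g' * c'⁻¹) = 1 := by
          rw [← hj]
          show z ^ (2 * i) = 1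
          rw [zpow_mul, zpow_two, hzz, one_zpow]
        exact (inv_mul_eq_one.1 this).symm
      · have hzi : x⁻¹ * (c' * g' * c'⁻¹) = z := by
          rw [← hj]
          show z ^ (2 * i + 1) = z
          rw [zpow_add, zpow_mul, zpow_two, hzz, one_zpow, one_mul, zpow_one]
        have hxinv : c' * g' * c'⁻¹ = x⁻¹ := by
          rw [inv_mul_eq_iff_eq_mul.1 hzi, ← hxx]
          refine eq_inv_of_mul_eq_one_left ?_
          calc x * (x * x) * x = (x * x) * (x * x) := by group
            _ = 1 := by rw [hxx, hzz]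
        obtain ⟨b, hb⟩ := qconj a₀ ha₀
        have hb' : ((e.symm b) : G) * x * ((e.symm b) : G)⁻¹ = x⁻¹ := by
          have := congrArg (fun y => ((e.symm y : (S : Subgroup G)) : G)) hb
          simpa using this
        exact (isConj_iff.2 ⟨c', hxinv⟩).trans (IsConj.symm (isConj_iff.2 ⟨_, hb'⟩))
  have hordX : ∀ w ∈ X, ∀ w' ∈ X, orderOf w = orderOf w' → w = w' := by
    intro w hw w' hw' h
    simp only [X, mem_insert, mem_singleton] at hw hw'
    rcases hw with rfl | rfl | rfl <;> rcases hw' with rfl | rfl | rfl <;>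
      simp only [orderOf_one, hz2, hx4] at h <;> first | rfl | omega
  have hX : ∀ w ∈ X, ∃ k : ℕ, orderOf w = 2 ^ k := by
    intro w hw
    simp only [X, mem_insert, mem_singleton] at hw
    rcases hw with rfl | rfl | rfl
    exacts [⟨0, by rw [orderOf_one, pow_zero]⟩, ⟨1, by rw [hz2, pow_one]⟩, ⟨2, hx4⟩]
  have hrep : ∀ g : G, (∃ k : ℕ, orderOf g = 2 ^ k) → ∃! w, w ∈ X ∧ IsConj g w := by
    intro g hg
    obtain ⟨w, hw, hgw⟩ := hone' g hg
    refine ⟨w, ⟨hw, hgw⟩, fun w' ⟨hw', hgw'⟩ => hordX w' hw' w hw ?_⟩
    obtain ⟨c, hc⟩ := isConj_iff.1 (hgw'.symm.trans hgw)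
    rw [← hc]
    exact (orderOf_injective (MulAut.conj c).toMonoidHom (MulAut.conj c).injective w').symm
  rw [card_block_eq_sum hM isPBlock_principalBlock X hX hrep]
  have hterm : ∀ w ∈ X, ∑ᶠ b ∈ {b : Set (IrrCharacter ↥(Subgroup.centralizer ({w} : Set G))) |
        IsInducedBlock M (Subgroup.centralizer ({w} : Set G)) b (principalBlock M G)},
      blockRank 2 b = if w = x then 1 else 3 := by
    intro w hw
    obtain ⟨k, hk⟩ := hX w hw
    rw [inducing_eq hM hk]
    haveI : Fintype (Subgroup.centralizer ({w} : Set G)) := Fintype.ofFinite _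
    split_ifs with hwx
    · subst hwx
      refine GapOne.blockRank_one_of_hnpc hM ?_
      have hxC : x ∈ Subgroup.centralizer ({x} : Set G) :=
        Subgroup.mem_centralizer_singleton_iff.2 rfl
      set C := Subgroup.centralizer ({x} : Set G)
      set Y : Subgroup C := Subgroup.zpowers (⟨x, hxC⟩ : C)
      have hY4 : Nat.card Y = 2 ^ 2 := by
        rw [Nat.card_zpowers, Subgroup.orderOf_mk]; exact hx4
      obtain ⟨T, hT⟩ := (IsPGroup.of_card hY4).exists_le_sylow
      -- the Sylow subgroup of the centralizer is cyclic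
      obtain ⟨R, hR⟩ := (T.isPGroup'.map C.subtype).exists_le_sylow
      obtain ⟨h, hh⟩ := MulAction.exists_smul_eq G R S
      have hmem : ∀ t ∈ (T : Subgroup C), h * (t : G) * h⁻¹ ∈ (S : Subgroup G) := fun t ht => by
        rw [← hh]; exact ⟨(t : G), hR ⟨t, ht, rfl⟩, rfl⟩
      have hTY : (T : Subgroup C) = Y := by
        refine le_antisymm (fun t ht => ?_) hT
        set u : (S : Subgroup G) := ⟨_, hmem ⟨x, hxC⟩ (hT (Subgroup.mem_zpowers _))⟩
        set v : (S : Subgroup G) := ⟨_, hmem t ht⟩
        have hu : e u * e u ≠ 1 := fun h' => by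
          rw [← map_mul, ← e.map_one] at h'
          have h1 := congrArg Subtype.val (e.injective h')
          simp only [u, Subgroup.coe_mul, OneMemClass.coe_one] at h1
          have h2 : x * x = 1 := by
            calc x * x = h⁻¹ * (h * x * h⁻¹ * (h * x * h⁻¹)) * h := by group
              _ = 1 := by rw [h1]; group
          rw [hxx] at h2; rw [h2, orderOf_one] at hz2; omega
        have hcom : (t : G) * x = x * t := Subgroup.mem_centralizer_singleton_iff.1 t.2
        have huv : e v * e u = e u * e v := by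
          rw [← map_mul, ← map_mul]
          refine congrArg e (Subtype.ext ?_)
          show h * (t : G) * h⁻¹ * (h * x * h⁻¹) = h * x * h⁻¹ * (h * t * h⁻¹)
          calc h * (t : G) * h⁻¹ * (h * x * h⁻¹) = h * ((t : G) * x) * h⁻¹ := by group
            _ = _ := by rw [hcom]; group
        have hback : ∀ j : ℕ, e v = e u ^ j → t ∈ Y := by
          intro j hj
          rw [← map_pow] at hj
          have h1 : h * (t : G) * h⁻¹ = (h * x * h⁻¹) ^ j := by
            have := congrArg Subtype.val (e.injective hj)
            simpa [u, v] using this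
          rw [conj_pow] at h1
          have h2 : (t : G) = x ^ j := mul_left_cancel (mul_right_cancel h1)
          exact Subgroup.mem_zpowers_iff.2 ⟨(j : ℤ), Subtype.ext (by simpa using h2.symm)⟩
        rcases qcent (e u) (e v) hu huv with h' | h' | h' | h'
        · exact hback 0 (by rw [h', pow_zero])
        · exact hback 1 (by rw [h', pow_one])
        · exact hback 2 (by rw [h', sq])
        · exact hback 3 (by rw [h', pow_succ, sq])
      have hN : Subgroup.normalizer ((T : Subgroup C) : Set C) ≤
          Subgroup.centralizer ((T : Subgroup C) : Set C) := fun n _ =>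
        Subgroup.mem_centralizer_iff.2 fun t ht => by
          rw [SetLike.mem_coe, hTY] at ht
          obtain ⟨j, rfl⟩ := ht
          have hc : Commute n (⟨x, hxC⟩ : C) :=
            Subtype.ext (Subgroup.mem_centralizer_singleton_iff.1 n.2)
          exact ((hc.zpow_right j).eq).symm
      exact ⟨T, _, MonoidHom.normal_ker _, MonoidHom.ker_transferSylow_isComplement' T hN⟩
    · have htop : Subgroup.centralizer ({w} : Set G) = ⊤ := by
        refine eq_top_iff.2 fun g _ => Subgroup.mem_centralizer_singleton_iff.2 ?_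
        simp only [X, mem_insert, mem_singleton] at hw
        rcases hw with rfl | rfl | rfl
        · simp
        · exact hQc g
        · exact absurd rfl hwx
      let φ : Subgroup.centralizer ({w} : Set G) ≃* G :=
        (MulEquiv.subgroupCongr htop).trans Subgroup.topEquiv
      rw [← principal_irrComp hM φ, ChainCount.blockRank_irrComp, hrank]
  rw [sum_congr rfl hterm]
  have h1x : (1 : G) ≠ x := fun h => by rw [← h, orderOf_one] at hx4; omega
  have h1z : (1 : G) ≠ z := fun h => by rw [← h, orderOf_one] at hz2; omega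
  have hzx : z ≠ x := fun h => by rw [← h, hz2] at hx4; omega
  rw [sum_insert (by simp [h1z, h1x]), sum_pair hzx, if_neg h1x, if_neg hzx, if_pos rfl]
  all_goals norm_num

end CfsgLib.QuaternionPrincipal
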