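import Cfsg.Agent.BlocksB.QuotientDefect
import Mathlib.Data.Nat.ChineseRemainder

/-!
# Blocks of the quotient by a normal `p`-subgroup with centralizer of `p`-power index
-/

set_option autoImplicit false
set_option linter.unusedSectionVars false
set_option linter.style.haveILetI false

namespace CfsgLib.Block.Quot

open Cfsg Finset CfsgLib.Block CfsgLib.Block.Chr

universe u

variable {G : Type u} [Group G] [Fintype G] {N : Subgroup G} [N.Normal] {p : ℕ} [Fact p.Prime]

/-- Every regular element of a quotient has a regular lift. -/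
theorem exists_regular_lift {q : G ⧸ N} (hq : ¬ p ∣ orderOf q) :
    ∃ g : G, QuotientGroup.mk' N g = q ∧ ¬ p ∣ orderOf g := by
  have hp : p.Prime := Fact.out
  obtain ⟨g, rfl⟩ := QuotientGroup.mk'_surjective N q
  obtain ⟨a, m, hm, hGm⟩ := Nat.exists_eq_pow_mul_and_not_dvd
    (Nat.card_pos (α := G)).ne' p hp.ne_one
  obtain ⟨k, hk1, hk2⟩ :=
    Nat.chineseRemainder ((hp.coprime_iff_not_dvd.2 hq).pow_left a).symm 1 0
  refine ⟨g ^ k, ?_, fun hw => hm <| hw.trans <| ?_⟩
  · rw [map_pow]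
    conv_rhs => rw [← pow_one (QuotientGroup.mk' N g)]
    exact pow_eq_pow_iff_modEq.2 hk1
  · apply orderOf_dvd_of_pow_eq_one
    rw [← pow_mul]
    apply orderOf_dvd_iff_pow_eq_one.1
    refine (orderOf_dvd_natCard g).trans ?_
    rw [hGm]
    exact Nat.mul_dvd_mul_right (Nat.modEq_zero_iff_dvd.1 hk2) m

theorem centralChar_inflIrr_of_pCentral (hN : IsPGroup p N)
    (hC : ∃ k : ℕ, (Subgroup.centralizer (N : Set G)).index = p ^ k) (χ : IrrCharacter (G ⧸ N))
    {g : G} (hg : ¬ p ∣ orderOf g) :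
    centralChar (inflIrr χ : G → ℂ) g =
      centralChar (χ : G ⧸ N → ℂ) (QuotientGroup.mk' N g) := by
  have hp : p.Prime := Fact.out
  obtain ⟨k, hk⟩ := hC
  have hgC : g ∈ Subgroup.centralizer (N : Set G) := by
    have h1 := Subgroup.pow_index_mem (Subgroup.centralizer (N : Set G)) g
    obtain ⟨c, hc⟩ := exists_pow_eq_self_of_coprime
      ((hp.coprime_iff_not_dvd.2 hg).pow_left k)
    rw [hk] at h1
    rw [← hc]
    exact pow_mem h1 c
  have heq : preCent N g = Subgroup.centralizer ({g} : Set G) := by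
    refine le_antisymm (fun x hx => ?_) (centralizer_le_preCent g)
    rw [preCent, Subgroup.mem_comap, Subgroup.mem_centralizer_singleton_iff] at hx
    have hn : g⁻¹ * (x * g * x⁻¹) ∈ N := by
      rw [← QuotientGroup.eq_one_iff]
      show QuotientGroup.mk' N (g⁻¹ * (x * g * x⁻¹)) = 1
      rw [map_mul, map_inv, map_mul, map_mul, map_inv, hx, mul_inv_cancel_right, inv_mul_cancel]
    obtain ⟨j, hj⟩ := IsPGroup.iff_orderOf.1 hN ⟨_, hn⟩
    rw [Subgroup.orderOf_mk] at hj
    have hc : Commute g (g⁻¹ * (x * g * x⁻¹)) := (Subgroup.mem_centralizer_iff.1 hgC _ hn).symm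
    have hd := (hc.symm.mul_left (Commute.refl g)).orderOf_mul_dvd_mul_orderOf
    have ho : orderOf (g * (g⁻¹ * (x * g * x⁻¹))) = orderOf g * p ^ j := by
      rw [← hj, hc.orderOf_mul_eq_mul_orderOf_of_coprime (by
        rw [hj]; exact ((hp.coprime_iff_not_dvd.2 hg).symm).pow_right j)]
    rw [mul_inv_cancel_left, show orderOf (x * g * x⁻¹) = orderOf g from
      (MulAut.conj x).orderOf_eq g] at ho
    have h1 : g⁻¹ * (x * g * x⁻¹) = 1 := by
      rw [← orderOf_eq_one_iff, hj]
      exact (Nat.eq_of_mul_eq_mul_left (orderOf_pos g) ((mul_one _).trans ho)).symm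
    rw [Subgroup.mem_centralizer_singleton_iff]
    rw [inv_mul_eq_one] at h1
    exact eq_mul_inv_iff_mul_eq.1 h1 |>.symm
  rw [centralChar_inflIrr, heq, Subgroup.relIndex_self, Nat.cast_one, one_mul]

variable {M : Ideal AlgInt} [M.IsPrime]

theorem sameBlock_inflIrr_iff (hM : IsPModular p M) (hN : IsPGroup p N)
    (hC : ∃ k : ℕ, (Subgroup.centralizer (N : Set G)).index = p ^ k)
    (χ ψ : IrrCharacter (G ⧸ N)) :
    SameBlock M (χ : G ⧸ N → ℂ) (ψ : G ⧸ N → ℂ) ↔
      SameBlock M (inflIrr χ : G → ℂ) (inflIrr ψ : G → ℂ) := by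
  haveI := Fintype.ofFinite (G ⧸ N)
  constructor
  · intro h g
    rw [centralChar_inflIrr, centralChar_inflIrr, ← mul_sub]
    exact memLocalIdeal_mul_left (natCast_mem_localRing _) (h _)
  · intro h
    refine sameBlock_of_regular hM χ ψ fun q hq => ?_
    obtain ⟨g, rfl, hg⟩ := exists_regular_lift hq
    rw [← centralChar_inflIrr_of_pCentral hN hC χ hg, ← centralChar_inflIrr_of_pCentral hN hC ψ hg]
    exact h g

end CfsgLib.Block.Quot
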