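import Cfsg.Agent.Blocks.MinMax
import Cfsg.Agent.Blocks.Principal
import Cfsg.Agent.Blocks.Regular
import Cfsg.Agent.Char.LinearTwist

/-!
# Characters of odd degree that are real modulo the prime lie in the principal `2`-block
-/

namespace CfsgLib.BlockB

open Finset Cfsg CfsgLib.Block CfsgLib.Block.Chr CfsgLib.Char
open scoped ComplexConjugate

set_option linter.unusedSectionVars false
set_option linter.style.haveILetI false

universe u

variable {G : Type u} [Group G] [Fintype G] {M : Ideal AlgInt} [M.IsPrime]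

theorem memLocalRing_deg_inv (hM : IsPModular 2 M) {η : IrrCharacter G}
    (hodd : Odd (charDegree (η : G → ℂ))) : MemLocalRing M ((η : G → ℂ) 1)⁻¹ := by
  rw [(irr_one η).1]
  exact memLocalRing_natCast_inv hM fun h => Nat.not_even_iff_odd.2 hodd (even_iff_two_dvd.2 h)

/-- The block of an odd-degree character that is real modulo `M` is closed under inversion. -/
theorem blockCoeff_inv_of_real_mod (hM : IsPModular 2 M) {η : IrrCharacter G}
    (hodd : Odd (charDegree (η : G → ℂ)))
    (hreal : ∀ g : G, MemLocalIdeal M ((η : G → ℂ) g⁻¹ - (η : G → ℂ) g)) (g : G) :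
    blockCoeff (blockOf M (η : G → ℂ)) g⁻¹ = blockCoeff (blockOf M (η : G → ℂ)) g := by
  classical
  letI := irrFintype (G := G)
  set B := blockOf M (η : G → ℂ)
  let c : IrrCharacter G → IrrCharacter G :=
    fun ψ => ⟨fun x => conj ((ψ : G → ℂ) x), IsIrrCharacter.conj ψ.2⟩
  have hcc : ∀ ψ, c (c ψ) = ψ := fun ψ => Subtype.ext (funext fun x => Complex.conj_conj _)
  have hcval : ∀ ψ x, (c ψ : G → ℂ) x = (ψ : G → ℂ) x⁻¹ := fun ψ x => conj_irr ψ x
  have hidx : ∀ x : G, (Subgroup.centralizer ({x⁻¹} : Set G)) =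
      Subgroup.centralizer ({x} : Set G) := fun x => by
    ext y
    rw [Subgroup.mem_centralizer_singleton_iff, Subgroup.mem_centralizer_singleton_iff]
    exact ⟨fun h => by simpa using (Commute.inv_right (show Commute y x⁻¹ from h)).eq,
      fun h => (Commute.inv_right (show Commute y x from h)).eq⟩
  have hclosed : ∀ ψ ∈ B, c ψ ∈ B := by
    intro ψ hψ x
    have h1 : centralChar (c ψ : G → ℂ) x = centralChar (ψ : G → ℂ) x⁻¹ := by
      rw [centralChar, centralChar, hidx, hcval, hcval, inv_one]
    have h2 : MemLocalIdeal M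
        (centralChar (η : G → ℂ) x⁻¹ - centralChar (η : G → ℂ) x) := by
      have := memLocalIdeal_mul_left (memLocalRing_mul
        (natCast_mem_localRing (M := M) (Subgroup.centralizer ({x} : Set G)).index)
        (memLocalRing_deg_inv hM hodd)) (hreal x)
      rw [centralChar, centralChar, hidx]
      convert this using 1
      ring
    rw [h1]
    exact memLocalIdeal_sub_trans (memLocalIdeal_sub_comm h2) (hψ x⁻¹)
  rw [blockCoeff_eq_sum, blockCoeff_eq_sum]
  congr 1
  refine sum_nbij' c c (fun ψ hψ => ?_) (fun ψ hψ => ?_) (fun ψ _ => hcc ψ) (fun ψ _ => hcc ψ)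
    (fun ψ _ => ?_)
  · exact mem_filter.2 ⟨mem_univ _, hclosed ψ (mem_filter.1 hψ).2⟩
  · exact mem_filter.2 ⟨mem_univ _, hclosed ψ (mem_filter.1 hψ).2⟩
  · simp only [hcval, inv_one]

/-- A character of odd degree that is real modulo `M` lies in the principal `2`-block. -/
theorem mem_principalBlock_of_real_mod (hM : IsPModular 2 M) {η : IrrCharacter G}
    (hodd : Odd (charDegree (η : G → ℂ)))
    (hreal : ∀ g : G, MemLocalIdeal M ((η : G → ℂ) g⁻¹ - (η : G → ℂ) g)) :
    η ∈ principalBlock M G := by
  classical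
  haveI := charP_residue hM
  set B := blockOf M (η : G → ℂ)
  have hB : IsPBlock M B := isPBlock_blockOf η
  have key : ∀ f : G → ℂ, (∀ g, MemLocalRing M (f g)) → f 1 = 1 →
      (∀ g, MemLocalIdeal M (f g⁻¹ - f g)) →
      MemLocalIdeal M (∑ g : G, blockCoeff B g * f g - blockCoeff B 1) := by
    intro f hf h1 hsymm
    let r : G → localRing M := fun g => ⟨blockCoeff B g * f g,
      memLocalRing_mul (blockCoeff_mem hB g) (hf g)⟩
    have hres : ∀ g, res M (r g⁻¹) = res M (r g) := fun g => by
      rw [res_eq_iff]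
      show MemLocalIdeal M (blockCoeff B g⁻¹ * f g⁻¹ - blockCoeff B g * f g)
      rw [blockCoeff_inv_of_real_mod hM hodd hreal, ← mul_sub]
      exact memLocalIdeal_mul_left (blockCoeff_mem hB g) (hsymm g)
    have hzero : ∑ g ∈ univ.erase (1 : G), res M (r g) = 0 := by
      refine sum_involution (fun g _ => g⁻¹) (fun g _ => ?_) (fun g hg hne => ?_)
        (fun g hg => ?_) (fun g _ => inv_inv g)
      · rw [hres, CharTwo.add_self_eq_zero]
      · intro hinv
        refine hne ?_
        have h2 : g ^ 2 = 1 := by rw [sq]; nth_rewrite 1 [← hinv]; exact inv_mul_cancel g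
        have hord : orderOf g = 2 := orderOf_eq_prime h2 (ne_of_mem_erase hg)
        rw [res_eq_zero_iff]
        show MemLocalIdeal M (blockCoeff B g * f g)
        rw [blockCoeff_eq_zero_of_singular hM hB (by rw [hord]), zero_mul]
        exact memLocalIdeal_zero
      · exact mem_erase.2 ⟨inv_ne_one.2 (ne_of_mem_erase hg), mem_univ _⟩
    have hsum : res M (∑ g : G, r g) = res M (r 1) := by
      rw [map_sum, ← add_sum_erase _ _ (mem_univ (1 : G)), hzero, add_zero]
    rw [res_eq_iff] at hsum
    simpa [r, h1] using hsum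
  have hd := memLocalRing_deg_inv hM hodd
  have hA := key (fun g => (η : G → ℂ) g * ((η : G → ℂ) 1)⁻¹)
    (fun g => memLocalRing_mul (irr_mem η g) hd)
    (mul_inv_cancel₀ (irr_one_ne_zero η))
    (fun g => by rw [← sub_mul]; exact memLocalIdeal_mul_right (hreal g) hd)
  have hC := key (fun _ => 1) (fun _ => memLocalRing_one) rfl
    (fun g => by rw [sub_self]; exact memLocalIdeal_zero)
  have hω : ∑ g : G, blockCoeff B g * ((η : G → ℂ) g * ((η : G → ℂ) 1)⁻¹) = 1 := by
    have := omega_blockCoeff B η
    rw [if_pos (show η ∈ B from mem_blockOf_self η), omega, sum_div] at this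
    simpa only [div_eq_mul_inv, mul_assoc] using this
  rw [hω] at hA
  have hone : oneIrr G ∈ B := by
    by_contra hne
    have := omega_blockCoeff B (oneIrr G)
    rw [if_neg hne, omega] at this
    simp only [oneIrr_coe, mul_one, div_one] at this
    simp only [mul_one] at hC
    rw [this] at hC
    exact not_memLocalIdeal_one (by simpa using memLocalIdeal_sub hA hC)
  rw [show principalBlock M G = B from block_eq_of_common isPBlock_principalBlock hB
    oneIrr_mem_principalBlock hone]
  exact mem_blockOf_self η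

/-- An extension of a real character differs from its conjugate by a linear character. -/
theorem exists_conj_eq_mul_hom {N : Subgroup G} [N.Normal] {θ : IrrCharacter N}
    (hreal : ∀ n : N, ((θ : N → ℂ) n).im = 0) {η : IrrCharacter G}
    (hη : ∀ n : N, (η : G → ℂ) n = (θ : N → ℂ) n) :
    ∃ lam : G →* ℂˣ, (∀ n ∈ N, lam n = 1) ∧
      ∀ g, (η : G → ℂ) g⁻¹ = (η : G → ℂ) g * (lam g : ℂ) := by
  classical
  letI := irrFintype (G := G)
  haveI : Fintype N := Fintype.ofFinite _
  set ψ : G → ℂ := (η : G → ℂ) * (η : G → ℂ) with hψ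
  have hψc : IsCharacter G ψ := IsCharacter.mul (isCharacter_irr η) (isCharacter_irr η)
  have hψcl : IsClassFunction G ψ := fun g x => by
    simp only [hψ, Pi.mul_apply, isClassFunction_irr η g x]
  choose m hm using fun χ : IrrCharacter G => IsCharacter.exists_classInner_eq_natCast hψc χ.2
  choose n hn using fun χ : IrrCharacter G => IsCharacter.exists_classInner_eq_natCast'
    (IsCharacter.restrict (isCharacter_irr χ) N) (isCharacter_one (G := N))
  have hsum : (((∑ χ : IrrCharacter G, m χ * n χ : ℕ)) : ℂ) = 1 := by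
    push_cast
    simp only [← hn, classInner_def, map_one, mul_one]
    rw [← IsIrrCharacter.classInner_self θ.2, classInner_def]
    simp only [mul_left_comm _ (Nat.card N : ℂ)⁻¹, ← mul_sum]
    congr 1
    simp only [mul_sum]
    rw [sum_comm]
    refine sum_congr rfl fun x _ => ?_
    rw [Complex.conj_eq_iff_im.2 (hreal x), ← hη]
    refine Eq.trans ?_ (classFun_expand hψcl (x : G)).symm
    exact sum_congr rfl fun χ _ => by rw [← hm]
  have hsum' : ∑ χ : IrrCharacter G, m χ * n χ = 1 := by exact_mod_cast hsum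
  obtain ⟨χ, -, hχ⟩ := exists_ne_zero_of_sum_ne_zero (hsum'.symm ▸ one_ne_zero)
  have hle : m χ * n χ ≤ 1 := hsum' ▸ single_le_sum (f := fun χ => m χ * n χ)
    (fun _ _ => Nat.zero_le _) (mem_univ χ)
  have hm0 : m χ ≠ 0 := left_ne_zero_of_mul hχ
  have hn0 : n χ ≠ 0 := right_ne_zero_of_mul hχ
  have hker : ∀ x ∈ N, (χ : G → ℂ) x = (χ : G → ℂ) 1 := by
    refine (sum_eq_zero_or_ker χ N).resolve_left fun h0 => hn0 ?_
    have h := hn χ
    simp only [classInner_def, map_one, mul_one] at h
    have e : ∑ x : N, (χ : G → ℂ) x = ∑ g ∈ univ.filter (· ∈ N), (χ : G → ℂ) g :=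
      (sum_subtype (univ.filter (· ∈ N)) (p := (· ∈ N)) (by simp) fun g => (χ : G → ℂ) g).symm
    rw [e, h0, mul_zero] at h
    exact_mod_cast h.symm
  have hdeg : (χ : G → ℂ) 1 = 1 := by
    have h := hn χ
    simp only [classInner_def, map_one, mul_one] at h
    rw [sum_congr rfl fun (x : N) _ => hker x x.2, sum_const, card_univ, nsmul_eq_mul,
      Nat.card_eq_fintype_card, inv_mul_cancel_left₀ (Nat.cast_ne_zero.2 Fintype.card_ne_zero)] at h
    have hn1 : n χ = 1 := le_antisymm
      (le_trans (Nat.le_mul_of_pos_left _ (Nat.pos_of_ne_zero hm0)) hle)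
      (Nat.one_le_iff_ne_zero.2 hn0)
    rw [h, hn1, Nat.cast_one]
  obtain ⟨μ, hμ⟩ := IsCharacter.exists_hom (isCharacter_irr χ) hdeg
  refine ⟨μ⁻¹, fun x hx => ?_, fun g => ?_⟩
  · have := hker x hx
    rw [hdeg, hμ] at this
    simp only [MonoidHom.inv_apply, inv_eq_one]
    exact Units.ext this
  · let α : IrrCharacter G := ⟨_, IsIrrCharacter.mul_hom η.2 μ⁻¹⟩
    let β : IrrCharacter G := ⟨fun x => conj ((η : G → ℂ) x), IsIrrCharacter.conj η.2⟩
    have hαβ : α = β := by
      by_contra hne
      have h0 := classInner_irr α β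
      rw [if_neg hne] at h0
      have hmm := hm χ
      rw [← h0] at *
      refine hm0 ?_
      have e : classInner (α : G → ℂ) (β : G → ℂ) = classInner ψ (χ : G → ℂ) := by
        simp only [α, β, hψ, hμ, classInner_def, Pi.mul_apply, MonoidHom.inv_apply,
          Complex.conj_conj, conj_eq_inv_hom, map_inv]
        congr 1
        exact sum_congr rfl fun x _ => by ring
      rw [hmm, classInner_irr, if_neg hne] at e
      exact_mod_cast e.symm
    have := congrFun (congrArg (fun a : IrrCharacter G => (a : G → ℂ)) hαβ) g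
    rw [← conj_irr]
    exact this.symm

end CfsgLib.BlockB
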