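import Cfsg.Agent.S0867
import Cfsg.Agent.Transfer.PResidual
import Cfsg.Agent.Char.DegreeRatio
import Cfsg.Agent.Char.Constituents
import Cfsg.Agent.Blocks.Regular
import Mathlib.Data.ZMod.Basic

/-!
# The order of `O^p(G)` modulo `p` as a sum of squares of degrees
-/

set_option autoImplicit false
set_option linter.unusedSectionVars false
set_option linter.style.haveILetI false

namespace CfsgLib.Block.ResidualSum

open Cfsg Finset CfsgLib.Block CfsgLib.Block.Chr

universe u

variable {p : ℕ} [hp : Fact p.Prime] {G : Type u} [Group G] [Fintype G]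

/-- The determinantal order of a character of `O^p(G)` is prime to `p`. -/
theorem not_dvd_detOrder_residual {θ : pResidual p G → ℂ}
    (hθ : IsCharacter (pResidual p G) θ) : ¬ p ∣ detOrder θ := by
  obtain ⟨n, hn⟩ := CfsgLib.Char.IsCharacter.exists_degree hθ
  obtain ⟨D, hD, -⟩ := CfsgLib.Char.exists_detHom hθ hn
  rw [detOrder, funext hD, CfsgLib.Char.orderOf_coe_hom]
  obtain ⟨a, m, hm, hGm⟩ := Nat.exists_eq_pow_mul_and_not_dvd
    (Nat.card_pos (α := G)).ne' p hp.out.ne_one
  refine fun h => hm (h.trans (orderOf_dvd_of_pow_eq_one (MonoidHom.ext fun x => ?_)))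
  rw [MonoidHom.pow_apply, MonoidHom.one_apply, ← map_pow]
  suffices h1 : ∀ y, y ∈ pResidual p G → ∀ hy : y ∈ pResidual p G,
      D ((⟨y, hy⟩ : pResidual p G) ^ m) = 1 from h1 x x.2 x.2
  intro y hy
  rw [pResidual] at hy
  induction hy using Subgroup.closure_induction with
  | mem y hy =>
    intro hy'
    have h1 : y ^ m = 1 := by
      refine orderOf_dvd_iff_pow_eq_one.1 ?_
      exact (Nat.Coprime.pow_right a hy).dvd_of_dvd_mul_left (hGm ▸ orderOf_dvd_natCard y)
    have h2 : ((⟨y, hy'⟩ : pResidual p G) ^ m) = 1 := Subtype.ext (by simpa using h1)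
    rw [h2, map_one]
  | one =>
    intro hy'
    rw [show (⟨1, hy'⟩ : pResidual p G) = 1 from rfl, one_pow, map_one]
  | mul u v hu hv ihu ihv =>
    intro hy'
    have hu' : u ∈ pResidual p G := hu
    have hv' : v ∈ pResidual p G := hv
    rw [show (⟨u * v, hy'⟩ : pResidual p G) = ⟨u, hu'⟩ * ⟨v, hv'⟩ from rfl, map_pow, map_mul,
      mul_pow, ← map_pow, ← map_pow, ihu hu', ihv hv', mul_one]
  | inv u hu ihu =>
    intro hy'
    have hu' : u ∈ pResidual p G := hu
    rw [show (⟨u⁻¹, hy'⟩ : pResidual p G) = (⟨u, hu'⟩)⁻¹ from rfl, inv_pow, map_inv, ihu hu',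
      inv_one]

/-- The restriction to a normal subgroup of `p`-power index of a character of degree prime to
`p` is irreducible and invariant. -/
theorem restrict_irreducible {N : Subgroup G} [N.Normal] {k : ℕ} (hk : N.index = p ^ k)
    (χ : IrrCharacter G) (hχ : ¬ p ∣ charDegree (χ : G → ℂ)) :
    IsIrrCharacter N (fun n : N => (χ : G → ℂ) n) := by
  classical
  obtain ⟨θ, hθ, hc⟩ := CfsgLib.Char.exists_constituent_restrict (N := N) χ.2
  obtain ⟨r, hr, hdeg⟩ := CfsgLib.Char.exists_degree_ratio χ.2 hθ hc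
  obtain ⟨d, -, hd⟩ := CfsgLib.Char.IsIrrCharacter.exists_degree hθ
  rw [(irr_one χ).1, hd, ← Nat.cast_mul, Nat.cast_inj] at hdeg
  have hr1 : r = 1 := by
    rw [hk] at hr
    obtain ⟨j, -, rfl⟩ := (Nat.dvd_prime_pow hp.out).1 hr
    rcases j with _ | j
    · rfl
    · exact absurd (hdeg ▸ dvd_mul_of_dvd_left (dvd_pow_self p j.succ_ne_zero) d) hχ
  have h := CfsgLib.Char.IsCharacter.eq_of_constituent
    (CfsgLib.Char.IsCharacter.restrict (isCharacter_irr χ) N) hθ hc (by
      rw [hd, OneMemClass.coe_one, (irr_one χ).1, hdeg, hr1, one_mul])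
  rw [h]
  exact hθ

/-- **The congruence.** -/
theorem card_residual_cong [Fintype (IrrCharacter G)] [DecidablePred fun χ : IrrCharacter G =>
      ¬ p ∣ charDegree (χ : G → ℂ) ∧ ¬ p ∣ detOrder (χ : G → ℂ)] :
    (Nat.card (pResidual p G) : ZMod p) =
      ∑ χ ∈ univ.filter (fun χ : IrrCharacter G =>
        ¬ p ∣ charDegree (χ : G → ℂ) ∧ ¬ p ∣ detOrder (χ : G → ℂ)),
        (charDegree (χ : G → ℂ) : ZMod p) ^ 2 := by
  classical
  set K := pResidual p G with hK
  haveI : K.Normal := CfsgLib.PResidual.pResidual_normal p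
  letI := irrFintype (G := K)
  obtain ⟨k, hk⟩ := CfsgLib.PResidual.exists_index_pResidual (G := G) (p := p)
  let f : IrrCharacter K → ZMod p := fun θ => (charDegree (θ : K → ℂ) : ZMod p) ^ 2
  let isInv : IrrCharacter K → Prop := fun θ => ∀ g : G, CfsgLib.Char.conjOn g (θ : K → ℂ) = θ
  -- all characters
  have hall : ∑ θ : IrrCharacter K, f θ = (Nat.card K : ZMod p) := by
    have h := CfsgLib.Char.sum_degree_sq (G := K)
    rw [← sum_irr_eq (fun χ : K → ℂ => χ 1 ^ 2)] at h
    simp only [(irr_one _).1, ← Nat.cast_pow, ← Nat.cast_sum, Nat.cast_inj] at h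
    simp only [f, ← Nat.cast_pow, ← Nat.cast_sum, h]
  -- the invariant ones
  letI act : MulAction G (IrrCharacter K) :=
    { smul := fun g θ => ⟨CfsgLib.Char.conjOn g⁻¹ (θ : K → ℂ),
        CfsgLib.Char.isIrrCharacter_conjOn θ.2 _⟩
      one_smul := fun θ => Subtype.ext (show CfsgLib.Char.conjOn (1 : G)⁻¹ (θ : K → ℂ) = θ by
        rw [inv_one, CfsgLib.Char.conjOn_one])
      mul_smul := fun g h θ => Subtype.ext (show CfsgLib.Char.conjOn (g * h)⁻¹ (θ : K → ℂ) =
          CfsgLib.Char.conjOn g⁻¹ (CfsgLib.Char.conjOn h⁻¹ (θ : K → ℂ)) by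
        rw [CfsgLib.Char.conjOn_conjOn, mul_inv_rev]) }
  have hfix : ∀ θ : IrrCharacter K, isInv θ ↔ ∀ g : G, g • θ = θ := fun θ =>
    ⟨fun h g => Subtype.ext (h g⁻¹), fun h g => by
      have := congrArg Subtype.val (h g⁻¹)
      change CfsgLib.Char.conjOn g⁻¹⁻¹ (θ : K → ℂ) = θ at this
      rwa [inv_inv] at this⟩
  have hinvsum : ∑ θ : IrrCharacter K, f θ = ∑ θ ∈ univ.filter isInv, f θ := by
    rw [← sum_filter_add_sum_filter_not univ isInv f, add_eq_left,
      ← sum_fiberwise (univ.filter fun θ => ¬ isInv θ)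
        (Quotient.mk (MulAction.orbitRel G (IrrCharacter K))) f]
    refine sum_eq_zero fun q _ => ?_
    obtain ⟨θ₀, rfl⟩ := Quotient.exists_rep q
    by_cases h0 : isInv θ₀
    · refine sum_eq_zero fun θ hθ => ?_
      simp only [mem_filter, mem_univ, true_and, Quotient.eq, MulAction.orbitRel_apply] at hθ
      obtain ⟨g, rfl⟩ := hθ.2
      exact absurd (((hfix θ₀).1 h0 g).symm ▸ h0 : isInv (g • θ₀)) hθ.1
    · have hconst : ∀ θ ∈ (univ.filter fun θ => ¬ isInv θ).filter
          (fun θ => Quotient.mk (MulAction.orbitRel G (IrrCharacter K)) θ = ⟦θ₀⟧), f θ = f θ₀ := by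
        intro θ hθ
        simp only [mem_filter, mem_univ, true_and, Quotient.eq, MulAction.orbitRel_apply] at hθ
        obtain ⟨g, rfl⟩ := hθ.2
        show (charDegree (CfsgLib.Char.conjOn g⁻¹ (θ₀ : K → ℂ)) : ZMod p) ^ 2 = _
        rw [charDegree, CfsgLib.Char.conjOn_apply_one]
        rfl
      rw [sum_congr rfl hconst, sum_const]
      have hcard : p ∣ ((univ.filter fun θ => ¬ isInv θ).filter
          (fun θ => Quotient.mk (MulAction.orbitRel G (IrrCharacter K)) θ = ⟦θ₀⟧)).card := by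
        have e : ((univ.filter fun θ => ¬ isInv θ).filter
            (fun θ => Quotient.mk (MulAction.orbitRel G (IrrCharacter K)) θ = ⟦θ₀⟧)).card =
            Nat.card (MulAction.orbit G θ₀) := by
          rw [← Nat.card_eq_finsetCard]
          refine Nat.card_congr ((Equiv.refl _).subtypeEquiv fun θ => ?_)
          simp only [mem_filter, mem_univ, true_and, Quotient.eq, MulAction.orbitRel_apply,
            Equiv.refl_apply]
          refine ⟨fun h => h.2, fun h => ⟨fun hi => h0 ?_, h⟩⟩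
          obtain ⟨g, rfl⟩ := h
          have h2 := (hfix _).1 hi g⁻¹
          rw [inv_smul_smul] at h2
          rwa [← h2] at hi
        rw [e, Nat.card_coe_set_eq, ← MulAction.index_stabilizer G θ₀]
        have hle : K ≤ MulAction.stabilizer G θ₀ := fun x hx => Subtype.ext
          ((CfsgLib.Char.mem_inertia _ x⁻¹).1 (CfsgLib.Char.le_inertia
            (isClassFunction_irr θ₀) (K.inv_mem hx)))
        obtain ⟨j, -, hj⟩ := (Nat.dvd_prime_pow hp.out).1
          (hk ▸ Subgroup.index_dvd_of_le hle)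
        rw [hj]
        refine dvd_pow_self p fun hj0 => h0 ((hfix θ₀).2 fun g => ?_)
        rw [hj0, pow_zero, Subgroup.index_eq_one] at hj
        have : g ∈ MulAction.stabilizer G θ₀ := hj ▸ Subgroup.mem_top g
        exact this
      rw [nsmul_eq_mul, (ZMod.natCast_eq_zero_iff _ p).2 hcard, zero_mul]
  have hreg : ∑ θ ∈ univ.filter isInv, f θ =
      ∑ θ ∈ univ.filter (fun θ => isInv θ ∧ ¬ p ∣ charDegree (θ : K → ℂ)), f θ := by
    refine (sum_subset (fun θ hθ => ?_) fun θ hθ hθ' => ?_).symm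
    · simp only [mem_filter, mem_univ, true_and] at hθ ⊢; exact hθ.1
    · simp only [mem_filter, mem_univ, true_and, not_and, not_not] at hθ hθ'
      simp only [f, (ZMod.natCast_eq_zero_iff _ p).2 (hθ' hθ)]
      exact zero_pow two_ne_zero
  rw [← hall, hinvsum, hreg]
  symm
  refine sum_bij (fun χ hχ => (⟨fun n : K => (χ : G → ℂ) n,
      restrict_irreducible hk χ (mem_filter.1 hχ).2.1⟩ : IrrCharacter K)) ?_ ?_ ?_ ?_
  · intro χ hχ
    simp only [mem_filter, mem_univ, true_and]
    refine ⟨fun g => CfsgLib.Char.conjOn_restrict (isClassFunction_irr χ) g, ?_⟩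
    show ¬ p ∣ ⌊((χ : G → ℂ) ((1 : K) : G)).re⌋₊
    rw [OneMemClass.coe_one]
    exact (mem_filter.1 hχ).2.1
  · intro χ hχ φ hφ h
    have hres : ∀ n : K, (φ : G → ℂ) n = (χ : G → ℂ) n := fun n =>
      (congrFun (congrArg Subtype.val h) n).symm
    have hirr := restrict_irreducible hk χ (mem_filter.1 hχ).2.1
    obtain ⟨ξ, -, huniq⟩ := Cfsg.Agent.S0867.result K _ hirr
      (fun g n => isClassFunction_irr χ n g) (charDegree (χ : G → ℂ))
      (by simpa using (irr_one χ).1)
      (by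
        rw [hk]
        exact ((hp.out.coprime_iff_not_dvd.2 fun hd => (hp.out.dvd_mul.1 hd).elim
          (not_dvd_detOrder_residual (CfsgLib.Char.IsIrrCharacter.isCharacter hirr))
          (mem_filter.1 hχ).2.1)).pow_left k)
    have e1 := huniq (χ : G → ℂ) χ.2 (fun n => rfl)
      (hk ▸ ((hp.out.coprime_iff_not_dvd.2 (mem_filter.1 hχ).2.2).pow_left k))
    have e2 := huniq (φ : G → ℂ) φ.2 hres
      (hk ▸ ((hp.out.coprime_iff_not_dvd.2 (mem_filter.1 hφ).2.2).pow_left k))
    exact Subtype.ext (e1.trans e2.symm)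
  · intro θ hθ
    simp only [mem_filter, mem_univ, true_and] at hθ
    have hnd := not_dvd_detOrder_residual (CfsgLib.Char.IsIrrCharacter.isCharacter θ.2)
    obtain ⟨χ, ⟨hχ, hχK, hχd⟩, -⟩ := Cfsg.Agent.S0867.result K (θ : K → ℂ) θ.2
      (fun g n => congrFun (hθ.1 g) n) (charDegree (θ : K → ℂ)) (irr_one θ).1
      (by
        rw [hk]
        exact ((hp.out.coprime_iff_not_dvd.2 fun hd =>
          (hp.out.dvd_mul.1 hd).elim hnd hθ.2)).pow_left k)
    have hdeg : charDegree χ = charDegree (θ : K → ℂ) := by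
      rw [charDegree, charDegree, ← hχK 1, OneMemClass.coe_one]
    exact ⟨⟨χ, hχ⟩, mem_filter.2 ⟨mem_univ _, hdeg ▸ hθ.2, hχd ▸ hnd⟩, Subtype.ext (funext hχK)⟩
  · intro χ hχ
    show _ = ((⌊((χ : G → ℂ) ((1 : K) : G)).re⌋₊ : ℕ) : ZMod p) ^ 2
    rw [OneMemClass.coe_one]
    rfl

end CfsgLib.Block.ResidualSum
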