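import Cfsg.Agent.BlocksB.GaloisParity
import Cfsg.Agent.BlocksB.ResidualDegreeSum
import Cfsg.Agent.Char.ExtendInv
import Cfsg.Agent.S0867

/-!
# Galois fixed characters over a cyclic `p`-residual quotient

The regular elements lie in `O^p(G)`, so restriction detects the principal block; the fixed
extensions of a fixed invariant character are the twists of the canonical one by the linear
characters of exponent `p`.
-/

set_option autoImplicit false
set_option linter.style.haveILetI false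
set_option linter.unusedSectionVars false

namespace CfsgLib.ResidualFixedCount

open Cfsg Finset CfsgLib.Block CfsgLib.Block.Chr CfsgLib.Char CfsgLib.GaloisParity
open scoped Classical

universe u

variable {p : ℕ} [Fact p.Prime] {G : Type u} [Group G] [Finite G]

theorem regular_mem {g : G} (hg : ¬ p ∣ orderOf g) : g ∈ pResidual p G :=
  Subgroup.subset_closure ((Nat.Prime.coprime_iff_not_dvd (Fact.out : p.Prime)).2 hg).symm

theorem mem_principal_restrict [Fintype G] {M : Ideal AlgInt} [M.IsPrime] (hM : IsPModular p M)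
    [Fintype (pResidual p G)] (χ : IrrCharacter G) (θ : IrrCharacter (pResidual p G))
    (h : ∀ n : pResidual p G, (χ : G → ℂ) n = (θ : pResidual p G → ℂ) n) :
    χ ∈ principalBlock M G ↔ θ ∈ principalBlock M (pResidual p G) := by
  rw [PrincipalNorm.mem_principal_iff hM, PrincipalNorm.mem_principal_iff hM]
  refine Iff.not (Eq.congr_left ?_)
  rw [PrincipalNorm.regSum, PrincipalNorm.regSum]
  refine (sum_nbij (fun n : pResidual p G => (n : G)) (fun n hn => ?_)
    Subtype.val_injective.injOn (fun g hg => ?_) fun n _ => (h n).symm).symm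
  · rw [mem_filter] at hn ⊢
    exact ⟨mem_univ _, by rw [Subgroup.orderOf_coe]; exact hn.2⟩
  · rw [mem_coe, mem_filter] at hg
    refine ⟨⟨g, regular_mem hg.2⟩, ?_, rfl⟩
    rw [mem_coe, mem_filter, Subgroup.orderOf_mk]
    exact ⟨mem_univ _, hg.2⟩

theorem residual_sup_sylow (P : Sylow p G) : pResidual p G ⊔ (P : Subgroup G) = ⊤ := by
  haveI : (pResidual p G).Normal := CfsgLib.PResidual.pResidual_normal p
  obtain ⟨e, he⟩ := CfsgLib.PResidual.exists_index_pResidual (G := G) (p := p)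
  have hdvd : (pResidual p G ⊔ (P : Subgroup G)).index ∣ (pResidual p G).index :=
    Subgroup.index_dvd_of_le le_sup_left
  rw [he] at hdvd
  obtain ⟨j, -, hj⟩ := (Nat.dvd_prime_pow (Fact.out : p.Prime)).1 hdvd
  rw [← Subgroup.index_eq_one, hj]
  rcases j with _ | j
  · rfl
  · exact absurd (((dvd_pow_self p j.succ_ne_zero).trans (dvd_of_eq hj.symm)).trans
      (Subgroup.index_dvd_of_le le_sup_right)) P.not_dvd_index

/-- The linear characters of a cyclic quotient of exponent dividing the prime. -/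
theorem card_hom_exponent {Q : Type u} [Group Q] [Finite Q] (hc : IsCyclic Q) (hp : p ∣ Nat.card Q) :
    Nat.card {l : Q →* ℂˣ // ∀ q, l q ^ p = 1} = p := by
  haveI := hc
  letI : CommGroup Q := IsCyclic.commGroup
  obtain ⟨e⟩ := CommGroup.monoidHom_mulEquiv_of_hasEnoughRootsOfUnity Q ℂ
  calc Nat.card {l : Q →* ℂˣ // ∀ q, l q ^ p = 1}
      = Nat.card (powMonoidHom p : Q →* Q).ker := Nat.card_congr (e.toEquiv.subtypeEquiv fun l => by
        rw [MonoidHom.mem_ker, powMonoidHom_apply, MulEquiv.toEquiv_eq_coe, MulEquiv.coe_toEquiv,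
          ← map_pow, EmbeddingLike.map_eq_one_iff, MonoidHom.ext_iff]
        simp only [MonoidHom.pow_apply, MonoidHom.one_apply])
    _ = p := by rw [IsCyclic.card_powMonoidHom_ker, Nat.gcd_eq_right hp]

variable {N : Subgroup G} [N.Normal]

theorem hom_eq_of_mul_eq {χ : G → ℂ} (hχ : IsIrrCharacter G χ)
    (hres : IsIrrCharacter N (fun n : N => χ n)) {l l' : G →* ℂˣ} (hl : ∀ n : N, l n = 1)
    (hl' : ∀ n : N, l' n = 1) (h : (fun g => χ g * (l g : ℂ)) = fun g => χ g * (l' g : ℂ)) :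
    l = l' := by
  haveI := Fintype.ofFinite G
  haveI := Fintype.ofFinite N
  refine homCoe_injective G ((gallagher_one hχ hres).injOn
    (x₁ := homCoe G l) (x₂ := homCoe G l') ⟨isIrrCharacter_ofHom l, fun n hn => ?_⟩
    ⟨isIrrCharacter_ofHom l', fun n hn => ?_⟩ (funext fun g => ?_))
  · show (l n : ℂ) = (l 1 : ℂ)
    rw [hl ⟨n, hn⟩, map_one]
  · show (l' n : ℂ) = (l' 1 : ℂ)
    rw [hl' ⟨n, hn⟩, map_one]
  · show (l g : ℂ) * χ g = (l' g : ℂ) * χ g
    rw [mul_comm, congrFun h g, mul_comm]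

/-- A linear character trivial on the residual is fixed by the power map when its exponent is
`p`. -/
theorem hom_fixed_iff (hN : N = pResidual p G) {k : ℕ}
    (hk₁ : ∀ g : G, (∃ j : ℕ, orderOf g = p ^ j) → g ^ k = g ^ (1 + p)) (ν : G →* ℂˣ)
    (hν : ∀ n : N, ν n = 1) : (∀ g : G, ν (g ^ k) = ν g) ↔ ∀ g : G, ν g ^ p = 1 := by
  have P : Sylow p G := default
  have hg : ∀ g : G, ∃ y : G, (∃ j : ℕ, orderOf y = p ^ j) ∧ ν g = ν y := fun g => by
    have hmem : g ∈ pResidual p G ⊔ (P : Subgroup G) := by rw [residual_sup_sylow]; trivial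
    haveI : (pResidual p G).Normal := CfsgLib.PResidual.pResidual_normal p
    obtain ⟨n, hn, y, hy, rfl⟩ := Subgroup.mem_sup_of_normal_left.1 hmem
    obtain ⟨j, hj⟩ := IsPGroup.iff_orderOf.1 P.isPGroup' ⟨y, hy⟩
    rw [Subgroup.orderOf_mk] at hj
    exact ⟨y, ⟨j, hj⟩, by rw [map_mul, hν ⟨n, hN ▸ hn⟩, one_mul]⟩
  refine ⟨fun h g => ?_, fun h g => ?_⟩
  · obtain ⟨y, hy, hgy⟩ := hg g
    have := h y
    rw [hk₁ y hy, map_pow, pow_add, pow_one, mul_eq_left] at this
    rw [hgy, this]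
  · obtain ⟨y, hy, hgy⟩ := hg g
    rw [map_pow, hgy, ← map_pow, hk₁ y hy, map_pow, pow_add, pow_one, h, mul_one]

/-- A fixed invariant character of degree prime to `p` has a fixed extension. -/
theorem exists_fixed_extension {e : ℕ} (hN : N = pResidual p G) (he : N.index = p ^ e) {k : ℕ}
    (hk : k.Coprime (Nat.card G)) {θ : N → ℂ} (hθ : IsIrrCharacter N θ) {d : ℕ} (hd : θ 1 = d)
    (hpd : ¬ p ∣ d) (hinv : ∀ (g : G) (n : N), θ ⟨g * n * g⁻¹, ‹N.Normal›.conj_mem n n.2 g⟩ = θ n)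
    (hfix : ∀ n : N, θ (n ^ k) = θ n) :
    ∃ χ : G → ℂ, IsIrrCharacter G χ ∧ (∀ n : N, χ n = θ n) ∧ ∀ g, χ (g ^ k) = χ g := by
  haveI := Fintype.ofFinite G
  have hp : p.Prime := Fact.out
  have hdet : ¬ p ∣ detOrder θ := by
    subst hN
    exact ResidualSum.not_dvd_detOrder_residual (IsIrrCharacter.isCharacter hθ)
  have hcop : Nat.Coprime N.index (detOrder θ * d) := by
    rw [he]
    exact ((hp.coprime_iff_not_dvd.2 fun h => (hp.dvd_mul.1 h).elim hdet hpd)).pow_left e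
  obtain ⟨χ, ⟨hχ, hχN, hχd⟩, huniq⟩ := Cfsg.Agent.S0867.result N θ hθ hinv d hd hcop
  refine ⟨χ, hχ, hχN, ?_⟩
  obtain ⟨s, hs⟩ := exists_ringEquiv_pow (Nat.card_pos (α := G)) hk
  have h : ∀ g : G, s (χ g) = χ (g ^ k) := fun g =>
    IsCharacter.map_ringEquiv_eq_pow (IsIrrCharacter.isCharacter hχ) s fun z hz => hs z (by
      obtain ⟨c, hc⟩ := orderOf_dvd_natCard g
      rw [hc, pow_mul, hz, one_pow])
  have h1 := huniq (fun g => s (χ g)) (IsIrrCharacter.map_ringEquiv hχ s)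
    (fun n => by rw [h, ← Subgroup.coe_pow, hχN, hfix]) (by
      rw [detOrder, detChar_map_ringEquiv (IsIrrCharacter.isCharacter hχ) s]
      have : (fun g => s (detChar χ g)) = (MonoidHom.compLeft s.toRingHom.toMonoidHom G) (detChar χ) :=
        rfl
      rw [this, orderOf_injective _ (fun a b hab => funext fun g => s.injective (congrFun hab g)),
        ← detOrder, hχd]
      exact (Nat.coprime_mul_iff_right.1 hcop).1)
  intro g
  rw [← h]
  exact congrFun h1 g

theorem card_eq {G : Type u} [Group G] [Finite G] (p : ℕ) [Fact p.Prime] (M : Ideal AlgInt)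
    (hM : IsPModular p M) (P : Sylow p G) (N : Subgroup G) [hN : N.Normal]
    (hNres : N = pResidual p G) (hcyc : IsCyclic (G ⧸ N)) (hnt : N ≠ ⊤) (k : ℕ)
    (hk₁ : ∀ g : G, (∃ j : ℕ, orderOf g = p ^ j) → g ^ k = g ^ (1 + p))
    (hk₂ : ∀ g : G, Nat.Coprime (orderOf g) p → g ^ k = g) :
    Nat.card {χ : IrrCharacter G // χ ∈ principalBlock M G ∧ ¬ p ∣ charDegree (χ : G → ℂ) ∧
        ∀ g : G, (χ : G → ℂ) (g ^ k) = (χ : G → ℂ) g} =
      p * Nat.card {θ : IrrCharacter N // θ ∈ principalBlock M N ∧ ¬ p ∣ charDegree (θ : N → ℂ) ∧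
        (∀ x ∈ (P : Subgroup G), ∀ n : N,
          (θ : N → ℂ) ⟨x * n * x⁻¹, hN.conj_mem n n.2 x⟩ = (θ : N → ℂ) n) ∧
        ∀ n : N, (θ : N → ℂ) (n ^ k) = (θ : N → ℂ) n} := by
  have hp : p.Prime := Fact.out
  haveI := hM.2.1.isPrime
  letI := Fintype.ofFinite G
  letI := Fintype.ofFinite N
  letI : Fintype (pResidual p G) := Fintype.ofFinite _
  have hk : k.Coprime (Nat.card G) := coprime_card
    (fun h => hp.one_lt.ne' (Nat.dvd_one.1 ((Nat.dvd_add_left dvd_rfl).1 h))) hk₁ hk₂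
  obtain ⟨e, he⟩ : ∃ e, N.index = p ^ e := hNres ▸ CfsgLib.PResidual.exists_index_pResidual
  have he0 : e ≠ 0 := fun h => hnt (Subgroup.index_eq_one.1 (by rw [he, h, pow_zero]))
  have hblock : ∀ (χ : IrrCharacter G) (θ : IrrCharacter N),
      (∀ n : N, (χ : G → ℂ) n = (θ : N → ℂ) n) →
      (χ ∈ principalBlock M G ↔ θ ∈ principalBlock M N) := by
    subst hNres
    exact fun χ θ h => mem_principal_restrict hM χ θ h
  have hdeg : ∀ (χ : IrrCharacter G) (θ : IrrCharacter N),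
      (∀ n : N, (χ : G → ℂ) n = (θ : N → ℂ) n) →
      charDegree (χ : G → ℂ) = charDegree (θ : N → ℂ) := fun χ θ h => by
    rw [charDegree, charDegree, ← h 1, OneMemClass.coe_one]
  set X := {χ : IrrCharacter G // χ ∈ principalBlock M G ∧ ¬ p ∣ charDegree (χ : G → ℂ) ∧
    ∀ g : G, (χ : G → ℂ) (g ^ k) = (χ : G → ℂ) g}
  set Y := {θ : IrrCharacter N // θ ∈ principalBlock M N ∧ ¬ p ∣ charDegree (θ : N → ℂ) ∧
    (∀ x ∈ (P : Subgroup G), ∀ n : N,
      (θ : N → ℂ) ⟨x * n * x⁻¹, hN.conj_mem n n.2 x⟩ = (θ : N → ℂ) n) ∧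
    ∀ n : N, (θ : N → ℂ) (n ^ k) = (θ : N → ℂ) n}
  let r : X → Y := fun χ =>
    let θ : IrrCharacter N := ⟨fun n : N => (χ.1 : G → ℂ) n,
      ResidualSum.restrict_irreducible he χ.1 χ.2.2.1⟩
    ⟨θ, (hblock χ.1 θ fun n => rfl).1 χ.2.1, hdeg χ.1 θ (fun n => rfl) ▸ χ.2.2.1,
      fun x _ n => isClassFunction_irr χ.1 n x,
      fun n => by
        show (χ.1 : G → ℂ) ((n ^ k : N) : G) = _
        rw [Subgroup.coe_pow]; exact χ.2.2.2 _⟩
  have hfib : ∀ y : Y, Nat.card {χ : X // r χ = y} = p := by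
    rintro ⟨θ, hθB, hθd, hθP, hθk⟩
    have hinv : ∀ (g : G) (n : N),
        (θ : N → ℂ) ⟨g * n * g⁻¹, hN.conj_mem n n.2 g⟩ = (θ : N → ℂ) n := by
      intro g n
      have hg : g ∈ N ⊔ (P : Subgroup G) := by
        rw [hNres, residual_sup_sylow]; trivial
      obtain ⟨a, ha, x, hx, rfl⟩ := Subgroup.mem_sup_of_normal_left.1 hg
      have h1 := isClassFunction_irr θ (⟨x * n * x⁻¹, hN.conj_mem n n.2 x⟩ : N) ⟨a, ha⟩
      rw [← hθP x hx n, ← h1]
      exact congrArg _ (Subtype.ext (by simp [mul_assoc]))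
    obtain ⟨χ₀, hχ₀, hext₀, hfix₀⟩ := exists_fixed_extension hNres he hk θ.2 (irr_one θ).1 hθd
      hinv hθk
    refine Eq.trans ?_ (card_hom_exponent (p := p) hcyc (by
      rw [← Subgroup.index_eq_card, he]; exact dvd_pow_self p he0))
    symm
    have hlN : ∀ (l : G ⧸ N →* ℂˣ) (n : N), l.comp (QuotientGroup.mk' N) (n : G) = 1 := fun l n => by
      simp [(QuotientGroup.eq_one_iff (n : G)).2 n.2]
    let f : {l : G ⧸ N →* ℂˣ // ∀ q, l q ^ p = 1} → {χ : X // r χ = ⟨θ, hθB, hθd, hθP, hθk⟩} :=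
      fun l =>
      let χ : IrrCharacter G := ⟨χ₀ * fun g => ((l.1.comp (QuotientGroup.mk' N)) g : ℂ),
        IsIrrCharacter.mul_hom hχ₀ _⟩
      have hχN : ∀ n : N, (χ : G → ℂ) n = (θ : N → ℂ) n := fun n => by
        simp only [χ, Pi.mul_apply, hlN, Units.val_one, mul_one, hext₀]
      ⟨⟨χ, (hblock χ θ hχN).2 hθB, hdeg χ θ hχN ▸ hθd, fun g => by
        simp only [χ, Pi.mul_apply, hfix₀]
        rw [(hom_fixed_iff hNres hk₁ _ (hlN l.1)).2 (fun g => l.2 _) g]⟩,
        Subtype.ext (Subtype.ext (funext hχN))⟩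
    refine Nat.card_congr (Equiv.ofBijective f ⟨fun l l' h => ?_, fun χ => ?_⟩)
    · have h' : ∀ g, χ₀ g * (l.1 (g : G ⧸ N) : ℂ) = χ₀ g * (l'.1 (g : G ⧸ N) : ℂ) := fun g =>
        congrFun (congrArg (fun z : {χ : X // r χ = _} => (z.1.1 : G → ℂ)) h) g
      have hl : l.1.comp (QuotientGroup.mk' N) = l'.1.comp (QuotientGroup.mk' N) :=
        hom_eq_of_mul_eq (N := N) hχ₀ (by rw [funext hext₀]; exact θ.2) (hlN l.1) (hlN l'.1)
          (funext h')
      exact Subtype.ext (QuotientGroup.monoidHom_ext N hl)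
    · have hχN : ∀ n : N, (χ.1.1 : G → ℂ) n = (θ : N → ℂ) n := fun n =>
        congrFun (congrArg (fun y : Y => (y.1 : N → ℂ)) χ.2) n
      obtain ⟨ν, hν, hνeq⟩ := exists_twist_of_extensions θ.2 hχ₀ hext₀ χ.1.1.2 hχN
      have hνfix : ∀ g, ν (g ^ k) = ν g := by
        have heq : ν.comp (MonoidHom.id G) = (ν ^ k) := by
          refine hom_eq_of_mul_eq (N := N) hχ₀ (by rw [funext hext₀]; exact θ.2) hν
            (fun n => by rw [MonoidHom.pow_apply, hν, one_pow]) (funext fun g => ?_)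
          have := χ.1.2.2.2 g
          rw [hνeq, Pi.mul_apply, Pi.mul_apply, hfix₀, map_pow] at this
          simpa [MonoidHom.pow_apply] using this.symm
        exact fun g => by
          rw [map_pow]
          exact (DFunLike.congr_fun heq g).symm
      refine ⟨⟨QuotientGroup.lift N ν fun n hn => hν ⟨n, hn⟩, fun q => ?_⟩, ?_⟩
      · obtain ⟨g, rfl⟩ := QuotientGroup.mk_surjective q
        exact (hom_fixed_iff hNres hk₁ ν hν).1 hνfix g
      · exact Subtype.ext (Subtype.ext (Subtype.ext hνeq.symm))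
  haveI : Finite X := Subtype.finite
  letI : Fintype Y := Fintype.ofFinite _
  rw [← Nat.card_congr (Equiv.sigmaFiberEquiv r), Nat.card_sigma, sum_congr rfl fun y _ => hfib y,
    sum_const, smul_eq_mul, mul_comm, card_univ, Nat.card_eq_fintype_card]

end CfsgLib.ResidualFixedCount
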