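import Cfsg.Agent.BlocksB.SelfCentralizingDerived
import Cfsg.Agent.Blocks.CharExtra
import Cfsg.Agent.Blocks.Regular
import Cfsg.Agent.Char.Equivalence
import Cfsg.Agent.Char.Induction
import Mathlib.LinearAlgebra.Matrix.Permutation
import Mathlib.LinearAlgebra.Trace
import Mathlib.GroupTheory.Perm.Sign
import Mathlib.GroupTheory.Perm.Cycle.Basic
import Mathlib.RingTheory.ZMod.UnitsCyclic

/-!
# A character of degree `p - 1` next to a self-centralizing element of order `p`
-/

set_option autoImplicit false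
set_option linter.unusedSectionVars false
set_option linter.style.haveILetI false

namespace CfsgLib.SelfCentPrime

open Subgroup
open scoped ComplexConjugate

universe u

section Det

variable {T : Type*} [Group T] [Fintype T]

theorem sign_mulLeft_generator [DecidableEq T] {y : T} (hgen : ∀ t : T, t ∈ zpowers y) {k : ℕ}
    (hk : Nat.card T = 2 ^ (k + 1)) :
    Equiv.Perm.sign (Equiv.mulLeft y : Equiv.Perm T) = -1 := by
  have hy : y ≠ 1 := fun h => by
    have : Subsingleton T := ⟨fun a b => by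
      obtain ⟨i, rfl⟩ := hgen a
      obtain ⟨j, rfl⟩ := hgen b
      simp [h]⟩
    rw [Nat.card_unique] at hk
    exact absurd hk.symm (Nat.one_lt_two_pow k.succ_ne_zero).ne'
  have hsupp : ∀ t : T, (Equiv.mulLeft y : Equiv.Perm T) t ≠ t := fun t h =>
    hy (mul_eq_right.1 (show y * t = t from h))
  have hzpow : ∀ (i : ℤ) (t : T), ((Equiv.mulLeft y : Equiv.Perm T) ^ i) t = y ^ i * t := fun i t => by
    rw [show (Equiv.mulLeft y : Equiv.Perm T) = MulAction.toPermHom T T y from rfl, ← map_zpow]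
    rfl
  have hcyc : Equiv.Perm.IsCycle (Equiv.mulLeft y : Equiv.Perm T) := by
    refine ⟨1, hsupp 1, fun t _ => ?_⟩
    obtain ⟨i, hi⟩ := hgen t
    exact ⟨i, by rw [hzpow, mul_one]; exact hi⟩
  have hcard : (Equiv.mulLeft y : Equiv.Perm T).support.card = 2 ^ (k + 1) := by
    rw [← hk, Nat.card_eq_fintype_card, ← Finset.card_univ]
    congr 1
    exact Finset.eq_univ_iff_forall.2 fun t => Equiv.Perm.mem_support.2 (hsupp t)
  rw [hcyc.sign, hcard, Even.neg_one_pow ⟨2 ^ k, by rw [pow_succ]; ring⟩]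

/-- A character of a cyclic `2`-group vanishing off the identity, an odd multiple of the regular
one, has determinant `-1` at a generator. -/
theorem det_eq_neg_one {d m : ℕ} (τ : Representation ℂ T (Fin d → ℂ)) {y : T}
    (hgen : ∀ t : T, t ∈ zpowers y) {k : ℕ} (hk : Nat.card T = 2 ^ (k + 1))
    (hd : d = Nat.card T * m) (hm : Odd m) (hvan : ∀ t : T, t ≠ 1 → τ.character t = 0) :
    LinearMap.det (τ y) = -1 := by
  classical
  let π : T → Equiv.Perm (T × Fin m) := fun t => Equiv.prodCongrLeft fun _ => Equiv.mulLeft t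
  have hπ : ∀ a b, π (a * b) = π a * π b := fun a b => Equiv.ext fun q => by
    simp [π, Equiv.prodCongrLeft, mul_assoc]
  let X : T →* Matrix (T × Fin m) (T × Fin m) ℂ :=
    { toFun := fun t => (π t⁻¹).permMatrix ℂ
      map_one' := by
        rw [show π 1⁻¹ = 1 from Equiv.ext fun q => by simp [π, Equiv.prodCongrLeft]]
        exact Matrix.permMatrix_one
      map_mul' := fun a b => by
        rw [← Matrix.permMatrix_mul, ← hπ, _root_.mul_inv_rev] }
  let σ : Representation ℂ T (T × Fin m → ℂ) :=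
    { toFun := fun t => Matrix.toLin' (X t)
      map_one' := by rw [map_one, Matrix.toLin'_one]; rfl
      map_mul' := fun a b => by rw [map_mul, Matrix.toLin'_mul]; rfl }
  have hchar : τ.character = σ.character := funext fun t => by
    show _ = LinearMap.trace ℂ (T × Fin m → ℂ) (Matrix.toLin' (X t))
    rw [Matrix.trace_toLin'_eq]
    show _ = ((π t⁻¹).permMatrix ℂ).trace
    rw [Matrix.trace_permutation]
    by_cases ht : t = 1
    · subst ht
      rw [τ.char_one, Module.finrank_fin_fun, hd,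
        show Function.fixedPoints (π 1⁻¹) = Set.univ from Set.eq_univ_of_forall fun q => by
          simp [Function.fixedPoints, Function.IsFixedPt, π, Equiv.prodCongrLeft],
        Set.ncard_univ, Nat.card_prod, Nat.card_fin]
    · rw [hvan t ht, show Function.fixedPoints (π t⁻¹) = ∅ from Set.eq_empty_of_forall_notMem
        fun q hq => ht (by
          have h1 : t⁻¹ * q.1 = q.1 := congrArg Prod.fst hq
          simpa using mul_eq_right.1 h1), Set.ncard_empty, Nat.cast_zero]
  obtain ⟨e⟩ := CfsgLib.Char.equiv_of_character_eq τ σ hchar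
  have h : σ y = (e.toLinearEquiv : _ →ₗ[ℂ] _) ∘ₗ τ y ∘ₗ (e.toLinearEquiv.symm : _ →ₗ[ℂ] _) := by
    rw [← e.conj_apply_self y]; rfl
  rw [← LinearMap.det_conj (τ y) e.toLinearEquiv, ← h]
  show LinearMap.det (Matrix.toLin' (X y)) = -1
  rw [LinearMap.det_toLin']
  show ((π y⁻¹).permMatrix ℂ).det = -1
  rw [Matrix.det_permutation, Equiv.Perm.sign_prodCongrLeft]
  simp [sign_mulLeft_generator (y := y⁻¹) (fun t => by rw [zpowers_inv]; exact hgen t) hk,
    hm.neg_one_pow]

end Det

variable {G : Type u} [Group G] [Fintype G] {p : ℕ} [hp : Fact p.Prime] {x : G}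
  (hx : orderOf x = p) (hC : centralizer ({x} : Set G) = zpowers x)

include hx hC in
/-- Sums over the cyclic group of class functions, class by class. -/
theorem sum_zpowers_eq (θ : G → ℂ) (hθ : Cfsg.IsClassFunction G θ) [Fintype (zpowers x)]
    [Fintype (ConjClasses G)] [DecidablePred fun C : ConjClasses G => ∃ g ∈ C.carrier, orderOf g = p] :
    ∑ v : zpowers x, θ v = θ 1 + ((zpowers x).relIndex (normalizer (zpowers x : Set G)) : ℂ) *
      ∑ C ∈ Finset.univ.filter (fun C : ConjClasses G => ∃ g ∈ C.carrier, orderOf g = p), θ C.out := by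
  classical
  have h1 : ∑ v : zpowers x, θ v = ∑ v ∈ Finset.univ.filter (fun y => y ∈ zpowers x), θ v :=
    (Finset.sum_subtype _ (fun y => by simp) θ).symm
  rw [h1, ← Finset.add_sum_erase _ _ (show (1 : G) ∈ Finset.univ.filter (fun y => y ∈ zpowers x) by simp)]
  congr 1
  rw [show (Finset.univ.filter (fun y => y ∈ zpowers x)).erase (1 : G) =
      Finset.univ.filter (fun y => y ∈ zpowers x ∧ y ≠ 1) by
    ext y
    simp only [Finset.mem_erase, Finset.mem_filter, Finset.mem_univ, true_and]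
    exact and_comm,
    ← Finset.sum_fiberwise_of_maps_to
      (t := Finset.univ.filter (fun C : ConjClasses G => ∃ g ∈ C.carrier, orderOf g = p))
      (g := ConjClasses.mk) (fun y hy => ?_) θ, Finset.mul_sum]
  · refine Finset.sum_congr rfl fun C hC' => ?_
    rw [← card_class_inter hx hC (Finset.mem_filter.1 hC').2, ← nsmul_eq_mul, ← Finset.sum_const]
    refine Finset.sum_congr rfl fun y hy => ?_
    have hyC : ConjClasses.mk y = C := (Finset.mem_filter.1 hy).2
    exact CfsgLib.Char.IsClassFunction.apply_eq_of_isConj hθ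
      (ConjClasses.mk_eq_mk_iff_isConj.1 (hyC.trans (Quotient.out_eq C).symm))
  · simp only [Finset.mem_filter, Finset.mem_univ, true_and] at hy ⊢
    exact ⟨y, ConjClasses.mem_carrier_iff_mk_eq.2 rfl, by
      rw [← Nat.card_zpowers, eq_zpowers_of_ne_one hx hy.1 hy.2, card_zpowers_eq hx]⟩

include hx hC in
/-- The character of degree `p - 1` has no fixed vector on the cyclic group. -/
theorem sum_eq_zero_of_degree (hq : 2 ≤ (zpowers x).relIndex (normalizer (zpowers x : Set G)))
    (hqd : (zpowers x).relIndex (normalizer (zpowers x : Set G)) ∣ p - 1)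
    (χ : Cfsg.IrrCharacter G) (hχ : Cfsg.charDegree (χ : G → ℂ) + 1 = p) [Fintype (zpowers x)] :
    ∑ v : zpowers x, (χ : G → ℂ) v = 0 := by
  classical
  letI := Fintype.ofFinite (ConjClasses G)
  set q := (zpowers x).relIndex (normalizer (zpowers x : Set G)) with hqdef
  let θ : (zpowers x) → ℂ := fun v => (χ : G → ℂ) v
  have hθ : Cfsg.IsCharacter (zpowers x) θ :=
    CfsgLib.Char.IsCharacter.restrict (CfsgLib.Block.Chr.isCharacter_irr χ) (zpowers x)
  have hcardX : (Nat.card (zpowers x) : ℂ) = p := by rw [card_zpowers_eq hx]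
  have hp1 : (χ : G → ℂ) 1 = ((p - 1 : ℕ) : ℂ) := by
    rw [(CfsgLib.Block.Chr.irr_one χ).1]; congr 1; omega
  have honeI : Cfsg.IsIrrCharacter (zpowers x) (fun _ => (1 : ℂ)) := by
    simpa using CfsgLib.Char.isIrrCharacter_ofHom (1 : (zpowers x) →* ℂˣ)
  obtain ⟨a₀, ha₀⟩ := CfsgLib.Char.IsCharacter.exists_classInner_eq_natCast hθ honeI
  have hsum : ∑ v : (zpowers x), (χ : G → ℂ) v = (p : ℂ) * a₀ := by
    rw [← ha₀, CfsgLib.Char.classInner_def, hcardX, ← mul_assoc,
      mul_inv_cancel₀ (Nat.cast_ne_zero.2 hp.out.ne_zero), one_mul]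
    simp [θ]
  suffices ha : a₀ = 0 by rw [hsum, ha, Nat.cast_zero, mul_zero]
  -- divisibility
  have hqdvd : q ∣ a₀ := by
    have h := sum_zpowers_eq hx hC (χ : G → ℂ) (CfsgLib.Block.Chr.isClassFunction_irr χ)
    rw [hsum, hp1] at h
    set S' := ∑ C ∈ Finset.univ.filter (fun C : ConjClasses G => ∃ g ∈ C.carrier, orderOf g = p),
      (χ : G → ℂ) C.out with hSig
    have hint : IsIntegral ℤ S' :=
      IsIntegral.sum _ fun C _ => CfsgLib.Char.IsCharacter.isIntegral (CfsgLib.Block.Chr.isCharacter_irr χ) _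
    have hq0 : (q : ℂ) ≠ 0 := Nat.cast_ne_zero.2 (by omega)
    obtain ⟨z, hz⟩ := CfsgLib.Block.exists_int_of_isIntegral_ratCast
      (q := ((((p * a₀ : ℕ) : ℤ) - ((p - 1 : ℕ) : ℤ) : ℤ) : ℚ) / (q : ℚ)) (by
        convert hint using 1
        push_cast
        rw [div_eq_iff hq0]
        linear_combination h)
    have hz2 : (((p * a₀ : ℕ) : ℤ) - ((p - 1 : ℕ) : ℤ)) = (q : ℤ) * z := by
      have hz1 := hz
      push_cast at hz1
      rw [div_eq_iff hq0] at hz1
      apply (Int.cast_inj (α := ℂ)).1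
      push_cast
      linear_combination hz1
    have h3 : (q : ℤ) ∣ ((p * a₀ : ℕ) : ℤ) := by
      have h4 : (q : ℤ) ∣ ((p * a₀ : ℕ) : ℤ) - ((p - 1 : ℕ) : ℤ) := Dvd.intro z hz2.symm
      have h5 := dvd_add h4 (Int.natCast_dvd_natCast.2 hqd)
      rwa [sub_add_cancel] at h5
    have hcop : Nat.Coprime q p := by
      refine (hp.out.coprime_iff_not_dvd.2 fun h => ?_).symm
      have h5 := Nat.le_of_dvd (by have := hp.out.two_le; omega) (h.trans hqd)
      omega
    exact hcop.dvd_of_dvd_mul_left (Int.natCast_dvd_natCast.1 h3)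
  by_contra ha
  have haq : q ≤ a₀ := Nat.le_of_dvd (Nat.pos_of_ne_zero ha) hqdvd
  -- multiplicities
  choose! a ha' using fun (f : (zpowers x) → ℂ) (hf : f ∈ CfsgLib.Char.irrFinset (zpowers x)) =>
    CfsgLib.Char.IsCharacter.exists_classInner_eq_natCast hθ (CfsgLib.Char.mem_irrFinset.1 hf)
  choose! b hb0 hb using fun (f : (zpowers x) → ℂ) (hf : f ∈ CfsgLib.Char.irrFinset (zpowers x)) =>
    CfsgLib.Char.IsIrrCharacter.exists_degree (CfsgLib.Char.mem_irrFinset.1 hf)
  have hb1 : ∀ f ∈ CfsgLib.Char.irrFinset (zpowers x), b f = 1 := fun f hf => by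
    haveI : IsMulCommutative (zpowers x) := IsCyclic.isMulCommutative
    have := CfsgLib.Char.IsIrrCharacter.apply_one_eq_one (CfsgLib.Char.mem_irrFinset.1 hf) mul_comm'
    rw [hb f hf] at this
    exact_mod_cast this
  have hdeg : ∑ f ∈ CfsgLib.Char.irrFinset (zpowers x), a f = p - 1 := by
    have h1 := congrFun (CfsgLib.Char.eq_sum_irr (CfsgLib.Char.IsCharacter.isClassFunction hθ)) 1
    rw [Finset.sum_apply, Finset.sum_congr rfl fun f hf => by
      rw [Pi.smul_apply, ha' f hf, hb f hf, hb1 f hf, smul_eq_mul, Nat.cast_one, mul_one]] at h1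
    rw [show θ 1 = (χ : G → ℂ) 1 from rfl, hp1, ← Nat.cast_sum, Nat.cast_inj] at h1
    exact h1.symm
  have hnorm : (∑ v : (zpowers x), ‖θ v‖ ^ 2 : ℝ) = p * ((∑ f ∈ CfsgLib.Char.irrFinset (zpowers x), a f * a f : ℕ) : ℝ) := by
    have h1 := CfsgLib.Char.classInner_eq_sum_irr (CfsgLib.Char.IsCharacter.isClassFunction hθ) θ
    rw [Finset.sum_congr rfl fun f hf => by
      rw [ha' f hf, Complex.conj_natCast, ← Nat.cast_mul], ← Nat.cast_sum,
      CfsgLib.Char.classInner_def, hcardX] at h1
    apply Complex.ofReal_injective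
    push_cast at h1 ⊢
    rw [← h1, ← mul_assoc, mul_inv_cancel₀ (Nat.cast_ne_zero.2 hp.out.ne_zero), one_mul]
    exact Finset.sum_congr rfl fun v _ => (Complex.mul_conj' _).symm
  have hlow : a₀ * a₀ + (p - 1 - a₀) ≤ ∑ f ∈ CfsgLib.Char.irrFinset (zpowers x), a f * a f := by
    have hm := CfsgLib.Char.mem_irrFinset.2 honeI
    have e : a (fun _ => (1 : ℂ)) = a₀ := by
      have := ha' _ hm
      rw [ha₀] at this
      exact_mod_cast this.symm
    rw [← Finset.add_sum_erase _ _ hm] at hdeg ⊢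
    rw [e] at hdeg ⊢
    have : p - 1 - a₀ = ∑ f ∈ (CfsgLib.Char.irrFinset (zpowers x)).erase (fun _ => (1 : ℂ)), a f := by omega
    rw [this]
    exact Nat.add_le_add_left (Finset.sum_le_sum fun f _ => Nat.le_mul_self (a f)) _
  -- the norm of χ on the conjugates of the cyclic group
  have hA : (∑ y ∈ Finset.univ.filter (fun y => y ∈ (zpowers x) ∧ y ≠ 1), ‖(χ : G → ℂ) y‖ ^ 2 : ℝ) <
      p * q := by
    set P' := Finset.univ.filter (fun z : G => orderOf z = p)
    set N := normalizer (zpowers x : Set G) with hN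
    set A := Finset.univ.filter (fun y => y ∈ (zpowers x) ∧ y ≠ 1) with hA'
    obtain ⟨P, hP⟩ := exists_sylow hx hC
    have hN' : (Nat.card N : ℝ) = p * q := by
      rw [hN, card_normalizer hx hC]; push_cast; rfl
    have hdouble : (Nat.card G : ℝ) * ∑ y ∈ A, ‖(χ : G → ℂ) y‖ ^ 2 =
        (Nat.card N : ℝ) * ∑ z ∈ P', ‖(χ : G → ℂ) z‖ ^ 2 := by
      rw [Nat.card_eq_fintype_card, ← Finset.card_univ, ← nsmul_eq_mul, ← Finset.sum_const,
        ← Finset.sum_product', Finset.mul_sum,
        ← Finset.sum_fiberwise_of_maps_to (t := P') (g := fun gy : G × G => gy.1 * gy.2 * gy.1⁻¹) ?_]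
      · refine Finset.sum_congr rfl fun z hz => ?_
        rw [← nsmul_eq_mul]
        have hzp : orderOf z = p := (Finset.mem_filter.1 hz).2
        obtain ⟨g₀, hg₀⟩ := sylow_of_card hx (H := zpowers z) (by rw [Nat.card_zpowers, hzp]) P hP
        have hz0 : g₀⁻¹ * z * g₀ ∈ (zpowers x) := by
          obtain ⟨w, hw, hwz⟩ : z ∈ (zpowers x).map (MulAut.conj g₀).toMonoidHom := hg₀ ▸ mem_zpowers z
          rw [← show g₀ * w * g₀⁻¹ = z from hwz]
          simpa [mul_assoc] using hw
        have hcard : ((Finset.univ ×ˢ A).filter fun gy => gy.1 * gy.2 * gy.1⁻¹ = z).card = Nat.card N := by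
          rw [← Nat.card_eq_finsetCard]
          refine (Nat.card_eq_of_bijective (fun n : N =>
            (⟨(g₀ * (n : G), (n : G)⁻¹ * (g₀⁻¹ * z * g₀) * n), ?_⟩ :
              {gy // gy ∈ (Finset.univ ×ˢ A).filter fun gy => gy.1 * gy.2 * gy.1⁻¹ = z})) ⟨?_, ?_⟩).symm
          · simp only [A, Finset.mem_filter, Finset.mem_product, Finset.mem_univ, true_and]
            refine ⟨⟨?_, ?_⟩, by group⟩
            · have := (mem_normalizer_iff.1 (inv_mem n.2) _).1 hz0
              simpa using this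
            · intro h
              have h2 : z = 1 := by
                calc z = (g₀ * (n : G)) * ((n : G)⁻¹ * (g₀⁻¹ * z * g₀) * n) * (g₀ * (n : G))⁻¹ := by group
                  _ = 1 := by rw [h]; group
              rw [h2, orderOf_one] at hzp
              exact hp.out.ne_one hzp.symm
          · intro n₁ n₂ h
            have := congrArg (fun gy => (Subtype.val gy).1) h
            simpa using this
          · rintro ⟨⟨g, y⟩, hgy⟩
            simp only [A, Finset.mem_filter, Finset.mem_product, Finset.mem_univ, true_and] at hgy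
            obtain ⟨⟨hy, hy1⟩, hgyz⟩ := hgy
            have hn : g₀⁻¹ * g ∈ N := by
              refine mem_normalizer_iff_map_conj_eq.2 ?_
              have hz1 : g₀⁻¹ * z * g₀ ≠ 1 := fun h0 => by
                have : z = 1 := by
                  calc z = g₀ * (g₀⁻¹ * z * g₀) * g₀⁻¹ := by group
                    _ = 1 := by rw [h0]; group
                rw [this, orderOf_one] at hzp
                exact hp.out.ne_one hzp.symm
              conv_lhs => rw [← eq_zpowers_of_ne_one hx hy hy1]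
              rw [MonoidHom.map_zpowers, ← eq_zpowers_of_ne_one hx hz0 hz1, ← hgyz]
              simp [mul_assoc]
            refine ⟨⟨_, hn⟩, Subtype.ext (Prod.ext ?_ ?_)⟩
            · simp
            · show (g₀⁻¹ * g)⁻¹ * (g₀⁻¹ * z * g₀) * (g₀⁻¹ * g) = y
              rw [← hgyz]; group
        rw [← hcard, ← Finset.sum_const]
        refine Finset.sum_congr rfl fun gy hgy => ?_
        rw [← (Finset.mem_filter.1 hgy).2, CfsgLib.Block.Chr.isClassFunction_irr χ gy.2 gy.1]
      · rintro ⟨g, y⟩ hgy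
        simp only [A, Finset.mem_product, Finset.mem_filter, Finset.mem_univ, true_and] at hgy
        simp only [P', Finset.mem_filter, Finset.mem_univ, true_and]
        rw [show orderOf (g * y * g⁻¹) = orderOf y from (MulAut.conj g).orderOf_eq y,
          ← Nat.card_zpowers, eq_zpowers_of_ne_one hx hgy.1 hgy.2, card_zpowers_eq hx]
    have hP' : ∑ z ∈ P', ‖(χ : G → ℂ) z‖ ^ 2 < (Nat.card G : ℝ) := by
      have htot : ∑ z : G, ‖(χ : G → ℂ) z‖ ^ 2 = (Nat.card G : ℝ) := by
        have h := CfsgLib.Char.IsIrrCharacter.classInner_self χ.2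
        rw [CfsgLib.Char.classInner_self, Complex.ofReal_eq_one,
          inv_mul_eq_one₀ (by exact_mod_cast Nat.card_pos.ne')] at h
        exact h.symm
      rw [← htot]
      refine Finset.sum_lt_sum_of_subset (Finset.subset_univ P') (Finset.mem_univ 1) ?_
        (pow_pos (norm_pos_iff.2 (CfsgLib.Block.Chr.irr_one_ne_zero χ)) 2) (fun _ _ _ => sq_nonneg _)
      simp [P', hp.out.ne_one.symm]
    have hGpos : (0 : ℝ) < Nat.card G := by exact_mod_cast Nat.card_pos
    have hNpos : (0 : ℝ) < Nat.card N := by exact_mod_cast Nat.card_pos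
    rw [← hN']
    nlinarith [mul_lt_mul_of_pos_left hP' hNpos]
  have hsplit : (∑ v : (zpowers x), ‖θ v‖ ^ 2 : ℝ) = ((p - 1 : ℕ) : ℝ) ^ 2 +
      ∑ y ∈ Finset.univ.filter (fun y => y ∈ (zpowers x) ∧ y ≠ 1), ‖(χ : G → ℂ) y‖ ^ 2 := by
    rw [show ∑ v : (zpowers x), ‖θ v‖ ^ 2 = ∑ v ∈ Finset.univ.filter (fun y => y ∈ (zpowers x)), ‖(χ : G → ℂ) v‖ ^ 2 from
      (Finset.sum_subtype _ (fun y => by simp) (fun y => ‖(χ : G → ℂ) y‖ ^ 2)).symm,
      ← Finset.add_sum_erase _ _ (show (1 : G) ∈ Finset.univ.filter (fun y => y ∈ (zpowers x)) by simp)]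
    congr 1
    · rw [hp1, Complex.norm_natCast]
    · congr 1
      ext y
      simp only [Finset.mem_erase, Finset.mem_filter, Finset.mem_univ, true_and]
      exact and_comm
  rw [hnorm] at hsplit
  have hlow' : (((a₀ * a₀ + (p - 1 - a₀) : ℕ)) : ℝ) ≤
      ((∑ f ∈ CfsgLib.Char.irrFinset (zpowers x), a f * a f : ℕ) : ℝ) := by exact_mod_cast hlow
  have hp2 := hp.out.two_le
  have hlt : p * (a₀ * a₀ + (p - 1 - a₀)) < p * q + (p - 1) * (p - 1) := by
    have : ((p * (a₀ * a₀ + (p - 1 - a₀)) : ℕ) : ℝ) < ((p * q + (p - 1) * (p - 1) : ℕ) : ℝ) := by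
      push_cast at hlow' hsplit ⊢
      nlinarith [mul_le_mul_of_nonneg_left hlow' (Nat.cast_nonneg p), hA, hsplit]
    exact_mod_cast this
  have ha₀le : a₀ ≤ p - 1 := by
    rw [← hdeg]
    have hm := CfsgLib.Char.mem_irrFinset.2 honeI
    have e : a (fun _ => (1 : ℂ)) = a₀ := by
      have := ha' _ hm
      rw [ha₀] at this
      exact_mod_cast this.symm
    rw [← e]
    exact Finset.single_le_sum (fun _ _ => Nat.zero_le _) hm
  obtain ⟨c, hc⟩ : ∃ c, p - 1 = a₀ + c := ⟨p - 1 - a₀, by omega⟩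
  rw [show p - 1 - a₀ = c by omega, hc, show p = a₀ + c + 1 by omega] at hlt
  obtain ⟨r, hr⟩ : ∃ r, a₀ = 2 + r := ⟨a₀ - 2, by omega⟩
  have := Nat.mul_le_mul_left (a₀ + c + 1) haq
  subst hr
  ring_nf at hlt this
  nlinarith [Nat.zero_le (r * r * r), Nat.zero_le (c * r * r), Nat.zero_le (c * r), Nat.zero_le (r * r),
    Nat.zero_le c]

include hx hC in
/-- **A character of degree `p - 1` forces an odd linear character.** -/
theorem exists_hom_eq_neg_one (hq : Even ((zpowers x).relIndex (normalizer (zpowers x : Set G))))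
    {t : ℕ} (ht : Odd t)
    (htq : t * (zpowers x).relIndex (normalizer (zpowers x : Set G)) = p - 1)
    (χ : Cfsg.IrrCharacter G) (hχ : Cfsg.charDegree (χ : G → ℂ) + 1 = p) :
    ∃ (D : G →* ℂˣ) (g : G), (D g : ℂ) = -1 := by
  classical
  set X := zpowers x with hX
  set N := normalizer (X : Set G) with hN
  set q := X.relIndex N with hqdef
  have hp2 := hp.out.two_le
  have hq0 : q ≠ 0 := Subgroup.index_ne_zero_of_finite
  have hq2 : 2 ≤ q := by obtain ⟨r, hr⟩ := hq; omega
  haveI := Fintype.ofFinite X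
  have hzero := sum_eq_zero_of_degree hx hC hq2 (Dvd.intro_left t htq) χ hχ
  obtain ⟨n, ρ, hρ, hρχ⟩ := χ.2
  have hn : n + 1 = p := by
    have h := (CfsgLib.Block.Chr.irr_one χ).1
    rw [← hρχ, CfsgLib.Block.Chr.char_one_eq, Nat.cast_inj] at h
    rw [← hρχ] at hχ
    omega
  -- the fixed space is trivial
  set E : Module.End ℂ (Fin n → ℂ) := (p : ℂ)⁻¹ • ∑ v : X, ρ v with hE
  have hE0 : E = 0 := by
    have hid : IsIdempotentElem E := by
      have hmul : ∀ v : X, ρ v * ∑ w : X, ρ w = ∑ w : X, ρ w := fun v => by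
        rw [Finset.mul_sum]
        exact Fintype.sum_equiv (Equiv.mulLeft v) _ _ fun w => by simp [map_mul]
      unfold IsIdempotentElem
      rw [hE, smul_mul_smul_comm, Finset.sum_mul, Finset.sum_congr rfl fun v _ => hmul v,
        Finset.sum_const, Finset.card_univ, ← Nat.card_eq_fintype_card, card_zpowers_eq hx,
        ← Nat.cast_smul_eq_nsmul ℂ, smul_smul, mul_assoc,
        inv_mul_cancel₀ (Nat.cast_ne_zero.2 hp.out.ne_zero), mul_one]
    have htr : LinearMap.trace ℂ _ E = 0 := by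
      rw [hE, map_smul, map_sum, show ∑ v : X, LinearMap.trace ℂ _ (ρ v) = ∑ v : X, (χ : G → ℂ) v by
        rw [← hρχ]; rfl, hzero, smul_zero]
    have hproj := LinearMap.IsIdempotentElem.isProj_range E hid
    have h1 := hproj.trace
    rw [htr] at h1
    have h2 : Module.finrank ℂ (LinearMap.range E) = 0 := by exact_mod_cast h1.symm
    exact LinearMap.range_eq_bot.1 (Submodule.finrank_eq_zero.1 h2)
  -- a Sylow 2-subgroup of the normalizer
  obtain ⟨S⟩ : Nonempty (Sylow 2 N) := inferInstance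
  haveI : Fact (Nat.Prime 2) := ⟨Nat.prime_two⟩
  set T := (S : Subgroup N).map N.subtype with hT
  have hTN : T ≤ N := map_subtype_le _
  have hcardT : Nat.card T = 2 ^ (Nat.card N).factorization 2 := by
    rw [hT, card_map_of_injective N.subtype_injective]
    exact S.card_eq_multiplicity
  have hcN : Nat.card N = p * q := card_normalizer hx hC
  have hp_odd : ¬ 2 ∣ p := fun h => by
    have := (Nat.prime_dvd_prime_iff_eq Nat.prime_two hp.out).1 h
    obtain ⟨r, hr⟩ := hq
    have : t * q = 1 := by omega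
    rw [mul_eq_one] at this
    omega
  have hfac : (Nat.card N).factorization 2 = q.factorization 2 := by
    rw [hcN, Nat.factorization_mul hp.out.ne_zero hq0]
    simp [Nat.factorization_eq_zero_of_not_dvd hp_odd]
  have hk0 : 0 < q.factorization 2 :=
    Nat.prime_two.factorization_pos_of_dvd hq0 (even_iff_two_dvd.1 hq)
  obtain ⟨k, hk⟩ : ∃ k, q.factorization 2 = k + 1 := ⟨_, (Nat.succ_pred_eq_of_pos hk0).symm⟩
  rw [hfac, hk] at hcardT
  have hTX : ∀ z ∈ T, z ∈ X → z = 1 := fun z hz hzX => by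
    have h1 : orderOf z ∣ 2 ^ (k + 1) := hcardT ▸ orderOf_dvd_natCard T hz
    have h2 : orderOf z ∣ p := card_zpowers_eq hx ▸ orderOf_dvd_natCard X hzX
    exact orderOf_eq_one_iff.1 (Nat.eq_one_of_dvd_coprimes
      ((Nat.prime_two.coprime_iff_not_dvd.2 hp_odd).pow_left _) h1 h2)
  -- it is cyclic
  haveI : IsCyclic X := inferInstance
  let f : T →* MulAut X := (normalizerMonoidHom X).comp (Subgroup.inclusion hTN)
  have hf : Function.Injective f := by
    rw [← MonoidHom.ker_eq_bot_iff, eq_bot_iff]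
    rintro z hz
    rw [MonoidHom.mem_ker] at hz
    have h1 : (Subgroup.inclusion hTN z) ∈ (normalizerMonoidHom X).ker := hz
    rw [normalizerMonoidHom_ker, mem_subgroupOf] at h1
    rw [mem_bot]
    refine Subtype.ext (hTX _ z.2 ?_)
    rw [← hC, mem_centralizer_singleton_iff]
    exact (mem_centralizer_iff.1 h1 x (mem_zpowers x)).symm
  haveI : IsCyclic (ZMod (Nat.card X))ˣ := by
    rw [show Nat.card X = p from card_zpowers_eq hx]
    infer_instance
  haveI : IsCyclic (MulAut X) :=
    isCyclic_of_injective (IsCyclic.mulAutMulEquiv X).toMonoidHom (IsCyclic.mulAutMulEquiv X).injective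
  haveI : IsCyclic T := isCyclic_of_injective f hf
  obtain ⟨y, hy⟩ := IsCyclic.exists_generator (α := T)
  haveI := Fintype.ofFinite T
  -- vanishing
  have hvan : ∀ z : T, z ≠ 1 → Representation.character (k := ℂ) (ρ.comp T.subtype) z = 0 := by
    intro z hz
    have hzX : (z : G) ∉ X := fun h => hz (Subtype.ext (hTX _ z.2 h))
    let F : X → X := fun u => ⟨(u : G) * z * (u : G)⁻¹ * (z : G)⁻¹, by
      rw [show (u : G) * z * (u : G)⁻¹ * (z : G)⁻¹ = (u : G) * ((z : G) * (u : G)⁻¹ * (z : G)⁻¹) by group]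
      exact X.mul_mem u.2 ((mem_normalizer_iff.1 (hTN z.2) _).1 (X.inv_mem u.2))⟩
    have hF : Function.Injective F := fun a b h => by
      have h1 : (a : G) * z * (a : G)⁻¹ * (z : G)⁻¹ = (b : G) * z * (b : G)⁻¹ * (z : G)⁻¹ :=
        congrArg Subtype.val h
      by_contra hne
      have hne' : (b : G)⁻¹ * a ≠ 1 := fun h0 => hne (Subtype.ext (inv_mul_eq_one.1 h0).symm)
      have hmem : (b : G)⁻¹ * a ∈ X := X.mul_mem (X.inv_mem b.2) a.2
      obtain ⟨i, hi⟩ : x ∈ zpowers ((b : G)⁻¹ * a) := by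
        rw [eq_zpowers_of_ne_one hx hmem hne']; exact mem_zpowers x
      have hcomm : Commute (z : G) ((b : G)⁻¹ * a) := by
        rw [Commute, SemiconjBy]
        symm
        calc (b : G)⁻¹ * a * z = (b : G)⁻¹ * ((a : G) * z * (a : G)⁻¹ * (z : G)⁻¹) * z * a := by group
          _ = z * ((b : G)⁻¹ * a) := by rw [h1]; group
      apply hzX
      rw [← hC, mem_centralizer_singleton_iff, ← hi]
      exact (hcomm.zpow_right i).eq
    have hval : ∀ v : X, (χ : G → ℂ) ((v : G) * z) = (χ : G → ℂ) z := fun v => by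
      obtain ⟨u, hu⟩ := (Finite.injective_iff_surjective.1 hF) v
      rw [← hu]
      show (χ : G → ℂ) ((u : G) * z * (u : G)⁻¹ * (z : G)⁻¹ * z) = _
      rw [inv_mul_cancel_right]
      exact CfsgLib.Block.Chr.isClassFunction_irr χ _ _
    have h0 : ∑ v : X, (χ : G → ℂ) ((v : G) * z) = 0 := by
      have h := congrArg (fun A => LinearMap.trace ℂ _ (A * ρ z)) hE0
      simp only [hE, smul_mul_assoc, Finset.sum_mul, ← map_mul, map_smul, map_sum, zero_mul,
        map_zero, smul_eq_mul, mul_eq_zero, inv_eq_zero, Nat.cast_eq_zero, hp.out.ne_zero, false_or] at h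
      rw [← hρχ]
      exact h
    rw [Finset.sum_congr rfl fun v _ => hval v, Finset.sum_const, nsmul_eq_mul, mul_eq_zero] at h0
    rcases h0 with h0 | h0
    · simp at h0
    · rw [← hρχ] at h0; exact h0
  obtain ⟨m, hm⟩ : Nat.card T ∣ n := by
    have : q ∣ n := ⟨t, by rw [show n = p - 1 by omega, ← htq, mul_comm]⟩
    rw [hcardT, ← hk]
    exact (Nat.ordProj_dvd q 2).trans this
  have hmodd : Odd m := by
    have h1 : n = t * q := by omega
    rw [← Nat.ordProj_mul_ordCompl_eq_self q 2, hk, ← hcardT] at h1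
    have h2 : m = t * (q / Nat.card T) := by
      refine Nat.eq_of_mul_eq_mul_left (Nat.card_pos (α := T)) ?_
      rw [← hm, h1]; ring
    rw [h2, hcardT, ← hk]
    exact ht.mul (Nat.odd_iff.2 (Nat.two_dvd_ne_zero.1 (Nat.not_dvd_ordCompl Nat.prime_two hq0)))
  let D : G →* ℂˣ := ((LinearMap.det : Module.End ℂ (Fin n → ℂ) →* ℂ).comp ρ).toHomUnits
  exact ⟨D, (y : G), det_eq_neg_one (ρ.comp T.subtype) hy hcardT hm hmodd hvan⟩

end CfsgLib.SelfCentPrime
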