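import Cfsg.Agent.BlocksB.SelfCentralizingPrime

/-!
# Elements of prime order generating their centralizer: the derived series
-/

set_option autoImplicit false
set_option linter.unusedSectionVars false
set_option linter.style.haveILetI false

namespace CfsgLib.SelfCentPrime

open Subgroup
open scoped commutatorElement

universe u

variable {G : Type u} [Group G] [Finite G] {p : ℕ} [hp : Fact p.Prime] {x : G}
  (hx : orderOf x = p) (hC : centralizer ({x} : Set G) = zpowers x)

include hx hC in
theorem card_normalizer :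
    Nat.card (normalizer (zpowers x : Set G)) =
      p * (zpowers x).relIndex (normalizer (zpowers x : Set G)) := by
  have h := relIndex_mul_relIndex ⊥ (zpowers x) (normalizer (zpowers x : Set G)) bot_le le_normalizer
  rw [relIndex_bot_left, relIndex_bot_left, card_zpowers_eq hx] at h
  exact h.symm

include hx hC in
theorem normalizer_inf_eq_bot (S : Subgroup G) [hSn : S.Normal] (hS : ¬ p ∣ Nat.card S) :
    normalizer (zpowers x : Set G) ⊓ S = ⊥ := by
  rw [eq_bot_iff]
  rintro s ⟨hsN, hs⟩
  have h1 : s * x * s⁻¹ * x⁻¹ ∈ zpowers x :=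
    mul_mem ((mem_normalizer_iff.1 hsN x).1 (mem_zpowers x)) (inv_mem (mem_zpowers x))
  have h2 : s * x * s⁻¹ * x⁻¹ ∈ S := by
    rw [show s * x * s⁻¹ * x⁻¹ = s * (x * s⁻¹ * x⁻¹) by group]
    exact mul_mem hs (hSn.conj_mem _ (inv_mem hs) x)
  have h4 : s * x * s⁻¹ * x⁻¹ ∈ centralizer ({x} : Set G) ⊓ S := ⟨hC ▸ h1, h2⟩
  rw [normalizer_inf_eq_bot_aux hx hC S hS, mem_bot, mul_inv_eq_one, mul_inv_eq_iff_eq_mul] at h4
  have h5 : s ∈ centralizer ({x} : Set G) ⊓ S := ⟨mem_centralizer_singleton_iff.2 h4, hs⟩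
  rwa [normalizer_inf_eq_bot_aux hx hC S hS] at h5

include hx hC in
/-- A normal subgroup as big as the number of subgroups of order `p` covers the group with the
normalizer. -/
theorem normal_sup_zpowers (S : Subgroup G) [hSn : S.Normal] (hS : ¬ p ∣ Nat.card S)
    (hcard : Nat.card S = Nat.card {H : Subgroup G // Nat.card H = p}) :
    (S ⊔ zpowers x).Normal := by
  rw [card_subgroups_eq hx hC] at hcard
  set N := normalizer (zpowers x : Set G) with hN
  have htop : S ⊔ N = ⊤ := by
    refine eq_top_of_card_eq _ (le_antisymm (card_le_card_group _) ?_)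
    have h1 : Nat.card S * S.relIndex (S ⊔ N) = Nat.card ↥(S ⊔ N) := by
      rw [← relIndex_bot_left, ← relIndex_bot_left]
      exact relIndex_mul_relIndex ⊥ S _ bot_le le_sup_left
    rw [sup_comm, relIndex_sup_right, ← inf_relIndex_right, inf_comm,
      normalizer_inf_eq_bot hx hC S hS, relIndex_bot_left, hcard, mul_comm,
      N.card_mul_index, sup_comm] at h1
    exact h1.le
  refine normalizer_eq_top_iff.1 (eq_top_iff.2 ?_)
  rw [← htop, sup_le_iff]
  refine ⟨le_sup_left.trans le_normalizer, fun n hn => ?_⟩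
  rw [mem_normalizer_iff_map_conj_eq, Subgroup.map_sup]
  congr 1
  · exact mem_normalizer_iff_map_conj_eq.1 (S.normalizer_eq_top ▸ mem_top n)
  · exact mem_normalizer_iff_map_conj_eq.1 hn

include hx hC in
theorem card_derived_of_ne_one
    (hq : (zpowers x).relIndex (normalizer (zpowers x : Set G)) ≠ 1)
    (hd : derivedSeries G 2 ≠ derivedSeries G 1) :
    Nat.card (derivedSeries G 2) = Nat.card {H : Subgroup G // Nat.card H = p} ∧
      Nat.card (commutator G) = p * Nat.card {H : Subgroup G // Nat.card H = p} := by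
  classical
  set D := derivedSeries G 2 with hD
  haveI hDn : D.Normal := derivedSeries_normal G 2
  set S := Cfsg.pPrimeCore p G with hS
  haveI : S.Normal := CfsgLib.Solvable.pPrimeCore_normal p
  have hSp : ¬ p ∣ Nat.card S :=
    hp.out.coprime_iff_not_dvd.1 (CfsgLib.Solvable.coprime_card_pPrimeCore p).symm
  have hD1 : derivedSeries G 1 = commutator G := derivedSeries_one G
  have hle : D ≤ commutator G := hD1 ▸ derivedSeries_antitone G (by omega)
  have hDp : ¬ p ∣ Nat.card D := fun h =>
    hd (le_antisymm (hD1.symm ▸ hle) (hD1.symm ▸ (commutator_le_of_dvd hx hC D h).2))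
  have hDS : D ≤ S := CfsgLib.Solvable.le_pPrimeCore p hDn (hp.out.coprime_iff_not_dvd.2 hDp).symm
  have hxG := mem_commutator_of_ne_one hx hC hq
  have hSG := pPrimeCore_le_commutator hx hC
  have hSD : S ≤ D := by
    intro s hs
    let f : S → S := fun s => ⟨(s : G) * x * (s : G)⁻¹ * x⁻¹, by
      rw [show (s : G) * x * (s : G)⁻¹ * x⁻¹ = (s : G) * (x * (s : G)⁻¹ * x⁻¹) by group]
      exact S.mul_mem s.2 ((inferInstance : S.Normal).conj_mem _ (S.inv_mem s.2) x)⟩
    have hinj : Function.Injective f := fun a b h => by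
      have h1 : (a : G) * x * (a : G)⁻¹ * x⁻¹ = (b : G) * x * (b : G)⁻¹ * x⁻¹ :=
        congrArg Subtype.val h
      have h2 : (b : G)⁻¹ * a ∈ centralizer ({x} : Set G) ⊓ S := by
        refine ⟨?_, S.mul_mem (S.inv_mem b.2) a.2⟩
        show (b : G)⁻¹ * a ∈ centralizer ({x} : Set G)
        rw [mem_centralizer_singleton_iff]
        calc (b : G)⁻¹ * a * x = (b : G)⁻¹ * ((a : G) * x * (a : G)⁻¹ * x⁻¹) * x * a := by group
          _ = x * ((b : G)⁻¹ * a) := by rw [h1]; group
      rw [normalizer_inf_eq_bot_aux hx hC S hSp, mem_bot, inv_mul_eq_one] at h2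
      exact Subtype.ext h2.symm
    obtain ⟨t, ht⟩ := (Finite.injective_iff_surjective.1 hinj) ⟨s, hs⟩
    rw [← show (t : G) * x * (t : G)⁻¹ * x⁻¹ = s from congrArg Subtype.val ht, hD,
      derivedSeries_succ, hD1]
    exact commutator_mem_commutator (hSG t.2) hxG
  have hDeq : D = S := le_antisymm hDS hSD
  haveI hSn : (S.subgroupOf (commutator G)).Normal := Subgroup.Normal.subgroupOf ‹_› _
  haveI := isSimpleGroup_quotient hx hC hq (hn := hSn)
  set Q := ↥(commutator G) ⧸ S.subgroupOf (commutator G)
  let π := QuotientGroup.mk' (S.subgroupOf (commutator G))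
  have hcomm : IsMulCommutative Q := ⟨⟨fun a b => by
    obtain ⟨u, rfl⟩ := QuotientGroup.mk'_surjective _ a
    obtain ⟨v, rfl⟩ := QuotientGroup.mk'_surjective _ b
    have h1 : π (u * v * u⁻¹ * v⁻¹) = 1 := by
      refine (QuotientGroup.eq_one_iff _).2 (mem_subgroupOf.2 (hDeq ▸ ?_))
      rw [hD, derivedSeries_succ, hD1]
      exact commutator_mem_commutator u.2 v.2
    rw [map_mul, map_mul, map_mul, map_inv, map_inv, mul_inv_eq_one, mul_inv_eq_iff_eq_mul] at h1
    exact h1⟩⟩
  have hprime : (Nat.card Q).Prime := by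
    letI : CommGroup Q := { (inferInstance : Group Q) with mul_comm := hcomm.is_comm.comm }
    exact IsSimpleGroup.prime_card
  have hp1 : orderOf (π ⟨x, hxG⟩) = p := by
    refine orderOf_eq_prime ?_ ?_
    · rw [← map_pow]
      refine (QuotientGroup.eq_one_iff _).2 (mem_subgroupOf.2 ?_)
      simp only [SubgroupClass.coe_pow]
      rw [← hx, pow_orderOf_eq_one]
      exact S.one_mem
    · intro h
      exact not_mem_of_not_dvd hx hC S hSp (mem_subgroupOf.1 ((QuotientGroup.eq_one_iff _).1 h))
  have hQ : Nat.card Q = p :=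
    ((Nat.prime_dvd_prime_iff_eq hp.out hprime).1 (hp1 ▸ orderOf_dvd_natCard _)).symm
  have hcG : Nat.card (commutator G) = p * Nat.card S := by
    rw [← hQ, ← Nat.card_congr (subgroupOfEquivOfLe hSG).toEquiv]
    exact Subgroup.card_eq_card_quotient_mul_card_subgroup _
  -- count the Sylow subgroups
  obtain ⟨P, hP⟩ := exists_sylow hx hC
  have hPG : (P : Subgroup G) ≤ commutator G := hP ▸ zpowers_le.2 hxG
  set N := normalizer (zpowers x : Set G) with hN
  have htop : N ⊔ commutator G = ⊤ := by
    have h := Sylow.normalizer_sup_eq_top (P.subtype hPG)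
    rw [Sylow.coe_subtype, map_subgroupOf_eq_of_le hPG] at h
    rw [← h]
    congr 2
    rw [hP]
  have hidx : N.index = N.relIndex (commutator G) := by
    have hb : (commutator G).relIndex N = (commutator G).index := by
      rw [← relIndex_top_right, ← htop, relIndex_sup_right]
    have e1 := relIndex_mul_index (inf_le_left : N ⊓ commutator G ≤ N)
    have e2 := relIndex_mul_index (inf_le_right : N ⊓ commutator G ≤ commutator G)
    rw [inf_comm, inf_relIndex_right, hb] at e1
    rw [inf_relIndex_right, inf_comm] at e2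
    rw [← e2, mul_comm] at e1
    exact Nat.eq_of_mul_eq_mul_right (Nat.pos_of_ne_zero index_ne_zero_of_finite) e1
  have hinf : N ⊓ commutator G = zpowers x := by
    refine (eq_of_le_of_card_ge (le_inf le_normalizer (zpowers_le.2 hxG)) ?_).symm
    have hbot : (N ⊓ commutator G) ⊓ S = ⊥ := le_bot_iff.1 (by
      rw [← normalizer_inf_eq_bot hx hC S hSp]; exact inf_le_inf_right _ inf_le_left)
    have h1 : S.relIndex ((N ⊓ commutator G) ⊔ S) ∣ S.relIndex (commutator G) :=
      Dvd.intro _ (relIndex_mul_relIndex S _ (commutator G) le_sup_right (sup_le inf_le_right hSG))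
    rw [relIndex_sup_right, ← inf_relIndex_right, inf_comm, hbot, relIndex_bot_left] at h1
    have h2 : S.relIndex (commutator G) = p := by
      have h := relIndex_mul_relIndex ⊥ S (commutator G) bot_le hSG
      rw [relIndex_bot_left, relIndex_bot_left, hcG, mul_comm p] at h
      exact Nat.eq_of_mul_eq_mul_left Nat.card_pos h
    rw [h2] at h1
    rw [card_zpowers_eq hx]
    exact Nat.le_of_dvd hp.out.pos h1
  have hnum : Nat.card {H : Subgroup G // Nat.card H = p} = Nat.card S := by
    rw [card_subgroups_eq hx hC, hidx, ← inf_relIndex_right, hinf]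
    have h := relIndex_mul_relIndex ⊥ (zpowers x) (commutator G) bot_le (zpowers_le.2 hxG)
    rw [relIndex_bot_left, relIndex_bot_left, hcG, card_zpowers_eq hx] at h
    exact Nat.eq_of_mul_eq_mul_left hp.out.pos h
  exact ⟨by rw [hnum, hDeq], by rw [hnum, hcG]⟩

include hx hC in
theorem derived_ne_of_normal (S : Subgroup G) [hSn : S.Normal] (hS : ¬ p ∣ Nat.card S)
    (hcard : Nat.card S = Nat.card {H : Subgroup G // Nat.card H = p})
    (hq : (zpowers x).relIndex (normalizer (zpowers x : Set G)) ≠ 1) :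
    derivedSeries G 2 ≠ derivedSeries G 1 := by
  haveI := normal_sup_zpowers hx hC S hS hcard
  have hxS : zpowers x ≤ S ⊔ zpowers x := le_sup_right
  have h1 : p ∣ Nat.card ↥(S ⊔ zpowers x) := card_zpowers_eq hx ▸ card_dvd_of_le hxS
  have hG : commutator G ≤ S ⊔ zpowers x := (commutator_le_of_dvd hx hC _ h1).2
  have hxG := mem_commutator_of_ne_one hx hC hq
  have h2 : derivedSeries G 2 ≤ S := by
    rw [derivedSeries_succ, derivedSeries_one, Subgroup.commutator_le]
    intro a ha b hb
    have key : ∀ w ∈ S ⊔ zpowers x, ∃ i : ℤ, QuotientGroup.mk' S w = QuotientGroup.mk' S x ^ i := by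
      intro w hw
      obtain ⟨s, hs, y, hy, rfl⟩ := mem_sup_of_normal_left.1 hw
      obtain ⟨i, rfl⟩ := hy
      refine ⟨i, ?_⟩
      rw [map_mul, map_zpow, (QuotientGroup.eq_one_iff s).2 hs |>
        fun h : QuotientGroup.mk' S s = 1 => h, one_mul]
    obtain ⟨i, hi⟩ := key a (hG ha)
    obtain ⟨j, hj⟩ := key b (hG hb)
    rw [← QuotientGroup.eq_one_iff]
    show QuotientGroup.mk' S (⁅a, b⁆ : G) = 1
    rw [map_commutatorElement, hi, hj, commutatorElement_eq_one_iff_commute]
    exact (Commute.refl _).zpow_zpow i j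
  intro he
  rw [he, derivedSeries_one] at h2
  exact not_mem_of_not_dvd hx hC S hS (h2 hxG)

end CfsgLib.SelfCentPrime
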