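import Cfsg.Prelude.Def_Blocks
import Cfsg.Agent.Char.CosetConj
import Cfsg.Agent.Solvable.Basics
import Cfsg.Agent.PLocal.PConstrained
import Mathlib.GroupTheory.Transfer
import Mathlib.GroupTheory.Commutator.Basic
import Mathlib.GroupTheory.Abelianization.Defs
import Mathlib.RingTheory.IntegralDomain

/-!
# Elements of prime order which generate their own centralizer
-/

set_option autoImplicit false
set_option linter.unusedSectionVars false
set_option linter.style.haveILetI false

namespace CfsgLib.SelfCentPrime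

open Subgroup

universe u

variable {G : Type u} [Group G] [Finite G] {p : ℕ} [hp : Fact p.Prime] {x : G}
  (hx : orderOf x = p) (hC : centralizer ({x} : Set G) = zpowers x)

include hx in
theorem card_zpowers_eq : Nat.card (zpowers x) = p := by rw [Nat.card_zpowers, hx]

include hx in
theorem eq_zpowers_of_ne_one {y : G} (hy : y ∈ zpowers x) (hy1 : y ≠ 1) : zpowers y = zpowers x := by
  refine eq_of_le_of_card_ge (zpowers_le.2 hy) ?_
  rw [card_zpowers_eq hx, Nat.card_zpowers]
  have h : orderOf y ∣ p := (Subgroup.orderOf_dvd_natCard _ hy).trans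
    (dvd_of_eq (card_zpowers_eq hx))
  rcases (Nat.dvd_prime hp.out).1 h with h1 | h1
  · exact absurd (orderOf_eq_one_iff.1 h1) hy1
  · exact h1.ge

include hx hC in
/-- The cyclic group generated by the element is a Sylow subgroup. -/
theorem exists_sylow : ∃ P : Sylow p G, (P : Subgroup G) = zpowers x := by
  have hX : IsPGroup p (zpowers x) := IsPGroup.of_card (n := 1) (by rw [card_zpowers_eq hx, pow_one])
  obtain ⟨P, hP⟩ := hX.exists_le_sylow
  refine ⟨P, le_antisymm (fun y hy => ?_) hP⟩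
  have hxP : x ∈ (P : Subgroup G) := hP (mem_zpowers x)
  haveI : Nontrivial (P : Subgroup G) := (nontrivial_iff_ne_bot _).2 fun h => by
    rw [h, mem_bot] at hxP
    rw [hxP, orderOf_one] at hx
    exact hp.out.ne_one hx.symm
  haveI := P.isPGroup'.center_nontrivial
  obtain ⟨z, hz⟩ := exists_ne (1 : center (P : Subgroup G))
  have hzx : ((z : (P : Subgroup G)) : G) ∈ zpowers x := by
    rw [← hC, mem_centralizer_singleton_iff]
    exact congrArg Subtype.val (Subgroup.mem_center_iff.1 z.2 ⟨x, hxP⟩).symm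
  have hz1 : ((z : (P : Subgroup G)) : G) ≠ 1 := fun h => hz (Subtype.ext (Subtype.ext h))
  obtain ⟨k, hk⟩ : x ∈ zpowers ((z : (P : Subgroup G)) : G) := by
    rw [eq_zpowers_of_ne_one hx hzx hz1]; exact mem_zpowers x
  rw [← hC, mem_centralizer_singleton_iff, ← hk]
  have h1 : Commute y ((z : (P : Subgroup G)) : G) :=
    congrArg Subtype.val (Subgroup.mem_center_iff.1 z.2 ⟨y, hy⟩)
  exact (h1.zpow_right k).eq

include hx hC in
theorem normalizer_le_of_mem_commutator {y : G} (hy : y ∈ normalizer (zpowers x : Set G))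
    (hy1 : y ∉ zpowers x) : x ∈ commutator G := by
  have hne : y * x * y⁻¹ * x⁻¹ ≠ 1 := fun h => hy1 (by
    rw [← hC, mem_centralizer_singleton_iff]
    rw [mul_inv_eq_one, mul_inv_eq_iff_eq_mul] at h
    exact h)
  have hmem : y * x * y⁻¹ * x⁻¹ ∈ zpowers x :=
    mul_mem ((mem_normalizer_iff.1 hy x).1 (mem_zpowers x)) (inv_mem (mem_zpowers x))
  have hc : y * x * y⁻¹ * x⁻¹ ∈ commutator G := by
    rw [_root_.commutator_def]; exact commutator_mem_commutator (mem_top y) (mem_top x)
  obtain ⟨k, hk⟩ : x ∈ zpowers (y * x * y⁻¹ * x⁻¹) := by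
    rw [eq_zpowers_of_ne_one hx hmem hne]; exact mem_zpowers x
  rw [← hk]
  exact zpow_mem hc k

include hx hC in
theorem normalizer_inf_eq_bot_aux (S : Subgroup G) [S.Normal] (hS : ¬ p ∣ Nat.card S) :
    centralizer ({x} : Set G) ⊓ S = ⊥ := by
  rw [hC, eq_bot_iff]
  rintro y ⟨hy, hyS⟩
  rw [mem_bot]
  by_contra h1
  have h2 := eq_zpowers_of_ne_one hx hy h1
  apply hS
  rw [← card_zpowers_eq hx, ← h2]
  exact card_dvd_of_le (zpowers_le.2 hyS)

include hx hC in
theorem not_mem_of_not_dvd (S : Subgroup G) (hS : ¬ p ∣ Nat.card S) : x ∉ S := fun h => hS (by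
  rw [← hx]; exact Subgroup.orderOf_dvd_natCard _ h)

include hx hC in
/-- A normal subgroup of order prime to `p` lies in the commutator subgroup. -/
theorem le_commutator_of_not_dvd (S : Subgroup G) [hSn : S.Normal] (hS : ¬ p ∣ Nat.card S) :
    S ≤ commutator G := by
  classical
  let f : S → S := fun s => ⟨(s : G) * x * (s : G)⁻¹ * x⁻¹, by
    rw [show (s : G) * x * (s : G)⁻¹ * x⁻¹ = (s : G) * (x * (s : G)⁻¹ * x⁻¹) by group]
    exact mul_mem s.2 (hSn.conj_mem _ (inv_mem s.2) x)⟩
  have hinj : Function.Injective f := fun a b h => by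
    have h1 : (a : G) * x * (a : G)⁻¹ * x⁻¹ = (b : G) * x * (b : G)⁻¹ * x⁻¹ := congrArg Subtype.val h
    have h2 : (b : G)⁻¹ * a ∈ centralizer ({x} : Set G) ⊓ S := by
      refine ⟨?_, S.mul_mem (S.inv_mem b.2) a.2⟩
      show (b : G)⁻¹ * a ∈ centralizer ({x} : Set G)
      rw [mem_centralizer_singleton_iff]
      calc (b : G)⁻¹ * a * x = (b : G)⁻¹ * ((a : G) * x * (a : G)⁻¹ * x⁻¹) * x * a := by group
        _ = x * ((b : G)⁻¹ * a) := by rw [h1]; group
    rw [normalizer_inf_eq_bot_aux hx hC S hS, mem_bot, inv_mul_eq_one] at h2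
    exact Subtype.ext h2.symm
  intro s hs
  obtain ⟨t, ht⟩ := (Finite.injective_iff_surjective.1 hinj) ⟨s, hs⟩
  rw [← show (t : G) * x * (t : G)⁻¹ * x⁻¹ = s from congrArg Subtype.val ht, _root_.commutator_def]
  exact commutator_mem_commutator (mem_top _) (mem_top x)

include hx in
theorem sylow_of_card {H : Subgroup G} (hH : Nat.card H = p) (P : Sylow p G)
    (hP : (P : Subgroup G) = zpowers x) : ∃ g : G, H = (zpowers x).map (MulAut.conj g).toMonoidHom := by
  have hHp : IsPGroup p H := IsPGroup.of_card (n := 1) (by rw [hH, pow_one])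
  obtain ⟨Q, hQ⟩ := hHp.exists_le_sylow
  obtain ⟨g, hg⟩ := MulAction.exists_smul_eq G P Q
  refine ⟨g, eq_of_le_of_card_ge ?_ ?_⟩
  · rw [← hP]
    refine hQ.trans (le_of_eq ?_)
    rw [← hg]
    rfl
  · rw [card_map_of_injective (f := (MulAut.conj g).toMonoidHom) (MulAut.conj g).injective, hH,
      card_zpowers_eq hx]

include hx hC in
/-- A normal subgroup of order divisible by `p` contains the commutator subgroup. -/
theorem commutator_le_of_dvd (S : Subgroup G) [hSn : S.Normal] (hS : p ∣ Nat.card S) :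
    x ∈ S ∧ commutator G ≤ S := by
  classical
  obtain ⟨P, hP⟩ := exists_sylow hx hC
  obtain ⟨y, hy⟩ := exists_prime_orderOf_dvd_card' (G := S) p hS
  obtain ⟨g, hg⟩ := sylow_of_card hx (H := zpowers (y : G))
    (by rw [Nat.card_zpowers, Subgroup.orderOf_coe, hy]) P hP
  have hxS : x ∈ S := by
    have h1 : g * x * g⁻¹ ∈ zpowers (y : G) := by rw [hg]; exact ⟨x, mem_zpowers x, rfl⟩
    have h2 := hSn.conj_mem _ ((zpowers_le.2 y.2) h1) g⁻¹
    simpa [mul_assoc] using h2
  refine ⟨hxS, ?_⟩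
  have hXS : zpowers x ≤ S := zpowers_le.2 hxS
  -- Frattini
  have hPS : (P : Subgroup G) ≤ S := hP ▸ hXS
  have htop : normalizer (P : Set G) ⊔ S = ⊤ := by
    have h := Sylow.normalizer_sup_eq_top (P.subtype hPS)
    rw [Sylow.coe_subtype, map_subgroupOf_eq_of_le hPS] at h
    exact h
  have hN : ∀ n ∈ normalizer (P : Set G), ∀ m ∈ normalizer (P : Set G),
      n * m * n⁻¹ * m⁻¹ ∈ S := by
    intro n hn m hm
    refine hXS (hC ▸ ?_)
    rw [mem_centralizer_singleton_iff]
    have hpow : ∀ k ∈ normalizer (P : Set G), ∃ i : ℤ, k * x * k⁻¹ = x ^ i := fun k hk => by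
      have h1 := (mem_normalizer_iff.1 hk x).1 (by
        show x ∈ (P : Subgroup G); rw [hP]; exact mem_zpowers x)
      obtain ⟨i, hi⟩ : k * x * k⁻¹ ∈ zpowers x := hP ▸ h1
      exact ⟨i, hi.symm⟩
    obtain ⟨i, hi⟩ := hpow n hn
    obtain ⟨j, hj⟩ := hpow m hm
    obtain ⟨i', hi'⟩ := hpow n⁻¹ (inv_mem hn)
    obtain ⟨j', hj'⟩ := hpow m⁻¹ (inv_mem hm)
    have e : ∀ (k : G) (c d : ℤ), k * x * k⁻¹ = x ^ c → k * x ^ d * k⁻¹ = x ^ (c * d) :=
      fun k c d h => by rw [← conj_zpow, h, zpow_mul]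
    have hnm : n * m * n⁻¹ * m⁻¹ * x * (n * m * n⁻¹ * m⁻¹)⁻¹ = x ^ (i * (j * (i' * j'))) := by
      calc _ = n * (m * (n⁻¹ * (m⁻¹ * x * m⁻¹⁻¹) * n⁻¹⁻¹) * m⁻¹) * n⁻¹ := by group
        _ = _ := by rw [hj', e n⁻¹ i' j' hi', e m j _ hj, e n i _ hi]
    have h1 : x ^ (i * i') = x := by
      have := e n i i' hi
      rw [← hi'] at this
      rw [← this]; group
    have h2 : x ^ (j * j') = x := by
      have := e m j j' hj
      rw [← hj'] at this
      rw [← this]; group
    have h3 : x ^ (i * (j * (i' * j'))) = x := by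
      rw [show i * (j * (i' * j')) = i * i' * (j * j') by ring, zpow_mul, h1, h2]
    rw [h3, mul_inv_eq_iff_eq_mul] at hnm
    exact hnm
  let f : normalizer (P : Set G) →* G ⧸ S :=
    (QuotientGroup.mk' S).comp (normalizer (P : Set G)).subtype
  have hf : Function.Surjective f := fun q => by
    obtain ⟨g, rfl⟩ := QuotientGroup.mk'_surjective S q
    have hg : g ∈ normalizer (P : Set G) ⊔ S := htop ▸ mem_top g
    obtain ⟨n, hn, s, hs, rfl⟩ := mem_sup_of_normal_right.1 hg
    refine ⟨⟨n, hn⟩, ?_⟩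
    show QuotientGroup.mk' S n = _
    rw [map_mul, (QuotientGroup.eq_one_iff s).2 hs |>
      fun h : QuotientGroup.mk' S s = 1 => h, mul_one]
  have hab : IsMulCommutative (G ⧸ S) := ⟨⟨fun a b => by
    obtain ⟨n, rfl⟩ := hf a
    obtain ⟨m, rfl⟩ := hf b
    have h1 : QuotientGroup.mk' S ((n : G) * m * (n : G)⁻¹ * (m : G)⁻¹) = 1 :=
      (QuotientGroup.eq_one_iff _).2 (hN n n.2 m m.2)
    rw [map_mul, map_mul, map_mul, map_inv, map_inv, mul_inv_eq_one, mul_inv_eq_iff_eq_mul] at h1
    exact h1⟩⟩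
  exact Subgroup.Normal.quotient_commutative_iff_commutator_le.1 hab

include hx hC in
theorem card_modEq_one (S : Subgroup G) [hSn : S.Normal] (hS : ¬ p ∣ Nat.card S) :
    Nat.card S % p = 1 := by
  letI act : MulAction (zpowers x) S :=
    { smul := fun u s => ⟨(u : G) * s * (u : G)⁻¹, hSn.conj_mem _ s.2 u⟩
      one_smul := fun s => Subtype.ext (show ((1 : zpowers x) : G) * s * ((1 : zpowers x) : G)⁻¹ = s
        by simp)
      mul_smul := fun u v s => Subtype.ext (show ((u * v : zpowers x) : G) * s *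
          ((u * v : zpowers x) : G)⁻¹ = u * (v * s * (v : G)⁻¹) * (u : G)⁻¹ by simp [mul_assoc]) }
  have h := (IsPGroup.of_card (n := 1) (by rw [card_zpowers_eq hx, pow_one]) :
    IsPGroup p (zpowers x)).card_modEq_card_fixedPoints S
  have hfix : Nat.card (MulAction.fixedPoints (zpowers x) S) = 1 := by
    rw [Nat.card_eq_one_iff_unique]
    refine ⟨⟨fun a b => Subtype.ext ?_⟩, ⟨⟨1, fun u => Subtype.ext (by
      show (u : G) * ((1 : S) : G) * (u : G)⁻¹ = ((1 : S) : G)
      simp)⟩⟩⟩
    have key : ∀ s : MulAction.fixedPoints (zpowers x) S, (s : S) = 1 := fun s => by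
      have h1 : x * ((s : S) : G) * x⁻¹ = ((s : S) : G) :=
        congrArg Subtype.val (s.2 ⟨x, mem_zpowers x⟩)
      have h2 : ((s : S) : G) ∈ centralizer ({x} : Set G) ⊓ S := by
        refine ⟨?_, (s : S).2⟩
        show ((s : S) : G) ∈ centralizer ({x} : Set G)
        rw [mem_centralizer_singleton_iff]
        exact (mul_inv_eq_iff_eq_mul.1 h1).symm
      rw [normalizer_inf_eq_bot_aux hx hC S hS, mem_bot] at h2
      exact Subtype.ext h2
    rw [key a, key b]
  rw [hfix] at h
  rw [h]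
  exact Nat.mod_eq_of_lt hp.out.one_lt

include hx hC in
theorem card_subgroups_eq :
    Nat.card {H : Subgroup G // Nat.card H = p} = (normalizer (zpowers x : Set G)).index := by
  classical
  obtain ⟨P, hP⟩ := exists_sylow hx hC
  rw [show (normalizer (zpowers x : Set G)).index = Nat.card (Sylow p G) by
    rw [Sylow.card_eq_index_normalizer P]
    congr 2
    rw [← hP]
    rfl]
  refine (Nat.card_eq_of_bijective
    (fun Q : Sylow p G => (⟨(Q : Subgroup G), ?_⟩ : {H : Subgroup G // Nat.card H = p}))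
    ⟨?_, ?_⟩).symm
  · rw [Q.card_eq_multiplicity, ← P.card_eq_multiplicity, hP, card_zpowers_eq hx]
  · intro Q R h
    exact Sylow.ext (congrArg Subtype.val h)
  · rintro ⟨H, hH⟩
    obtain ⟨g, hg⟩ := sylow_of_card hx hH P hP
    refine ⟨g • P, Subtype.ext ?_⟩
    show ((g • P : Sylow p G) : Subgroup G) = H
    rw [hg, ← hP]
    rfl

include hx hC in
theorem card_dvd_subgroups (S : Subgroup G) [hSn : S.Normal] (hS : ¬ p ∣ Nat.card S) :
    Nat.card S ∣ Nat.card {H : Subgroup G // Nat.card H = p} := by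
  rw [card_subgroups_eq hx hC]
  set N := normalizer (zpowers x : Set G)
  have hinf : S ⊓ N = ⊥ := by
    rw [eq_bot_iff]
    rintro s ⟨hs, hsN⟩
    have h1 : s * x * s⁻¹ * x⁻¹ ∈ zpowers x :=
      mul_mem ((mem_normalizer_iff.1 hsN x).1 (mem_zpowers x)) (inv_mem (mem_zpowers x))
    have h2 : s * x * s⁻¹ * x⁻¹ ∈ S := by
      rw [show s * x * s⁻¹ * x⁻¹ = s * (x * s⁻¹ * x⁻¹) by group]
      exact mul_mem hs (hSn.conj_mem _ (inv_mem hs) x)
    have h3 : s * x * s⁻¹ * x⁻¹ = 1 := by
      have h4 : s * x * s⁻¹ * x⁻¹ ∈ centralizer ({x} : Set G) ⊓ S := ⟨hC ▸ h1, h2⟩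
      rwa [normalizer_inf_eq_bot_aux hx hC S hS, mem_bot] at h4
    have h5 : s ∈ centralizer ({x} : Set G) ⊓ S := by
      refine ⟨?_, hs⟩
      show s ∈ centralizer ({x} : Set G)
      rw [mem_centralizer_singleton_iff]
      rw [mul_inv_eq_one, mul_inv_eq_iff_eq_mul] at h3
      exact h3
    rwa [normalizer_inf_eq_bot_aux hx hC S hS] at h5
  have h1 : Nat.card S * S.relIndex (S ⊔ N) = Nat.card ↥(S ⊔ N) := by
    rw [← relIndex_bot_left, ← relIndex_bot_left]
    exact relIndex_mul_relIndex ⊥ S _ bot_le le_sup_left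
  have h2 : Nat.card N * N.relIndex (S ⊔ N) = Nat.card ↥(S ⊔ N) := by
    rw [← relIndex_bot_left, ← relIndex_bot_left]
    exact relIndex_mul_relIndex ⊥ N _ bot_le le_sup_right
  have h3 : S.relIndex (S ⊔ N) = Nat.card N := by
    rw [sup_comm, Subgroup.relIndex_sup_right, ← Subgroup.inf_relIndex_right, hinf, relIndex_bot_left]
  have h : Nat.card S = N.relIndex (S ⊔ N) := by
    rw [h3, ← h2, mul_comm] at h1
    exact Nat.eq_of_mul_eq_mul_left Nat.card_pos h1
  rw [h]
  exact relIndex_dvd_index_of_le le_sup_right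

include hx hC in
theorem quotient_selfCentralizing (S : Subgroup G) [hSn : S.Normal] (hS : ¬ p ∣ Nat.card S) :
    orderOf (QuotientGroup.mk x : G ⧸ S) = p ∧
      centralizer ({(QuotientGroup.mk x : G ⧸ S)} : Set (G ⧸ S)) =
        zpowers (QuotientGroup.mk x : G ⧸ S) := by
  refine ⟨?_, le_antisymm ?_ (zpowers_le.2 (mem_centralizer_singleton_iff.2 rfl))⟩
  · have h1 : orderOf (QuotientGroup.mk' S x) ∣ p := hx ▸ orderOf_map_dvd _ x
    rcases (Nat.dvd_prime hp.out).1 h1 with h | h
    · rw [orderOf_eq_one_iff, QuotientGroup.mk'_apply, QuotientGroup.eq_one_iff] at h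
      exact absurd h (not_mem_of_not_dvd hx hC S hS)
    · exact h
  · intro q hq
    obtain ⟨g, rfl⟩ := QuotientGroup.mk'_surjective S q
    rw [mem_centralizer_singleton_iff] at hq
    have hg : g * x * g⁻¹ * x⁻¹ ∈ S := by
      rw [← QuotientGroup.eq_one_iff]
      show QuotientGroup.mk' S (g * x * g⁻¹ * x⁻¹) = 1
      rw [map_mul, map_mul, map_mul, map_inv, map_inv,
        show QuotientGroup.mk' S g * QuotientGroup.mk' S x =
          QuotientGroup.mk' S x * QuotientGroup.mk' S g from hq]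
      group
    obtain ⟨u, hu, c, hc, hcx, huc⟩ := CfsgLib.Char.exists_conj_mem_centralizer_mul S x
      (fun s hs => hSn.conj_mem s hs x) (by
        rw [hx]; exact hp.out.coprime_iff_not_dvd.2 hS) _ hg
    have hc1 : c = 1 := by
      have : c ∈ centralizer ({x} : Set G) ⊓ S := ⟨mem_centralizer_singleton_iff.2 hcx, hc⟩
      rwa [normalizer_inf_eq_bot_aux hx hC S hS, mem_bot] at this
    rw [inv_mul_cancel_right, hc1, one_mul] at huc
    have h3 : u * g ∈ zpowers x := by
      rw [← hC, mem_centralizer_singleton_iff]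
      calc u * g * x = u * (g * x * g⁻¹) * u⁻¹ * (u * g) := by group
        _ = x * (u * g) := by rw [huc]
    obtain ⟨k, hk⟩ := h3
    refine ⟨k, ?_⟩
    show (QuotientGroup.mk' S x) ^ k = QuotientGroup.mk' S g
    rw [← map_zpow, show x ^ k = u * g from hk, map_mul,
      (QuotientGroup.eq_one_iff u).2 hu |> fun h : QuotientGroup.mk' S u = 1 => h, one_mul]

include hx hC in
/-- Each class of elements of order `p` meets the cyclic group in a coset's worth of elements. -/
theorem card_class_inter [Fintype G] [DecidablePred fun y => y ∈ zpowers x ∧ y ≠ 1]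
    [DecidableEq (ConjClasses G)] {C : ConjClasses G} (hC' : ∃ g ∈ C.carrier, orderOf g = p) :
    ((Finset.univ.filter fun y => y ∈ zpowers x ∧ y ≠ 1).filter fun y => ConjClasses.mk y = C).card =
      (zpowers x).relIndex (normalizer (zpowers x : Set G)) := by
  classical
  obtain ⟨P, hP⟩ := exists_sylow hx hC
  set N := normalizer (zpowers x : Set G) with hN
  obtain ⟨g, hg, hgp⟩ := hC'
  rw [ConjClasses.mem_carrier_iff_mk_eq] at hg
  obtain ⟨a, ha⟩ := sylow_of_card hx (H := zpowers g) (by rw [Nat.card_zpowers, hgp]) P hP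
  obtain ⟨y₀, hy₀, hy₀g⟩ : g ∈ (zpowers x).map (MulAut.conj a).toMonoidHom := ha ▸ mem_zpowers g
  have hy₁ : y₀ ≠ 1 := fun h => by
    rw [h, map_one] at hy₀g
    rw [← hy₀g, orderOf_one] at hgp
    exact hp.out.ne_one hgp.symm
  have hcls : ConjClasses.mk y₀ = C := by
    rw [← hg, ConjClasses.mk_eq_mk_iff_isConj]
    exact isConj_iff.2 ⟨a, hy₀g⟩
  have hmemA : ∀ n : N, (n : G) * y₀ * (n : G)⁻¹ ∈ (zpowers x) := fun n =>
    (mem_normalizer_iff.1 n.2 y₀).1 hy₀
  have hCy : ∀ k : G, Commute k y₀ ↔ k ∈ (zpowers x) := fun k => by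
    constructor
    · intro hk
      obtain ⟨i, hi⟩ : x ∈ zpowers y₀ := by
        rw [eq_zpowers_of_ne_one hx hy₀ hy₁]; exact mem_zpowers x
      rw [← hC, mem_centralizer_singleton_iff, ← hi]
      exact (hk.zpow_right i).eq
    · intro hk
      obtain ⟨i, hi⟩ := hk
      obtain ⟨j, hj⟩ := hy₀
      rw [← hi, ← hj]
      exact (Commute.refl x).zpow_zpow i j
  have hwd : ∀ n m : N, (n : G) * y₀ * (n : G)⁻¹ = (m : G) * y₀ * (m : G)⁻¹ ↔
      (n : G)⁻¹ * m ∈ (zpowers x) := fun n m => by
    rw [← hCy, Commute, SemiconjBy]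
    constructor
    · intro h
      calc (n : G)⁻¹ * m * y₀ = (n : G)⁻¹ * ((m : G) * y₀ * (m : G)⁻¹) * m := by group
        _ = y₀ * ((n : G)⁻¹ * m) := by rw [← h]; group
    · intro h
      calc (n : G) * y₀ * (n : G)⁻¹ = (n : G) * (y₀ * ((n : G)⁻¹ * m)) * (m : G)⁻¹ := by group
        _ = (m : G) * y₀ * (m : G)⁻¹ := by rw [← h]; group
  rw [Subgroup.relIndex, Subgroup.index, ← Nat.card_eq_finsetCard]
  refine (Nat.card_eq_of_bijective (Quotient.lift (fun n : N =>
    (⟨(n : G) * y₀ * (n : G)⁻¹, ?_⟩ : {y // y ∈ (Finset.univ.filter fun y => y ∈ (zpowers x) ∧ y ≠ 1).filter fun y => ConjClasses.mk y = C}))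
    ?_) ⟨?_, ?_⟩).symm
  · simp only [Finset.mem_filter, Finset.mem_univ, true_and]
    refine ⟨⟨hmemA n, fun h => hy₁ (conj_eq_one_iff.1 h)⟩, ?_⟩
    rw [← hcls, ConjClasses.mk_eq_mk_iff_isConj]
    exact (isConj_iff.2 ⟨(n : G), rfl⟩).symm
  · intro n m h
    exact Subtype.ext ((hwd n m).2 (mem_subgroupOf.1 (QuotientGroup.leftRel_apply.1 h)))
  · rintro ⟨n⟩ ⟨m⟩ h
    refine Quotient.sound (QuotientGroup.leftRel_apply.2 ?_)
    rw [mem_subgroupOf]
    exact (hwd n m).1 (congrArg Subtype.val h)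
  · rintro ⟨y, hy⟩
    simp only [Finset.mem_filter, Finset.mem_univ, true_and] at hy
    obtain ⟨c, hc⟩ := isConj_iff.1 (ConjClasses.mk_eq_mk_iff_isConj.1 (hcls.trans hy.2.symm))
    have hcN : c ∈ N := by
      refine Subgroup.mem_normalizer_iff.2 fun z => ?_
      have hmap : (zpowers x).map (MulAut.conj c).toMonoidHom = (zpowers x) := by
        have h0 := eq_zpowers_of_ne_one hx hy₀ hy₁
        have h1 := eq_zpowers_of_ne_one hx hy.1.1 hy.1.2
        conv_lhs => rw [← h0]
        rw [MonoidHom.map_zpowers]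
        show zpowers (c * y₀ * c⁻¹) = (zpowers x)
        rw [hc, h1]
      constructor
      · intro hz; rw [← hmap]; exact ⟨z, hz, rfl⟩
      · intro hz
        rw [← hmap] at hz
        obtain ⟨w, hw, hwz⟩ := hz
        have : w = z := (MulAut.conj c).injective hwz
        exact this ▸ hw
    exact ⟨Quotient.mk _ ⟨c, hcN⟩, Subtype.ext hc⟩

include hx hC in
/-- The classes of elements of order `p` times the index of the centralizer in the normalizer. -/
theorem classes_mul_relIndex {t : ℕ}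
    (ht : Nat.card {C : ConjClasses G // ∃ g ∈ C.carrier, orderOf g = p} = t) :
    t * (zpowers x).relIndex (normalizer (zpowers x : Set G)) = p - 1 := by
  classical
  haveI := Fintype.ofFinite G
  obtain ⟨P, hP⟩ := exists_sylow hx hC
  set N := normalizer (zpowers x : Set G) with hN
  let A : Finset G := Finset.univ.filter fun y => y ∈ (zpowers x) ∧ y ≠ 1
  let T : Finset (ConjClasses G) := Finset.univ.filter fun C => ∃ g ∈ C.carrier, orderOf g = p
  have hA : A.card = p - 1 := by
    have e : A = (Finset.univ.filter fun y => y ∈ (zpowers x)).erase 1 := by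
      ext y; simp only [A, Finset.mem_filter, Finset.mem_univ, true_and, Finset.mem_erase]
      exact and_comm
    rw [e, Finset.card_erase_of_mem (by simp), show (Finset.univ.filter fun y => y ∈ (zpowers x)).card = p by
      rw [← card_zpowers_eq hx, Nat.card_eq_fintype_card, Fintype.card_subtype]]
  have hT : T.card = t := by rw [← ht, Nat.card_eq_fintype_card, Fintype.card_subtype]
  have hord : ∀ y ∈ A, orderOf y = p := fun y hy => by
    simp only [A, Finset.mem_filter, Finset.mem_univ, true_and] at hy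
    rw [← Nat.card_zpowers, eq_zpowers_of_ne_one hx hy.1 hy.2, card_zpowers_eq hx]
  have hfib : ∀ C ∈ T, (A.filter fun y => ConjClasses.mk y = C).card = (zpowers x).relIndex N :=
    fun C hC' => card_class_inter hx hC (Finset.mem_filter.1 hC').2
  rw [← hA, ← hT, Finset.card_eq_sum_card_fiberwise (f := ConjClasses.mk) (t := T) ?_,
    Finset.sum_congr rfl hfib, Finset.sum_const, smul_eq_mul]
  intro y hy
  exact Finset.mem_filter.2 ⟨Finset.mem_univ _, y,
    ConjClasses.mem_carrier_iff_mk_eq.2 rfl, hord y hy⟩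

include hx hC in
theorem mem_commutator_of_ne_one
    (hq : (zpowers x).relIndex (normalizer (zpowers x : Set G)) ≠ 1) : x ∈ commutator G := by
  obtain ⟨y, hy, hyX⟩ := SetLike.not_le_iff_exists.1 (mt relIndex_eq_one.2 hq)
  exact normalizer_le_of_mem_commutator hx hC hy hyX

include hx hC in
theorem index_commutator_le
    (hq : (zpowers x).relIndex (normalizer (zpowers x : Set G)) ≠ 1) :
    (commutator G).index ≤ (zpowers x).relIndex (normalizer (zpowers x : Set G)) := by
  obtain ⟨P, hP⟩ := exists_sylow hx hC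
  have hXc : zpowers x ≤ commutator G := zpowers_le.2 (mem_commutator_of_ne_one hx hC hq)
  set N := normalizer (zpowers x : Set G)
  have htop : N ⊔ commutator G = ⊤ := by
    have hPS : (P : Subgroup G) ≤ commutator G := hP ▸ hXc
    have h := Sylow.normalizer_sup_eq_top (P.subtype hPS)
    rw [Sylow.coe_subtype, map_subgroupOf_eq_of_le hPS] at h
    rw [← h]
    congr 2
    rw [hP]
  rw [← relIndex_top_right, ← htop, Subgroup.relIndex_sup_right]
  exact Nat.le_of_dvd (Nat.pos_of_ne_zero (show ((zpowers x).subgroupOf N).index ≠ 0 from Subgroup.index_ne_zero_of_finite))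
    (relIndex_dvd_of_le_left N hXc)

include hx hC in
theorem complement_eq_commutator
    (hq : (zpowers x).relIndex (normalizer (zpowers x : Set G)) = 1) :
    commutator G = Cfsg.pPrimeCore p G ∧ (commutator G).index = p := by
  obtain ⟨P, hP⟩ := exists_sylow hx hC
  have hle : normalizer (P : Set G) ≤ centralizer (P : Set G) := by
    rw [show (P : Set G) = (zpowers x : Set G) by rw [← hP]; rfl]
    refine (relIndex_eq_one.1 hq).trans fun y hy => mem_centralizer_iff.2 fun z hz => ?_
    obtain ⟨i, rfl⟩ := hy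
    obtain ⟨j, rfl⟩ := hz
    exact ((Commute.refl x).zpow_zpow j i).eq
  set K := (MonoidHom.transferSylow P hle).ker
  have hcompl : K.IsComplement' (P : Subgroup G) := MonoidHom.ker_transferSylow_isComplement' P hle
  have hidx : K.index = p := by
    rw [hcompl.symm.index_eq_card, hP, card_zpowers_eq hx]
  have hKp : ¬ p ∣ Nat.card K := fun h => P.not_dvd_index (by rwa [hcompl.index_eq_card])
  have hK1 : K ≤ commutator G := le_commutator_of_not_dvd hx hC K hKp
  have hK2 : commutator G ≤ K := by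
    haveI : IsCyclic (G ⧸ K) := isCyclic_of_prime_card (p := p) (by
      rw [← Subgroup.index_eq_card]; exact hidx)
    haveI : IsMulCommutative (G ⧸ K) := IsCyclic.isMulCommutative
    exact Subgroup.Normal.quotient_commutative_iff_commutator_le.1 inferInstance
  have hKeq : commutator G = K := le_antisymm hK2 hK1
  refine ⟨le_antisymm (hKeq ▸ CfsgLib.Solvable.le_pPrimeCore p inferInstance
    ((hp.out.coprime_iff_not_dvd.2 hKp).symm)) ?_, hKeq ▸ hidx⟩
  haveI : (Cfsg.pPrimeCore p G).Normal := CfsgLib.Solvable.pPrimeCore_normal p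
  exact le_commutator_of_not_dvd hx hC _ (hp.out.coprime_iff_not_dvd.1
    (CfsgLib.Solvable.coprime_card_pPrimeCore p).symm)

include hx hC in
theorem pPrimeCore_le_commutator : Cfsg.pPrimeCore p G ≤ commutator G := by
  haveI : (Cfsg.pPrimeCore p G).Normal := CfsgLib.Solvable.pPrimeCore_normal p
  exact le_commutator_of_not_dvd hx hC _ (hp.out.coprime_iff_not_dvd.1
    (CfsgLib.Solvable.coprime_card_pPrimeCore p).symm)

include hx hC in
theorem isSimpleGroup_quotient
    (hq : (zpowers x).relIndex (normalizer (zpowers x : Set G)) ≠ 1)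
    [hn : ((Cfsg.pPrimeCore p G).subgroupOf (commutator G)).Normal] :
    IsSimpleGroup (↥(commutator G) ⧸ (Cfsg.pPrimeCore p G).subgroupOf (commutator G)) := by
  classical
  set G' := commutator G
  set S := Cfsg.pPrimeCore p G
  set S' := S.subgroupOf G'
  have hxG := mem_commutator_of_ne_one hx hC hq
  have hSp : ¬ p ∣ Nat.card S :=
    hp.out.coprime_iff_not_dvd.1 (CfsgLib.Solvable.coprime_card_pPrimeCore p).symm
  let π := QuotientGroup.mk' S'
  haveI : Nontrivial (↥G' ⧸ S') := ⟨⟨π ⟨x, hxG⟩, 1, fun h => not_mem_of_not_dvd hx hC S hSp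
    (mem_subgroupOf.1 ((QuotientGroup.eq_one_iff _).1 h))⟩⟩
  refine ⟨fun H hH => ?_⟩
  have hM : (H.comap π).Normal := hH.comap π
  set M := H.comap π with hMdef
  have hSM : S' ≤ M := fun s hs => by
    rw [hMdef, mem_comap]
    show π s ∈ H
    rw [(QuotientGroup.eq_one_iff s).2 hs |> fun h : π s = 1 => h]
    exact one_mem H
  have hmap : M.map π = H :=
    map_comap_eq_self_of_surjective (QuotientGroup.mk'_surjective S') H
  by_cases hMp : p ∣ Nat.card M
  · right
    obtain ⟨y, hy⟩ := exists_prime_orderOf_dvd_card' (G := M) p hMp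
    obtain ⟨P, hP⟩ := exists_sylow hx hC
    have hPG : (P : Subgroup G) ≤ G' := hP ▸ zpowers_le.2 hxG
    -- the elements of order `p` of `G` lie in `M`
    have hall : ∀ z : G, orderOf z = p → ∃ hz : z ∈ G', (⟨z, hz⟩ : G') ∈ M := by
      intro z hz
      obtain ⟨a, ha⟩ := sylow_of_card hx (H := zpowers z) (by rw [Nat.card_zpowers, hz]) P hP
      have hzG : z ∈ G' := by
        have : z ∈ (zpowers x).map (MulAut.conj a).toMonoidHom := ha ▸ mem_zpowers z
        obtain ⟨w, hw, rfl⟩ := this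
        exact (inferInstance : G'.Normal).conj_mem _ ((zpowers_le.2 hxG) hw) a
      refine ⟨hzG, ?_⟩
      let Z : Subgroup G' := zpowers ⟨z, hzG⟩
      let Y : Subgroup G' := zpowers ((y : M) : G')
      have hZY : ∀ w : G', orderOf w = p → ∃ T : Sylow p G', (T : Subgroup G') = zpowers w := by
        intro w hw
        obtain ⟨T, hT⟩ := (IsPGroup.of_card (n := 1) (by rw [Nat.card_zpowers, hw, pow_one]) :
          IsPGroup p (zpowers w)).exists_le_sylow
        refine ⟨T, (eq_of_le_of_card_ge hT ?_).symm⟩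
        have h1 : Nat.card (T : Subgroup G') ∣ Nat.card P := by
          rw [P.card_eq_multiplicity, T.card_eq_multiplicity]
          exact Nat.pow_dvd_pow p ((Nat.factorization_le_iff_dvd Nat.card_pos.ne'
            Nat.card_pos.ne').2 (card_subgroup_dvd_card G') p)
        rw [show Nat.card P = p by
          rw [show Nat.card P = Nat.card (P : Subgroup G) from rfl, hP, card_zpowers_eq hx]] at h1
        rw [Nat.card_zpowers, hw]
        exact Nat.le_of_dvd hp.out.pos h1
      obtain ⟨T₁, hT₁⟩ := hZY ⟨z, hzG⟩ (by rw [orderOf_mk]; exact hz)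
      obtain ⟨T₂, hT₂⟩ := hZY ((y : M) : G') (by rw [Subgroup.orderOf_coe, hy])
      obtain ⟨b, hb⟩ := MulAction.exists_smul_eq G' T₂ T₁
      have h2 : (⟨z, hzG⟩ : G') ∈ (T₁ : Subgroup G') := hT₁ ▸ mem_zpowers _
      rw [← hb] at h2
      obtain ⟨w, hw, hwz⟩ := h2
      rw [hT₂] at hw
      rw [← hwz]
      exact hM.conj_mem w ((zpowers_le.2 (y : M).2) hw) b
    let R : Subgroup G := Subgroup.normalClosure {x}
    have hR : R ≤ M.map G'.subtype := by
      rw [show R = Subgroup.closure (Group.conjugatesOfSet {x}) from rfl, closure_le]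
      intro z hz
      obtain ⟨w, hw, hwz⟩ := Group.mem_conjugatesOfSet_iff.1 hz
      rw [Set.mem_singleton_iff] at hw
      subst hw
      obtain ⟨c, hc⟩ := isConj_iff.1 hwz
      obtain ⟨hzG, hzM⟩ := hall z (by rw [← hc, ← hx]; exact (MulAut.conj c).orderOf_eq w)
      exact ⟨⟨z, hzG⟩, hzM, rfl⟩
    have hxR : x ∈ R := Subgroup.subset_normalClosure (Set.mem_singleton x)
    have hRp : p ∣ Nat.card R := hx ▸ Subgroup.orderOf_dvd_natCard R hxR
    haveI : R.Normal := Subgroup.normalClosure_normal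
    have h3 : G' ≤ M.map G'.subtype := (commutator_le_of_dvd hx hC R hRp).2.trans hR
    have h4 : M = ⊤ := eq_top_iff.2 fun w _ => by
      obtain ⟨w', hw', he⟩ := h3 w.2
      exact (G'.subtype_injective he) ▸ hw'
    rw [← hmap, h4, ← MonoidHom.range_eq_map, MonoidHom.range_eq_top.2 (QuotientGroup.mk'_surjective S')]
  · left
    have h1 : M ≤ Cfsg.pPrimeCore p G' :=
      CfsgLib.Solvable.le_pPrimeCore p hM ((hp.out.coprime_iff_not_dvd.2 hMp).symm)
    haveI : (Cfsg.pPrimeCore p G').Normal := CfsgLib.Solvable.pPrimeCore_normal p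
    haveI : ((Cfsg.pPrimeCore p G').map G'.subtype).Normal :=
      CfsgLib.PConstrained.normal_map_pPrimeCore inferInstance
    have h2 : (Cfsg.pPrimeCore p G').map G'.subtype ≤ S :=
      CfsgLib.Solvable.le_pPrimeCore p inferInstance ((CfsgLib.Solvable.coprime_card_pPrimeCore
        (G := G') p).coprime_dvd_left (card_map_dvd _ _))
    have h3 : M ≤ S' := fun w hw => mem_subgroupOf.2 (h2 ⟨w, h1 hw, rfl⟩)
    rw [← hmap, eq_bot_iff]
    rintro _ ⟨w, hw, rfl⟩
    exact (QuotientGroup.eq_one_iff w).2 (h3 hw)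

end CfsgLib.SelfCentPrime
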