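import Cfsg.Agent.Blocks.BlockCount
import Cfsg.Agent.Blocks.BrauerFeit
import Cfsg.Agent.BlocksB.ClassSum

/-!
# Blocks with a given defect group from separated classes
-/

namespace CfsgLib.BlockB

open Finset Cfsg CfsgLib.Block CfsgLib.Block.Chr CfsgLib.Char
open scoped ComplexConjugate

set_option linter.unusedSectionVars false
set_option linter.style.haveILetI false

universe u

variable {G : Type u} [Group G] [Fintype G] {M : Ideal AlgInt} [M.IsPrime] {p : ℕ} [Fact p.Prime]

open scoped Classical in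
theorem pElement_average_mem (hM : IsPModular p M) (χ : IrrCharacter G) :
    MemLocalRing M ((Nat.card G : ℂ)⁻¹ *
      ∑ u ∈ univ.filter (fun u : G => ∃ k : ℕ, orderOf u = p ^ k), (χ : G → ℂ) u) := by
  classical
  have hord : ∀ u y : G, orderOf (y * u * y⁻¹) = orderOf u := fun u y =>
    orderOf_injective (MulAut.conj y).toMonoidHom (MulAut.conj y).injective u
  obtain ⟨f, hf, hfv⟩ := sectionInd_mem (G := G) hM (1 : G)
    (by rw [orderOf_one]; exact hM.1.not_dvd_one)
  have hfπ : ∀ u : G, f u = if ∃ k : ℕ, orderOf u = p ^ k then 1 else 0 := by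
    intro u
    have hiff : (∃ v : G, (∃ n : ℕ, v ^ p ^ n = 1) ∧ Commute 1 v ∧ IsConj (1 * v) u) ↔
        ∃ k : ℕ, orderOf u = p ^ k := by
      constructor
      · rintro ⟨v, ⟨n, hn⟩, -, hc⟩
        obtain ⟨k, -, hk⟩ := (Nat.dvd_prime_pow hM.1).1 (orderOf_dvd_of_pow_eq_one hn)
        obtain ⟨c, hc⟩ := isConj_iff.1 hc
        exact ⟨k, by rw [← hc, one_mul, hord, hk]⟩
      · rintro ⟨k, hk⟩
        exact ⟨u, ⟨k, by rw [← hk, pow_orderOf_eq_one]⟩, Commute.one_left u, by rw [one_mul]⟩
    by_cases h : ∃ k : ℕ, orderOf u = p ^ k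
    · rw [(hfv u).2.2 (hiff.2 h), if_pos h]
    · rcases (hfv u).1 with h0 | h1
      · rw [h0, if_neg h]
      · exact absurd (hiff.1 ((hfv u).2.1 h1)) h
  have h := hf (fun _ => 1) (fun φ hφ => by
    obtain ⟨n, hn⟩ := IsCharacter.exists_classInner_eq_natCast' isCharacter_one hφ
    rw [hn]; exact natCast_mem_localRing n) _ (IsCharacter.conj (isCharacter_irr χ))
  convert h using 1
  rw [classInner, sum_filter]
  congr 1
  refine sum_congr rfl fun u _ => ?_
  by_cases hu : ∃ k : ℕ, orderOf u = p ^ k <;> simp [hfπ, hu]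

open scoped Classical in
/-- The identity behind the separation of the classes. -/
theorem sum_separated [Fintype (IrrCharacter G)] (hp : p.Prime) {r : ℕ} (x : Fin r → G)
    (hx : ∀ i j : Fin r, IsConj (x i) (x j) → i = j)
    (hsep : ∀ i j : Fin r, ∀ g h : G, IsConj (x i) g → IsConj (x j) h → ∀ k : ℕ, 0 < k →
      orderOf (g * h⁻¹) ≠ p ^ k) (i j : Fin r) :
    ∑ χ : IrrCharacter G, ((Nat.card G : ℂ)⁻¹ *
      ∑ u ∈ univ.filter (fun u : G => ∃ k : ℕ, orderOf u = p ^ k), (χ : G → ℂ) u) *
        (χ : G → ℂ) (x i)⁻¹ * centralChar (χ : G → ℂ) (x j) = if i = j then 1 else 0 := by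
  classical
  set P := univ.filter fun u : G => ∃ k : ℕ, orderOf u = p ^ k
  set C := Subgroup.centralizer ({x j} : Set G)
  have hG : (Nat.card G : ℂ) ≠ 0 := Nat.cast_ne_zero.2 Nat.card_pos.ne'
  have hkey : ∀ χ : IrrCharacter G, (χ : G → ℂ) (x i)⁻¹ * centralChar (χ : G → ℂ) (x j) =
      (C.index : ℂ) * (Nat.card G : ℂ)⁻¹ * ∑ g : G, (χ : G → ℂ) (g * x j * g⁻¹ * (x i)⁻¹) := by
    intro χ
    have h := CfsgLib.BlocksB.sum_conj_mul χ.2 (x j) (x i)⁻¹
    have h1 := irr_one_ne_zero χ
    rw [centralChar]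
    field_simp
    linear_combination -(C.index : ℂ) * h
  have hterm : ∀ u ∈ P, ∀ g : G, (∑ χ : IrrCharacter G, (χ : G → ℂ) u *
      (χ : G → ℂ) (g * x j * g⁻¹ * (x i)⁻¹)) =
        if u = 1 ∧ g * x j * g⁻¹ = x i then (Nat.card G : ℂ) else 0 := by
    intro u hu g
    obtain ⟨k, hk⟩ := (mem_filter.1 hu).2
    have h := column_orth u (g * x j * g⁻¹ * (x i)⁻¹)⁻¹
    simp only [conj_irr, inv_inv] at h
    rw [h]
    have hiff : IsConj u (g * x j * g⁻¹ * (x i)⁻¹)⁻¹ ↔ (u = 1 ∧ g * x j * g⁻¹ = x i) := by
      constructor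
      · intro hc
        obtain ⟨c, hc⟩ := isConj_iff.1 hc
        have ho : orderOf (g * x j * g⁻¹ * (x i)⁻¹) = p ^ k := by
          rw [← orderOf_inv, ← hc, ← hk]
          exact orderOf_injective (MulAut.conj c).toMonoidHom (MulAut.conj c).injective u
        have hk0 : k = 0 := by
          by_contra hne
          exact hsep j i _ _ (isConj_iff.2 ⟨g, rfl⟩) (IsConj.refl _) k (Nat.pos_of_ne_zero hne) ho
        rw [hk0, pow_zero, orderOf_eq_one_iff] at ho hk
        exact ⟨hk, mul_inv_eq_one.1 ho⟩
      · rintro ⟨rfl, h2⟩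
        rw [h2, mul_inv_cancel, inv_one]
    by_cases hc : IsConj u (g * x j * g⁻¹ * (x i)⁻¹)⁻¹
    · have hh := hiff.1 hc
      rw [if_pos hc, if_pos hh, hh.1]
      congr 1
      rw [show Subgroup.centralizer ({(1 : G)} : Set G) = ⊤ from ?_, Subgroup.card_top]
      exact eq_top_iff.2 fun w _ => Subgroup.mem_centralizer_singleton_iff.2 (by simp)
    · rw [if_neg hc, if_neg (mt hiff.2 hc)]
  have hone : (1 : G) ∈ P := mem_filter.2 ⟨mem_univ _, 0, by simp⟩
  simp only [mul_assoc, hkey]
  calc ∑ χ : IrrCharacter G, (Nat.card G : ℂ)⁻¹ * ((∑ u ∈ P, (χ : G → ℂ) u) *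
        ((C.index : ℂ) * ((Nat.card G : ℂ)⁻¹ * ∑ g : G, (χ : G → ℂ) (g * (x j * (g⁻¹ * (x i)⁻¹))))))
      = (C.index : ℂ) * (Nat.card G : ℂ)⁻¹ * (Nat.card G : ℂ)⁻¹ *
          ∑ u ∈ P, ∑ g : G, ∑ χ : IrrCharacter G,
            (χ : G → ℂ) u * (χ : G → ℂ) (g * x j * g⁻¹ * (x i)⁻¹) := by
        rw [sum_congr rfl (fun u _ => sum_comm), sum_comm, mul_sum]
        refine sum_congr rfl fun χ _ => ?_
        rw [← sum_mul_sum]
        simp only [← mul_assoc]
        ring
    _ = _ := by
        rw [sum_congr rfl fun u hu => sum_congr rfl fun g _ => hterm u hu g,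
          sum_eq_single (1 : G) (fun u _ hu => sum_eq_zero fun g _ => if_neg fun h => hu h.1)
            (fun h => absurd hone h)]
        simp only [true_and]
        split_ifs with hij
        · subst hij
          rw [← sum_filter, sum_const, nsmul_eq_mul]
          have hcard : (univ.filter fun g : G => g * x i * g⁻¹ = x i).card = Nat.card C := by
            rw [Nat.card_eq_fintype_card, ← Fintype.card_subtype]
            refine Fintype.card_congr (Equiv.subtypeEquivRight fun g => ?_)
            rw [Subgroup.mem_centralizer_singleton_iff, mul_inv_eq_iff_eq_mul]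
          have hG' : (Nat.card G : ℂ) = (C.index : ℂ) * (Nat.card C : ℂ) := by
            exact_mod_cast (Subgroup.index_mul_card C).symm
          rw [hcard]
          field_simp
          rw [hG']
        · rw [sum_eq_zero fun g _ => if_neg fun h =>
            hij (hx j i (isConj_iff.2 ⟨g, h⟩)).symm, mul_zero]

/-- Blocks with defect group `D` from separated classes. -/
theorem exists_blocks (hM : IsPModular p M) (D : Subgroup G) {r : ℕ} (x : Fin r → G)
    (hx : ∀ i j : Fin r, IsConj (x i) (x j) → i = j)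
    (hD : ∀ i : Fin r, ∃ S : Sylow p (Subgroup.centralizer ({x i} : Set G)),
      (S : Subgroup (Subgroup.centralizer ({x i} : Set G))).map
        (Subgroup.centralizer ({x i} : Set G)).subtype = D)
    (hsep : ∀ i j : Fin r, ∀ g h : G, IsConj (x i) g → IsConj (x j) h → ∀ k : ℕ, 0 < k →
      orderOf (g * h⁻¹) ≠ p ^ k) :
    ∃ B : Fin r → Set (IrrCharacter G), Function.Injective B ∧
      (∀ i, IsPBlock M (B i) ∧ IsDefectGroup p M (B i) D) ∧
      ∀ χ : Fin r → IrrCharacter G,
        (∀ i, χ i ∈ B i ∧ blockHeight p (B i) (χ i : G → ℂ) = 0) →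
        ¬ MemLocalIdeal M (Matrix.det (Matrix.of fun i j : Fin r => (χ i : G → ℂ) (x j))) := by
  classical
  letI := irrFintype (G := G)
  set a := (Nat.card G).factorization p with had
  set v : IrrCharacter G → Fin r → Residue M := fun χ j =>
    res M ⟨centralChar (χ : G → ℂ) (x j), centralChar_mem χ _⟩ with hvd
  set good : IrrCharacter G → Prop := fun χ => IsDefectGroup p M (blockOf M (χ : G → ℂ)) D
  have hdeg : ∀ χ : IrrCharacter G,
      a - blockDefect p (blockOf M (χ : G → ℂ)) ≤ (charDegree (χ : G → ℂ)).factorization p :=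
    fun χ => degree_ge hM (isPBlock_blockOf χ) (mem_blockOf_self χ)
  have hcardD : ∀ i, Nat.card D = p ^ classDefect p (x i) := fun i => by
    obtain ⟨S, hS⟩ := hD i
    rw [← hS, Subgroup.card_map_of_injective (Subgroup.centralizer ({x i} : Set G)).subtype_injective,
      S.card_eq_multiplicity, classDefect]
  -- a character value as a central character
  set A : IrrCharacter G → ℂ := fun χ => ((charDegree (χ : G → ℂ) /
    p ^ (charDegree (χ : G → ℂ)).factorization p : ℕ) : ℂ) with hAdef
  set U : G → ℂ := fun z => (((Subgroup.centralizer ({z} : Set G)).index /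
    p ^ (Subgroup.centralizer ({z} : Set G)).index.factorization p : ℕ) : ℂ)⁻¹ with hUdef
  have hA : ∀ χ, MemLocalRing M (A χ) ∧ ¬ MemLocalIdeal M (A χ) := fun χ =>
    ⟨natCast_mem_localRing _, mt (memLocalIdeal_natCast_iff hM).1
      (Nat.not_dvd_ordCompl hM.1 (irr_one χ).2.ne')⟩
  have hU : ∀ z, MemLocalRing M (U z) ∧ ¬ MemLocalIdeal M (U z) := fun z => by
    have h2 := Nat.not_dvd_ordCompl hM.1
      (Subgroup.centralizer ({z} : Set G)).index_ne_zero_of_finite
    exact ⟨memLocalRing_natCast_inv hM h2,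
      not_memLocalIdeal_inv (natCast_mem_localRing _) (mt (memLocalIdeal_natCast_iff hM).1 h2)⟩
  have hval : ∀ (χ : IrrCharacter G) (z : G),
      (χ : G → ℂ) z * (p : ℂ) ^ (a - classDefect p z) =
        A χ * U z * centralChar (χ : G → ℂ) z * (p : ℂ) ^ (charDegree (χ : G → ℂ)).factorization p := by
    intro χ z
    set C := Subgroup.centralizer ({z} : Set G)
    set e := (charDegree (χ : G → ℂ)).factorization p
    set dd := charDegree (χ : G → ℂ) / p ^ e
    set ii := C.index / p ^ C.index.factorization p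
    have hi0 : C.index ≠ 0 := C.index_ne_zero_of_finite
    have hfac : C.index.factorization p = a - classDefect p z := by
      have h := congrArg (fun n => n.factorization p) (Subgroup.index_mul_card C)
      simp only [Nat.factorization_mul hi0 Nat.card_pos.ne', Finsupp.add_apply] at h
      rw [had, classDefect, ← h, Nat.add_sub_cancel]
    have h3 : (C.index : ℂ) = (p : ℂ) ^ (a - classDefect p z) * ii := by
      rw [← hfac, ← Nat.cast_pow, ← Nat.cast_mul, Nat.ordProj_mul_ordCompl_eq_self]
    have h4 : (χ : G → ℂ) 1 = (p : ℂ) ^ e * dd := by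
      rw [(irr_one χ).1, ← Nat.cast_pow, ← Nat.cast_mul, Nat.ordProj_mul_ordCompl_eq_self]
    have hp0 : (p : ℂ) ≠ 0 := Nat.cast_ne_zero.2 hM.1.ne_zero
    have hi : (ii : ℂ) ≠ 0 := Nat.cast_ne_zero.2 fun h =>
      Nat.not_dvd_ordCompl hM.1 hi0 (show p ∣ ii from h ▸ dvd_zero p)
    have hdd : (dd : ℂ) ≠ 0 := Nat.cast_ne_zero.2 fun h =>
      Nat.not_dvd_ordCompl hM.1 (irr_one χ).2.ne' (show p ∣ dd from h ▸ dvd_zero p)
    show _ = (dd : ℂ) * (ii : ℂ)⁻¹ * _ * _
    rw [centralChar, h4, h3]
    field_simp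
  -- only good characters contribute
  have hterm : ∀ (χ : IrrCharacter G) (i j : Fin r), ¬ good χ →
      MemLocalIdeal M ((χ : G → ℂ) (x i)⁻¹ * centralChar (χ : G → ℂ) (x j)) := by
    intro χ i j hgood
    have hvalR : MemLocalRing M ((χ : G → ℂ) (x i)⁻¹) := irr_mem χ _
    by_cases hj : MemLocalIdeal M (centralChar (χ : G → ℂ) (x j))
    · exact memLocalIdeal_mul_left hvalR hj
    set B := blockOf M (χ : G → ℂ)
    have hB : IsPBlock M B := isPBlock_blockOf χ
    have hwit : ∃ ψ ∈ B, ¬ MemLocalIdeal M (centralChar (ψ : G → ℂ) (x j)) :=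
      ⟨χ, mem_blockOf_self χ, hj⟩
    obtain ⟨E, hE⟩ := exists_defectGroup hB hM
    obtain ⟨c, hc⟩ := exists_defectGroup_le_centralizer hM hB hwit hE
    have hlt : blockDefect p B < classDefect p (x j) := by
      refine lt_of_le_of_ne (le_classDefect_of_centralChar hM hB hwit) fun heq => hgood ?_
      set C := Subgroup.centralizer ({x j} : Set G)
      set E' := E.map (MulAut.conj c).toMonoidHom
      obtain ⟨T, hT⟩ := IsPGroup.exists_le_sylow
        (((isPGroup_defectGroup hE).map (MulAut.conj c).toMonoidHom).comap_of_injective C.subtype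
          C.subtype_injective)
      obtain ⟨S, hS⟩ := hD j
      obtain ⟨t, ht⟩ := MulAction.exists_smul_eq C T S
      have hle : E'.map (MulAut.conj (t : G)).toMonoidHom ≤ D := by
        rintro _ ⟨u, hu, rfl⟩
        have hmem : t * ⟨u, hc hu⟩ * t⁻¹ ∈ (S : Subgroup C) := by
          rw [← ht]
          exact ⟨⟨u, hc hu⟩, hT (show u ∈ E' from hu), rfl⟩
        rw [← hS]
        exact Subgroup.mem_map.2 ⟨_, hmem, by simp⟩
      have heqD : E'.map (MulAut.conj (t : G)).toMonoidHom = D := by
        refine Subgroup.eq_of_le_of_card_ge hle (le_of_eq ?_)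
        rw [hcardD j, ← heq, Subgroup.card_map_of_injective (MulAut.conj (t : G)).injective,
          Subgroup.card_map_of_injective (MulAut.conj c).injective, card_defectGroup hM hB hE]
      show IsDefectGroup p M B D
      rw [← heqD]
      exact isDefectGroup_conj hM hB (isDefectGroup_conj hM hB hE c) _
    refine memLocalIdeal_mul_right ?_ (centralChar_mem χ _)
    have hij : classDefect p (x i) = classDefect p (x j) :=
      Nat.pow_right_injective hM.1.two_le ((hcardD i).symm.trans (hcardD j))
    have hinv : classDefect p (x i)⁻¹ = classDefect p (x i) := by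
      have hC : Subgroup.centralizer ({(x i)⁻¹} : Set G) = Subgroup.centralizer ({x i} : Set G) := by
        ext z
        rw [Subgroup.mem_centralizer_singleton_iff, Subgroup.mem_centralizer_singleton_iff]
        exact Commute.inv_right_iff
      rw [classDefect, classDefect, hC]
    obtain ⟨w, hw, hweq⟩ : ∃ w, MemLocalRing M w ∧ (χ : G → ℂ) (x i)⁻¹ *
        (p : ℂ) ^ (a - classDefect p (x i)⁻¹) = w * centralChar (χ : G → ℂ) (x i)⁻¹ *
          (p : ℂ) ^ (charDegree (χ : G → ℂ)).factorization p :=
      ⟨_, memLocalRing_mul (hA χ).1 (hU (x i)⁻¹).1, hval χ (x i)⁻¹⟩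
    rw [hinv] at hweq
    have hbig : a - classDefect p (x i) < (charDegree (χ : G → ℂ)).factorization p := by
      have h1 : classDefect p (x j) ≤ a := (Nat.factorization_le_iff_dvd Nat.card_pos.ne'
        Nat.card_pos.ne').2 (Subgroup.card_subgroup_dvd_card _) p
      have h2 := hdeg χ
      rw [show blockOf M (χ : G → ℂ) = B from rfl] at h2
      omega
    obtain ⟨l, hl⟩ := Nat.exists_eq_add_of_lt hbig
    have hx' : (χ : G → ℂ) (x i)⁻¹ =
        w * centralChar (χ : G → ℂ) (x i)⁻¹ * (p : ℂ) ^ l * (p : ℂ) := by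
      refine mul_right_cancel₀ (pow_ne_zero (a - classDefect p (x i))
        (Nat.cast_ne_zero.2 hM.1.ne_zero : (p : ℂ) ≠ 0)) ?_
      rw [hweq, hl]
      ring
    rw [hx']
    exact memLocalIdeal_mul_left (memLocalRing_mul (memLocalRing_mul hw (centralChar_mem χ _))
      ((localRing M).pow_mem (natCast_mem_localRing p) l)) (memLocalIdeal_p hM)
  -- the vectors of good characters span
  have hspan : Submodule.span (Residue M) (v '' {χ | good χ}) = ⊤ := by
    rw [eq_top_iff]
    intro w _
    have hbasis : ∀ i : Fin r, (Pi.single i 1 : Fin r → Residue M) ∈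
        Submodule.span (Residue M) (v '' {χ | good χ}) := by
      intro i
      set c : IrrCharacter G → localRing M := fun χ =>
        ⟨_, memLocalRing_mul (pElement_average_mem hM χ) (irr_mem χ (x i)⁻¹)⟩
      have hrow : ∀ j, ∑ χ ∈ univ.filter good, res M (c χ) * v χ j =
          (Pi.single i 1 : Fin r → Residue M) j := by
        intro j
        have hid : ∑ χ : IrrCharacter G,
            c χ * (⟨centralChar (χ : G → ℂ) (x j), centralChar_mem χ _⟩ : localRing M) =
              if i = j then 1 else 0 := by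
          apply Subtype.ext
          rw [AddSubmonoidClass.coe_finsetSum]
          refine Eq.trans ?_ ((sum_separated hM.1 x hx hsep i j).trans ?_)
          · rfl
          · split_ifs <;> rfl
        have hres := congrArg (res M) hid
        rw [map_sum, apply_ite (res M), map_one, map_zero] at hres
        simp only [map_mul] at hres
        rw [Pi.single_apply, if_congr (show (j = i) ↔ (i = j) from eq_comm) rfl rfl, ← hres, sum_filter]
        refine sum_congr rfl fun χ _ => ?_
        split_ifs with hg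
        · rfl
        · rw [← map_mul, eq_comm, res_eq_zero_iff]
          simp only [c, Subring.coe_mul]
          rw [mul_assoc]
          exact memLocalIdeal_mul_left (pElement_average_mem hM χ) (hterm χ i j hg)
      rw [show (Pi.single i 1 : Fin r → Residue M) = ∑ χ ∈ univ.filter good, res M (c χ) • v χ from
        funext fun j => by rw [Finset.sum_apply, ← hrow j]; rfl]
      exact Submodule.sum_mem _ fun χ hχ => Submodule.smul_mem _ _
        (Submodule.subset_span ⟨χ, (mem_filter.1 hχ).2, rfl⟩)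
    rw [show w = ∑ i, w i • (Pi.single i 1 : Fin r → Residue M) from funext fun j => by
      simp [Finset.sum_apply, Pi.single_apply]]
    exact Submodule.sum_mem _ fun i _ => Submodule.smul_mem _ _ (hbasis i)
  obtain ⟨T, hTsub, hTspan, hTli⟩ := exists_linearIndependent (Residue M) (v '' {χ | good χ})
  rw [hspan] at hTspan
  haveI : Fintype T := ((Set.toFinite (v '' {χ | good χ})).subset hTsub).fintype
  have hTcard : Fintype.card T = r := by
    have h := finrank_span_eq_card hTli
    rw [Subtype.range_coe_subtype, Set.setOf_mem_eq, hTspan, finrank_top, Module.finrank_fin_fun] at h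
    exact h.symm
  let eT : Fin r ≃ T := (Fintype.equivFinOfCardEq hTcard).symm
  have hch : ∀ i : Fin r, ∃ χ, good χ ∧ v χ = (eT i : Fin r → Residue M) := fun i => hTsub (eT i).2
  choose ξ hξ hξv using hch
  have hvB : ∀ (i : Fin r) (χ : IrrCharacter G), χ ∈ blockOf M (ξ i : G → ℂ) →
      v χ = (eT i : Fin r → Residue M) := by
    intro i χ hχ
    rw [← hξv i]
    funext j
    refine res_eq_iff.2 ?_
    exact memLocalIdeal_sub_comm
      (sameBlock_of_mem (isPBlock_blockOf (ξ i)) (mem_blockOf_self _) hχ (x j))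
  refine ⟨fun i => blockOf M (ξ i : G → ℂ), fun i i' h => ?_,
    fun i => ⟨isPBlock_blockOf _, hξ i⟩, fun χ hχ => ?_⟩
  · have h1 := hvB i (ξ i') (by
      rw [show blockOf M (ξ i : G → ℂ) = blockOf M (ξ i' : G → ℂ) from h]; exact mem_blockOf_self _)
    rw [hξv i'] at h1
    exact eT.injective (Subtype.ext h1).symm
  have hentry : ∀ i j, (χ i : G → ℂ) (x j) =
      A (χ i) * (U (x j) * centralChar (χ i : G → ℂ) (x j)) := by
    intro i j
    have hd' : blockDefect p (blockOf M (ξ i : G → ℂ)) = classDefect p (x j) :=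
      Nat.pow_right_injective hM.1.two_le
        ((card_defectGroup hM (isPBlock_blockOf _) (hξ i)).symm.trans (hcardD j))
    have he := factorization_degree hM (isPBlock_blockOf (ξ i)) (hχ i).1
    rw [(hχ i).2, add_zero, hd'] at he
    refine mul_right_cancel₀ (pow_ne_zero (a - classDefect p (x j))
      (Nat.cast_ne_zero.2 hM.1.ne_zero : (p : ℂ) ≠ 0)) ?_
    rw [hval (χ i) (x j), he]
    ring
  let a' : Fin r → localRing M := fun i => ⟨A (χ i), (hA _).1⟩
  let u' : Fin r → localRing M := fun j => ⟨U (x j), (hU _).1⟩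
  let K : Matrix (Fin r) (Fin r) (localRing M) := fun i j =>
    ⟨centralChar (χ i : G → ℂ) (x j), centralChar_mem _ _⟩
  let Mx : Matrix (Fin r) (Fin r) (localRing M) := Matrix.diagonal a' * K * Matrix.diagonal u'
  have hMx : (localRing M).subtype.mapMatrix Mx =
      Matrix.of fun i j : Fin r => (χ i : G → ℂ) (x j) := by
    ext i j
    simp only [RingHom.mapMatrix_apply, Matrix.map_apply, Mx, Matrix.mul_diagonal,
      Matrix.diagonal_mul, Matrix.of_apply, hentry i j]
    show A (χ i) * centralChar (χ i : G → ℂ) (x j) * U (x j) = _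
    ring
  rw [← hMx, ← RingHom.map_det]
  show ¬ MemLocalIdeal M ((Mx.det : localRing M) : ℂ)
  rw [← res_eq_zero_iff]
  simp only [Mx, Matrix.det_mul, Matrix.det_diagonal, map_mul, map_prod]
  have hKdet : res M K.det ≠ 0 := by
    rw [RingHom.map_det]
    have hKv : (res M).mapMatrix K = Matrix.of fun i => (eT i : Fin r → Residue M) := by
      ext i j
      show v (χ i) j = _
      rw [hvB i (χ i) (hχ i).1]
      rfl
    rw [hKv]
    have hli : LinearIndependent (Residue M) fun i => (eT i : Fin r → Residue M) :=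
      hTli.comp eT eT.injective
    exact ((Matrix.isUnit_iff_isUnit_det _).1 (Matrix.linearIndependent_rows_iff_isUnit.1 hli)).ne_zero
  refine mul_ne_zero (mul_ne_zero (prod_ne_zero_iff.2 fun i _ => ?_) hKdet)
    (prod_ne_zero_iff.2 fun j _ => ?_)
  · exact fun h => (hA (χ i)).2 (res_eq_zero_iff.1 h)
  · exact fun h => (hU (x j)).2 (res_eq_zero_iff.1 h)

end CfsgLib.BlockB
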