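import Cfsg.Agent.Char.SmallArc
import Cfsg.Agent.Char.ExtendGlue
import Cfsg.Agent.Blocks.Congr
import Cfsg.Agent.Blocks.Principal
import Cfsg.Agent.Blocks.Regular
import Cfsg.Agent.Blocks.Section

/-!
# Small faithful characters in the principal block of a perfect group

An element of order prime to `p` centralizing a Sylow subgroup has eigenvalues other than one of
multiplicity divisible by `p` in every member of the principal block.
-/

set_option autoImplicit false
set_option linter.unusedSectionVars false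

namespace CfsgLib.SmallFaithful

open Cfsg Finset CfsgLib.Block CfsgLib.Block.Chr CfsgLib.Char

universe u

variable {G : Type u} [Group G] [Fintype G] {M : Ideal AlgInt} [M.IsPrime] {p : ℕ} [Fact p.Prime]

/-- The values of a principal block character on the centralizer of a Sylow subgroup. -/
theorem value_cong (hM : IsPModular p M) (P : Sylow p G) {χ : IrrCharacter G}
    (hχ : χ ∈ principalBlock M G) {z : G}
    (hz : z ∈ Subgroup.centralizer ((P : Subgroup G) : Set G)) :
    MemLocalIdeal M ((χ : G → ℂ) z / (charDegree (χ : G → ℂ) : ℂ) - 1) := by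
  have hidx : ¬ p ∣ (Subgroup.centralizer ({z} : Set G)).index := fun h =>
    P.not_dvd_index (h.trans (Subgroup.index_dvd_of_le fun x hx =>
      Subgroup.mem_centralizer_singleton_iff.2 (Subgroup.mem_centralizer_iff.1 hz x hx)))
  have h : MemLocalIdeal M (centralChar (fun _ : G => (1 : ℂ)) z - centralChar (χ : G → ℂ) z) :=
    hχ z
  by_contra hne
  refine not_memLocalIdeal_mul (natCast_mem_localRing (Subgroup.centralizer ({z} : Set G)).index)
    (mt (memLocalIdeal_natCast_iff hM).1 hidx) hne ?_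
  convert memLocalIdeal_neg h using 1
  simp only [centralChar, (irr_one χ).1]
  ring

theorem dvd_of_cong (hM : IsPModular p M) {o k d : ℕ} (ho : ¬ p ∣ o) (hd0 : 0 < d)
    (hd : d < 2 * p) (hkd : k ≤ d) (h : MemLocalIdeal M ((o : ℂ) * (k : ℂ) / (d : ℂ))) :
    k = 0 ∨ (k = p ∧ p < d) := by
  have hp : p.Prime := Fact.out
  have hd' : (d : ℂ) ≠ 0 := Nat.cast_ne_zero.2 hd0.ne'
  have h1 : MemLocalIdeal M ((o * k : ℕ) : ℂ) := by
    have := memLocalIdeal_mul_right h (natCast_mem_localRing d)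
    rwa [div_mul_cancel₀ _ hd', ← Nat.cast_mul] at this
  obtain ⟨c, rfl⟩ := (hp.dvd_mul.1 ((memLocalIdeal_natCast_iff hM).1 h1)).resolve_left ho
  rcases Nat.lt_or_ge c 2 with hc | hc
  · rcases (show c = 0 ∨ c = 1 by omega) with rfl | rfl
    · exact Or.inl (mul_zero p)
    · rw [mul_one] at hkd h ⊢
      rcases Nat.eq_or_lt_of_le hkd with rfl | hlt
      · rw [mul_div_assoc, div_self hd', mul_one, memLocalIdeal_natCast_iff hM] at h
        exact absurd h ho
      · exact Or.inr ⟨rfl, hlt⟩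
  · have : p * 2 ≤ p * c := Nat.mul_le_mul_left p hc
    omega

/-- **A regular element centralizing a Sylow subgroup is trivial.** -/
theorem eq_one (hM : IsPModular p M) (hperf : commutator G = ⊤) (P : Sylow p G)
    {χ : IrrCharacter G} (hχ : χ ∈ principalBlock M G)
    (hfaith : ∀ g : G, (χ : G → ℂ) g = (χ : G → ℂ) 1 → g = 1)
    (hdeg : charDegree (χ : G → ℂ) < 2 * p) {y : G}
    (hy : y ∈ Subgroup.centralizer ((P : Subgroup G) : Set G)) (hyreg : ¬ p ∣ orderOf y) :
    y = 1 := by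
  classical
  set d := charDegree (χ : G → ℂ)
  have hd0 : 0 < d := (irr_one χ).2
  obtain ⟨n, ρ, hρ, hρχ⟩ := χ.2
  have hρ' : ∀ g, (χ : G → ℂ) g = LinearMap.trace ℂ _ (ρ g) := fun g =>
    (congrFun hρχ g).symm
  have hnd : n = d := by
    have h : ρ.character 1 = (d : ℂ) := (congrFun hρχ 1).trans (irr_one χ).1
    rw [Representation.char_one, Module.finrank_fin_fun] at h
    exact_mod_cast h
  set Q := SmallArc.proj ρ y
  set k : ℂ → ℕ := fun μ => Module.finrank ℂ (LinearMap.range (Q μ))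
  have ho : (orderOf y : ℂ) ≠ 0 := Nat.cast_ne_zero.2 (orderOf_pos y).ne'
  have hidem : ∀ μ ∈ SmallArc.roots y, Q μ * Q μ = Q μ := by
    intro μ hμ
    have hμ1 := SmallArc.mem_roots.1 hμ
    have hμ0 : μ ≠ 0 := fun h => by
      rw [h, zero_pow (orderOf_pos y).ne'] at hμ1; exact zero_ne_one hμ1
    have hpow : ∀ j : ℕ, ρ (y ^ j) * Q μ = μ ^ j • Q μ := fun j => by
      induction j with
      | zero => simp
      | succ j ih =>
        rw [pow_succ, map_mul, mul_assoc, SmallArc.rep_proj ρ y hμ, mul_smul_comm, ih, smul_smul,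
          pow_succ']
    conv_lhs => arg 1; simp only [Q, SmallArc.proj]
    rw [smul_mul_assoc, sum_mul]
    simp only [smul_mul_assoc, hpow, smul_smul]
    rw [sum_congr rfl fun j _ => show (μ⁻¹ ^ j * μ ^ j) • Q μ = Q μ by
      rw [← mul_pow, inv_mul_cancel₀ hμ0, one_pow, one_smul], sum_const, card_range,
      ← Nat.cast_smul_eq_nsmul ℂ, smul_smul, inv_mul_cancel₀ ho, one_smul]
  have htr : ∀ μ ∈ SmallArc.roots y, (orderOf y : ℂ) * (k μ : ℂ) =
      ∑ j ∈ range (orderOf y), μ⁻¹ ^ j * (χ : G → ℂ) (y ^ j) := by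
    intro μ hμ
    rw [← (det_smul_idempotent (hidem μ hμ)).1]
    simp only [Q, SmallArc.proj, map_smul, map_sum, smul_eq_mul, hρ', ← mul_assoc,
      mul_inv_cancel₀ ho, one_mul]
  have hsum : ∑ μ ∈ SmallArc.roots y, k μ = d := by
    have h1 : ∑ μ ∈ SmallArc.roots y, Q μ = 1 := LinearMap.ext fun v => by
      rw [LinearMap.sum_apply]; exact SmallArc.sum_proj ρ y v
    have h2 := congrArg (LinearMap.trace ℂ (Fin n → ℂ)) h1
    rw [map_sum, LinearMap.trace_one, Module.finrank_fin_fun,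
      sum_congr rfl fun μ hμ => (det_smul_idempotent (hidem μ hμ)).1, ← Nat.cast_sum] at h2
    exact hnd ▸ (Nat.cast_inj.1 h2)
  have hk : ∀ μ ∈ SmallArc.roots y, μ ≠ 1 → k μ = 0 ∨ (k μ = p ∧ p < d) := by
    intro μ hμ hμne
    have hμ1 := SmallArc.mem_roots.1 hμ
    refine dvd_of_cong hM hyreg hd0 hdeg (hsum ▸ single_le_sum (fun _ _ => Nat.zero_le _) hμ) ?_
    have hgeo : ∑ j ∈ range (orderOf y), μ⁻¹ ^ j = 0 := by
      rw [geom_sum_eq (fun h => hμne (inv_eq_one.1 h)), inv_pow, hμ1, inv_one, sub_self, zero_div]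
    have heq : (orderOf y : ℂ) * (k μ : ℂ) / (d : ℂ) = ∑ j ∈ range (orderOf y),
        ((χ : G → ℂ) (y ^ j) / (d : ℂ) - 1) * μ⁻¹ ^ j := by
      simp only [sub_mul, one_mul, sum_sub_distrib, hgeo, sub_zero, htr μ hμ, sum_div]
      exact sum_congr rfl fun j _ => by ring
    rw [heq]
    refine memLocalIdeal_sum fun j _ => memLocalIdeal_mul_right
      (value_cong hM P hχ (Subgroup.pow_mem _ hy j)) (memLocalRing_of_isIntegral ?_)
    refine IsIntegral.pow ?_ j
    exact IsIntegral.of_pow (orderOf_pos y) (by rw [inv_pow, hμ1, inv_one]; exact isIntegral_one)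
  have hzero : ∀ μ ∈ SmallArc.roots y, μ ≠ 1 → k μ = 0 → Q μ = 0 := fun μ _ _ h =>
    LinearMap.range_eq_bot.1 (Submodule.finrank_eq_zero.1 h)
  by_cases hex : ∃ ζ ∈ SmallArc.roots y, ζ ≠ 1 ∧ k ζ ≠ 0
  · exfalso
    obtain ⟨ζ, hζ, hζ1, hkζ⟩ := hex
    obtain ⟨hkp, hpd⟩ := (hk ζ hζ hζ1).resolve_left hkζ
    have huniq : ∀ μ ∈ SmallArc.roots y, μ ≠ 1 → μ ≠ ζ → Q μ = 0 := by
      intro μ hμ hμ1 hμζ
      refine hzero μ hμ hμ1 ((hk μ hμ hμ1).resolve_right fun h => ?_)
      have := sum_le_sum_of_subset (f := k) (show {μ, ζ} ⊆ SmallArc.roots y by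
        simp [insert_subset_iff, hμ, hζ])
      rw [sum_pair hμζ, h.1, hkp, hsum] at this
      omega
    have hy' : ρ y = ζ • Q ζ + (1 - Q ζ) := by
      have h1 : ∀ v, ρ y v - v = (ζ - 1) • Q ζ v := by
        intro v
        conv_lhs => rw [← SmallArc.sum_proj ρ y v]
        rw [map_sum, ← sum_sub_distrib, sum_eq_single ζ]
        · rw [SmallArc.rep_proj_apply ρ y hζ, sub_smul, one_smul]
        · intro μ hμ hμζ
          rw [SmallArc.rep_proj_apply ρ y hμ]
          by_cases hμ1 : μ = 1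
          · rw [hμ1, one_smul, sub_self]
          · rw [show SmallArc.proj ρ y μ = 0 from huniq μ hμ hμ1 hμζ]; simp
        · exact fun h => absurd hζ h
      refine LinearMap.ext fun v => ?_
      simp only [LinearMap.add_apply, LinearMap.smul_apply, LinearMap.sub_apply,
        Module.End.one_apply]
      rw [eq_add_of_sub_eq (h1 v), sub_smul, one_smul]
      abel
    have hdet : LinearMap.det (ρ y) = ζ ^ p := by
      rw [hy', (det_smul_idempotent (hidem ζ hζ)).2 ζ]
      exact congrArg _ hkp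
    have hmem : y ∈ (detHom ρ).ker :=
      Abelianization.commutator_subset_ker _ (by rw [hperf]; trivial)
    have hζp : ζ ^ p = 1 := by
      rw [← hdet, ← detHom_apply, MonoidHom.mem_ker.1 hmem, Units.val_one]
    have := pow_gcd_eq_one.2 ⟨hζp, SmallArc.mem_roots.1 hζ⟩
    rw [((Fact.out : p.Prime).coprime_iff_not_dvd.2 hyreg).gcd_eq_one, pow_one] at this
    exact hζ1 this
  · refine hfaith y ?_
    have h1 : ρ y = 1 := by
      refine LinearMap.ext fun v => ?_
      conv_lhs => rw [← SmallArc.sum_proj ρ y v]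
      conv_rhs => rw [Module.End.one_apply, ← SmallArc.sum_proj ρ y v]
      rw [map_sum]
      refine sum_congr rfl fun μ hμ => ?_
      rw [SmallArc.rep_proj_apply ρ y hμ]
      by_cases hμ1 : μ = 1
      · rw [hμ1, one_smul]
      · rw [show SmallArc.proj ρ y μ = 0 from hzero μ hμ hμ1 (not_not.1 fun h => hex ⟨μ, hμ, hμ1, h⟩)]
        simp
    rw [hρ', hρ', h1, map_one ρ]

end CfsgLib.SmallFaithful
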