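import Cfsg.Agent.Blocks.FirstMain
import Cfsg.Agent.Blocks.NormalSub
import Cfsg.Agent.Blocks.BlockCount
import Cfsg.Agent.Blocks.Cover
import Cfsg.Agent.Char.DegreesPrime
import Mathlib.GroupTheory.SchurZassenhaus
import Mathlib.LinearAlgebra.Matrix.ToLin

/-!
# The blocks with a Sylow defect group

In a group with a normal Sylow subgroup `P` the blocks are as many as the classes of elements of
order prime to `p` centralizing `P`.
-/

set_option autoImplicit false
set_option linter.style.haveILetI false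
set_option linter.unusedSectionVars false

namespace CfsgLib.SylowBlocks

open Cfsg Finset CfsgLib.Block CfsgLib.Block.Chr CfsgLib.Char
open scoped ComplexConjugate
open scoped Classical

universe u

variable {M : Ideal AlgInt} [M.IsPrime] {p : ℕ} [Fact p.Prime] {G : Type u} [Group G] [Fintype G]

/-- The elements of order prime to `p` centralizing a normal Sylow subgroup form a subgroup. -/
theorem exists_regular_subgroup (P : Sylow p G) [(P : Subgroup G).Normal] :
    ∃ Q : Subgroup G, Q.Normal ∧ ¬ p ∣ Nat.card Q ∧ ∀ g : G,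
      g ∈ Q ↔ ¬ p ∣ orderOf g ∧ g ∈ Subgroup.centralizer ((P : Subgroup G) : Set G) := by
  have hp : p.Prime := Fact.out
  set C := Subgroup.centralizer ((P : Subgroup G) : Set G)
  set Z := (P : Subgroup G).subgroupOf C
  have hZp : IsPGroup p Z := P.isPGroup'.comap_of_injective C.subtype C.subtype_injective
  haveI hZn : Z.Normal := Subgroup.normal_subgroupOf
  have hidx : ¬ p ∣ Z.index := fun h => P.not_dvd_index (h.trans (Subgroup.relIndex_dvd_index_of_normal _ _))
  have hcop : Nat.Coprime (Nat.card Z) Z.index := by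
    obtain ⟨k, hk⟩ := IsPGroup.iff_card.1 hZp
    rw [hk]
    exact Nat.Coprime.pow_left _ (hp.coprime_iff_not_dvd.2 hidx)
  obtain ⟨H, hH⟩ := Subgroup.exists_right_complement'_of_coprime hcop
  have hcard : Nat.card H = Z.index := hH.symm.index_eq_card.symm
  have hcentral : ∀ z ∈ Z, ∀ x : C, z * x = x * z := fun z hz x =>
    Subtype.ext (Subgroup.mem_centralizer_iff.1 x.2 _ (Subgroup.mem_subgroupOf.1 hz))
  have hdec : ∀ x : C, ∃ z ∈ Z, ∃ h ∈ H, z * h = x := fun x => by
    obtain ⟨⟨z, h⟩, he⟩ := hH.2 x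
    exact ⟨z, z.2, h, h.2, he⟩
  have hmem : ∀ x : C, ¬ p ∣ orderOf x → x ∈ H := by
    intro x hx
    obtain ⟨z, hz, h, hh, rfl⟩ := hdec x
    suffices z = 1 by rw [this, one_mul]; exact hh
    obtain ⟨a, ha⟩ := hZp ⟨z, hz⟩
    have hza : z ^ p ^ a = 1 := congrArg Subtype.val ha
    have hhH : h ^ Nat.card H = 1 :=
      congrArg Subtype.val (pow_card_eq_one' (x := (⟨h, hh⟩ : H)))
    have h1 : (z * h) ^ orderOf (z * h) = 1 := pow_orderOf_eq_one _
    have hcomm : Commute z h := hcentral z hz h
    have h2 : z ^ (orderOf (z * h) * Nat.card H) = 1 := by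
      have h3 : (z * h) ^ (orderOf (z * h) * Nat.card H) = 1 := by rw [pow_mul, h1, one_pow]
      rwa [hcomm.mul_pow, mul_comm _ (Nat.card H), pow_mul h, hhH, one_pow, mul_one,
        mul_comm (Nat.card H)] at h3
    have h4 : (p ^ a).Coprime (orderOf (z * h) * Nat.card H) := Nat.Coprime.pow_left _
      (Nat.Coprime.mul_right (hp.coprime_iff_not_dvd.2 hx)
        (hp.coprime_iff_not_dvd.2 (hcard ▸ hidx)))
    have := pow_gcd_eq_one.2 ⟨hza, h2⟩
    rwa [h4.gcd_eq_one, pow_one] at this
  have hreg : ∀ h ∈ H, ¬ p ∣ orderOf h := fun h hh hd => hidx (hcard ▸ hd.trans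
    (Subgroup.orderOf_coe (⟨h, hh⟩ : H) ▸ orderOf_dvd_natCard _))
  have hiff : ∀ g : G, g ∈ H.map C.subtype ↔ ¬ p ∣ orderOf g ∧ g ∈ C := by
    intro g
    constructor
    · rintro ⟨h, hh, rfl⟩
      exact ⟨fun hd => hreg h hh (by rwa [← Subgroup.orderOf_coe h]), h.2⟩
    · rintro ⟨hg, hgC⟩
      exact ⟨⟨g, hgC⟩, hmem _ (by rwa [← Subgroup.orderOf_coe]), rfl⟩
  refine ⟨H.map C.subtype, ⟨fun n hn g => ?_⟩, ?_, hiff⟩
  · rw [hiff] at hn ⊢
    exact ⟨by rw [(show orderOf (g * n * g⁻¹) = orderOf n from
      orderOf_injective (MulAut.conj g).toMonoidHom (MulAut.conj g).injective n)]; exact hn.1,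
      (inferInstance : C.Normal).conj_mem _ hn.2 g⟩
  · rw [Subgroup.card_map_of_injective C.subtype_injective, hcard]
    exact hidx

/-- **The blocks of a group with a normal Sylow subgroup.** -/
theorem card_blocks (hM : IsPModular p M) (P : Sylow p G) [(P : Subgroup G).Normal]
    [Fintype (ConjClasses G)] :
    Nat.card {B : Set (IrrCharacter G) // IsPBlock M B} =
      Nat.card {C : ConjClasses G // ¬ p ∣ orderOf C.out ∧
        C.out ∈ Subgroup.centralizer ((P : Subgroup G) : Set G)} := by
  letI := irrFintype (G := G)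
  refine le_antisymm ?_ ?_
  · refine card_blocks_le (M := M) {B | IsPBlock M B} (fun B hB => hB)
      {C | ¬ p ∣ orderOf C.out ∧ C.out ∈ Subgroup.centralizer ((P : Subgroup G) : Set G)}
      fun B hB B' hB' ψ hψ C hC => ?_
    by_cases hd : p ∣ orderOf C.out
    · exact term_cong_zero hM hB hB' hψ (Or.inl hd)
    · exact memLocalIdeal_mul_left (blockCoeff_mem hB _)
        (centralChar_mem_ideal_of_normal hM _ P.isPGroup' ψ fun h => hC ⟨hd, h⟩)
  obtain ⟨Q, hQn, hQp, hQ⟩ := exists_regular_subgroup P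
  haveI := hQn
  haveI := Fintype.ofFinite Q
  letI := irrFintype (G := Q)
  set K := {C : ConjClasses G // ¬ p ∣ orderOf C.out ∧
    C.out ∈ Subgroup.centralizer ((P : Subgroup G) : Set G)}
  set Bl := {B : Set (IrrCharacter G) // IsPBlock M B}
  haveI : Fintype K := Fintype.ofFinite K
  haveI : Fintype Bl := Fintype.ofFinite Bl
  choose f hf using fun B : Bl => exists_mem_block B.2
  let W : Matrix K Bl (Residue M) := fun C B =>
    res M ⟨centralChar (f B : G → ℂ) C.1.out, centralChar_mem _ _⟩
  have hinj : ∀ v : K → Residue M, Matrix.vecMul v W = 0 → v = 0 := by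
    intro v hv
    choose c hc using fun C : K => Ideal.Quotient.mk_surjective (v C)
    let a : G → ℂ := fun x => if h : ¬ p ∣ orderOf (ConjClasses.mk x).out ∧
        (ConjClasses.mk x).out ∈ Subgroup.centralizer ((P : Subgroup G) : Set G)
      then ((c ⟨ConjClasses.mk x, h⟩ : localRing M) : ℂ) else 0
    have hmk : ∀ C : K, a C.1.out = ((c C : localRing M) : ℂ) := by
      intro C
      have he : ConjClasses.mk C.1.out = C.1 := Quotient.out_eq C.1
      simp only [a]
      rw [dif_pos (he.symm ▸ C.2)]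
      exact congrArg (fun x : K => ((c x : localRing M) : ℂ)) (Subtype.ext he)
    have ha : IsIntClass M a := by
      refine ⟨fun x y => ?_, fun x => ?_⟩
      · simp only [a]
        have e : ConjClasses.mk (y * x * y⁻¹) = ConjClasses.mk x :=
          ConjClasses.mk_eq_mk_iff_isConj.2 (isConj_iff.2 ⟨y⁻¹, by group⟩)
        simp only [e]
      · simp only [a]
        split_ifs
        · exact (c _).2
        · exact memLocalRing_zero
    have hsupp : ∀ g, g ∉ Q → a g = 0 := by
      intro g hg
      refine dif_neg fun h => hg ?_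
      have hc : IsConj (ConjClasses.mk g).out g :=
        ConjClasses.mk_eq_mk_iff_isConj.1 (Quotient.out_eq _)
      obtain ⟨y, hy⟩ := isConj_iff.1 hc
      rw [← hy]
      exact hQn.conj_mem _ ((hQ _).2 h) y
    have hω : ∀ ψ : IrrCharacter G, MemLocalIdeal M (omega (ψ : G → ℂ) a) := by
      intro ψ
      set B : Bl := ⟨_, isPBlock_blockOf (M := M) ψ⟩
      refine (memLocalIdeal_iff_of_cong (omega_cong
        (sameBlock_of_mem B.2 (mem_blockOf_self ψ) (hf B)) ha)).2 ?_
      have h := congrFun hv B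
      rw [Matrix.vecMul, dotProduct, Pi.zero_apply] at h
      have h' : res M (∑ C : K, c C * ⟨centralChar (f B : G → ℂ) C.1.out, centralChar_mem _ _⟩)
          = 0 := by
        rw [map_sum, ← h]
        exact sum_congr rfl fun C _ => by rw [map_mul, ← hc C]
      rw [res_eq_zero_iff] at h'
      rw [omega_eq_sum_classes (f B) ha.1, ← sum_filter_add_sum_filter_not univ
        (fun C : ConjClasses G => ¬ p ∣ orderOf C.out ∧
          C.out ∈ Subgroup.centralizer ((P : Subgroup G) : Set G)),
        sum_eq_zero (s := univ.filter fun C : ConjClasses G => ¬ _) fun C hC => by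
          rw [show a C.out = 0 from dif_neg (by
            rw [show ConjClasses.mk C.out = C from Quotient.out_eq C]
            exact (mem_filter.1 hC).2), zero_mul],
        add_zero, sum_subtype (p := fun C : ConjClasses G => ¬ p ∣ orderOf C.out ∧
          C.out ∈ Subgroup.centralizer ((P : Subgroup G) : Set G)) _ (by simp)
          (fun C => a C.out * centralChar (f B : G → ℂ) C.out)]
      refine (congrArg (MemLocalIdeal M) ?_).mp h'
      rw [AddSubmonoidClass.coe_finsetSum]
      exact sum_congr rfl fun C _ => by rw [hmk C]; rfl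
    funext C
    rw [← hc C]
    refine res_eq_zero_iff.2 ?_
    rw [← hmk C]
    have hCQ : C.1.out ∈ Q := (hQ _).2 C.2
    rw [show a C.1.out = resFun Q a ⟨_, hCQ⟩ from rfl,
      eq_sum_omega (isIntClass_resFun Q ha).1 (⟨_, hCQ⟩ : Q)]
    refine memLocalIdeal_mul_left (memLocalRing_inv (natCast_mem_localRing _)
      (mt (memLocalIdeal_natCast_iff hM).1 hQp)) (memLocalIdeal_sum fun θ _ => ?_)
    obtain ⟨φ, hφ, hover⟩ := DegreesPrime.exists_over Q θ.2
    have hθ := hω ⟨φ, hφ⟩
    rw [omega_eq_of_constituent (χ := ⟨φ, hφ⟩) hover ha.1 hsupp] at hθ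
    refine memLocalIdeal_mul_right (memLocalIdeal_mul_left (irr_mem θ 1) hθ) ?_
    rw [← IsIrrCharacter.apply_inv θ.2]
    exact irr_mem θ _
  have hfin := LinearMap.finrank_le_finrank_of_injective (f := Matrix.vecMulLinear W)
    (fun v w h => sub_eq_zero.1 (hinj (v - w) (by
      change Matrix.vecMul v W = Matrix.vecMul w W at h
      rw [Matrix.sub_vecMul, h, sub_self])))
  rwa [Module.finrank_fintype_fun_eq_card, Module.finrank_fintype_fun_eq_card,
    ← Nat.card_eq_fintype_card, ← Nat.card_eq_fintype_card] at hfin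

/-- **The blocks with a given Sylow subgroup as a defect group.** -/
theorem card_blocks_sylow (hM : IsPModular p M) (P : Sylow p G) :
    Nat.card {B : Set (IrrCharacter G) // IsPBlock M B ∧ IsDefectGroup p M B (P : Subgroup G)} =
      Nat.card {C : ConjClasses (Subgroup.normalizer ((P : Subgroup G) : Set G)) //
        ∀ n : Subgroup.normalizer ((P : Subgroup G) : Set G), ConjClasses.mk n = C →
          ¬ p ∣ orderOf n ∧ (n : G) ∈ Subgroup.centralizer ((P : Subgroup G) : Set G)} := by
  set H := Subgroup.normalizer ((P : Subgroup G) : Set G)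
  haveI : Fintype H := Fintype.ofFinite H
  haveI : Fintype (ConjClasses H) := Fintype.ofFinite _
  have hPH : (P : Subgroup G) ≤ H := Subgroup.le_normalizer
  set PN : Sylow p H := P.subtype hPH
  haveI hn : (PN : Subgroup H).Normal :=
    (Subgroup.normal_subgroupOf_iff_le_normalizer hPH).2 le_rfl
  have hdef : ∀ b : Set (IrrCharacter H), IsPBlock M b →
      IsDefectGroup p M b ((P : Subgroup G).subgroupOf H) := by
    intro b hb
    obtain ⟨D, hD⟩ := exists_defectGroup hb hM
    have hle : (PN : Subgroup H) ≤ D := normal_le_defectGroup hM hb hD _ PN.isPGroup'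
    have h := PN.is_maximal' (isPGroup_defectGroup hD) hle
    exact (show D = (P : Subgroup G).subgroupOf H from h) ▸ hD
  have hex : ∀ b : {b : Set (IrrCharacter H) // IsPBlock M b},
      ∃ B : {B : Set (IrrCharacter G) // IsPBlock M B ∧ IsDefectGroup p M B (P : Subgroup G)},
        IsInducedBlock M H b.1 B.1 := fun b => by
    obtain ⟨B, hB, hD, hind⟩ := first_main_exists hM b.2 (hdef b.1 b.2)
    exact ⟨⟨B, hB, hD⟩, hind⟩
  choose F hF using hex
  have hbij : Function.Bijective F := by
    refine ⟨fun b b' h => Subtype.ext ?_, fun B => ?_⟩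
    · obtain ⟨b₀, -, huniq⟩ := first_main_existsUnique hM (F b).2.1 (F b).2.2
      exact (huniq b.1 ⟨b.2, hdef b.1 b.2, hF b⟩).trans
        (huniq b'.1 ⟨b'.2, hdef b'.1 b'.2, h ▸ hF b'⟩).symm
    · obtain ⟨b, ⟨hb, -, hind⟩, -⟩ := first_main_existsUnique hM B.2.1 B.2.2
      exact ⟨⟨b, hb⟩, Subtype.ext (induced_unique (hF ⟨b, hb⟩) hind)⟩
  rw [← Nat.card_congr (Equiv.ofBijective F hbij), card_blocks hM PN]
  refine Nat.card_congr (Equiv.subtypeEquivRight fun C => ?_)
  have hce : ∀ n : H, n ∈ Subgroup.centralizer ((PN : Subgroup H) : Set H) ↔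
      (n : G) ∈ Subgroup.centralizer ((P : Subgroup G) : Set G) := fun n =>
    centralizer_subgroupOf_iff hPH n
  constructor
  · rintro ⟨h1, h2⟩ n rfl
    obtain ⟨y, hy⟩ := isConj_iff.1 (ConjClasses.mk_eq_mk_iff_isConj.1
      (Quotient.out_eq (ConjClasses.mk n)))
    refine ⟨fun hd => h1 ?_, (hce n).1 (hy ▸ ?_)⟩
    · rwa [← hy, show orderOf (y * (ConjClasses.mk n).out * y⁻¹) = orderOf (ConjClasses.mk n).out
        from orderOf_injective (MulAut.conj y).toMonoidHom (MulAut.conj y).injective _] at hd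
    · exact (inferInstance : (Subgroup.centralizer ((PN : Subgroup H) : Set H)).Normal).conj_mem
        _ h2 y
  · intro h
    exact ⟨(h C.out (Quotient.out_eq C)).1, (hce _).2 (h C.out (Quotient.out_eq C)).2⟩

end CfsgLib.SylowBlocks
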