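import Mathlib.LinearAlgebra.Matrix.ToLin
import Mathlib.LinearAlgebra.FreeModule.PID
import Mathlib.LinearAlgebra.Projection
import Mathlib.LinearAlgebra.Trace
import Mathlib.Algebra.Module.Projective
import Mathlib.LinearAlgebra.Matrix.Trace

/-!
# Factorizations of symmetric integer matrices with square a multiple of themselves

If `R ^ 2 = q R`, then `R = E Q Eᵀ` with `E` split injective and `Q (Eᵀ E) = q`.
-/

namespace CfsgLib.BlockB

open Matrix Finset

/-- A factorization of `R` through `Fin l`. -/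
structure SymFactor {ι : Type*} [Fintype ι] (R : Matrix ι ι ℤ) (q : ℤ) (l : ℕ) where
  E : Matrix ι (Fin l) ℤ
  F : Matrix (Fin l) ι ℤ
  Q : Matrix (Fin l) (Fin l) ℤ
  hFE : F * E = 1
  hR : R = E * Q * Eᵀ
  hsymm : Qᵀ = Q
  hQC : Q * (Eᵀ * E) = q • 1

namespace SymFactor

variable {ι : Type*} [Fintype ι] {R : Matrix ι ι ℤ} {q : ℤ} {l : ℕ}

/-- The Gram matrix of the columns. -/
def C (S : SymFactor R q l) : Matrix (Fin l) (Fin l) ℤ := S.Eᵀ * S.E

theorem C_symm (S : SymFactor R q l) : S.Cᵀ = S.C := by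
  rw [C, transpose_mul, transpose_transpose]

theorem hCQ (S : SymFactor R q l) : S.C * S.Q = q • 1 := by
  have h := congrArg transpose S.hQC
  rwa [transpose_mul, transpose_mul, transpose_transpose, S.hsymm, transpose_smul, transpose_one]
    at h

theorem trace_eq (S : SymFactor R q l) : R.trace = q * l := by
  rw [S.hR, Matrix.mul_assoc, trace_mul_comm, Matrix.mul_assoc, S.hQC, trace_smul, trace_one,
    Fintype.card_fin, smul_eq_mul]

theorem Q_eq (S : SymFactor R q l) : S.Q = S.F * R * S.Fᵀ := by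
  rw [congrArg (fun X => S.F * X * S.Fᵀ) S.hR]
  rw [show S.F * (S.E * S.Q * S.Eᵀ) * S.Fᵀ = (S.F * S.E) * S.Q * (S.F * S.E)ᵀ by
    rw [transpose_mul]; simp only [Matrix.mul_assoc], S.hFE, transpose_one, Matrix.one_mul,
    Matrix.mul_one]

/-- Changing the basis. -/
def transform (S : SymFactor R q l) (T T' : Matrix (Fin l) (Fin l) ℤ) (hT : T * T' = 1)
    (hT' : T' * T = 1) : SymFactor R q l where
  E := S.E * T
  F := T' * S.F
  Q := T' * S.Q * T'ᵀ
  hFE := by
    rw [show T' * S.F * (S.E * T) = T' * (S.F * S.E) * T by simp only [Matrix.mul_assoc], S.hFE,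
      Matrix.mul_one, hT']
  hR := by
    rw [show S.E * T * (T' * S.Q * T'ᵀ) * (S.E * T)ᵀ = S.E * (T * T') * S.Q * (T * T')ᵀ * S.Eᵀ by
      simp only [transpose_mul, Matrix.mul_assoc], hT, transpose_one, Matrix.mul_one,
      Matrix.mul_one]
    exact S.hR
  hsymm := by
    rw [transpose_mul, transpose_mul, transpose_transpose, S.hsymm, Matrix.mul_assoc]
  hQC := by
    rw [show T' * S.Q * T'ᵀ * ((S.E * T)ᵀ * (S.E * T)) =
        T' * (S.Q * ((T * T')ᵀ * (S.Eᵀ * S.E))) * T by
      simp only [transpose_mul, Matrix.mul_assoc], hT, transpose_one, Matrix.one_mul, S.hQC,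
      Matrix.mul_smul, Matrix.mul_one, Matrix.smul_mul, hT']

theorem transform_C (S : SymFactor R q l) (T T' : Matrix (Fin l) (Fin l) ℤ) (hT : T * T' = 1)
    (hT' : T' * T = 1) : (S.transform T T' hT hT').C = Tᵀ * S.C * T := by
  simp only [C, transform, transpose_mul, Matrix.mul_assoc]

end SymFactor

/-- Such a factorization exists. -/
theorem exists_symFactor {ι : Type*} [Fintype ι] (R : Matrix ι ι ℤ) (q : ℤ)
    (hsymm : Rᵀ = R) (hsq : R * R = q • R) : ∃ l : ℕ, Nonempty (SymFactor R q l) := by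
  classical
  let f := R.mulVecLin
  let bas := Module.finBasis ℤ (LinearMap.range f)
  set l := Module.finrank ℤ (LinearMap.range f)
  let π : (ι → ℤ) →ₗ[ℤ] (Fin l → ℤ) := bas.equivFun.toLinearMap ∘ₗ f.rangeRestrict
  have hπ : LinearMap.range π = ⊤ := by
    rw [LinearMap.range_comp, LinearMap.range_rangeRestrict, Submodule.map_top,
      LinearEquiv.range]
  obtain ⟨sec, hsec⟩ := π.exists_rightInverse_of_surjective hπ
  have hsecv : ∀ w, π (sec w) = w := fun w => congrFun (congrArg DFunLike.coe hsec) w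
  have hker : ∀ x x', π x = π x' → f x = f x' := fun x x' h =>
    congrArg Subtype.val (bas.equivFun.injective h : f.rangeRestrict x = f.rangeRestrict x')
  set T := LinearMap.toMatrix' π
  set S := LinearMap.toMatrix' sec
  have hTS : T * S = 1 := by
    rw [← LinearMap.toMatrix'_comp, hsec, LinearMap.toMatrix'_id]
  have hTv : ∀ x, T *ᵥ x = π x := fun x => LinearMap.toMatrix'_mulVec π x
  have hSv : ∀ x, S *ᵥ x = sec x := fun x => LinearMap.toMatrix'_mulVec sec x
  have hRST : R * S * T = R := by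
    refine Matrix.ext_iff_mulVec.2 fun x => ?_
    rw [← mulVec_mulVec, ← mulVec_mulVec, hTv, hSv]
    exact hker _ _ (hsecv _)
  set Q := Sᵀ * R * S
  have hR : R = Tᵀ * Q * Tᵀᵀ := by
    have h := congrArg transpose hRST
    simp only [transpose_mul, hsymm] at h
    calc R = Tᵀ * (Sᵀ * R) := h.symm
      _ = Tᵀ * (Sᵀ * (R * S * T)) := by rw [hRST]
      _ = Tᵀ * Q * Tᵀᵀ := by simp only [Q, transpose_transpose, Matrix.mul_assoc]
  have hQinj : ∀ w, Q *ᵥ w = 0 → w = 0 := by
    intro w hw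
    have h1 : f (sec w) = f 0 := by
      rw [map_zero]
      show R *ᵥ sec w = 0
      rw [hR, ← mulVec_mulVec, ← mulVec_mulVec, transpose_transpose, hTv, hsecv, hw, mulVec_zero]
    have h2 : π (sec w) = π 0 :=
      congrArg bas.equivFun (Subtype.ext h1 : f.rangeRestrict (sec w) = f.rangeRestrict 0)
    rwa [hsecv, map_zero] at h2
  have hQsymm : Qᵀ = Q := by
    simp only [Q, transpose_mul, transpose_transpose, hsymm, Matrix.mul_assoc]
  have hid : Sᵀ * Tᵀ = 1 := by rw [← transpose_mul, hTS, transpose_one]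
  have hQCQ : Q * (T * Tᵀ) * Q = q • Q := by
    have h := congrArg (fun X => Sᵀ * X * S) hsq
    simp only [Matrix.mul_smul, Matrix.smul_mul] at h
    refine Eq.trans ?_ h
    conv_rhs => rw [hR]
    rw [show Sᵀ * (Tᵀ * Q * Tᵀᵀ * (Tᵀ * Q * Tᵀᵀ)) * S = (Sᵀ * Tᵀ) * (Q * (T * Tᵀ) * Q) * (T * S) by
      simp only [transpose_transpose, Matrix.mul_assoc], hid, hTS, Matrix.one_mul, Matrix.mul_one]
  have hCQ : T * Tᵀ * Q = q • 1 := by
    refine Matrix.ext_iff_mulVec.2 fun x => ?_
    refine sub_eq_zero.1 (hQinj _ ?_)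
    rw [mulVec_sub, mulVec_mulVec, mulVec_mulVec, ← Matrix.mul_assoc, hQCQ, Matrix.mul_smul,
      Matrix.mul_one, sub_self]
  refine ⟨l, ⟨⟨Tᵀ, Sᵀ, Q, hid, hR, hQsymm, ?_⟩⟩⟩
  have h := congrArg transpose hCQ
  rw [transpose_mul, transpose_mul (M := T), hQsymm, transpose_smul, transpose_one] at h
  exact h

end CfsgLib.BlockB
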