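import Cfsg.Agent.BlocksB.SemidihedralDefect.Main
import Cfsg.Agent.Blocks.PSolvableBlock
import Cfsg.Agent.Blocks.PSolvablePrincipal
import Cfsg.Agent.Blocks.StabilizerCorr
import Cfsg.Agent.Blocks.Correspond
import Cfsg.Agent.Blocks.NormalSub
import Cfsg.Agent.Char.ExtendInv
import Cfsg.Agent.Char.DegreeRatio
import Cfsg.Agent.Invol.CentralizerPattern
import Cfsg.Agent.GrossTwo.Bound
import Cfsg.Agent.BlocksB.PSolvableHeight

/-!
# Blocks of rank three with dihedral or semidihedral defect group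

With three Brauer characters an involution outside the cyclic subgroup is conjugate to the one in
the middle of the defect group.  Hence no involution is central, and after the reduction to a
character invariant in the group this is impossible in a solvable group.
-/

set_option autoImplicit false
set_option linter.style.haveILetI false
set_option linter.unusedSectionVars false

namespace CfsgLib.TameRankThree

open Cfsg Finset CfsgLib.Block CfsgLib.Block.Chr CfsgLib.BrauerPairs CfsgLib.BlockStar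
  CfsgLib.BlockB CfsgLib.Char
open CfsgLib.QuatDefect (Fus)
open scoped Classical

universe u

/-- The type of the defect group. -/
def TameType (D : Type u) [Group D] : Prop :=
  (∃ n : ℕ, 3 ≤ n ∧ Nonempty (D ≃* DihedralGroup (2 ^ (n - 1)))) ∨ Cfsg.IsQuasiDihedral D

theorem TameType.congr {D D' : Type u} [Group D] [Group D'] (E : D' ≃* D) (h : TameType D) :
    TameType D' := by
  rcases h with ⟨n, hn, ⟨e⟩⟩ | h
  exacts [Or.inl ⟨n, hn, ⟨E.trans e⟩⟩,
    Or.inr (CfsgLib.InvolPattern.isQuasiDihedral_congr E.symm h)]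

/-- The fusion forced by rank three: a middle involution `z`, and the normal subgroups of `D` with
all its conjugates have nothing else in their centre. -/
structure Spread {G : Type u} [Group G] (D : Subgroup G) (z : G) : Prop where
  mem : z ∈ D
  order : orderOf z = 2
  unique : ∀ c ∈ D, c * c = 1 → (∀ d ∈ D, c * d = d * c) → c = 1 ∨ c = z
  central : ∀ d ∈ D, z * d = d * z
  moved : ∃ v ∈ D, IsConj v z ∧ v ≠ z
  center : ∀ Q : Subgroup G, Q ≤ D → (∀ d ∈ D, ∀ q ∈ Q, d * q * d⁻¹ ∈ Q) →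
    (∀ v ∈ D, IsConj v z → v ∈ Q) → ∀ c ∈ Q, (∀ q ∈ Q, c * q = q * c) → c = 1 ∨ c = z

variable {M : Ideal AlgInt} [M.IsPrime] [Fact (Nat.Prime 2)] [CharP (Residue M) 2]
  {G : Type u} [Group G] [Fintype G]

local notation "Z[" x "]" => Subgroup.zpowers x
local notation "C[" Q "]" => Subgroup.centralizer (SetLike.coe Q)

variable {B : Set (IrrCharacter G)} {D : Subgroup G} {e : MonoidAlgebra (Residue M) G}
  {σ τ : G} {h : ℕ}

/-- Dihedral defect group: the second reflection. -/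
theorem dihData_swap (S : DihDefect.DihData (M := M) B D e σ τ h) :
    DihDefect.DihData (M := M) B D e σ (σ * τ) h :=
  { hM := S.hM
    hB := S.hB
    hmax := S.hmax
    hh := S.hh
    ordσ := S.ordσ
    ordτ := CfsgLib.Invol.orderOf_eq_two (by simpa using S.refl_mul 1 1)
      (fun e1 => by simpa [e1] using S.refl_not 1)
    rel := by
      rw [show σ * τ * σ * (σ * τ)⁻¹ = σ * (τ * σ * τ⁻¹) * σ⁻¹ by group, S.rel]; group
    σ_mem := S.σ_mem
    τ_mem := D.mul_mem S.σ_mem S.τ_mem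
    cases := fun g hg => by
      obtain ⟨i, hi | hi⟩ := S.cases g hg
      · exact ⟨i, Or.inl hi⟩
      · exact ⟨i - 1, Or.inr (by rw [hi, ← mul_assoc, zpow_sub_one, inv_mul_cancel_right])⟩
    card := S.card
    τ_not := by simpa using S.refl_not 1
    defect := S.defect }

theorem dih_conj (S : DihDefect.DihData (M := M) B D e σ τ h) (hl : blockRank 2 B = 3) :
    IsConj τ (σ ^ h) := by
  by_contra hne
  haveI : Fintype B := Fintype.ofFinite B
  haveI : Fintype C[Z[σ ^ h]] := Fintype.ofFinite _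
  obtain ⟨f, e', χ₀, Φ, T⟩ := S.exists_locData
  have := (SDDefect.dihedral_minor S T (SDDefect.dihedral_card S T)
    fun g hg => hne (isConj_iff.2 ⟨g, hg⟩)).1
  omega

theorem spread_dihedral (S : DihDefect.DihData (M := M) B D e σ τ h) (hl : blockRank 2 B = 3) :
    Spread D (σ ^ h) := by
  have h1 := dih_conj S hl
  have h2 := dih_conj (dihData_swap S) hl
  have hτz : τ ≠ σ ^ h := fun e1 => S.τ_not (e1 ▸ Subgroup.npow_mem_zpowers σ h)
  have key : ∀ c ∈ D, c * σ = σ * c → c * τ = τ * c → c = 1 ∨ c = σ ^ h := by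
    intro c hc e1 e2
    obtain ⟨i, rfl | rfl⟩ := S.cases c hc
    · refine S.eq_z (Subgroup.zpow_mem _ (Subgroup.mem_zpowers σ) i) ?_
      have h3 : τ * σ ^ i * τ⁻¹ = σ ^ i := by rw [← e2, mul_inv_cancel_right]
      rw [S.τ_rot, zpow_neg] at h3
      exact mul_eq_one_iff_inv_eq.2 h3
    · exfalso
      rw [mul_assoc, ← mul_assoc σ, ← zpow_one_add, add_comm 1 i, zpow_add, zpow_one,
        mul_assoc] at e1
      have h3 : τ * σ * τ⁻¹ = σ := mul_inv_eq_iff_eq_mul.2 (mul_left_cancel e1)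
      rw [S.rel, inv_eq_iff_mul_eq_one, ← pow_two] at h3
      exact S.pow_ne_one (by norm_num) (by
        have := S.h_even
        have := S.h_pos
        omega) h3
  refine ⟨S.pow_mem_D h, S.orderOf_z, fun c hc _ hcd => key c hc (hcd σ S.σ_mem) (hcd τ S.τ_mem),
    fun d hd => (S.z_comm hd).symm, ⟨τ, S.τ_mem, h1, hτz⟩, fun Q hQD _ hQ c hc hcq => ?_⟩
  have hτQ : τ ∈ Q := hQ τ S.τ_mem h1
  have hσQ : σ ∈ Q := by
    have h3 := Q.mul_mem (hQ (σ * τ) (D.mul_mem S.σ_mem S.τ_mem) h2) hτQ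
    rwa [mul_assoc, S.τ_sq, mul_one] at h3
  exact key c (hQD hc) (hcq σ hσQ) (hcq τ hτQ)

theorem spread_semidihedral (S : SDDefect.SDData (M := M) B D e σ τ h)
    (hl : blockRank 2 B = 3) : Spread D (σ ^ h) := by
  haveI : Fintype B := Fintype.ofFinite B
  obtain ⟨av, V⟩ := S.exists_rotVals
  obtain ⟨lz, t, s, T⟩ := S.exists_zData
  obtain ⟨j, hj⟩ : ∃ j, h = 2 ^ j := let ⟨k, hk⟩ := S.hh; ⟨k + 2, hk⟩
  obtain ⟨-, -, -, hk, -⟩ := S.invariants hj
  have hk := hk hl
  obtain ⟨r, hr, hr1⟩ := S.card_members V T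
  have hh := S.four_le
  have hempty : ¬ S.oth.Nonempty := fun hne => by
    have := hr1 hne
    rcases T.rank with e1 | e1
    · obtain ⟨W, -, hW2, -⟩ := S.exists_vectors V T fun _ => hne
      have hcard := W.main.2.1
      rw [if_neg (fun e2 => by have := hW2.1 e2; omega), ← Nat.card_eq_fintype_card] at hcard
      have := S.h_two
      omega
    · omega
  have hfus : Fus D e τ (σ ^ h) := by_contra fun hn => hempty ⟨τ, S.τ_mem_oth hn⟩
  obtain ⟨g, hg, -⟩ := hfus
  have hτz : τ ≠ σ ^ h := fun e1 => S.τ_not (e1 ▸ Subgroup.npow_mem_zpowers σ h)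
  -- the elements commuting with the reflection and the squares of the rotations
  have hrot : ∀ a ∈ Z[σ], a * τ = τ * a → a = 1 ∨ a = σ ^ h := by
    intro a ha e1
    obtain ⟨i, hi, rfl⟩ := S.exists_pow ha
    by_contra hn
    push Not at hn
    refine SDDefect.sw_ne S.four_dvd S.h_pos hi (fun e2 => hn.1 (by rw [e2, pow_zero]))
      (fun e2 => hn.2 (by rw [e2])) (S.pow_inj (SDDefect.sw_lt S.h_pos i) hi ?_)
    rw [← S.τ_sw, ← e1, mul_inv_cancel_right]
  have key : ∀ c ∈ D, c * τ = τ * c → c * σ ^ (2 - (h : ℤ)) = σ ^ (2 - (h : ℤ)) * c →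
      c = 1 ∨ c = σ ^ h := by
    intro c hc e1 e2
    obtain ⟨i, rfl | rfl⟩ := S.cases c hc
    · exact hrot _ (Subgroup.zpow_mem _ (Subgroup.mem_zpowers σ) i) e1
    · exfalso
      have hq := Subgroup.zpow_mem _ (Subgroup.mem_zpowers σ) (2 - (h : ℤ))
      have e3 : σ ^ (2 - (h : ℤ)) * τ = τ * σ ^ (2 - (h : ℤ)) := by
        refine mul_left_cancel (a := σ ^ i) ?_
        rw [← mul_assoc, ← mul_assoc, e2, ← mul_assoc]
        simp only [← zpow_add, add_comm]
      rcases hrot _ hq e3 with e4 | e4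
      · rw [S.zpow_eq_one] at e4
        have := Int.le_of_dvd (by omega) (dvd_neg.2 e4)
        omega
      · rw [← zpow_natCast σ h, S.zpow_eq] at e4
        have := Int.le_of_dvd (by omega) (dvd_neg.2 e4)
        omega
  refine ⟨S.pow_mem_D h, S.orderOf_z,
    fun c hc _ hcd => key c hc (hcd τ S.τ_mem) (hcd _ (D.zpow_mem S.σ_mem _)),
    fun d hd => (S.z_comm hd).symm, ⟨τ, S.τ_mem, isConj_iff.2 ⟨g, hg⟩, hτz⟩,
    fun Q hQD hQn hQ c hc hcq => ?_⟩
  have hτQ : τ ∈ Q := hQ τ S.τ_mem (isConj_iff.2 ⟨g, hg⟩)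
  refine key c (hQD hc) (hcq τ hτQ) (hcq _ ?_)
  have h3 : σ * τ * σ⁻¹ = σ ^ (2 - (h : ℤ)) * τ := by
    simpa using S.refl_conj 0 1
  have h4 := Q.mul_mem (h3 ▸ hQn σ S.σ_mem τ hτQ) (Q.inv_mem hτQ)
  rwa [mul_inv_cancel_right] at h4

/-- **The fusion of rank three.** -/
theorem exists_spread (hM : IsPModular 2 M) (hB : IsPBlock M B) (hD : IsDefectGroup 2 M B D)
    (hT : TameType D) (hl : blockRank 2 B = 3) : ∃ z, Spread D z := by
  rcases hT with ⟨n, hn, ⟨e0⟩⟩ | hsd
  · obtain ⟨e, σ, τ, S⟩ := DihDefect.exists_data hM hB hD hn e0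
    exact ⟨_, spread_dihedral S hl⟩
  · obtain ⟨n, hn, hcard, -⟩ := id hsd
    obtain ⟨e, σ, τ, S⟩ := SDDefect.exists_data hM hB hD hsd hcard
    exact ⟨_, spread_semidihedral S hl⟩

theorem rank_le_three (hM : IsPModular 2 M) (hB : IsPBlock M B) (hD : IsDefectGroup 2 M B D)
    (hT : TameType D) : blockRank 2 B ≤ 3 := by
  rcases hT with ⟨n, hn, ⟨e0⟩⟩ | hsd
  · exact (DihDefect.invariants hM hB hD hn e0).2.2.1
  · obtain ⟨n, hn, hcard, -⟩ := id hsd
    obtain ⟨e, σ, τ, S⟩ := SDDefect.exists_data hM hB hD hsd hcard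
    exact (S.invariants (j := _) rfl).2.2.1

/-- **The centre has odd order.** -/
theorem center_odd (hM : IsPModular 2 M) (hB : IsPBlock M B) (hD : IsDefectGroup 2 M B D)
    (hT : TameType D) (hl : blockRank 2 B = 3) : Odd (Nat.card (Subgroup.center G)) := by
  obtain ⟨z, S⟩ := exists_spread hM hB hD hT hl
  rw [← Nat.not_even_iff_odd, even_iff_two_dvd]
  intro h2
  obtain ⟨y, hy⟩ := exists_prime_orderOf_dvd_card' 2 h2
  have hyc : ∀ g : G, g * (y : G) = y * g := Subgroup.mem_center_iff.1 y.2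
  haveI : Z[(y : G)].Normal := ⟨fun n hn g => by
    obtain ⟨i, rfl⟩ := Subgroup.mem_zpowers_iff.1 hn
    rw [((show Commute g (y : G) from hyc g).zpow_right i).eq, mul_inv_cancel_right]
    exact hn⟩
  have hord : orderOf (y : G) = 2 := by rw [Subgroup.orderOf_coe, hy]
  have hyD : (y : G) ∈ D := normal_le_defectGroup hM hB hD Z[(y : G)]
    (IsPGroup.of_card (n := 1) (by rw [Nat.card_zpowers, hord, pow_one])) (Subgroup.mem_zpowers _)
  rcases S.unique _ hyD (CfsgLib.Invol.mul_self_eq_one hord) (fun d _ => (hyc d).symm) with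
    e1 | e1
  · rw [e1, orderOf_one] at hord; omega
  · obtain ⟨v, hv, hc, hne⟩ := S.moved
    obtain ⟨g, hg⟩ := isConj_iff.1 hc
    refine hne ?_
    calc v = g⁻¹ * z * g := by rw [← hg]; group
      _ = z := by rw [← e1, mul_assoc, ← hyc g, inv_mul_cancel_left]

/-- Induced regular parts. -/
theorem indFun_regular {p : ℕ} (T : Subgroup G) (f : T → ℂ) :
    Cfsg.indFun T (pRegularPart p f) = pRegularPart p (Cfsg.indFun T f) := by
  funext g
  have hord : ∀ x : G, orderOf (x⁻¹ * g * x) = orderOf g := fun x => by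
    have := (MulAut.conj x⁻¹).orderOf_eq g
    simpa using this
  by_cases hg : p ∣ orderOf g
  · rw [BlockB.pRegularPart_eq, BlockB.pRegularPart_eq, regPart_of_dvd hg, indFun_def,
      sum_eq_zero (s := (univ : Finset G)), mul_zero]
    intro x _
    by_cases hx : x⁻¹ * g * x ∈ T
    · rw [extendByZero_of_mem _ hx]
      exact regPart_of_dvd (g := (⟨_, hx⟩ : T))
        (by rw [← Subgroup.orderOf_coe]; exact (hord x).symm ▸ hg)
    · exact extendByZero_of_not_mem _ hx
  · rw [BlockB.pRegularPart_eq, BlockB.pRegularPart_eq, regPart_of_not_dvd hg, indFun_def, indFun_def]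
    congr 1
    refine sum_congr rfl fun x _ => ?_
    by_cases hx : x⁻¹ * g * x ∈ T
    · rw [extendByZero_of_mem _ hx, extendByZero_of_mem _ hx]
      exact regPart_of_not_dvd (g := (⟨_, hx⟩ : T))
        (by rw [← Subgroup.orderOf_coe]; exact (hord x).symm ▸ hg)
    · rw [extendByZero_of_not_mem _ hx, extendByZero_of_not_mem _ hx]

/-- Induction does not increase the rank. -/
theorem rank_le_of_induced {p : ℕ} (T : Subgroup G) {B' : Set (IrrCharacter T)}
    (h₂ : ∀ χ ∈ B, ∃ ψ ∈ B', (χ : G → ℂ) = Cfsg.indFun T (ψ : T → ℂ)) :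
    blockRank p B ≤ blockRank p B' := by
  let L : (T → ℂ) →ₗ[ℂ] (G → ℂ) :=
    { toFun := fun f => Cfsg.indFun T f
      map_add' := indFun_add
      map_smul' := indFun_smul }
  rw [blockRank, blockRank]
  refine le_trans (Submodule.finrank_mono (t := (Submodule.span ℂ
    ((fun ψ : IrrCharacter T => pRegularPart p (ψ : T → ℂ)) '' B')).map L) ?_)
    (Submodule.finrank_map_le L _)
  rw [Submodule.span_le]
  rintro _ ⟨χ, hχ, rfl⟩
  obtain ⟨ψ, hψ, he⟩ := h₂ χ hχ
  refine ⟨_, Submodule.subset_span ⟨ψ, hψ, rfl⟩, ?_⟩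
  show Cfsg.indFun T (pRegularPart p (ψ : T → ℂ)) = pRegularPart p (χ : G → ℂ)
  rw [he, indFun_regular]

/-- A spread defect group is not a Sylow subgroup in a constrained group. -/
theorem Spread.false_of_selfCent {z : G} (P : Sylow 2 G) (S : Spread (P : Subgroup G) z)
    {N : Subgroup G} [N.Normal] (hN : ¬ 2 ∣ Nat.card N)
    (hsc : CfsgLib.PConstrained.SelfCent 2 (G ⧸ N)) : False := by
  set π := QuotientGroup.mk' N with hπ
  set Qb := Cfsg.pCore 2 (G ⧸ N) with hQb
  haveI hQbn : Qb.Normal := (CfsgLib.Solvable.pCore_spec 2).1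
  have hinj : ∀ x ∈ (P : Subgroup G), π x = 1 → x = 1 := by
    intro x hx h1
    have hxN : x ∈ N := (QuotientGroup.eq_one_iff x).1 h1
    obtain ⟨i, hi⟩ := P.2 ⟨x, hx⟩
    have hd2 : orderOf x ∣ 2 ^ i :=
      orderOf_dvd_of_pow_eq_one (by simpa using congrArg Subtype.val hi)
    have hdN : orderOf x ∣ Nat.card N := by
      have := orderOf_dvd_natCard (⟨x, hxN⟩ : N)
      rwa [← Subgroup.orderOf_coe] at this
    exact orderOf_eq_one_iff.1 (Nat.eq_one_of_dvd_coprimes
      ((Nat.prime_two.coprime_iff_not_dvd.2 hN).pow_left i) hd2 hdN)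
  have hQP : Qb ≤ (P : Subgroup G).map π :=
    CfsgLib.Fitting.pCore_le_sylow (P.mapSurjective (QuotientGroup.mk'_surjective N))
  set Q : Subgroup G := (P : Subgroup G) ⊓ Qb.comap π with hQ
  have hlift : ∀ q ∈ Qb, ∃ x ∈ Q, π x = q := fun q hq => by
    obtain ⟨x, hx, rfl⟩ := hQP hq
    exact ⟨x, ⟨hx, hq⟩, rfl⟩
  have hzQ : π z ∈ Qb := hsc (Subgroup.mem_centralizer_iff.2 fun q hq => by
    obtain ⟨x, hx, rfl⟩ := hlift q hq
    rw [← map_mul, ← map_mul, S.central x hx.1])
  have hconj : ∀ v ∈ (P : Subgroup G), IsConj v z → v ∈ Q := fun v hv hc => by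
    obtain ⟨g, hg⟩ := isConj_iff.1 hc
    refine ⟨hv, ?_⟩
    show π v ∈ Qb
    rw [show v = g⁻¹ * z * g⁻¹⁻¹ by rw [← hg]; group, map_mul, map_mul, map_inv]
    exact hQbn.conj_mem _ hzQ _
  obtain ⟨v, hv, hc, hne⟩ := S.moved
  obtain ⟨g, hg⟩ := isConj_iff.1 hc
  obtain ⟨y, hy, hyq⟩ := hlift _ (hQbn.conj_mem _ hzQ (π g⁻¹))
  have hycen : ∀ q ∈ Q, y * q = q * y := fun q hq => by
    refine mul_inv_eq_one.1 (hinj _ (mul_mem (mul_mem hy.1 hq.1)
      (inv_mem (mul_mem hq.1 hy.1))) ?_)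
    rw [map_mul, map_inv, map_mul, map_mul, hyq, mul_inv_eq_one]
    obtain ⟨x, hx, hxq⟩ := hlift _ (hQbn.conj_mem _ hq.2 (π g⁻¹)⁻¹)
    have h1 : π z * π x = π x * π z := by rw [← map_mul, ← map_mul, S.central x hx.1]
    rw [hxq, inv_inv] at h1
    calc π g⁻¹ * π z * (π g⁻¹)⁻¹ * π q
        = π g⁻¹ * (π z * ((π g⁻¹)⁻¹ * π q * π g⁻¹)) * (π g⁻¹)⁻¹ := by group
      _ = π g⁻¹ * ((π g⁻¹)⁻¹ * π q * π g⁻¹ * π z) * (π g⁻¹)⁻¹ := by rw [h1]
      _ = π q * (π g⁻¹ * π z * (π g⁻¹)⁻¹) := by group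
  have hyv : π v = π y := by
    rw [hyq, ← map_inv, ← map_mul, ← map_mul, ← hg]
    congr 1
    group
  have hyeq : y = v := by
    refine mul_inv_eq_one.1 (hinj _ (mul_mem hy.1 (inv_mem hv)) ?_)
    rw [map_mul, map_inv, hyv, mul_inv_cancel]
  rcases S.center Q inf_le_left (fun d hd q hq => ⟨(P : Subgroup G).mul_mem ((P : Subgroup G).mul_mem hd hq.1)
      ((P : Subgroup G).inv_mem hd), by
    show π (d * q * d⁻¹) ∈ Qb
    rw [map_mul, map_mul, map_inv]
    exact hQbn.conj_mem _ hq.2 _⟩) hconj y hy hycen with e1 | e1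
  · rw [hyeq] at e1
    subst e1
    have hz1 : z = 1 := by rw [← hg]; simp
    have := S.order
    rw [hz1, orderOf_one] at this
    omega
  · exact hne (hyeq ▸ e1)

/-- **No such block in a solvable group.** -/
theorem not_solvable_aux (hM : IsPModular 2 M) : ∀ n : ℕ, ∀ (G : Type u) [Group G] [Fintype G],
    Nat.card G = n → Group.IsSolvable G → ∀ (B : Set (IrrCharacter G)), IsPBlock M B →
    ∀ (D : Subgroup G), IsDefectGroup 2 M B D → TameType D → blockRank 2 B ≠ 3 := by
  intro n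
  induction n using Nat.strong_induction_on with
  | _ n ih =>
  intro G _ _ hn hs B hB D hD hT hl
  haveI := hs
  obtain ⟨χ, hχ⟩ := exists_mem_block hB
  let N := Cfsg.pPrimeCore 2 G
  haveI hNn : N.Normal := (CfsgLib.Solvable.pPrimeCore_spec 2).1
  have hNp : ¬ 2 ∣ Nat.card N := fun h =>
    Nat.prime_two.ne_one (Nat.eq_one_of_dvd_coprimes
      (CfsgLib.Solvable.coprime_card_pPrimeCore 2) h dvd_rfl)
  haveI : Fintype N := Fintype.ofFinite N
  obtain ⟨θf, hθf, hc⟩ := exists_constituent_restrict (N := N) χ.2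
  let θ : IrrCharacter N := ⟨θf, hθf⟩
  by_cases hI : inertia θf = ⊤
  · have hinv : ∀ g : G, conjIrr g θ = θ := fun g =>
      Subtype.ext ((mem_inertia θf g).1 (hI ▸ Subgroup.mem_top g))
    have hsc := selfCent_quotient_of_pSolvable (G := G) (p := 2)
      (CfsgLib.GrossTwo.isPSolvable_of_solvable 2 hs)
    obtain ⟨B', hB', hiff, -, hsyl⟩ := block_over_invariant hM hNp hsc hinv
    have hBB : B = B' := block_eq_of_common hB hB' hχ ((hiff χ).2 hc)
    obtain ⟨P, rfl⟩ := hsyl D (hBB ▸ hD)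
    obtain ⟨z, S⟩ := exists_spread hM hB hD hT hl
    exact S.false_of_selfCent P hNp hsc
  · set T := inertia θf with hTdef
    haveI : Fintype T := Fintype.ofFinite T
    have hNT : N ≤ T := le_inertia (IsIrrCharacter.isClassFunction hθf)
    have hb : IsPBlock M ({θ} : Set (IrrCharacter N)) :=
      ⟨θ, (blockOf_eq_singleton hM hNp θ).symm⟩
    have hS : IsStab ({θ} : Set (IrrCharacter N)) T := by
      intro g η hη
      rw [Set.mem_singleton_iff.1 hη, Set.mem_singleton_iff, hTdef, mem_inertia,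
        Subtype.ext_iff]
      rfl
    obtain ⟨ψ, hψ, hcψ⟩ := exists_stab_inducing hS hNT (Set.mem_singleton θ) hc
    have hB' := isPBlock_blockOf (M := M) ψ
    obtain ⟨B₁, hind, -, h₁, h₂⟩ := stab_block_correspond hb hS hNT hB'
      ⟨ψ, mem_blockOf_self ψ, θ, Set.mem_singleton θ, hcψ⟩
    have hχ₁ : χ ∈ B₁ := mem_induced_of_indFun hind (mem_blockOf_self ψ) hψ
    obtain rfl : B = B₁ := block_eq_of_common hB hind.2.1 hχ hχ₁
    obtain ⟨D', hD'⟩ := exists_defectGroup (p := 2) hB' hM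
    obtain ⟨E, hE, hle⟩ := defectGroup_le_induced hM hind hD'
    have hEq : D'.map T.subtype = E := Subgroup.eq_of_le_of_card_ge hle (le_of_eq (by
      rw [card_defectGroup hM hB hE, Subgroup.card_map_of_injective T.subtype_injective,
        card_defectGroup hM hB' hD', (stab_defect_height hB' h₁ h₂).1]))
    obtain ⟨x, hx⟩ := defectGroup_conj hM hB hD hE
    have hT' : TameType D' := hT.congr
      (((D'.equivMapOfInjective T.subtype T.subtype_injective).trans
        (MulEquiv.subgroupCongr hEq)).trans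
        ((E.equivMapOfInjective (MulAut.conj x).toMonoidHom (MulAut.conj x).injective).trans
          (MulEquiv.subgroupCongr hx)))
    have hlt : Nat.card T < n := by
      rw [← hn]
      exact lt_of_le_of_ne (Nat.le_of_dvd Nat.card_pos T.card_subgroup_dvd_card)
        fun h => hI (Subgroup.eq_top_of_card_eq T h)
    refine ih _ hlt T rfl inferInstance _ hB' D' hD' hT' (le_antisymm ?_ ?_)
    · exact rank_le_three hM hB' hD' hT'
    · rw [← hl]; exact rank_le_of_induced T h₂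

end CfsgLib.TameRankThree
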