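import Cfsg.Agent.BlocksB.MajorValuation
import Cfsg.Agent.BlocksB.GaloisBound
import Mathlib.RingTheory.Trace.Basic
import Mathlib.RingTheory.Polynomial.Cyclotomic.Roots
import Mathlib.RingTheory.Polynomial.Cyclotomic.Expand

/-!
# A major `2`-subsection with at most three characters more than Brauer characters

Then the block has at most `2 ^ d` characters.
-/

namespace CfsgLib.BlockB

open Finset Cfsg CfsgLib.Block CfsgLib.Block.Chr CfsgLib.Char
open scoped ComplexConjugate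

set_option linter.unusedSectionVars false
set_option linter.style.haveILetI false

/-- The sum of the conjugates of a root of unity of `2`-power order. -/
theorem sum_embeddings_root {k : ℕ} [FiniteDimensional ℚ (cycloField (2 ^ k))]
    (w : cycloField (2 ^ k)) (hw : (w : ℂ) ^ 2 ^ k = 1) :
    ∃ ε : ℤ, (w = 1 → ε = 1) ∧
      (∑ σ : cycloField (2 ^ k) →ₐ[ℚ] ℂ, σ w) =
        ((univ : Finset (cycloField (2 ^ k) →ₐ[ℚ] ℂ)).card : ℂ) * (ε : ℂ) := by
  classical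
  rcases eq_or_ne w 1 with rfl | h1
  · exact ⟨1, fun _ => rfl, by simp⟩
  rcases eq_or_ne w (-1) with rfl | h2
  · exact ⟨-1, fun h => absurd h h1, by simp⟩
  refine ⟨0, fun h => absurd h h1, ?_⟩
  have hw' : (w : ℂ) ^ 2 ^ k = 1 := hw
  obtain ⟨j, hjk, hj⟩ := (Nat.dvd_prime_pow Nat.prime_two).1 (orderOf_dvd_of_pow_eq_one hw')
  have hj2 : 2 ≤ j := by
    by_contra hlt
    have h3 : ((w : ℂ)) ^ 2 = 1 := by
      refine orderOf_dvd_iff_pow_eq_one.1 ?_
      rw [hj]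
      simpa using pow_dvd_pow 2 (show j ≤ 1 by omega)
    rcases sq_eq_one_iff.1 h3 with h | h
    · exact h1 (Subtype.ext h)
    · exact h2 (Subtype.ext h)
  obtain ⟨i, rfl⟩ : ∃ i, j = i + 1 := ⟨j - 1, by omega⟩
  have hprim : IsPrimitiveRoot w (2 ^ (i + 1)) := by
    refine IsPrimitiveRoot.of_map_of_injective (f := (cycloField (2 ^ k)).val) ?_ Subtype.val_injective
    show IsPrimitiveRoot (w : ℂ) (2 ^ (i + 1))
    rw [← hj]
    exact IsPrimitiveRoot.orderOf _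
  have hmin : minpoly ℚ w = 1 + Polynomial.X ^ 2 ^ i := by
    rw [← Polynomial.cyclotomic_eq_minpoly_rat hprim (pow_pos two_pos _),
      Polynomial.cyclotomic_prime_pow_eq_geom_sum Nat.prime_two]
    simp [sum_range_succ]
  have hnext : (minpoly ℚ w).nextCoeff = 0 := by
    have hdeg : (1 + Polynomial.X ^ 2 ^ i : Polynomial ℚ).natDegree = 2 ^ i := by
      rw [add_comm, ← Polynomial.C_1, Polynomial.natDegree_X_pow_add_C]
    have h2i : 2 ≤ 2 ^ i := le_trans (by norm_num) (Nat.pow_le_pow_right two_pos (show 1 ≤ i by omega))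
    rw [hmin, Polynomial.nextCoeff, if_neg (by rw [hdeg]; omega), hdeg, Polynomial.coeff_add,
      Polynomial.coeff_one, Polynomial.coeff_X_pow, if_neg (by omega), if_neg (by omega), add_zero]
  rw [← trace_eq_sum_embeddings ℂ (K := ℚ) (x := w), trace_eq_finrank_mul_minpoly_nextCoeff,
    hnext]
  simp

/-- The conjugates of a root of unity of order a power of a prime are its powers. -/
theorem exists_embedding_pow {N : ℕ} (hN : 0 < N) (σ : cycloField N →ₐ[ℚ] ℂ) :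
    ∃ e : ℕ, e.Coprime N ∧ ∀ (z : ℂ) (hz : z ^ N = 1),
      σ ⟨z, root_mem_cycloField hz⟩ = z ^ e := by
  haveI : NeZero N := ⟨hN.ne'⟩
  set ζ : ℂ := Complex.exp (2 * Real.pi * Complex.I / N)
  have hζ : IsPrimitiveRoot ζ N := Complex.isPrimitiveRoot_exp N hN.ne'
  set Z : cycloField N := ⟨ζ, root_mem_cycloField hζ.pow_eq_one⟩
  have hZ : IsPrimitiveRoot (σ Z) N := by
    refine IsPrimitiveRoot.map_of_injective ?_ σ.toRingHom.injective
    exact IsPrimitiveRoot.of_map_of_injective (f := (cycloField N).val) hζ Subtype.val_injective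
  obtain ⟨e, -, he⟩ := hζ.eq_pow_of_pow_eq_one hZ.pow_eq_one
  refine ⟨e, ?_, fun z hz => ?_⟩
  · exact (hζ.pow_iff_coprime hN e).1 (he ▸ hZ)
  · obtain ⟨i, -, hi⟩ := hζ.eq_pow_of_pow_eq_one hz
    have : (⟨z, root_mem_cycloField hz⟩ : cycloField N) = Z ^ i := Subtype.ext hi.symm
    rw [this, map_pow, ← he, ← pow_mul, ← hi, ← pow_mul, mul_comm]

/-- Positive numbers with product at least `c` sum to at least their number plus `log c`. -/
theorem card_add_log_le_sum {ι : Type*} [Fintype ι] (f : ι → ℝ) (hf : ∀ i, 0 < f i) {c : ℝ}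
    (hc : 0 < c) (hprod : c ≤ ∏ i, f i) : (Fintype.card ι : ℝ) + Real.log c ≤ ∑ i, f i := by
  have h1 := Real.log_le_log hc hprod
  rw [Real.log_prod fun i _ => (hf i).ne'] at h1
  have h2 := sum_le_sum (s := univ) fun i _ => Real.log_le_sub_one_of_pos (hf i)
  rw [sum_sub_distrib, sum_const, card_univ, nsmul_eq_mul, mul_one] at h2
  linarith

/-- The product of the conjugates of a nonzero algebraic integer is a nonzero integer. -/
theorem exists_prod_embeddings_eq_int {N : ℕ} [FiniteDimensional ℚ (cycloField N)]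
    (x : cycloField N) (hint : IsIntegral ℤ (x : ℂ)) (hne : x ≠ 0) :
    ∃ n : ℤ, n ≠ 0 ∧ (∏ σ : cycloField N →ₐ[ℚ] ℂ, σ x) = (n : ℂ) := by
  have hi : ∀ σ : cycloField N →ₐ[ℚ] ℂ, IsIntegral ℤ (σ x) := fun σ =>
    ((isIntegral_algebraMap_iff (algebraMap (cycloField N) ℂ).injective).1 hint).map
      (σ.restrictScalars ℤ)
  have hn := Algebra.norm_eq_prod_embeddings ℚ ℂ x
  obtain ⟨n, hn1, -⟩ := CfsgLib.Char.exists_int_of_isIntegral_rat (Algebra.norm ℚ x)
    (IsIntegral.prod _ fun σ _ => hi σ) (hn.symm.trans (eq_ratCast _ _))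
  refine ⟨n, fun h0 => ?_, hn1⟩
  rw [h0, Int.cast_zero, prod_eq_zero_iff] at hn1
  obtain ⟨σ, -, hz⟩ := hn1
  exact (map_ne_zero σ).2 hne hz

universe u

variable {G : Type u} [Group G] [Fintype G] {H : Subgroup G} [Fintype H] {y : G}
  {M : Ideal AlgInt} [M.IsPrime] {p : ℕ} [Fact p.Prime]

/-- The scalar of a power of the central element. -/
theorem scalar_pow {ξ : IrrCharacter H} {L : ℂ} (hyH : y ∈ H)
    (hL : ∀ c : H, (ξ : H → ℂ) (⟨y, hyH⟩ * c) = L * (ξ : H → ℂ) c) (e : ℕ) (c : H) :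
    (ξ : H → ℂ) (⟨y, hyH⟩ ^ e * c) = L ^ e * (ξ : H → ℂ) c := by
  induction e generalizing c with
  | zero => simp
  | succ e ih => rw [pow_succ, mul_assoc, ih, hL, pow_succ, mul_assoc]

/-- The coefficients of the section of a power of the element. -/
theorem classInner_secFun_pow {ξ : IrrCharacter H} {L : ℂ} (hyH : y ∈ H)
    (hscal : ∀ ζ : IrrCharacter H, ∃ l : ℂ, ∀ c : H,
      (ζ : H → ℂ) (⟨y, hyH⟩ * c) = l * (ζ : H → ℂ) c)
    (hL : ∀ c : H, (ξ : H → ℂ) (⟨y, hyH⟩ * c) = L * (ξ : H → ℂ) c) (χ : IrrCharacter G) (e : ℕ) :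
    classInner (secFun H (y ^ e) χ) (ξ : H → ℂ) =
      L ^ e * classInner (fun c : H => (χ : G → ℂ) c) (ξ : H → ℂ) := by
  classical
  letI := irrFintype (G := H)
  choose l hl using hscal
  have hlξ : l ξ = L := by
    have h1 := hl ξ 1
    rw [hL 1] at h1
    exact (mul_right_cancel₀ (irr_one_ne_zero ξ) h1).symm
  have hcl : IsClassFunction H (fun c : H => (χ : G → ℂ) c) :=
    fun c v => by simpa using isClassFunction_irr χ (c : G) (v : G)
  have hexp : secFun H (y ^ e) χ = ∑ ζ : IrrCharacter H,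
      (classInner (fun c : H => (χ : G → ℂ) c) (ζ : H → ℂ) * l ζ ^ e) • (ζ : H → ℂ) := by
    funext c
    rw [Finset.sum_apply]
    have h := classFun_expand hcl (⟨y, hyH⟩ ^ e * c)
    simp only [secFun, Pi.smul_apply, smul_eq_mul]
    rw [show y ^ e * (c : G) = ((⟨y, hyH⟩ ^ e * c : H) : G) by simp, h]
    exact sum_congr rfl fun ζ _ => by rw [scalar_pow hyH (hl ζ) e c]; ring
  rw [hexp, classInner_sum_left]
  simp only [classInner_smul_left, classInner_irr, mul_ite, mul_one, mul_zero, sum_ite_eq',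
    mem_univ, if_true, hlξ]
  ring

theorem centralizer_pow_eq {k e : ℕ} (hy : orderOf y = p ^ k) (he : e.Coprime (p ^ k)) :
    orderOf (y ^ e) = p ^ k ∧
      Subgroup.centralizer ({y ^ e} : Set G) = Subgroup.centralizer ({y} : Set G) := by
  have hord : orderOf (y ^ e) = p ^ k := by
    rw [Nat.Coprime.orderOf_pow (by rw [hy]; exact he.symm), hy]
  refine ⟨hord, ?_⟩
  obtain ⟨m, hm⟩ := exists_pow_eq_self_of_coprime (x := y) (n := e) (by rw [hy]; exact he)
  refine le_antisymm (fun g hg => ?_) (fun g hg => ?_)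
  · rw [Subgroup.mem_centralizer_singleton_iff] at hg ⊢
    have h2 := (Commute.pow_right (show Commute g (y ^ e) from hg) m).eq
    rwa [hm] at h2
  · rw [Subgroup.mem_centralizer_singleton_iff] at hg ⊢
    exact (Commute.pow_right (show Commute g y from hg) e).eq

/-- A symmetric integer matrix has total congruent to its trace modulo two. -/
theorem two_dvd_sum_sub_diag {ι : Type*} [Fintype ι] (f : ι → ι → ℤ) (hf : ∀ a b, f a b = f b a) :
    (2 : ℤ) ∣ (∑ a, ∑ b, f a b) - ∑ a, f a a := by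
  classical
  rw [← Nat.cast_two, ← ZMod.intCast_zmod_eq_zero_iff_dvd, ← Fintype.sum_prod_type']
  have hsplit : ∑ q : ι × ι, f q.1 q.2 - ∑ a, f a a =
      ∑ q ∈ univ.filter (fun q : ι × ι => q.1 ≠ q.2), f q.1 q.2 := by
    rw [← sum_filter_add_sum_filter_not univ (fun q : ι × ι => q.1 ≠ q.2) (fun q => f q.1 q.2),
      add_sub_assoc, add_eq_left, sub_eq_zero]
    refine sum_nbij' (fun q => q.1) (fun a => (a, a)) ?_ ?_ ?_ ?_ ?_ <;> simp <;> aesop
  rw [hsplit, Int.cast_sum]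
  refine sum_involution (fun q _ => (q.2, q.1)) (fun q _ => ?_) (fun q hq _ h => ?_)
    (fun q hq => ?_) (fun q _ => rfl)
  · rw [hf q.2 q.1, CharTwo.add_self_eq_zero]
  · exact (mem_filter.1 hq).2 (congrArg Prod.fst h).symm
  · exact mem_filter.2 ⟨mem_univ _, fun h => (mem_filter.1 hq).2 h.symm⟩

/-- The bound by the defect. -/
theorem card_le_pow_three_defect (hM : IsPModular 2 M) (hH : H = Subgroup.centralizer ({y} : Set G))
    {k : ℕ} (hy : orderOf y = 2 ^ k) {b : Set (IrrCharacter H)} {B : Set (IrrCharacter G)}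
    (hind : IsInducedBlock M H b B) (hbd : blockDefect 2 b = blockDefect 2 B)
    (hle : Nat.card B ≤ blockRank 2 b + 3) : Nat.card B ≤ 2 ^ blockDefect 2 B := by
  classical
  haveI : Fact (Nat.Prime 2) := ⟨Nat.prime_two⟩
  letI := irrFintype (G := G)
  letI := irrFintype (G := H)
  haveI : Fintype b := Fintype.ofFinite b
  have hk0 : 0 < 2 ^ k := pow_pos two_pos k
  haveI := finiteDimensional_cycloField hk0
  obtain ⟨σ₀⟩ : Nonempty (cycloField (2 ^ k) →ₐ[ℚ] ℂ) := ⟨IntermediateField.val _⟩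
  have hB := hind.2.1
  have hbf := brauer_feit hM hB
  rcases Nat.eq_zero_or_pos (blockDefect 2 B) with hd0 | hdpos
  · rw [hd0] at hbf ⊢
    simp only [mul_zero, pow_zero] at hbf ⊢
    omega
  obtain ⟨d, hdd⟩ : ∃ d, d = blockDefect 2 B := ⟨_, rfl⟩
  set S := univ.filter (· ∈ B) with hS
  have hcard : Nat.card B = S.card := by
    rw [Nat.card_eq_fintype_card, Fintype.card_subtype]
  by_cases hone : S.card ≤ 1
  · rw [hcard]
    exact le_trans hone Nat.one_le_two_pow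
  set P : ℂ := (2 : ℂ) ^ d with hP
  have hyH : y ∈ H := by rw [hH, Subgroup.mem_centralizer_singleton_iff]
  -- the scalars of `y` on `H`
  have hsc := fun ξ : IrrCharacter H => exists_section_scalar (p := 2) hH hy ξ
  choose l hl hlscal using hsc
  have hlK : ∀ ξ, l ξ ∈ cycloField (2 ^ k) := fun ξ => root_mem_cycloField (hl ξ)
  have hlc : ∀ ξ, conj (l ξ) ^ 2 ^ k = 1 := fun ξ => by rw [← map_pow, hl, map_one]
  choose N hN using fun (χ : IrrCharacter G) (ξ : IrrCharacter H) => exists_restr_mult χ ξ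
  -- the contributions at a power of `y`
  have hval : ∀ (e : ℕ) (χ ψ : IrrCharacter G), P * contrib 2 b (y ^ e) χ ψ =
      ∑ ξ : b, ∑ ξ' : b, (redInt 2 b ξ.1 ξ'.1 : ℂ) * ((N χ ξ.1 : ℂ) * (N ψ ξ'.1 : ℂ)) *
        (l ξ.1 * conj (l ξ'.1)) ^ e := by
    intro e χ ψ
    rw [contrib_eq_sum hM hind.1, mul_sum]
    refine sum_congr rfl fun ξ _ => ?_
    rw [mul_sum]
    refine sum_congr rfl fun ξ' _ => ?_
    rw [classInner_secFun_pow hyH (fun ζ => ⟨l ζ, fun c => hlscal ζ _ rfl c⟩)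
        (fun c => hlscal ξ.1 _ rfl c),
      classInner_secFun_pow hyH (fun ζ => ⟨l ζ, fun c => hlscal ζ _ rfl c⟩)
        (fun c => hlscal ξ'.1 _ rfl c), hN, hN, map_mul, map_pow, map_natCast,
      redInt_eq_regMat hM hind.1, hbd, ← hdd, hP]
    push_cast
    ring
  choose e he hσroot using fun σ : cycloField (2 ^ k) →ₐ[ℚ] ℂ => exists_embedding_pow hk0 σ
  have hprops := fun σ => centralizer_pow_eq (p := 2) hy (he σ)
  have hHσ : ∀ σ : cycloField (2 ^ k) →ₐ[ℚ] ℂ, H = Subgroup.centralizer ({y ^ e σ} : Set G) := fun σ => by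
    rw [(hprops σ).2, hH]
  -- the root attached to a pair of members of `b`
  let w : b → b → cycloField (2 ^ k) := fun ξ ξ' =>
    ⟨l ξ.1 * conj (l ξ'.1), mul_mem (hlK _) (root_mem_cycloField (hlc _))⟩
  have hwpow : ∀ ξ ξ', (w ξ ξ' : ℂ) ^ 2 ^ k = 1 := fun ξ ξ' => by
    show (l ξ.1 * conj (l ξ'.1)) ^ 2 ^ k = 1
    rw [mul_pow, hl, hlc, one_mul]
  have hσw : ∀ (σ : cycloField (2 ^ k) →ₐ[ℚ] ℂ) (ξ ξ' : b), σ (w ξ ξ') = (l ξ.1 * conj (l ξ'.1)) ^ e σ := fun σ ξ ξ' => by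
    have := hσroot σ _ (hwpow ξ ξ')
    simpa [w] using this
  let X : IrrCharacter G → IrrCharacter G → cycloField (2 ^ k) := fun χ ψ =>
    ∑ ξ : b, ∑ ξ' : b, (redInt 2 b ξ.1 ξ'.1 : cycloField (2 ^ k)) *
      ((N χ ξ.1 : cycloField (2 ^ k)) * (N ψ ξ'.1 : cycloField (2 ^ k))) * w ξ ξ'
  have hσX : ∀ (σ : cycloField (2 ^ k) →ₐ[ℚ] ℂ) χ ψ, σ (X χ ψ) = P * contrib 2 b (y ^ e σ) χ ψ := by
    intro σ χ ψ
    rw [hval]
    simp only [X, map_sum, map_mul, map_intCast, map_natCast, hσw]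
  have hXint : ∀ χ ψ, IsIntegral ℤ (X χ ψ : ℂ) := by
    intro χ ψ
    simp only [X, AddSubmonoidClass.coe_finset_sum, MulMemClass.coe_mul]
    push_cast
    exact IsIntegral.sum _ fun ξ _ => IsIntegral.sum _ fun ξ' _ => (IsIntegral.mul
      (by simpa using isIntegral_algebraMap (R := ℤ) (A := ℂ) (x := redInt 2 b ξ.1 ξ'.1))
      ((isIntegral_natCast_complex _).mul (isIntegral_natCast_complex _))).mul
      (isIntegral_of_pow_eq_one hk0 (hwpow ξ ξ'))
  obtain ⟨φ₀, hφ₀, hφ₀0⟩ := exists_height_zero hM hB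
  have hPR : P = (((2 : ℝ) ^ d : ℝ) : ℂ) := by rw [hP]; push_cast; ring
  have hnz : ∀ σ : cycloField (2 ^ k) →ₐ[ℚ] ℂ, ∀ χ ∈ B, ∀ ψ ∈ B, blockHeight 2 B (χ : G → ℂ) = 0 ∨
      blockHeight 2 B (ψ : G → ℂ) = 0 → σ (X χ ψ) ≠ 0 := by
    intro σ χ hχ ψ hψ h0
    rw [hσX]
    refine mul_ne_zero (pow_ne_zero _ two_ne_zero) ?_
    rcases h0 with h0 | h0
    · rw [← conj_contrib, Ne, map_eq_zero]
      exact contrib_ne_zero hM (hHσ σ) (hprops σ).1 hind hbd hψ hχ h0
    · exact contrib_ne_zero hM (hHσ σ) (hprops σ).1 hind hbd hχ hψ h0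
  let n : IrrCharacter G → (cycloField (2 ^ k) →ₐ[ℚ] ℂ) → ℝ := fun χ σ =>
    (2 : ℝ) ^ d - (σ (X χ χ)).re
  have hreal : ∀ (σ : cycloField (2 ^ k) →ₐ[ℚ] ℂ) χ, σ (X χ χ) = (((σ (X χ χ)).re : ℝ) : ℂ) := fun σ χ => by
    refine (Complex.conj_eq_iff_re.1 ?_).symm
    rw [hσX, map_mul, conj_contrib, hPR, Complex.conj_ofReal]
  have hrow : ∀ σ : cycloField (2 ^ k) →ₐ[ℚ] ℂ, ∀ χ ∈ B, ∑ ψ ∈ S, ‖σ (X χ ψ)‖ ^ 2 = (2 : ℝ) ^ d * (σ (X χ χ)).re := by
    intro σ χ hχ
    apply Complex.ofReal_injective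
    rw [Complex.ofReal_mul, ← hPR, ← hreal, Complex.ofReal_sum, hσX,
      ← contrib_mul hM (hHσ σ) (hprops σ).1 hind χ χ, ← mul_assoc, mul_sum]
    refine sum_congr rfl fun ψ _ => ?_
    rw [Complex.ofReal_pow, ← Complex.mul_conj', hσX, map_mul, conj_contrib, hPR,
      Complex.conj_ofReal]
    ring
  have hrest : ∀ σ : cycloField (2 ^ k) →ₐ[ℚ] ℂ, ∀ χ ∈ B, ∑ ψ ∈ S.erase χ, ‖σ (X χ ψ)‖ ^ 2 = n χ σ * ((2 : ℝ) ^ d - n χ σ) := by
    intro σ χ hχ
    have h := hrow σ χ hχ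
    rw [← add_sum_erase _ _ (mem_filter.2 ⟨mem_univ χ, hχ⟩ : χ ∈ S)] at h
    rw [hreal σ χ, Complex.norm_real, Real.norm_eq_abs, sq_abs] at h
    simp only [Complex.ofReal_re] at h
    simp only [n]
    linarith [show ((2 : ℝ) ^ d - (σ (X χ χ)).re) * ((2 : ℝ) ^ d - ((2 : ℝ) ^ d - (σ (X χ χ)).re))
      = (2 : ℝ) ^ d * (σ (X χ χ)).re - (σ (X χ χ)).re ^ 2 by ring]
  have hnpos : ∀ σ : cycloField (2 ^ k) →ₐ[ℚ] ℂ, ∀ χ ∈ B, 0 < n χ σ := by
    intro σ χ hχ
    obtain ⟨ψ, hψS, hψne⟩ := exists_mem_ne (lt_of_not_ge hone) χ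
    have hpos : 0 < ∑ ψ ∈ S.erase χ, ‖σ (X χ ψ)‖ ^ 2 := by
      by_cases h0 : blockHeight 2 B (χ : G → ℂ) = 0
      · refine lt_of_lt_of_le ?_ (single_le_sum (fun i _ => sq_nonneg _)
          (mem_erase.2 ⟨hψne, hψS⟩))
        exact pow_pos (norm_pos_iff.2 (hnz σ χ hχ ψ (mem_filter.1 hψS).2 (Or.inl h0))) 2
      · refine lt_of_lt_of_le ?_ (single_le_sum (fun i _ => sq_nonneg _)
          (mem_erase.2 ⟨fun h => h0 (h ▸ hφ₀0), mem_filter.2 ⟨mem_univ φ₀, hφ₀⟩⟩))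
        exact pow_pos (norm_pos_iff.2 (hnz σ χ hχ φ₀ hφ₀ (Or.inr hφ₀0))) 2
    rw [hrest σ χ hχ] at hpos
    rcases mul_pos_iff.1 hpos with h | h
    · exact h.1
    · have : (0 : ℝ) < (2 : ℝ) ^ d := by positivity
      linarith [h.1, h.2]
  -- the averages
  choose ε hε1 hε using fun ξ ξ' => sum_embeddings_root (w ξ ξ') (hwpow ξ ξ')
  set E := (univ : Finset (cycloField (2 ^ k) →ₐ[ℚ] ℂ)).card with hE
  have hEcard : Fintype.card (cycloField (2 ^ k) →ₐ[ℚ] ℂ) = E := card_univ.symm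
  have hE0 : (0 : ℝ) < E := Nat.cast_pos.2 (card_pos.2 ⟨σ₀, mem_univ _⟩)
  have hεsymm : ∀ ξ ξ', ε ξ ξ' = ε ξ' ξ := by
    intro ξ ξ'
    have h := congrArg conj (hε ξ ξ')
    rw [map_sum, map_mul, map_natCast, map_intCast] at h
    simp only [hσw, map_pow, map_mul, Complex.conj_conj] at h
    have h' := hε ξ' ξ
    simp only [hσw] at h'
    rw [sum_congr rfl fun σ _ => by rw [mul_comm (conj (l ξ.1))], h'] at h
    have := mul_left_cancel₀ (Nat.cast_ne_zero.2 (Nat.cast_pos.1 hE0).ne' : (E : ℂ) ≠ 0) h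
    exact_mod_cast this.symm
  let T : IrrCharacter G → ℤ := fun χ => ∑ ξ : b, ∑ ξ' : b,
    redInt 2 b ξ.1 ξ'.1 * ((N χ ξ.1 : ℤ) * (N χ ξ'.1 : ℤ)) * ε ξ ξ'
  let A : IrrCharacter G → ℤ := fun χ => 2 ^ d - T χ
  have hsumX : ∀ χ, (∑ σ : cycloField (2 ^ k) →ₐ[ℚ] ℂ, σ (X χ χ)) = (E : ℂ) * (T χ : ℂ) := by
    intro χ
    simp only [X, T, map_sum, map_mul, map_intCast, map_natCast]
    rw [sum_comm]
    push_cast
    rw [mul_sum]
    refine sum_congr rfl fun ξ _ => ?_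
    rw [sum_comm, mul_sum]
    refine sum_congr rfl fun ξ' _ => ?_
    rw [← mul_sum, hε]
    ring
  have hA : ∀ χ, ∑ σ, n χ σ = (E : ℝ) * (A χ : ℝ) := by
    intro χ
    have h := congrArg Complex.re (hsumX χ)
    rw [Complex.re_sum] at h
    simp only [n, A, sum_sub_distrib, sum_const, ← hE, nsmul_eq_mul]
    rw [h]
    simp
    ring
  -- the parity of the averages
  have hpar : ∀ χ ∈ B, ((2 : ℤ) ∣ A χ ↔ blockHeight 2 B (χ : G → ℂ) ≠ 0) := by
    intro χ hχ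
    have hd1 : (2 : ℤ) ∣ (2 : ℤ) ^ d := dvd_pow_self 2 (hdd ▸ hdpos.ne')
    have e1 : (2 : ℤ) ∣ A χ ↔ (2 : ℤ) ∣ T χ := (dvd_sub_right hd1)
    let U : b → b → ℤ := fun ξ ξ' => redInt 2 b ξ.1 ξ'.1 * ((N χ ξ.1 : ℤ) * (N χ ξ'.1 : ℤ))
    have hU : ∀ ξ ξ', U ξ ξ' = U ξ' ξ := fun ξ ξ' => by simp only [U]; rw [redInt_comm]; ring
    have h1 := two_dvd_sum_sub_diag (fun ξ ξ' => U ξ ξ' * ε ξ ξ')
      fun a b => by rw [hU a b, hεsymm a b]
    have h2 := two_dvd_sum_sub_diag U hU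
    have hdiag : ∀ ξ : b, U ξ ξ * ε ξ ξ = U ξ ξ := fun ξ => by
      rw [hε1 ξ ξ ?_, mul_one]
      refine Subtype.ext ?_
      show l ξ.1 * conj (l ξ.1) = 1
      rw [Complex.mul_conj', Complex.norm_eq_one_of_pow_eq_one (hl _) hk0.ne']
      simp
    simp only [hdiag] at h1
    have e2 : (2 : ℤ) ∣ T χ ↔ (2 : ℤ) ∣ ∑ ξ, ∑ ξ', U ξ ξ' := by
      have h3 := dvd_sub h1 h2
      rw [sub_sub_sub_cancel_right] at h3
      exact dvd_iff_dvd_of_dvd_sub h3
    have h4 : MemLocalIdeal M ((((∑ ξ, ∑ ξ', U ξ ξ' : ℤ)) : ℂ) - P * contrib 2 b (y ^ 1) χ χ) := by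
      rw [hval, Int.cast_sum, ← sum_sub_distrib]
      refine memLocalIdeal_sum fun ξ _ => ?_
      rw [Int.cast_sum, ← sum_sub_distrib]
      refine memLocalIdeal_sum fun ξ' _ => ?_
      have hr : ∀ (z : ℂ), z ^ 2 ^ k = 1 → MemLocalIdeal M (z - 1) := fun z hz => by
        have hi : IsIntegral ℤ z := isIntegral_of_pow_eq_one hk0 hz
        have h5 := res_eq_one_of_pow_eq_one hM
          (z := (⟨z, memLocalRing_of_isIntegral hi⟩ : localRing M)) (n := k)
          (Subtype.ext (by simpa using hz))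
        simpa using res_eq_iff.1 (h5.trans (map_one (res M)).symm)
      have h6 := memLocalIdeal_neg (memLocalIdeal_mul_left
        (intCast_mem (localRing M) (U ξ ξ')) (hr _ (hwpow ξ ξ')))
      convert h6 using 1
      simp only [U, w]
      push_cast
      ring
    rw [e1, e2, ← Nat.cast_two, ← memLocalIdeal_intCast_iff hM, memLocalIdeal_iff_of_cong h4,
      pow_one]
    have hsym := scaled_contrib_height hM hH hy hind hbd hχ hχ
    push_cast at hsym
    rw [← hdd] at hsym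
    constructor
    · intro hI h0
      refine hsym.2.1 ?_ h0
      rwa [h0, pow_zero, div_one]
    · intro h0
      have h7 := memLocalIdeal_mul_right (hsym.2.2 h0)
        (memLocalRing_of_isIntegral (M := M) (z := (2 : ℂ) ^ blockHeight 2 B (χ : G → ℂ))
          (by exact_mod_cast isIntegral_natCast_complex (2 ^ blockHeight 2 B (χ : G → ℂ))))
      rwa [div_mul_cancel₀ _ (pow_ne_zero _ (two_ne_zero : (2 : ℂ) ≠ 0))] at h7
  have hApos : ∀ χ ∈ B, 0 < A χ := by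
    intro χ hχ
    have h : (0 : ℝ) < ∑ σ, n χ σ := sum_pos (fun σ _ => hnpos σ χ hχ)
      ⟨σ₀, mem_univ _⟩
    rw [hA] at h
    exact_mod_cast (mul_pos_iff_of_pos_left hE0).1 h
  -- some height zero average is one
  by_cases hex : ∃ χ ∈ B, blockHeight 2 B (χ : G → ℂ) = 0 ∧ A χ = 1
  · obtain ⟨χ, hχ, h0, hA1⟩ := hex
    have hlow : ∀ ψ ∈ S.erase χ, (E : ℝ) ≤ ∑ σ : cycloField (2 ^ k) →ₐ[ℚ] ℂ, ‖σ (X χ ψ)‖ ^ 2 := by
      intro ψ hψ
      have hψB : ψ ∈ B := (mem_filter.1 (mem_of_mem_erase hψ)).2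
      have hx : X χ ψ ≠ 0 := fun h => hnz σ₀ χ hχ ψ hψB (Or.inl h0)
        (by rw [h, map_zero])
      obtain ⟨m, hm0, hm⟩ := exists_prod_embeddings_eq_int (X χ ψ) (hXint χ ψ) hx
      have h := card_add_log_le_sum (fun σ : cycloField (2 ^ k) →ₐ[ℚ] ℂ => ‖σ (X χ ψ)‖ ^ 2)
        (fun σ => pow_pos (norm_pos_iff.2 ((map_ne_zero σ).2 hx)) 2) one_pos (by
          rw [prod_pow, ← norm_prod, hm, Complex.norm_intCast, sq_abs]
          exact_mod_cast (show (1 : ℤ) ≤ m ^ 2 from sq_pos_of_ne_zero hm0))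
      rwa [hEcard, Real.log_one, add_zero] at h
    have h := sum_le_sum hlow
    rw [sum_const, nsmul_eq_mul, sum_comm, sum_congr rfl fun σ _ => hrest σ χ hχ,
      card_erase_of_mem (mem_filter.2 ⟨mem_univ χ, hχ⟩ : χ ∈ S)] at h
    have hcs : ∑ σ, n χ σ * ((2 : ℝ) ^ d - n χ σ) ≤ (E : ℝ) * ((2 : ℝ) ^ d - 1) := by
      have hs := hA χ
      rw [hA1, Int.cast_one, mul_one] at hs
      have h1 : ∑ σ, n χ σ * ((2 : ℝ) ^ d - n χ σ) ≤
          ∑ σ, (n χ σ * ((2 : ℝ) ^ d - 2) + 1) :=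
        sum_le_sum fun σ _ => by nlinarith [sq_nonneg (n χ σ - 1)]
      rw [sum_add_distrib, ← sum_mul, hs, sum_const, ← hE, nsmul_eq_mul, mul_one] at h1
      linarith [show (E : ℝ) * ((2 : ℝ) ^ d - 2) + (E : ℝ) = (E : ℝ) * ((2 : ℝ) ^ d - 1) by ring]
    have h3 : ((S.card - 1 : ℕ) : ℝ) ≤ (2 : ℝ) ^ d - 1 := by
      have := h.trans hcs
      rw [mul_comm] at this
      exact le_of_mul_le_mul_left this hE0
    rw [Nat.cast_sub (by omega : 1 ≤ S.card), Nat.cast_one, sub_le_sub_iff_right] at h3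
    rw [hcard, ← hdd]
    exact_mod_cast h3
  -- all averages are at least three
  push Not at hex
  have hA3 : ∀ χ ∈ B, 3 ≤ A χ := by
    intro χ hχ
    have hp := hApos χ hχ
    by_cases h0 : blockHeight 2 B (χ : G → ℂ) = 0
    · have hodd : ¬ (2 : ℤ) ∣ A χ := fun h => (hpar χ hχ).1 h h0
      have := hex χ hχ h0
      omega
    have heven := (hpar χ hχ).2 h0
    suffices (2 : ℝ) < (A χ : ℝ) by
      have h2 : (2 : ℤ) < A χ := by exact_mod_cast this
      omega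
    have hh2 := height_add_two_le hM hB hχ h0
    set z : cycloField (2 ^ k) := (2 : cycloField (2 ^ k)) ^ d - X χ χ with hz
    have hσz : ∀ σ : cycloField (2 ^ k) →ₐ[ℚ] ℂ, σ z = ((n χ σ : ℝ) : ℂ) := fun σ => by
      rw [hz, map_sub, map_pow, map_ofNat, hreal σ χ]
      simp only [n]
      push_cast
      ring
    have hzne : z ≠ 0 := fun h => (hnpos σ₀ χ hχ).ne' (by
      have := hσz σ₀
      rw [h, map_zero] at this
      exact_mod_cast this.symm)
    have hzint : IsIntegral ℤ (z : ℂ) := by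
      rw [hz]
      push_cast
      exact (by exact_mod_cast isIntegral_natCast_complex (2 ^ d) :
        IsIntegral ℤ ((2 : ℂ) ^ d)).sub (hXint χ χ)
    obtain ⟨m, hm0, hm⟩ := exists_prod_embeddings_eq_int z hzint hzne
    have hloc : ∀ σ : cycloField (2 ^ k) →ₐ[ℚ] ℂ, MemLocalIdeal M (σ z / 2) := by
      intro σ
      rw [hz, map_sub, map_pow, map_ofNat, hσX, sub_div]
      refine memLocalIdeal_sub ?_ ?_
      · obtain ⟨j, rfl⟩ : ∃ j, d = j + 2 := ⟨d - 2, by omega⟩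
        rw [show (2 : ℂ) ^ (j + 2) / 2 = (2 : ℂ) * (2 ^ j : ℕ) by push_cast; ring]
        exact memLocalIdeal_mul_right (by simpa using memLocalIdeal_p hM) (natCast_mem_localRing _)
      · have h1 := (scaled_contrib_height hM (hHσ σ) (hprops σ).1 hind hbd hχ hχ).2.2 h0
        push_cast at h1
        obtain ⟨j, hj⟩ := Nat.exists_eq_succ_of_ne_zero h0
        rw [← hdd, hj] at h1
        have h2 := memLocalIdeal_mul_left (natCast_mem_localRing (M := M) (2 ^ j)) h1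
        convert h2 using 1
        rw [pow_succ]
        push_cast
        field_simp
        rw [hP]
        ring
    have hE1 : 1 ≤ E := Nat.one_le_iff_ne_zero.2 (Nat.cast_pos.1 hE0).ne'
    have hprodI : MemLocalIdeal M ((m : ℂ) / ((2 : ℕ) : ℂ) ^ E) := by
      rw [← hm, hE, ← prod_const, Nat.cast_ofNat, ← prod_div_distrib,
        ← mul_prod_erase _ _ (mem_univ σ₀)]
      exact memLocalIdeal_mul_right (hloc _)
        (prod_mem (S := (localRing M : Subring ℂ)) fun σ _ => memLocalIdeal_memLocalRing (hloc σ))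
    have hdvd := pow_succ_dvd_of_memLocalIdeal hM hprodI
    have habs : (2 : ℤ) ^ (E + 1) ≤ |m| := Int.le_of_dvd (abs_pos.2 hm0) (by
      rw [dvd_abs]; simpa using hdvd)
    have hprod : (2 : ℝ) ≤ ∏ σ, n χ σ / 2 := by
      rw [prod_div_distrib, prod_const, ← hE, le_div_iff₀ (by positivity)]
      have h1 : (∏ σ, n χ σ) = (m : ℝ) := by
        apply Complex.ofReal_injective
        rw [Complex.ofReal_prod, ← prod_congr rfl fun σ _ => hσz σ, hm, Complex.ofReal_intCast]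
      have h2 : (0 : ℝ) < ∏ σ, n χ σ := prod_pos fun σ _ => hnpos σ χ hχ
      rw [h1] at h2 ⊢
      rw [← pow_succ']
      have h3 : (0 : ℤ) < m := by exact_mod_cast h2
      rw [abs_of_pos h3] at habs
      exact_mod_cast habs
    have h := card_add_log_le_sum (fun σ => n χ σ / 2)
      (fun σ => half_pos (hnpos σ χ hχ)) two_pos hprod
    rw [hEcard, ← sum_div, hA] at h
    have hlog : (0 : ℝ) < Real.log 2 := Real.log_pos one_lt_two
    have h4 : (E : ℝ) * 2 < (E : ℝ) * (A χ : ℝ) := by linarith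
    exact (mul_lt_mul_iff_right₀ hE0).1 h4
  -- the trace
  have htot : ∑ χ ∈ S, (A χ : ℤ) = 2 ^ d * ((S.card : ℤ) - blockRank 2 b) := by
    have hσsum : ∀ σ : cycloField (2 ^ k) →ₐ[ℚ] ℂ, ∑ χ ∈ S, n χ σ = (2 : ℝ) ^ d * ((S.card : ℝ) - blockRank 2 b) := by
      intro σ
      have h1 : ∑ χ ∈ S, σ (X χ χ) = P * (blockRank 2 b : ℂ) := by
        rw [← sum_contrib_diag hM (hHσ σ) (hprops σ).1 hind, mul_sum]
        exact sum_congr rfl fun χ _ => hσX σ χ χ
      have h2 := congrArg Complex.re h1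
      rw [Complex.re_sum, hPR] at h2
      simp only [n, sum_sub_distrib, sum_const, nsmul_eq_mul]
      rw [h2, ← Complex.ofReal_natCast, ← Complex.ofReal_mul, Complex.ofReal_re]
      ring
    have h := sum_congr (s₁ := (univ : Finset (cycloField (2 ^ k) →ₐ[ℚ] ℂ))) rfl
      fun σ _ => hσsum σ
    rw [sum_comm, sum_congr rfl fun χ _ => hA χ, ← mul_sum, sum_const, ← hE, nsmul_eq_mul] at h
    have := mul_left_cancel₀ hE0.ne' h
    exact_mod_cast this
  have h3 : 3 * (S.card : ℤ) ≤ 2 ^ d * ((S.card : ℤ) - blockRank 2 b) := by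
    rw [← htot]
    have := sum_le_sum fun χ (hχ : χ ∈ S) => hA3 χ (mem_filter.1 hχ).2
    rw [sum_const, nsmul_eq_mul] at this
    linarith
  rw [hcard] at hle
  have h4 : (S.card : ℤ) - blockRank 2 b ≤ 3 := by
    have : (S.card : ℤ) ≤ (blockRank 2 b + 3 : ℕ) := by exact_mod_cast hle
    push_cast at this
    linarith
  have h5 : (S.card : ℤ) ≤ 2 ^ d := by
    nlinarith [mul_le_mul_of_nonneg_left h4 (pow_nonneg (show (0 : ℤ) ≤ 2 by norm_num) d)]
  rw [hcard, ← hdd]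
  exact_mod_cast h5

end CfsgLib.BlockB
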