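import Cfsg.Agent.Blocks.CentralDefect
import Cfsg.Agent.Blocks.Cover
import Cfsg.Agent.Char.Projective
import Cfsg.Agent.Char.CliffordCorrespondence
import Cfsg.Agent.BrauerPairs.LocalBridge

/-!
# Characters of defect zero of a quotient over a self-centralising local block
-/

namespace CfsgLib.BlockB

open Cfsg Finset CfsgLib.Block CfsgLib.Block.Chr CfsgLib.Char

set_option linter.unusedSectionVars false
set_option linter.style.haveILetI false

universe u

variable {G : Type u} [Group G] [Fintype G]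

/-- Multiplicity times orbit length divides the index. -/
theorem mult_mul_index_dvd {C : Subgroup G} [C.Normal] [Fintype C] {χ : G → ℂ}
    (hχ : Cfsg.IsIrrCharacter G χ) {θ : C → ℂ} (hθ : Cfsg.IsIrrCharacter C θ) {m : ℕ}
    (hm : Cfsg.classInner (fun n : C => χ n) θ = m) (hm0 : m ≠ 0) :
    m * (inertia (G := G) θ).index ∣ C.index := by
  classical
  set T := inertia (G := G) θ with hT
  have hCT : C ≤ T := le_inertia (IsIrrCharacter.isClassFunction hθ)
  haveI := Fintype.ofFinite T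
  haveI := Fintype.ofFinite (C.subgroupOf T)
  haveI : (C.subgroupOf T).Normal := Subgroup.Normal.subgroupOf ‹_› _
  obtain ⟨ψ, hψ, -, hψm⟩ := exists_indFun_eq_of_inertia hCT hθ rfl hχ
    (by rw [hm]; exact_mod_cast hm0)
  have hd := dvd_index_of_invariant (N := C.subgroupOf T) hψ (isIrrCharacter_pullBack hCT hθ)
    (fun i => funext fun n => ?_) (e := m) ?_ hm0
  · have hC : C.relIndex T * T.index = C.index := Subgroup.relIndex_mul_index hCT
    rw [← hC]
    exact Nat.mul_dvd_mul_right hd _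
  · have h := (mem_inertia_iff θ (i : G)).1 i.2 ⟨((n : T) : G), Subgroup.mem_subgroupOf.1 n.2⟩
    exact h
  · rw [← hm, ← hψm, ← classInner_pullBack hCT]
    rfl

theorem isIrrCharacter_restrict_of_sup {Q C : Subgroup G} [Q.Normal] [C.Normal]
    {η : IrrCharacter ↥(Q ⊔ C)} (hker : ∀ q : ↥(Q ⊔ C), (q : G) ∈ Q →
      (η : ↥(Q ⊔ C) → ℂ) q = (η : ↥(Q ⊔ C) → ℂ) 1) :
    Cfsg.IsIrrCharacter C fun c => (η : ↥(Q ⊔ C) → ℂ) (Subgroup.inclusion le_sup_right c) := by
  classical
  haveI := Fintype.ofFinite ↥(Q ⊔ C)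
  haveI : (Q.subgroupOf (Q ⊔ C)).Normal := Subgroup.Normal.subgroupOf ‹_› _
  obtain ⟨φ, hφ⟩ := exists_quotient_irr (Q.subgroupOf (Q ⊔ C)) η
    fun q hq => hker q (Subgroup.mem_subgroupOf.1 hq)
  let f : C →* ↥(Q ⊔ C) ⧸ Q.subgroupOf (Q ⊔ C) :=
    (QuotientGroup.mk' _).comp (Subgroup.inclusion le_sup_right)
  have hf : Function.Surjective f := by
    intro y
    obtain ⟨⟨n, hn⟩, rfl⟩ := QuotientGroup.mk_surjective y
    obtain ⟨q, hq, c, hc, rfl⟩ := Subgroup.mem_sup_of_normal_left.1 hn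
    refine ⟨⟨c, hc⟩, QuotientGroup.eq.2 ?_⟩
    show c⁻¹ * (q * c) ∈ Q
    simpa [mul_assoc] using Subgroup.Normal.conj_mem ‹_› q hq c⁻¹
  have he : (fun c : C => (η : ↥(Q ⊔ C) → ℂ) (Subgroup.inclusion le_sup_right c)) =
      fun c => (φ : _ → ℂ) (f c) := funext fun c => hφ _
  rw [he]
  exact IsIrrCharacter.comp_surjective φ.2 f hf

theorem card_sup_mul {Q C : Subgroup G} [Q.Normal] :
    Nat.card ↥(Q ⊔ C) * Nat.card ↥(Q ⊓ C) = Nat.card Q * Nat.card C := by
  have h1 : Nat.card Q * Q.relIndex (Q ⊔ C) = Nat.card ↥(Q ⊔ C) := by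
    rw [Subgroup.relIndex, ← Nat.card_congr (Subgroup.subgroupOfEquivOfLe le_sup_left).toEquiv]
    exact (Q.subgroupOf (Q ⊔ C)).card_mul_index
  have h2 : Nat.card ↥(Q ⊓ C) * Q.relIndex C = Nat.card C := by
    rw [← Subgroup.inf_relIndex_right, Subgroup.relIndex,
      ← Nat.card_congr (Subgroup.subgroupOfEquivOfLe inf_le_right).toEquiv]
    exact ((Q ⊓ C).subgroupOf C).card_mul_index
  rw [← h1, ← h2, sup_comm, Subgroup.relIndex_sup_right]
  ring

/-- Under a character of defect zero of `G ⧸ Q` lie characters of defect zero of `C ⧸ Q ⊓ C`. -/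
theorem exists_constituent_of_weight {p : ℕ} (hp : p.Prime) {Q C : Subgroup G} [Q.Normal]
    [C.Normal] [Fintype C] {χ : IrrCharacter G}
    (hker : ∀ q ∈ Q, (χ : G → ℂ) q = (χ : G → ℂ) 1)
    (hdeg : (charDegree (χ : G → ℂ)).factorization p + (Nat.card Q).factorization p =
      (Nat.card G).factorization p) :
    ∃ θ : IrrCharacter C, classInner (fun c : C => (χ : G → ℂ) c) (θ : C → ℂ) ≠ 0 ∧
      (∀ c : C, (c : G) ∈ Q → (θ : C → ℂ) c = (θ : C → ℂ) 1) ∧
      (charDegree (θ : C → ℂ)).factorization p + (Nat.card ↥(Q ⊓ C)).factorization p =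
        (Nat.card C).factorization p := by
  classical
  haveI : Fintype ↥(Q ⊔ C) := Fintype.ofFinite _
  haveI := Fintype.ofFinite Q
  obtain ⟨θ, hθ, hθc⟩ := exists_constituent_restrict (N := C) χ.2
  -- a character of `Q ⊔ C` between them
  have hres := IsCharacter.restrict (IsIrrCharacter.isCharacter χ.2) (Q ⊔ C)
  have hle : C ≤ Q ⊔ C := le_sup_right
  have h1 : Cfsg.classInner (fun c : C => (χ : G → ℂ) c) θ = ∑ ψ ∈ irrFinset ↥(Q ⊔ C),
      Cfsg.classInner (fun t : ↥(Q ⊔ C) => (χ : G → ℂ) t) ψ *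
        Cfsg.classInner (fun c : C => ψ (Subgroup.inclusion hle c)) θ := by
    have h2 : (fun c : C => (χ : G → ℂ) c) = ∑ ψ ∈ irrFinset ↥(Q ⊔ C),
        Cfsg.classInner (fun t : ↥(Q ⊔ C) => (χ : G → ℂ) t) ψ •
          (fun c : C => ψ (Subgroup.inclusion hle c)) := by
      funext c
      have := congrFun (eq_sum_irr (IsCharacter.isClassFunction hres)) (Subgroup.inclusion hle c)
      simpa [Finset.sum_apply] using this
    rw [h2, classInner_sum_left]
    simp_rw [classInner_smul_left]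
  obtain ⟨η, hη, hne⟩ := Finset.exists_ne_zero_of_sum_ne_zero (h1 ▸ hθc)
  rw [mem_irrFinset] at hη
  obtain ⟨hne1, hne2⟩ := mul_ne_zero_iff.1 hne
  haveI : (Q.subgroupOf (Q ⊔ C)).Normal := Subgroup.Normal.subgroupOf ‹_› _
  haveI := Fintype.ofFinite (Q.subgroupOf (Q ⊔ C))
  have hηker : ∀ q : ↥(Q ⊔ C), (q : G) ∈ Q → η q = η 1 := by
    intro q hq
    refine (sum_eq_zero_or_ker (⟨η, hη⟩ : IrrCharacter ↥(Q ⊔ C))
      (Q.subgroupOf (Q ⊔ C))).resolve_left (fun h0 => ?_) q (Subgroup.mem_subgroupOf.2 hq)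
    have hconj : ∀ ψ ∈ conjOrbit (G := G) η,
        ∑ q ∈ univ.filter (· ∈ Q.subgroupOf (Q ⊔ C)), ψ q = 0 := by
      intro ψ hψ
      obtain ⟨g, rfl⟩ := mem_conjOrbit.1 hψ
      refine Eq.trans ?_ h0
      have hiff : ∀ (x : G) (n : G), x * n * x⁻¹ ∈ Q ↔ n ∈ Q := fun x n =>
        ⟨fun h => by simpa [mul_assoc] using Subgroup.Normal.conj_mem ‹Q.Normal› _ h x⁻¹,
          fun h => Subgroup.Normal.conj_mem ‹Q.Normal› _ h x⟩
      refine sum_nbij' (fun n => ⟨g * n * g⁻¹, Subgroup.Normal.conj_mem inferInstance _ n.2 g⟩)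
        (fun n => ⟨g⁻¹ * n * g⁻¹⁻¹, Subgroup.Normal.conj_mem inferInstance _ n.2 g⁻¹⟩)
        (fun n hn => ?_) (fun n hn => ?_) (fun n _ => ?_) (fun n _ => ?_) (fun n _ => rfl)
      · simp only [mem_filter, mem_univ, true_and, Subgroup.mem_subgroupOf] at hn ⊢
        exact (hiff _ _).2 hn
      · simp only [mem_filter, mem_univ, true_and, Subgroup.mem_subgroupOf] at hn ⊢
        exact (hiff _ _).2 hn
      · exact Subtype.ext (by simp [mul_assoc])
      · exact Subtype.ext (by simp [mul_assoc])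
    have hzero : ∑ q ∈ univ.filter (· ∈ Q.subgroupOf (Q ⊔ C)),
        (fun n : ↥(Q ⊔ C) => (χ : G → ℂ) n) q = 0 := by
      rw [restrict_eq_smul_sum χ.2 hη hne1]
      simp only [Pi.smul_apply, Finset.sum_apply, smul_eq_mul, ← mul_sum]
      rw [sum_comm, sum_eq_zero hconj, mul_zero]
    rw [sum_congr rfl (g := fun _ : ↥(Q ⊔ C) => (χ : G → ℂ) 1) fun n hn =>
        hker ((n : ↥(Q ⊔ C)) : G) (Subgroup.mem_subgroupOf.1 (mem_filter.1 hn).2),
      sum_const, nsmul_eq_mul] at hzero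
    rcases mul_eq_zero.1 hzero with h | h
    · exact Nat.cast_ne_zero.2 (card_ne_zero_of_mem
        (mem_filter.2 ⟨mem_univ (1 : ↥(Q ⊔ C)), (Q.subgroupOf (Q ⊔ C)).one_mem⟩)) h
    · exact irr_one_ne_zero χ h
  have hηθ : (fun c : C => η (Subgroup.inclusion hle c)) = θ := by
    by_contra hh
    exact hne2 (IsIrrCharacter.classInner_of_ne
      (isIrrCharacter_restrict_of_sup (η := ⟨η, hη⟩) hηker) hθ hh)
  have hθker : ∀ c : C, (c : G) ∈ Q → θ c = θ 1 := fun c hc => by
    rw [← hηθ]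
    simp only [map_one]
    exact hηker _ hc
  refine ⟨⟨θ, hθ⟩, hθc, hθker, ?_⟩
  -- the two bounds on the degree
  have hd1 : charDegree θ = charDegree η := by
    rw [charDegree, charDegree, ← hηθ]
    simp
  obtain ⟨m, hm⟩ := IsCharacter.exists_classInner_eq_natCast hres hη
  have hm0 : m ≠ 0 := fun h => hne1 (by rw [hm, h, Nat.cast_zero])
  have hdvd := mult_mul_index_dvd χ.2 hη hm hm0
  have hχ1 : charDegree (χ : G → ℂ) =
      m * (inertia (G := G) η).index * charDegree η := by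
    have h := degree_eq_mul χ.2 hη hne1
    rw [hm, (irr_one χ).1] at h
    have h2 : η 1 = (charDegree η : ℂ) := (irr_one (⟨η, hη⟩ : IrrCharacter ↥(Q ⊔ C))).1
    rw [h2] at h
    exact_mod_cast h
  have hη0 : charDegree η ≠ 0 := (irr_one (⟨η, hη⟩ : IrrCharacter ↥(Q ⊔ C))).2.ne'
  have hmi : m * (inertia (G := G) η).index ≠ 0 :=
    Nat.mul_ne_zero hm0 Subgroup.index_ne_zero_of_finite
  have hlow := (Nat.factorization_le_iff_dvd hmi Subgroup.index_ne_zero_of_finite).2 hdvd p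
  have hcard : (Nat.card G).factorization p = (Nat.card ↥(Q ⊔ C)).factorization p +
      (Q ⊔ C).index.factorization p := by
    rw [← Subgroup.card_mul_index (Q ⊔ C),
      Nat.factorization_mul Nat.card_pos.ne' Subgroup.index_ne_zero_of_finite, Finsupp.add_apply]
  have hprod := congrArg (fun n : ℕ => n.factorization p) (card_sup_mul (Q := Q) (C := C))
  simp only [Nat.factorization_mul Nat.card_pos.ne' Nat.card_pos.ne', Finsupp.add_apply] at hprod
  rw [hχ1, Nat.factorization_mul hmi hη0, Finsupp.add_apply, ← hd1] at hdeg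
  -- upper bound from the quotient
  haveI : ((Q ⊓ C).subgroupOf C).Normal := Subgroup.Normal.subgroupOf inferInstance _
  haveI := Fintype.ofFinite (C ⧸ (Q ⊓ C).subgroupOf C)
  obtain ⟨φ, hφ⟩ := exists_quotient_irr ((Q ⊓ C).subgroupOf C) (⟨θ, hθ⟩ : IrrCharacter C)
    fun c hc => hθker c (Subgroup.mem_subgroupOf.1 hc).1
  have hup : (charDegree θ).factorization p ≤
      ((Q ⊓ C).subgroupOf C).index.factorization p := by
    have h : charDegree θ = charDegree (φ : C ⧸ (Q ⊓ C).subgroupOf C → ℂ) := by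
      have h1 := hφ 1
      change θ 1 = _ at h1
      rw [charDegree, charDegree, h1]
      rfl
    refine (Nat.factorization_le_iff_dvd (irr_one (⟨θ, hθ⟩ : IrrCharacter C)).2.ne'
      Subgroup.index_ne_zero_of_finite).2 ?_ p
    rw [h, Subgroup.index_eq_card]
    exact charDegree_dvd_card φ
  have hC : (Nat.card C).factorization p = (Nat.card ↥(Q ⊓ C)).factorization p +
      ((Q ⊓ C).subgroupOf C).index.factorization p := by
    rw [← Subgroup.card_mul_index ((Q ⊓ C).subgroupOf C),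
      Nat.factorization_mul Nat.card_pos.ne' Subgroup.index_ne_zero_of_finite, Finsupp.add_apply,
      Nat.card_congr (Subgroup.subgroupOfEquivOfLe inf_le_right).toEquiv]
  show (charDegree θ).factorization p + _ = _
  omega

/-- A normal `p`-subgroup lies in the kernel part of a weight. -/
theorem le_of_weight {p : ℕ} (hp : p.Prime) {Q R : Subgroup G} [Q.Normal] [R.Normal]
    (hQp : IsPGroup p Q) (hRp : IsPGroup p R) {χ : IrrCharacter G}
    (hker : ∀ q ∈ Q, (χ : G → ℂ) q = (χ : G → ℂ) 1)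
    (hdeg : (charDegree (χ : G → ℂ)).factorization p + (Nat.card Q).factorization p =
      (Nat.card G).factorization p) : R ≤ Q := by
  classical
  haveI := Fact.mk hp
  obtain ⟨φ, hφ⟩ := exists_quotient_irr Q χ hker
  haveI := Fintype.ofFinite (G ⧸ Q)
  have hd : charDegree (φ : G ⧸ Q → ℂ) = charDegree (χ : G → ℂ) := by
    unfold Cfsg.charDegree
    rw [hφ 1]
    rfl
  have hcard : (Nat.card G).factorization p =
      (Nat.card Q).factorization p + (Nat.card (G ⧸ Q)).factorization p := by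
    rw [← Subgroup.card_mul_index Q, Nat.factorization_mul Nat.card_pos.ne'
      Subgroup.index_ne_zero_of_finite, Finsupp.add_apply, Subgroup.index_eq_card]
  have hdz : p ^ (Nat.card (G ⧸ Q)).factorization p ∣ charDegree (φ : G ⧸ Q → ℂ) := by
    rw [hd, hp.pow_dvd_iff_le_factorization (irr_one χ).2.ne']
    omega
  set U := R ⊔ Q
  have hU : IsPGroup p U := hRp.to_sup_of_normal_right hQp
  have hvan : ∀ g ∈ U, g ∉ Q → (χ : G → ℂ) g = 0 := by
    intro g hg hgQ
    rw [hφ g]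
    refine eq_zero_of_defectZero hp φ hdz ?_
    obtain ⟨j, hj⟩ := (hU.map (QuotientGroup.mk' Q)).exists_card_eq
    obtain ⟨i, -, hi⟩ := (Nat.dvd_prime_pow hp).1 (hj ▸ Subgroup.orderOf_dvd_natCard _
      (show (g : G ⧸ Q) ∈ U.map (QuotientGroup.mk' Q) from ⟨g, hg, rfl⟩))
    rcases i with _ | i
    · rw [pow_zero, orderOf_eq_one_iff, QuotientGroup.eq_one_iff] at hi
      exact absurd hi hgQ
    · exact hi ▸ dvd_pow_self p i.succ_ne_zero
  haveI : U.Normal := Subgroup.sup_normal R Q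
  have hsum : ∑ n ∈ univ.filter (· ∈ U), (χ : G → ℂ) n =
      ∑ n ∈ univ.filter (· ∈ Q), (χ : G → ℂ) n := by
    symm
    refine sum_subset (fun n hn => ?_) fun n hn hnQ => hvan n (mem_filter.1 hn).2 ?_
    · simp only [mem_filter, mem_univ, true_and] at hn ⊢
      exact Subgroup.mem_sup_right hn
    · exact fun h => hnQ (mem_filter.2 ⟨mem_univ _, h⟩)
  have hne : ∑ n ∈ univ.filter (· ∈ U), (χ : G → ℂ) n ≠ 0 := by
    rw [hsum, sum_congr rfl fun n hn => hker n (mem_filter.1 hn).2, sum_const, nsmul_eq_mul]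
    exact mul_ne_zero (Nat.cast_ne_zero.2 (card_ne_zero_of_mem
      (mem_filter.2 ⟨mem_univ (1 : G), Q.one_mem⟩))) (irr_one_ne_zero χ)
  have hkerU := (sum_eq_zero_or_ker χ U).resolve_left hne
  intro r hr
  by_contra hrQ
  exact irr_one_ne_zero χ ((hkerU r (Subgroup.mem_sup_left hr)).symm.trans
    (hvan r (Subgroup.mem_sup_left hr) hrQ))

end CfsgLib.BlockB
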