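import Cfsg.Agent.BlocksB.ThreeDefect
import Cfsg.Agent.BlocksB.SubsectionUnit
import Cfsg.Agent.BlocksB.RamifiedDiv

/-!
# Averaged contributions of a `2`-subsection

The scaled contributions at the powers of a `2`-element, their averages, and the bounds on the
number of characters of each height.
-/

namespace CfsgLib.BlockB

open Finset Cfsg CfsgLib.Block CfsgLib.Block.Chr CfsgLib.Char
open scoped ComplexConjugate

set_option linter.unusedSectionVars false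
set_option linter.style.haveILetI false

universe u

variable {G : Type u} [Group G] [Fintype G] {M : Ideal AlgInt} [M.IsPrime] [Fact (Nat.Prime 2)]
  {H : Subgroup G} [Fintype H] {y : G} {b : Set (IrrCharacter H)} {B : Set (IrrCharacter G)}

/-- The conjugates `m` of the scaled contributions of `(y, b)` and the averages `T` of the
diagonal ones. -/
structure TwoData (M : Ideal AlgInt) (b : Set (IrrCharacter H)) (B : Set (IrrCharacter G)) where
  ι : Type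
  fint : Fintype ι
  nonempty : Nonempty ι
  m : ι → IrrCharacter G → IrrCharacter G → ℂ
  T : IrrCharacter G → ℤ
  conj_m : ∀ i χ ψ, conj (m i χ ψ) = m i ψ χ
  row : ∀ i, ∀ χ : IrrCharacter G, ∀ S : Finset (IrrCharacter G), (∀ ψ, ψ ∈ S ↔ ψ ∈ B) →
    ∑ ψ ∈ S, m i χ ψ * m i ψ χ = (2 : ℂ) ^ blockDefect 2 b * m i χ χ
  trace : ∀ i, ∀ S : Finset (IrrCharacter G), (∀ ψ, ψ ∈ S ↔ ψ ∈ B) →
    ∑ χ ∈ S, m i χ χ = (2 : ℂ) ^ blockDefect 2 b * (blockRank 2 b : ℂ)
  avg : ∀ χ, ∑ i, m i χ χ = (Fintype.card ι : ℂ) * (T χ : ℂ)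
  int : ∀ χ ψ, ∃ n : ℤ, ∏ i, m i χ ψ = (n : ℂ)
  odd : ∀ χ ∈ B, blockHeight 2 B (χ : G → ℂ) = 0 → ¬ (2 : ℤ) ∣ T χ
  unit : ∀ i, ∀ χ ∈ B, ∀ ψ ∈ B, blockHeight 2 B (χ : G → ℂ) = 0 →
    blockHeight 2 B (ψ : G → ℂ) = 0 → ¬ MemLocalIdeal M (m i χ ψ)
  integral : ∀ i χ ψ, MemLocalRing M (m i χ ψ)
  major : blockDefect 2 b = blockDefect 2 B → ∀ i, ∀ χ ∈ B, ∀ ψ ∈ B,
    MemLocalRing M (m i χ ψ / (2 : ℂ) ^ blockHeight 2 B (χ : G → ℂ)) ∧
    (blockHeight 2 B (ψ : G → ℂ) = 0 → m i χ ψ ≠ 0) ∧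
    (blockHeight 2 B (ψ : G → ℂ) ≠ 0 →
      MemLocalIdeal M (m i χ ψ / (2 : ℂ) ^ blockHeight 2 B (χ : G → ℂ)))
  dvd : blockDefect 2 b = blockDefect 2 B → ∀ χ ∈ B,
    (2 : ℤ) ^ blockHeight 2 B (χ : G → ℂ) ∣ T χ

attribute [instance] TwoData.fint TwoData.nonempty

theorem exists_twoData (hM : IsPModular 2 M) (hH : H = Subgroup.centralizer ({y} : Set G))
    {k : ℕ} (hy : orderOf y = 2 ^ k) (hind : IsInducedBlock M H b B) :
    Nonempty (TwoData M b B) := by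
  classical
  letI := irrFintype (G := G)
  letI := irrFintype (G := H)
  haveI : Fintype b := Fintype.ofFinite b
  have hk0 : 0 < 2 ^ k := pow_pos two_pos k
  set N' := 2 ^ (k + 1)
  have hN0 : 0 < N' := pow_pos two_pos _
  have hdvdN : 2 ^ k ∣ N' := pow_dvd_pow 2 k.le_succ
  haveI := finiteDimensional_cycloField hN0
  set P0 : ℂ := (2 : ℂ) ^ blockDefect 2 b
  have hyH : y ∈ H := by rw [hH, Subgroup.mem_centralizer_singleton_iff]
  have hsc := fun ξ : IrrCharacter H => exists_section_scalar (p := 2) hH hy ξ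
  choose l hl hlscal using hsc
  choose N hN using fun (χ : IrrCharacter G) (ξ : IrrCharacter H) => exists_restr_mult χ ξ
  have hval : ∀ (e : ℕ) (χ ψ : IrrCharacter G), P0 * contrib 2 b (y ^ e) χ ψ =
      ∑ ξ : b, ∑ ξ' : b, (redInt 2 b ξ.1 ξ'.1 : ℂ) * ((N χ ξ.1 : ℂ) * (N ψ ξ'.1 : ℂ)) *
        (l ξ.1 * conj (l ξ'.1)) ^ e := by
    intro e χ ψ
    rw [contrib_eq_sum hM hind.1, mul_sum]
    refine sum_congr rfl fun ξ _ => ?_
    rw [mul_sum]
    refine sum_congr rfl fun ξ' _ => ?_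
    rw [classInner_secFun_pow hyH (fun ζ => ⟨l ζ, fun c => hlscal ζ _ rfl c⟩)
        (fun c => hlscal ξ.1 _ rfl c),
      classInner_secFun_pow hyH (fun ζ => ⟨l ζ, fun c => hlscal ζ _ rfl c⟩)
        (fun c => hlscal ξ'.1 _ rfl c), hN, hN, map_mul, map_pow, map_natCast,
      redInt_eq_regMat hM hind.1]
    simp only [P0]
    push_cast
    ring
  set ζ : ℂ := Complex.exp (2 * Real.pi * Complex.I / N')
  have hζ : IsPrimitiveRoot ζ N' := Complex.isPrimitiveRoot_exp N' hN0.ne'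
  haveI : NeZero N' := ⟨hN0.ne'⟩
  have hwpow : ∀ ξ ξ', (l ξ * conj (l ξ')) ^ N' = 1 := fun ξ ξ' => by
    obtain ⟨c, hc⟩ := hdvdN
    rw [hc, pow_mul, mul_pow, ← map_pow, hl, hl, map_one, one_mul, one_pow]
  choose j _ hj using fun ξ ξ' : b => hζ.eq_pow_of_pow_eq_one (hwpow ξ.1 ξ'.1)
  let Z : cycloField N' := ⟨ζ, root_mem_cycloField hζ.pow_eq_one⟩
  choose ε hε1 hε using fun ξ ξ' : b =>
    sum_embeddings_root (k := k + 1) (Z ^ j ξ ξ') (by
      show (ζ ^ j ξ ξ') ^ N' = 1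
      rw [hj]; exact hwpow _ _)
  choose e he hσroot using fun σ : cycloField N' →ₐ[ℚ] ℂ => exists_embedding_pow hN0 σ
  have hprops := fun σ => centralizer_pow_eq (p := 2) hy ((he σ).coprime_dvd_right hdvdN)
  have hHσ : ∀ σ : cycloField N' →ₐ[ℚ] ℂ, H = Subgroup.centralizer ({y ^ e σ} : Set G) := fun σ => by
    rw [(hprops σ).2, hH]
  let U : IrrCharacter G → IrrCharacter G → b → b → ℤ := fun χ ψ ξ ξ' =>
    redInt 2 b ξ.1 ξ'.1 * ((N χ ξ.1 : ℤ) * (N ψ ξ'.1 : ℤ))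
  let X : IrrCharacter G → IrrCharacter G → cycloField N' := fun χ ψ =>
    ∑ ξ : b, ∑ ξ' : b, (U χ ψ ξ ξ' : cycloField N') * Z ^ j ξ ξ'
  have hσZ : ∀ σ : cycloField N' →ₐ[ℚ] ℂ, σ Z = ζ ^ e σ := fun σ => hσroot σ ζ hζ.pow_eq_one
  have hσX : ∀ (σ : cycloField N' →ₐ[ℚ] ℂ) χ ψ, σ (X χ ψ) = P0 * contrib 2 b (y ^ e σ) χ ψ := by
    intro σ χ ψ
    rw [hval]
    simp only [X, U, map_sum, map_mul, map_intCast, map_pow, hσZ, ← hj, ← pow_mul]
    refine sum_congr rfl fun ξ _ => sum_congr rfl fun ξ' _ => ?_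
    push_cast
    ring
  let T : IrrCharacter G → ℤ := fun χ => ∑ ξ : b, ∑ ξ' : b, U χ χ ξ ξ' * ε ξ ξ'
  set E := (univ : Finset (cycloField N' →ₐ[ℚ] ℂ)).card with hE
  have hsumX : ∀ χ, (∑ σ : cycloField N' →ₐ[ℚ] ℂ, σ (X χ χ)) = (E : ℂ) * (T χ : ℂ) := by
    intro χ
    simp only [X, T, map_sum, map_mul, map_intCast]
    rw [sum_comm]
    push_cast
    rw [mul_sum]
    refine sum_congr rfl fun ξ _ => ?_
    rw [sum_comm, mul_sum]
    refine sum_congr rfl fun ξ' _ => ?_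
    rw [← mul_sum, hε]
    ring
  have hXint : ∀ χ ψ, IsIntegral ℤ (X χ ψ : ℂ) := by
    intro χ ψ
    simp only [X, AddSubmonoidClass.coe_finset_sum, MulMemClass.coe_mul, SubmonoidClass.coe_pow]
    push_cast
    exact IsIntegral.sum _ fun ξ _ => IsIntegral.sum _ fun ξ' _ => IsIntegral.mul
      (by simpa using isIntegral_algebraMap (R := ℤ) (A := ℂ) (x := U χ ψ ξ ξ'))
      ((isIntegral_of_pow_eq_one hN0 hζ.pow_eq_one).pow _)
  refine ⟨⟨cycloField N' →ₐ[ℚ] ℂ, inferInstance, ⟨IntermediateField.val _⟩, fun σ χ ψ => σ (X χ ψ),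
    T, fun σ χ ψ => ?_, fun σ χ S hS => ?_, fun σ S hS => ?_, fun χ => ?_, fun χ ψ => ?_,
    fun χ hχ h0 => ?_, fun σ χ hχ ψ hψ h0 h0' => ?_, fun σ χ ψ => ?_,
    fun hbd σ χ hχ ψ hψ => ?_, fun hbd χ hχ => ?_⟩⟩
  · simp only [hσX, map_mul, conj_contrib]
    congr 1
    simp [P0, map_ofNat]
  · simp only [hσX]
    rw [show S = univ.filter (· ∈ B) from Finset.ext fun ψ => by simp [hS],
      ← contrib_mul hM (hHσ σ) (hprops σ).1 hind χ χ, mul_sum, mul_sum]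
    exact sum_congr rfl fun ψ _ => by ring
  · simp only [hσX]
    rw [show S = univ.filter (· ∈ B) from Finset.ext fun ψ => by simp [hS], ← mul_sum,
      sum_contrib_diag hM (hHσ σ) (hprops σ).1 hind]
  · rw [hsumX, hE, card_univ]
  · rcases eq_or_ne (X χ ψ) 0 with h0 | h0
    · refine ⟨0, ?_⟩
      rw [Int.cast_zero]
      exact prod_eq_zero (mem_univ (IntermediateField.val _)) (show ((X χ ψ : cycloField N') : ℂ) = 0 by rw [h0]; rfl)
    · obtain ⟨n, -, hn⟩ := exists_prod_embeddings_eq_int (X χ ψ) (hXint χ ψ) h0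
      exact ⟨n, hn⟩
  · -- parity
    intro hdvd
    have hU : ∀ ξ ξ', U χ χ ξ ξ' = U χ χ ξ' ξ := fun ξ ξ' => by
      simp only [U]; rw [redInt_comm]; ring
    have hεsymm : ∀ ξ ξ', ε ξ ξ' = ε ξ' ξ := by
      intro ξ ξ'
      have h := congrArg conj (hε ξ ξ')
      rw [map_sum, map_mul, map_natCast, map_intCast] at h
      simp only [map_pow, hσZ, ← pow_mul] at h
      have h' := hε ξ' ξ
      simp only [map_pow, hσZ, ← pow_mul] at h'
      have hc : ∀ σ : cycloField N' →ₐ[ℚ] ℂ,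
          conj ζ ^ (e σ * j ξ ξ') = ζ ^ (e σ * j ξ' ξ) := fun σ => by
        rw [← map_pow, mul_comm, pow_mul, mul_comm (e σ), pow_mul, map_pow, hj, hj]
        simp [mul_comm]
      rw [sum_congr rfl fun σ _ => hc σ, h'] at h
      have hE0 : (univ : Finset (cycloField N' →ₐ[ℚ] ℂ)).card ≠ 0 :=
        (card_pos.2 ⟨IntermediateField.val _, mem_univ _⟩).ne'
      have := mul_left_cancel₀ (Nat.cast_ne_zero.2 hE0 : (_ : ℂ) ≠ 0) h
      exact_mod_cast this.symm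
    have h1 := two_dvd_sum_sub_diag (fun ξ ξ' => U χ χ ξ ξ' * ε ξ ξ')
      fun a b => by rw [hU a b, hεsymm a b]
    have h2 := two_dvd_sum_sub_diag (U χ χ) hU
    have hdiag : ∀ ξ : b, U χ χ ξ ξ * ε ξ ξ = U χ χ ξ ξ := fun ξ => by
      rw [hε1 ξ ξ ?_, mul_one]
      refine Subtype.ext ?_
      show ζ ^ j ξ ξ = 1
      rw [hj, Complex.mul_conj', Complex.norm_eq_one_of_pow_eq_one (hl _) hk0.ne']
      simp
    simp only [hdiag] at h1
    have h3 := dvd_sub h1 h2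
    rw [sub_sub_sub_cancel_right] at h3
    have h5 : (2 : ℤ) ∣ ∑ ξ, ∑ ξ', U χ χ ξ ξ' := (dvd_iff_dvd_of_dvd_sub h3).1 hdvd
    refine scaled_contrib_unit hM hH hy hind hχ hχ h0 h0 ?_
    show MemLocalIdeal M (P0 * contrib 2 b y χ χ)
    have h4 : MemLocalIdeal M ((((∑ ξ, ∑ ξ', U χ χ ξ ξ' : ℤ)) : ℂ) -
        P0 * contrib 2 b (y ^ 1) χ χ) := by
      rw [hval, Int.cast_sum, ← sum_sub_distrib]
      refine memLocalIdeal_sum fun ξ _ => ?_
      rw [Int.cast_sum, ← sum_sub_distrib]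
      refine memLocalIdeal_sum fun ξ' _ => ?_
      have h6 := memLocalIdeal_neg (memLocalIdeal_mul_left (intCast_mem (localRing M) (U χ χ ξ ξ'))
        (root_sub_one_mem hM (k := k + 1) (hwpow ξ.1 ξ'.1)))
      convert h6 using 1
      simp only [U]
      push_cast
      ring
    rw [pow_one] at h4
    exact (memLocalIdeal_iff_of_cong h4).1
      ((memLocalIdeal_intCast_iff hM).2 (by exact_mod_cast h5))
  · rw [hσX]
    simpa using scaled_contrib_unit hM (hHσ σ) (hprops σ).1 hind hχ hψ h0 h0'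
  · exact memLocalRing_of_isIntegral (((isIntegral_algebraMap_iff
      (algebraMap (cycloField N') ℂ).injective).1 (hXint χ ψ)).map (σ.restrictScalars ℤ))
  · have hh := scaled_contrib_height hM (hHσ σ) (hprops σ).1 hind hbd hχ hψ
    simp only [hσX]
    simp only [← hbd, Nat.cast_ofNat] at hh
    exact ⟨hh.1, fun h0 => mul_ne_zero (pow_ne_zero _ two_ne_zero)
      (contrib_ne_zero hM (hHσ σ) (hprops σ).1 hind hbd hχ hψ h0), hh.2.2⟩
  · -- divisibility of the averages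
    set h := blockHeight 2 B (χ : G → ℂ)
    let P : Polynomial ℤ := ∑ ξ : b, ∑ ξ' : b, Polynomial.C (U χ χ ξ ξ') * Polynomial.X ^ j ξ ξ'
    have hPv : Polynomial.aeval ζ P = P0 * contrib 2 b (y ^ 1) χ χ := by
      rw [hval]
      simp only [P, U, map_sum, map_mul, Polynomial.aeval_C, map_pow, Polynomial.aeval_X, hj,
        pow_one]
      simp
    have hloc : MemLocalRing M (Polynomial.aeval ζ P / ((2 : ℕ) : ℂ) ^ h) := by
      rw [hPv, pow_one]
      have := (scaled_contrib_height hM hH hy hind hbd hχ hχ).1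
      rw [← hbd] at this
      simpa [P0] using this
    obtain ⟨R, hR⟩ := exists_poly_div_pow hM hζ h P hloc
    have hXR : X χ χ = ((2 : ℕ) : cycloField N') ^ h * Polynomial.aeval Z R := by
      have hR' : (cycloField N').val (Polynomial.aeval Z R) = Polynomial.aeval ζ R :=
        (Polynomial.aeval_algHom_apply (AlgHom.restrictScalars ℤ (cycloField N').val) Z R).symm
      refine (cycloField N').val.injective (?_ : (cycloField N').val (X χ χ) =
        (cycloField N').val (((2 : ℕ) : cycloField N') ^ h * Polynomial.aeval Z R))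
      rw [map_mul, hR']
      simp only [X, map_sum, map_mul, map_intCast, map_pow, map_natCast]
      show (∑ ξ : b, ∑ ξ' : b, (U χ χ ξ ξ' : ℂ) * ζ ^ j ξ ξ') = _
      rw [← hR]
      simp [P]
    choose δ hδ using fun i : ℕ => (sum_embeddings_root (k := k + 1) (Z ^ i) (by
      show (ζ ^ i) ^ N' = 1
      rw [← pow_mul, mul_comm, pow_mul, hζ.pow_eq_one, one_pow])).imp fun _ h => h.2
    refine ⟨∑ i ∈ range (R.natDegree + 1), R.coeff i * δ i, ?_⟩
    have h7 : (E : ℂ) * (T χ : ℂ) =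
        (E : ℂ) * (((2 : ℤ) ^ h * ∑ i ∈ range (R.natDegree + 1), R.coeff i * δ i : ℤ) : ℂ) := by
      rw [← hsumX, hXR, Polynomial.aeval_eq_sum_range]
      simp only [map_mul, map_pow, map_natCast, map_sum, zsmul_eq_mul, map_intCast]
      simp only [← map_pow]
      rw [sum_congr rfl fun σ _ => mul_sum _ _ _, sum_comm]
      push_cast
      rw [mul_sum, mul_sum]
      refine sum_congr rfl fun i _ => ?_
      rw [← mul_sum, ← mul_sum, hδ i]
      ring
    have hE0 : E ≠ 0 := (card_pos.2 ⟨IntermediateField.val _, mem_univ _⟩).ne'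
    have := mul_left_cancel₀ (Nat.cast_ne_zero.2 hE0 : (_ : ℂ) ≠ 0) h7
    exact_mod_cast this

/-! ### The bounds -/

namespace TwoData

variable (D : TwoData M b B) [Fintype (IrrCharacter G)]

/-- The real diagonal. -/
noncomputable def a (i : D.ι) (χ : IrrCharacter G) : ℝ := (D.m i χ χ).re

theorem m_diag (i : D.ι) (χ : IrrCharacter G) : D.m i χ χ = (D.a i χ : ℂ) :=
  (Complex.conj_eq_iff_re.1 (D.conj_m i χ χ)).symm

theorem row_real [DecidablePred (· ∈ B)] (i : D.ι) (χ : IrrCharacter G) :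
    ∑ ψ ∈ univ.filter (· ∈ B), ‖D.m i χ ψ‖ ^ 2 = (2 : ℝ) ^ blockDefect 2 b * D.a i χ := by
  apply Complex.ofReal_injective
  push_cast
  rw [← D.m_diag, ← D.row i χ (univ.filter (· ∈ B)) (fun ψ => by simp)]
  refine sum_congr rfl fun ψ _ => ?_
  rw [← Complex.mul_conj', D.conj_m]

theorem sum_a (χ : IrrCharacter G) : ∑ i, D.a i χ = (Fintype.card D.ι : ℝ) * (D.T χ : ℝ) := by
  have h := congrArg Complex.re (D.avg χ)
  rw [Complex.re_sum] at h
  rw [show ∑ i, D.a i χ = ∑ i, (D.m i χ χ).re from rfl, h]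
  simp

theorem sum_T [DecidablePred (· ∈ B)] :
    ∑ χ ∈ univ.filter (· ∈ B), D.T χ = 2 ^ blockDefect 2 b * (blockRank 2 b : ℤ) := by
  have hE : (Fintype.card D.ι : ℂ) ≠ 0 := Nat.cast_ne_zero.2 Fintype.card_ne_zero
  apply Int.cast_injective (α := ℂ)
  refine mul_left_cancel₀ hE ?_
  rw [Int.cast_sum, mul_sum, sum_congr rfl fun χ _ => (D.avg χ).symm, sum_comm,
    sum_congr rfl fun i _ => D.trace i (univ.filter (· ∈ B)) (fun ψ => by simp), sum_const, card_univ, nsmul_eq_mul]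
  push_cast
  ring

/-- The squares of the conjugates of a nonzero entry locally divisible by `2 ^ h`. -/
theorem low (hM : IsPModular 2 M) {χ ψ : IrrCharacter G} {h : ℕ}
    (hne : ∀ i, D.m i χ ψ ≠ 0) (hloc : ∀ i, MemLocalRing M (D.m i χ ψ / (2 : ℂ) ^ h)) :
    (Fintype.card D.ι : ℝ) * (4 : ℝ) ^ h ≤ ∑ i, ‖D.m i χ ψ‖ ^ 2 := by
  obtain ⟨n, hn⟩ := D.int χ ψ
  have hn0 : n ≠ 0 := fun h0 => by
    rw [h0, Int.cast_zero, prod_eq_zero_iff] at hn
    obtain ⟨i, -, hi⟩ := hn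
    exact hne i hi
  have hdvd : ((2 : ℕ) : ℤ) ^ (h * Fintype.card D.ι) ∣ n := by
    refine pow_dvd_of_memLocalRing hM ?_
    rw [← hn, pow_mul, Nat.cast_ofNat, ← card_univ, ← prod_const, ← prod_div_distrib]
    exact prod_mem (S := (localRing M : Subring ℂ)) fun i _ => hloc i
  have habs : (2 : ℝ) ^ (h * Fintype.card D.ι) ≤ |(n : ℝ)| := by
    have h2 := Int.le_of_dvd (abs_pos.2 hn0) ((dvd_abs _ _).2 hdvd)
    push_cast at h2
    exact_mod_cast h2
  have h4 : (0 : ℝ) < (4 : ℝ) ^ h := by positivity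
  have hcl := card_add_log_le_sum (fun i => ‖D.m i χ ψ‖ ^ 2 / (4 : ℝ) ^ h)
    (fun i => div_pos (pow_pos (norm_pos_iff.2 (hne i)) 2) h4) one_pos (by
      rw [prod_div_distrib, prod_pow, ← norm_prod, hn, Complex.norm_intCast, prod_const, card_univ,
        one_le_div (by positivity)]
      have h3 := pow_le_pow_left₀ (by positivity) habs 2
      refine le_trans (le_of_eq ?_) h3
      rw [← pow_mul, ← pow_mul, show (4 : ℝ) = 2 ^ 2 by norm_num, ← pow_mul]
      ring_nf)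
  rw [Real.log_one, add_zero, ← sum_div, le_div_iff₀ h4] at hcl
  exact hcl

/-- The weighted count of the entries off the diagonal. -/
theorem offdiag_le (hM : IsPModular 2 M) {χ : IrrCharacter G} (hχ : χ ∈ B)
    (s : Finset (IrrCharacter G)) (hs : ∀ ψ ∈ s, ψ ∈ B) (hχs : χ ∉ s)
    (w : IrrCharacter G → ℕ) (hne : ∀ ψ ∈ s, ∀ i, D.m i ψ χ ≠ 0)
    (hloc : ∀ ψ ∈ s, ∀ i, MemLocalRing M (D.m i ψ χ / (2 : ℂ) ^ w ψ)) :
    (∑ ψ ∈ s, (4 : ℤ) ^ w ψ) + D.T χ * D.T χ ≤ 2 ^ blockDefect 2 b * D.T χ := by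
  classical
  have hE : (0 : ℝ) < Fintype.card D.ι := Nat.cast_pos.2 Fintype.card_pos
  set P : ℝ := (2 : ℝ) ^ blockDefect 2 b
  have h1 : ∀ i, ∑ ψ ∈ s, ‖D.m i χ ψ‖ ^ 2 + D.a i χ ^ 2 ≤ P * D.a i χ := by
    intro i
    rw [← D.row_real i χ]
    calc ∑ ψ ∈ s, ‖D.m i χ ψ‖ ^ 2 + D.a i χ ^ 2
        = ∑ ψ ∈ insert χ s, ‖D.m i χ ψ‖ ^ 2 := by
          rw [sum_insert hχs, D.m_diag, Complex.norm_real, Real.norm_eq_abs, sq_abs]
          ring
      _ ≤ _ := sum_le_sum_of_subset_of_nonneg (fun ψ hψ => mem_filter.2 ⟨mem_univ _, by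
          rcases mem_insert.1 hψ with rfl | h
          exacts [hχ, hs ψ h]⟩) fun _ _ _ => sq_nonneg _
  have h2 := sum_le_sum (s := (univ : Finset D.ι)) fun i _ => h1 i
  rw [sum_add_distrib, ← mul_sum, D.sum_a, sum_comm] at h2
  have h3 := sum_le_sum fun ψ hψ => D.low hM (hne ψ hψ) (hloc ψ hψ)
  have hsym : ∀ i ψ, ‖D.m i ψ χ‖ = ‖D.m i χ ψ‖ := fun i ψ => by
    rw [← D.conj_m i χ ψ, Complex.norm_conj]
  simp only [hsym] at h3
  have h4 : (Fintype.card D.ι : ℝ) * ((D.T χ : ℝ) * D.T χ) ≤ ∑ i, D.a i χ ^ 2 := by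
    have h := sum_nonneg (s := (univ : Finset D.ι)) fun i _ => sq_nonneg (D.a i χ - (D.T χ : ℝ))
    simp only [sub_sq, sum_add_distrib, sum_sub_distrib, ← sum_mul, ← mul_sum, D.sum_a, sum_const,
      card_univ, nsmul_eq_mul] at h
    nlinarith
  rw [← mul_sum] at h3
  have h5 : (Fintype.card D.ι : ℝ) * ((∑ ψ ∈ s, (4 : ℝ) ^ w ψ) + (D.T χ : ℝ) * D.T χ) ≤
      (Fintype.card D.ι : ℝ) * (P * D.T χ) := by nlinarith
  have h6 := le_of_mul_le_mul_left h5 hE
  simp only [P] at h6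
  exact_mod_cast h6

theorem T_pos (hM : IsPModular 2 M) {χ : IrrCharacter G} (hχ : χ ∈ B)
    (h0 : blockHeight 2 B (χ : G → ℂ) = 0) : 1 ≤ D.T χ := by
  classical
  have hpos : ∀ i, 0 < D.a i χ := fun i => by
    have h := D.row_real i χ
    have hne : D.m i χ χ ≠ 0 := fun h' =>
      D.unit i χ hχ χ hχ h0 h0 (h'.symm ▸ memLocalIdeal_zero)
    have hp : 0 < ∑ ψ ∈ univ.filter (· ∈ B), ‖D.m i χ ψ‖ ^ 2 :=
      lt_of_lt_of_le (pow_pos (norm_pos_iff.2 hne) 2)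
        (single_le_sum (fun ψ _ => sq_nonneg ‖D.m i χ ψ‖) (mem_filter.2 ⟨mem_univ χ, hχ⟩))
    rw [h] at hp
    exact pos_of_mul_pos_right hp (by positivity)
  have h := sum_pos (fun i _ => hpos i) (univ_nonempty (α := D.ι))
  rw [D.sum_a] at h
  have : (0 : ℝ) < (D.T χ : ℝ) := pos_of_mul_pos_right h (Nat.cast_nonneg _)
  exact_mod_cast this

/-- For a major subsection the average at positive height is at least `2 ^ (h + 1)`. -/
theorem T_ge (hM : IsPModular 2 M) (hbd : blockDefect 2 b = blockDefect 2 B) {χ : IrrCharacter G}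
    (hχ : χ ∈ B) (hh : blockHeight 2 B (χ : G → ℂ) ≠ 0) :
    2 * (2 : ℤ) ^ blockHeight 2 B (χ : G → ℂ) ≤ D.T χ := by
  classical
  set h := blockHeight 2 B (χ : G → ℂ)
  obtain ⟨n, hn⟩ := D.int χ χ
  obtain ⟨i₀⟩ := D.nonempty
  obtain ⟨φ, hφ, hφ0⟩ : ∃ φ ∈ B, blockHeight 2 B (φ : G → ℂ) = 0 := by
    by_contra hcon
    push Not at hcon
    have hB : B.Nonempty := ⟨χ, hχ⟩
    obtain ⟨_, ⟨φ, hφ, rfl⟩, hmin⟩ := (Set.toFinite ((fun ψ : IrrCharacter G =>
      (charDegree (ψ : G → ℂ)).factorization 2) '' B)).exists_minimal (hB.image _)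
    refine hcon φ hφ ?_
    simp only [blockHeight, Nat.sub_eq_zero_iff_le]
    refine le_csInf (hB.image _) ?_
    rintro _ hm
    exact le_of_not_gt fun hlt => absurd (hmin hm hlt.le) (not_le.2 hlt)
  have hpos : ∀ i, 0 < D.a i χ := fun i => by
    have hp : 0 < ∑ ψ ∈ univ.filter (· ∈ B), ‖D.m i χ ψ‖ ^ 2 :=
      lt_of_lt_of_le (pow_pos (norm_pos_iff.2 ((D.major hbd i χ hχ φ hφ).2.1 hφ0)) 2)
        (single_le_sum (fun ψ _ => sq_nonneg ‖D.m i χ ψ‖) (mem_filter.2 ⟨mem_univ φ, hφ⟩))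
    rw [D.row_real] at hp
    exact pos_of_mul_pos_right hp (by positivity)
  have hI : MemLocalIdeal M ((n : ℂ) / ((2 : ℕ) : ℂ) ^ (h * Fintype.card D.ι)) := by
    rw [← hn, pow_mul, Nat.cast_ofNat, ← card_univ, ← prod_const, ← prod_div_distrib,
      ← mul_prod_erase _ _ (mem_univ i₀)]
    exact memLocalIdeal_mul_right ((D.major hbd i₀ χ hχ χ hχ).2.2 hh)
      (prod_mem (S := (localRing M : Subring ℂ)) fun i _ => (D.major hbd i χ hχ χ hχ).1)
  have hdvd := pow_succ_dvd_of_memLocalIdeal hM hI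
  have hnr : (n : ℝ) = ∏ i, D.a i χ := by
    apply Complex.ofReal_injective
    rw [Complex.ofReal_intCast, ← hn, Complex.ofReal_prod]
    exact prod_congr rfl fun i _ => D.m_diag i χ
  have hnpos : (0 : ℤ) < n := by
    have : (0 : ℝ) < (n : ℝ) := hnr ▸ prod_pos fun i _ => hpos i
    exact_mod_cast this
  have hle : (2 : ℝ) ^ (h * Fintype.card D.ι + 1) ≤ (n : ℝ) := by
    have h2 := Int.le_of_dvd hnpos hdvd
    push_cast at h2
    exact_mod_cast h2
  have h2h : (0 : ℝ) < (2 : ℝ) ^ h := by positivity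
  have hcl := card_add_log_le_sum (fun i => D.a i χ / (2 : ℝ) ^ h)
    (fun i => div_pos (hpos i) h2h) (two_pos : (0 : ℝ) < 2) (by
      rw [prod_div_distrib, ← hnr, prod_const, card_univ, le_div_iff₀ (by positivity),
        ← pow_mul, ← pow_succ']
      exact hle)
  rw [← sum_div, D.sum_a] at hcl
  have hlog : (0 : ℝ) < Real.log 2 := Real.log_pos one_lt_two
  have hlt : (2 : ℝ) ^ h < (D.T χ : ℝ) := by
    by_contra hcon
    push Not at hcon
    have hq : (D.T χ : ℝ) / (2 : ℝ) ^ h ≤ 1 := (div_le_one h2h).2 hcon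
    rw [mul_div_assoc] at hcl
    nlinarith [mul_le_mul_of_nonneg_left hq (Nat.cast_nonneg (α := ℝ) (Fintype.card D.ι))]
  obtain ⟨t, ht⟩ := D.dvd hbd χ hχ
  have hlt' : (2 : ℤ) ^ h < D.T χ := by exact_mod_cast hlt
  rw [ht] at hlt' ⊢
  have h2 : (0 : ℤ) < 2 ^ h := by positivity
  have ht2 : 1 < t := by
    by_contra hcon
    push Not at hcon
    exact absurd (mul_le_mul_of_nonneg_left hcon h2.le) (by rw [mul_one]; exact not_le.2 hlt')
  rw [mul_comm]
  exact mul_le_mul_of_nonneg_left ht2 h2.le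

end TwoData

end CfsgLib.BlockB
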