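import Cfsg.Agent.BlocksB.AbelianTwist
import Cfsg.Agent.BlocksB.HarrisKnorr
import Cfsg.Agent.BlocksB.ChainCount

/-!
# An element of an abelian defect group fixed by the inertial group

For an element `u` of an abelian defect group fixed by the inertial group, the block has as many
characters and the same rank as its correspondent in the centralizer of `u`. The proof compares
the twist equations in the two groups by induction on the subgroups containing the centralizer of
the defect group.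
-/

set_option autoImplicit false
set_option linter.style.haveILetI false
set_option linter.unusedSectionVars false

namespace CfsgLib.Watanabe

open Cfsg Finset CfsgLib.Block CfsgLib.Block.Chr CfsgLib.BrauerPairs CfsgLib.BlockStar CfsgLib.Char
  CfsgLib.BlockB CfsgLib.AbelianTwist
open scoped Classical

universe u

variable {M : Ideal AlgInt} [M.IsPrime] {p : ℕ} [Fact p.Prime] [CharP (Residue M) p]
  {G : Type u} [Group G] [Fintype G]

local notation "𝕜" => Residue M
local notation "Z[" x "]" => Subgroup.zpowers x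
local notation "C[" Q "]" => Subgroup.centralizer (SetLike.coe Q)
local notation "N[" Q "]" => Subgroup.normalizer (SetLike.coe Q)

variable {B : Set (IrrCharacter G)} {P : Subgroup G} {e : MonoidAlgebra (Residue M) G}

/-- The block of `K` below the pair `(P, e)`. -/
def IsAbove (P : Subgroup G) (e : MonoidAlgebra 𝕜 G) (K : Subgroup G)
    (f : Set (IrrCharacter K)) : Prop :=
  IsPBlock M f ∧ br P (idemIn M K f) * e = e

theorem above_unique (hM : IsPModular p M) (hP : IsPair p (P, e)) {K : Subgroup G} (hPK : P ≤ K)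
    {f f' : Set (IrrCharacter K)} (hf : IsAbove P e K f) (hf' : IsAbove P e K f') : f = f' := by
  by_contra hne
  have hb := isBlk_idemIn hM hf.1
  have hb' := isBlk_idemIn hM hf'.1
  have h0 : idemIn M K f * idemIn M K f' = 0 :=
    hb.mul_eq_zero_of_ne (alg_comm le_rfl) hb' fun h => hne (idemIn_injective hf.1 hf'.1 h)
  apply hP.2.ne_zero
  show e = 0
  calc e = br P (idemIn M K f) * (br P (idemIn M K f') * e) := by rw [hf'.2, hf.2]
    _ = br P (idemIn M K f * idemIn M K f') * e := by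
      rw [br_mul hP.1 (hb.fixBy.mono hPK) (hb'.fixBy.mono hPK), mul_assoc]
    _ = 0 := by rw [h0, map_zero, zero_mul]

theorem exists_above (hM : IsPModular p M) (hP : IsPair p (P, e)) {K : Subgroup G} (hPK : P ≤ K)
    (hCK : C[P] ≤ K) : ∃ f : Set (IrrCharacter K), IsAbove P e K f := by
  have hS := alg_comm (k := 𝕜) (le_refl K)
  obtain ⟨ε, hε, hne⟩ : ∃ ε ∈ primFinset hS, br P ε * e ≠ 0 := by
    by_contra hall
    simp only [not_exists, not_and, not_not] at hall
    have h1 : br P (∑ ε ∈ primFinset hS, ε) * e = 0 := by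
      rw [map_sum, sum_mul]
      exact sum_eq_zero hall
    rw [sum_primFinset, br_one, one_mul] at h1
    exact hP.2.ne_zero h1
  have hε' : IsBlk 𝕜 K ε := (mem_primFinset hS).1 hε
  have hmem : br P ε ∈ alg 𝕜 C[P] C[P] :=
    ⟨suppIn_br ε, fixBy_br (hε'.fixBy.mono hCK) (centralizer_le_normalizer P)⟩
  have hcomm : br P ε * e = e * br P ε := alg_comm le_rfl _ hmem _ hP.2.mem
  have h := hP.2.mul_eq_self hmem (br_idem hP.1 hε'.idem (hε'.fixBy.mono hPK)) (hcomm ▸ hne)
  obtain ⟨f, hf, hfe⟩ := exists_idemIn_eq hM hε'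
  exact ⟨f, hf, by rw [hfe, hcomm]; exact h⟩

/-- The chosen block below the pair. -/
noncomputable def above (P : Subgroup G) (e : MonoidAlgebra 𝕜 G) (K : Subgroup G) :
    Set (IrrCharacter K) :=
  if h : ∃ f, IsAbove P e K f then h.choose else ∅

/-- Its number of characters. -/
noncomputable def kk (P : Subgroup G) (e : MonoidAlgebra 𝕜 G) (K : Subgroup G) : ℕ :=
  Nat.card (above P e K)

/-- Its rank. -/
noncomputable def rr (p : ℕ) (P : Subgroup G) (e : MonoidAlgebra 𝕜 G) (K : Subgroup G) : ℕ :=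
  blockRank p (above P e K)

theorem above_eq (hM : IsPModular p M) (hP : IsPair p (P, e)) {K : Subgroup G} (hPK : P ≤ K)
    {f : Set (IrrCharacter K)} (hf : IsAbove P e K f) : above P e K = f := by
  rw [above, dif_pos ⟨f, hf⟩]
  exact above_unique hM hP hPK (Exists.choose_spec (⟨f, hf⟩ : ∃ f, IsAbove P e K f)) hf

theorem irrComp_image {H K : Type u} [Group H] [Group K] (φ : H ≃* K) (c : Set (IrrCharacter H)) :
    mapSet φ c = irrComp φ.symm '' c := rfl

/-- The pair of `(P, e)` in an overgroup of its centralizer. -/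
theorem exists_maxPair_sub (hM : IsPModular p M) (hB : IsPBlock M B)
    (hmax : IsMaxPair p (idem M B) (P, e)) (hab : ∀ x ∈ P, ∀ y ∈ P, x * y = y * x)
    {K : Subgroup G} [Fintype K] (hCK : C[P] ≤ K) {f : Set (IrrCharacter K)}
    (hf : IsAbove P e K f) :
    ∃ e' : MonoidAlgebra 𝕜 K, emb K e' = e ∧ IsMaxPair p (idem M f) (P.subgroupOf K, e') := by
  have hP : IsPair p (P, e) := hmax.1.1
  have hPC : P ≤ C[P] := fun x hx => Subgroup.mem_centralizer_iff.mpr fun y hy => hab y hy x hx
  have hmap : (P.subgroupOf K).map K.subtype = P :=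
    Subgroup.map_subgroupOf_eq_of_le (hPC.trans hCK)
  set e' := restr K e
  have hemb : emb K e' = e := emb_restr _ (hP.suppIn.mono hCK)
  have hep : embPair K (P.subgroupOf K, e') = (P, e) := Prod.ext hmap hemb
  have hcen : Subgroup.centralizer
      (((P.subgroupOf K).map K.subtype : Subgroup G) : Set G) ≤ K := by rw [hmap]; exact hCK
  have hP' : IsPair p (P.subgroupOf K, e') := (isPair_embPair_iff _ hcen).mp (hep ▸ hP)
  refine ⟨e', hemb, ⟨hP', ?_⟩, fun y hy hle' => ?_⟩
  · show br (P.subgroupOf K) (idem M f) * e' = e'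
    apply emb_injective K
    rw [map_mul, ← br_emb_eq, hmap, ← idemIn_eq, hemb]
    exact hf.2
  · have h1 := ple_embPair K hcen hle'
    rw [hep] at h1
    have hy' : IsPair p (embPair K y) :=
      (isPair_embPair_iff _ ((Subgroup.centralizer_le (SetLike.coe_subset_coe.mpr
        (Subgroup.map_mono hle'.le))).trans hcen)).mpr hy.1
    have h2 := (isPairOf_iff_of_ple (isBlk_idem hM hB) h1 hy').mp hmax.1
    exact Subgroup.map_injective K.subtype_injective ((hmax.2 _ h2 h1).trans hmap.symm)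

/-- The twist equations of a subgroup containing the centralizer of the defect group. -/
theorem count_sub (hM : IsPModular p M) (hB : IsPBlock M B)
    (hmax : IsMaxPair p (idem M B) (P, e)) (hab : ∀ x ∈ P, ∀ y ∈ P, x * y = y * x)
    {K : Subgroup G} (hCK : C[P] ≤ K) {u0 : G} (hu0 : u0 ∈ P) :
    (focal P (stab P e ⊓ K)).relIndex P *
        ∑ v ∈ univ.filter (fun v : G => v ∈ focal P (stab P e ⊓ K)),
          cnt (stab P e ⊓ K) (u0 * v) * rr p P e (K ⊓ C[Z[u0 * v]]) =
      kk P e K * Nat.card (stab P e ⊓ K : Subgroup G) := by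
  have hP : IsPair p (P, e) := hmax.1.1
  have hPC : P ≤ C[P] := fun x hx => Subgroup.mem_centralizer_iff.mpr fun y hy => hab y hy x hx
  have hPK : P ≤ K := hPC.trans hCK
  haveI : Fintype K := Fintype.ofFinite K
  obtain ⟨f, hf⟩ := exists_above hM hP hPK hCK
  obtain ⟨e', hemb, hmax'⟩ := exists_maxPair_sub hM hB hmax hab hCK hf
  set P' := P.subgroupOf K
  set N := focal P (stab P e ⊓ K)
  have hNP : N ≤ P := focal_le (inf_le_left.trans stab_le_normalizer)
  haveI : Fintype P' := Fintype.ofFinite P'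
  have hab' : ∀ x ∈ P', ∀ y ∈ P', x * y = y * x := fun x hx y hy => Subtype.ext (hab _ hx _ hy)
  have hmap : P'.map K.subtype = P := Subgroup.map_subgroupOf_eq_of_le hPK
  have hstab : ∀ s : K, s ∈ stab P' e' ↔ (s : G) ∈ stab P e := by
    intro s
    rw [mem_stab, mem_stab, ← hemb, cj_emb, (emb_injective K).eq_iff]
    refine and_congr_left fun _ => ?_
    rw [Subgroup.mem_normalizer_iff, Subgroup.mem_normalizer_iff]
    refine ⟨fun h a => ⟨fun ha => (h ⟨a, hPK ha⟩).1 ha, fun ha => ?_⟩,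
      fun h a => h (a : G)⟩
    have haK : a ∈ K := by
      have := K.mul_mem (K.mul_mem (K.inv_mem s.2) (hPK ha)) s.2
      simpa [mul_assoc] using this
    exact (h ⟨a, haK⟩).2 ha
  have hcnt : ∀ s : K, cnt (stab P' e') s = cnt (stab P e ⊓ K) (s : G) := fun s =>
    Nat.card_congr
      { toFun := fun x => ⟨((x : K) : G), ⟨(hstab _).1 x.2.1, (x : K).2⟩,
          mem_cz.2 (congrArg Subtype.val (mem_cz.1 x.2.2))⟩
        invFun := fun x => ⟨⟨x, x.2.1.2⟩, (hstab _).2 x.2.1.1,
          mem_cz.2 (Subtype.ext (mem_cz.1 x.2.2))⟩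
        left_inv := fun _ => rfl
        right_inv := fun _ => rfl }
  have hcard : Nat.card (stab P' e') = Nat.card (stab P e ⊓ K : Subgroup G) :=
    Nat.card_congr
      { toFun := fun x => ⟨((x : K) : G), (hstab _).1 x.2, (x : K).2⟩
        invFun := fun x => ⟨⟨x, x.2.2⟩, (hstab _).2 x.2.1⟩
        left_inv := fun _ => rfl
        right_inv := fun _ => rfl }
  have hR : ∀ s ∈ P', ∀ d : Set (IrrCharacter C[Z[s]]), IsPBlock M d →
      idemIn M C[Z[s]] d = subBlk p P' e' s →
        blockRank p d = rr p P e (K ⊓ C[Z[(s : G)]]) := by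
    intro s hs d hd hdE
    haveI : Fintype C[Z[s]] := Fintype.ofFinite _
    haveI : Fintype (K ⊓ C[Z[(s : G)]] : Subgroup G) := Fintype.ofFinite _
    let φ : (K ⊓ C[Z[(s : G)]] : Subgroup G) ≃* C[Z[s]] :=
      { toFun := fun x => ⟨⟨x, x.2.1⟩, mem_cz.2 (Subtype.ext (mem_cz.1 x.2.2))⟩
        invFun := fun x => ⟨((x : K) : G), (x : K).2,
          mem_cz.2 (congrArg Subtype.val (mem_cz.1 x.2))⟩
        left_inv := fun _ => rfl
        right_inv := fun _ => rfl
        map_mul' := fun _ _ => rfl }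
    set c' := mapSet φ.symm d
    have hd' : mapSet φ c' = d := by
      rw [show c' = mapChar φ.symm '' d from rfl, mapSet, Set.image_image]
      simp [mapChar_symm]
    have hc' : IsPBlock M c' := isPBlock_mapSet _ hd
    have hPs : P' ≤ C[Z[s]] := fun x hx => mem_cz.2 (hab' x hx s hs)
    have hstep : NStep p (Z[s], subBlk p P' e' s) (P', e') :=
      PLE.nstep_of_le_normalizer hmax'.1.1 (subBlk_ple hmax'.1.1 hs)
        (hPs.trans (centralizer_le_normalizer _))
    have habove : IsAbove P e (K ⊓ C[Z[(s : G)]]) c' := by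
      refine ⟨hc', ?_⟩
      have h1 := congrArg (emb K) hstep.2.2.2.2.2
      rw [map_mul, ← br_emb_eq, hmap, hemb, ← hdE, ← hd',
        emb_idemIn_mapSet φ (fun _ => rfl) inf_le_left] at h1
      exact h1
    have hPL : P ≤ K ⊓ C[Z[(s : G)]] := fun x hx =>
      ⟨hPK hx, mem_cz.2 (hab x hx _ hs)⟩
    rw [rr, above_eq hM hP hPL habove, ← hd', irrComp_image, ChainCount.blockRank_irrComp]
  have h := count (p := p) hM hf.1 hmax' hab' (N := N.subgroupOf K) (fun t ht x hx => ?_)
    (fun s => rr p P e (K ⊓ C[Z[(s : G)]])) hR ⟨⟨u0, hPK hu0⟩, hu0⟩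
  swap
  · rw [Subgroup.mem_subgroupOf]
    exact mem_focal ⟨(hstab t).1 ht, t.2⟩ hx
  rw [kk, above_eq hM hP hPK hf, ← hcard, ← h,
    show ((N.subgroupOf K).subgroupOf P').index = N.relIndex P from
      Subgroup.relIndex_subgroupOf hPK]
  congr 1
  refine sum_bij' (fun v hv => ⟨⟨v, hPK (hNP (mem_filter.1 hv).2)⟩, hNP (mem_filter.1 hv).2⟩)
    (fun v _ => ((v : K) : G))
    (fun v hv => mem_filter.2 ⟨mem_univ _, (mem_filter.1 hv).2⟩)
    (fun v hv => mem_filter.2 ⟨mem_univ _, (mem_filter.1 hv).2⟩)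
    (fun _ _ => rfl) (fun _ _ => rfl) fun v hv => ?_
  rw [hcnt]
  rfl

/-- Passing to the centralizer of a fixed element, for all intermediate subgroups. -/
theorem kk_rr_eq (hM : IsPModular p M) (hB : IsPBlock M B)
    (hmax : IsMaxPair p (idem M B) (P, e)) (hab : ∀ x ∈ P, ∀ y ∈ P, x * y = y * x)
    {u : G} (hu : u ∈ P) :
    ∀ n, ∀ K : Subgroup G, Nat.card K = n → C[P] ≤ K → stab P e ⊓ K ≤ C[Z[u]] →
      kk P e K = kk P e (K ⊓ C[Z[u]]) ∧ rr p P e K = rr p P e (K ⊓ C[Z[u]]) := by
  intro n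
  induction n using Nat.strong_induction_on with
  | _ n ih =>
  intro K hn hCK hfix
  have hP : IsPair p (P, e) := hmax.1.1
  have hCz : ∀ x ∈ P, (C[P] : Subgroup G) ≤ C[Z[x]] := fun x hx =>
    Subgroup.centralizer_le (SetLike.coe_subset_coe.mpr (Subgroup.zpowers_le.2 hx))
  have hCK' : C[P] ≤ K ⊓ C[Z[u]] := le_inf hCK (hCz u hu)
  have hTT : stab P e ⊓ (K ⊓ C[Z[u]]) = stab P e ⊓ K :=
    le_antisymm (inf_le_inf_left _ inf_le_left) (le_inf inf_le_left (le_inf inf_le_right hfix))
  set T := stab P e ⊓ K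
  set N := focal P T
  set S := univ.filter fun v : G => v ∈ N
  have hTN : T ≤ N[P] := inf_le_left.trans stab_le_normalizer
  have hNP : N ≤ P := focal_le hTN
  have hp' : ¬ p ∣ (C[P] : Subgroup G).relIndex T := fun h =>
    Inertial.not_dvd_inertial hM hB hP hmax hab (h.trans (Dvd.intro _
      (Subgroup.relIndex_mul_relIndex _ _ _ (le_inf (centralizer_le_stab hP) hCK) inf_le_left)))
  have hK := fun {x : G} (hx : x ∈ P) => count_sub hM hB hmax hab hCK hx
  have hK' := fun {x : G} (hx : x ∈ P) => count_sub hM hB hmax hab hCK' hx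
  simp only [hTT] at hK'
  have hlt : ∀ x ∈ P, ¬ T ≤ C[Z[x]] →
      rr p P e (K ⊓ C[Z[x]]) = rr p P e (K ⊓ C[Z[u]] ⊓ C[Z[x]]) := by
    intro x hx hne
    have hc : Nat.card (K ⊓ C[Z[x]] : Subgroup G) < n := by
      rw [← hn]
      refine lt_of_le_of_ne (Subgroup.card_le_of_le inf_le_left) fun h => hne ?_
      have := Subgroup.eq_of_le_of_card_ge inf_le_left h.ge
      exact fun t ht => (this.ge ht.2).2
    rw [inf_right_comm]
    exact (ih _ hc _ rfl (le_inf hCK (hCz x hx))
      ((inf_le_inf_left _ inf_le_left).trans hfix)).2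
  have hv1 : ∀ v ∈ N, T ≤ C[Z[v]] → v = 1 := fun v hv h =>
    eq_one_of_fixed_mem_focal hP.1 hab hTN hp' hv fun t ht => by
      rw [mem_cz.1 (h ht), mul_inv_cancel_right]
  have hidx : 0 < N.relIndex P := Nat.pos_of_ne_zero Subgroup.index_ne_zero_of_finite
  have hT0 : 0 < Nat.card T := Nat.card_pos
  have hkk : kk P e K = kk P e (K ⊓ C[Z[u]]) := by
    have h1 := hK hu
    have h2 := hK' hu
    refine Nat.eq_of_mul_eq_mul_right hT0 (h1.symm.trans (Eq.trans ?_ h2))
    congr 1
    refine sum_congr rfl fun v hv => ?_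
    have hvN := (mem_filter.1 hv).2
    congr 1
    by_cases hv0 : v = 1
    · subst hv0
      rw [mul_one, inf_assoc, inf_idem]
    · refine hlt _ (P.mul_mem hu (hNP hvN)) fun h => hv0 (hv1 v hvN fun t ht => mem_cz.2 ?_)
      have e1 : t * u = u * t := mem_cz.1 (hfix ht)
      have e2 : t * (u * v) = u * v * t := mem_cz.1 (h ht)
      apply mul_left_cancel (a := u)
      calc u * (t * v) = t * u * v := by rw [e1, mul_assoc]
        _ = u * (v * t) := by rw [mul_assoc, e2, mul_assoc]
  refine ⟨hkk, ?_⟩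
  have h1 := hK P.one_mem
  have h2 := hK' P.one_mem
  rw [hkk, ← h2] at h1
  have h3 := Nat.eq_of_mul_eq_mul_left hidx h1
  have h1S : (1 : G) ∈ S := mem_filter.2 ⟨mem_univ _, N.one_mem⟩
  rw [← add_sum_erase _ _ h1S, ← add_sum_erase _ _ h1S] at h3
  have hrest : ∑ v ∈ S.erase 1, cnt T (1 * v) * rr p P e (K ⊓ C[Z[1 * v]]) =
      ∑ v ∈ S.erase 1, cnt T (1 * v) * rr p P e (K ⊓ C[Z[u]] ⊓ C[Z[1 * v]]) := by
    refine sum_congr rfl fun v hv => ?_
    obtain ⟨hv0, hvS⟩ := mem_erase.1 hv
    have hvN := (mem_filter.1 hvS).2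
    congr 1
    rw [one_mul]
    exact hlt v (hNP hvN) fun h => hv0 (hv1 v hvN h)
  rw [hrest, add_left_inj] at h3
  have hpos : 0 < cnt T (1 * 1) := Nat.card_pos
  have h4 := Nat.eq_of_mul_eq_mul_left hpos h3
  have htop : ∀ L : Subgroup G, L ⊓ C[Z[(1 * 1 : G)]] = L := fun L =>
    inf_eq_left.2 fun y _ => mem_cz.2 (by simp)
  rwa [htop, htop] at h4

/-- **An element fixed by the inertial group gives a block with the same invariants.** -/
theorem watanabe (hM : IsPModular p M) (hB : IsPBlock M B) (hPD : IsDefectGroup p M B P)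
    (hab : ∀ x ∈ P, ∀ y ∈ P, x * y = y * x) {c : Set (IrrCharacter C[P])}
    (hc : IsInducedBlock M C[P] c B) {u : G} (hu : u ∈ P)
    (huT : ∀ g ∈ stab P (idemIn M C[P] c), g * u * g⁻¹ = u) {H : Subgroup G} (hH : H = C[Z[u]])
    {f : Set (IrrCharacter H)} (hf : IsInducedBlockIn M H C[P] c f) :
    blockRank p B = blockRank p f ∧ Nat.card B = Nat.card f := by
  subst hH
  obtain ⟨hP, hmax⟩ := Inertial.maxPair_of_induced hM hB hPD hab hc
  set e := idemIn M C[P] c
  have hPZ : P ≤ C[Z[u]] := fun x hx => mem_cz.2 (hab x hx u hu)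
  have hf' : IsAbove P e C[Z[u]] f := by
    have hle := Inertial.ple_of_inducedIn hM hP hab (Subgroup.zpowers_le.2 hu) hf
    exact ⟨hf.2.1, (PLE.nstep_of_le_normalizer hP hle
      (hPZ.trans (centralizer_le_normalizer _))).2.2.2.2.2⟩
  set B' := mapSet (Subgroup.topEquiv (G := G)).symm B
  have hB' : IsAbove P e (⊤ : Subgroup G) B' := by
    refine ⟨isPBlock_mapSet _ hB, ?_⟩
    have hid : idemIn M (⊤ : Subgroup G) B' = idem M B := by
      refine coeff_ext fun g => ?_
      rw [coeff_idemIn, show g = (((Subgroup.topEquiv (G := G)).symm g : (⊤ : Subgroup G)) : G)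
        from rfl, subgroupBlockCoeff_coe, blockCoeff_map, idem, coeff_redFun]
      rfl
    rw [hid]
    exact hmax.1.2
  obtain ⟨h1, h2⟩ := kk_rr_eq hM hB hmax hab hu _ ⊤ rfl le_top fun t ht => mem_cz.2 (by
    rw [← mul_inv_eq_iff_eq_mul]; exact huT t ht.1)
  rw [top_inf_eq, kk, kk, above_eq hM hP le_top hB', above_eq hM hP hPZ hf'] at h1
  rw [top_inf_eq, rr, rr, above_eq hM hP le_top hB', above_eq hM hP hPZ hf'] at h2
  refine ⟨?_, ?_⟩
  · rw [← h2]
    show _ = blockRank p (mapSet _ B)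
    rw [irrComp_image, ChainCount.blockRank_irrComp]
  · rw [← h1]
    exact (Nat.card_image_of_injective (mapChar_injective _) B).symm

end CfsgLib.Watanabe
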